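import Mathlib

/-!
# The Tate cohomology trick for a Sylow subgroup of prime order

`G` acts on a finite dimensional `k`-space `M`, and every endomorphism commuting with `G` is
nilpotent or bijective.  For a subgroup `T` containing a subgroup `P` of prime order and an
idempotent `F` commuting with `T`, the relative trace of `F` acts on the `P`-fixed vectors modulo
the norm image as the sum of the conjugates of `F` by the elements with `P^g ≤ T`.
-/

set_option autoImplicit false
set_option linter.unusedSectionVars false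

namespace Cfsg.Agent.Lib.DefectOne

open Module

section FreeAction

/-- Sum over a set with a free action of a finite group, as a sum over orbit representatives. -/
lemma exists_sum_free_action {U Y A : Type*} [Group U] [Fintype U] [Fintype Y] [MulAction U Y]
    [AddCommMonoid A] (hfree : ∀ (y : Y) (u : U), u • y = y → u = 1) :
    ∃ R : Finset Y, ∀ f : Y → A, ∑ y, f y = ∑ r ∈ R, ∑ u : U, f (u • r) := by
  classical
  let Ω := MulAction.orbitRel.Quotient U Y
  letI : Fintype Ω := Fintype.ofFinite _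
  let rep : Ω → Y := Quotient.out
  have hrep_inj : Function.Injective rep := Quotient.out_injective
  refine ⟨Finset.univ.image rep, fun f => ?_⟩
  rw [Finset.sum_image (fun a _ b _ h => hrep_inj h)]
  let φ : (Σ _ω : Ω, U) → Y := fun a => a.2 • rep a.1
  have hbij : Function.Bijective φ := by
    constructor
    · rintro ⟨ω₁, u₁⟩ ⟨ω₂, u₂⟩ h
      simp only [φ] at h
      have hω : ω₁ = ω₂ := by
        have h1 : (Quotient.mk _ (rep ω₁) : Ω) = ω₁ := Quotient.out_eq ω₁
        have h2 : (Quotient.mk _ (rep ω₂) : Ω) = ω₂ := Quotient.out_eq ω₂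
        rw [← h1, ← h2]
        apply Quotient.sound
        show rep ω₁ ∈ MulAction.orbit U (rep ω₂)
        refine ⟨u₁⁻¹ * u₂, ?_⟩
        show (u₁⁻¹ * u₂) • rep ω₂ = rep ω₁
        rw [mul_smul, ← h, inv_smul_smul]
      subst hω
      have hu : u₁⁻¹ * u₂ = 1 := by
        apply hfree (rep ω₁)
        rw [mul_smul, ← h, inv_smul_smul]
      have : u₂ = u₁ := by
        rwa [inv_mul_eq_one, eq_comm] at hu
      simp [this]
    · intro y
      have h1 : (Quotient.mk _ y : Ω) = Quotient.mk _ (rep (Quotient.mk _ y)) :=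
        (Quotient.out_eq (Quotient.mk _ y : Ω)).symm
      have h2 : y ∈ MulAction.orbit U (rep (Quotient.mk _ y : Ω)) := Quotient.exact h1
      obtain ⟨u, hu⟩ := h2
      exact ⟨⟨(Quotient.mk _ y : Ω), u⟩, hu⟩
  rw [← Equiv.sum_comp (Equiv.ofBijective φ hbij) f]
  rw [Fintype.sum_sigma]
  rfl

end FreeAction

variable {G : Type*} [Group G] {k : Type*} [Field k] {M : Type*} [AddCommGroup M] [Module k M]

/-- Conjugate of `F` by `g`. -/
noncomputable def cj (ρ : G →* End k M) (g : G) (F : End k M) : End k M := ρ g * F * ρ g⁻¹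

lemma cj_mul (ρ : G →* End k M) (g h : G) (F : End k M) : cj ρ (g * h) F = ρ g * cj ρ h F * ρ g⁻¹ := by
  simp only [cj, mul_inv_rev, map_mul, mul_assoc]

lemma cj_eq_of_mem {T : Subgroup G} (ρ : G →* End k M) {F : End k M}
    (hF : ∀ t ∈ T, F * ρ t = ρ t * F) (g : G) {t : G} (ht : t ∈ T) : cj ρ (g * t) F = cj ρ g F := by
  simp only [cj, mul_inv_rev, map_mul]
  have h1 : ρ t * F * ρ t⁻¹ = F := by
    rw [← hF t ht, mul_assoc, ← map_mul, mul_inv_cancel, map_one, mul_one]
  calc ρ g * ρ t * F * (ρ t⁻¹ * ρ g⁻¹) = ρ g * (ρ t * F * ρ t⁻¹) * ρ g⁻¹ := by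
        simp only [mul_assoc]
    _ = _ := by rw [h1]

lemma cj_out {T : Subgroup G} (ρ : G →* End k M) {F : End k M}
    (hF : ∀ t ∈ T, F * ρ t = ρ t * F) (g : G) :
    cj ρ ((g : G ⧸ T).out) F = cj ρ g F := by
  have h : g⁻¹ * (g : G ⧸ T).out ∈ T := by
    rw [← QuotientGroup.eq]
    simp
  have := cj_eq_of_mem ρ hF g h
  rwa [mul_inv_cancel_left] at this

variable [Finite G]

/-- The relative trace from `T` to `G`. -/
noncomputable def relTr (ρ : G →* End k M) (T : Subgroup G) (F : End k M) : End k M :=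
  haveI : Fintype (G ⧸ T) := Fintype.ofFinite _
  ∑ q : G ⧸ T, cj ρ q.out F

lemma relTr_comm (ρ : G →* End k M) {T : Subgroup G} {F : End k M}
    (hF : ∀ t ∈ T, F * ρ t = ρ t * F) (g : G) : relTr ρ T F * ρ g = ρ g * relTr ρ T F := by
  classical
  letI : Fintype (G ⧸ T) := Fintype.ofFinite _
  unfold relTr
  have hinv : ρ g * ρ g⁻¹ = 1 := by rw [← map_mul, mul_inv_cancel, map_one]
  have hinv' : ρ g⁻¹ * ρ g = 1 := by rw [← map_mul, inv_mul_cancel, map_one]
  have key : (∑ q : G ⧸ T, cj ρ q.out F) =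
      ∑ q : G ⧸ T, ρ g * cj ρ q.out F * ρ g⁻¹ := by
    rw [← Equiv.sum_comp (MulAction.toPerm (g : G) : Equiv.Perm (G ⧸ T))]
    refine Finset.sum_congr rfl fun q _ => ?_
    rw [← cj_mul]
    obtain ⟨g', rfl⟩ := QuotientGroup.mk_surjective q
    have h1 : (MulAction.toPerm g : Equiv.Perm (G ⧸ T)) (g' : G ⧸ T) = ((g * g' : G) : G ⧸ T) := rfl
    rw [h1, cj_out ρ hF, cj_mul, cj_mul, cj_out ρ hF]
  calc (∑ q : G ⧸ T, cj ρ q.out F) * ρ g
      = (∑ q : G ⧸ T, ρ g * cj ρ q.out F * ρ g⁻¹) * ρ g := by rw [← key]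
    _ = ρ g * ∑ q : G ⧸ T, cj ρ q.out F := by
        rw [Finset.sum_mul, Finset.mul_sum]
        refine Finset.sum_congr rfl fun q _ => ?_
        rw [mul_assoc, hinv', mul_one]

/-- Modulo the norm image, the relative trace on fixed vectors only sees the fixed cosets. -/
lemma relTr_apply_sub_mem_range (ρ : G →* End k M) {T P : Subgroup G} {F : End k M}
    (hF : ∀ t ∈ T, F * ρ t = ρ t * F) [Fintype P] (hP : (Nat.card P).Prime) {v : M}
    (hv : ∀ u : P, ρ u v = v) (X : Finset (G ⧸ T)) (hX : ∀ q, q ∈ X ↔ ∀ u : P, u • q = q) :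
    ∃ w : M, relTr ρ T F v = ∑ q ∈ X, cj ρ q.out F v + ∑ u : P, ρ u w := by
  classical
  letI : Fintype (G ⧸ T) := Fintype.ofFinite _
  let Y := {q : G ⧸ T // ¬ ∀ u : P, u • q = q}
  have hsmul : ∀ (u : P) (q : Y), ¬ ∀ u' : P, u' • (u • q.1) = u • q.1 := by
    intro u q h
    apply q.2
    intro u'
    have h1 := h (u * u' * u⁻¹)
    have h2 : (u * u' * u⁻¹) • (u • q.1) = u • (u' • q.1) := by
      simp only [mul_smul, inv_smul_smul]
    rw [h2] at h1
    exact smul_left_cancel u h1
  letI : MulAction P Y :=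
    { smul := fun u q => ⟨u • q.1, hsmul u q⟩
      one_smul := fun q => Subtype.ext (one_smul _ _)
      mul_smul := fun a b q => Subtype.ext (mul_smul a b q.1) }
  have hsm : ∀ (u : P) (q : Y), (u • q : Y).1 = u • q.1 := fun _ _ => rfl
  have hfree : ∀ (y : Y) (u : P), u • y = y → u = 1 := by
    intro y u hu
    by_contra hne
    haveI : Fact (Nat.card P).Prime := ⟨hP⟩
    have hS : (MulAction.stabilizer P y.1) = ⊤ := by
      rcases Subgroup.eq_bot_or_eq_top_of_prime_card (MulAction.stabilizer P y.1) with h | h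
      · exfalso
        apply hne
        have : u ∈ MulAction.stabilizer P y.1 := congrArg Subtype.val hu
        rw [h] at this
        simpa using this
      · exact h
    apply y.2
    intro u'
    have : u' ∈ MulAction.stabilizer P y.1 := by rw [hS]; trivial
    exact this
  letI : Fintype Y := Fintype.ofFinite _
  obtain ⟨R, hR⟩ := exists_sum_free_action (U := P) (Y := Y) (A := M) hfree
  refine ⟨∑ r ∈ R, cj ρ r.1.out F v, ?_⟩
  have hsplit : relTr ρ T F v = ∑ q ∈ X, cj ρ q.out F v + ∑ y : Y, cj ρ y.1.out F v := by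
    unfold relTr
    rw [LinearMap.sum_apply]
    rw [← Finset.sum_filter_add_sum_filter_not Finset.univ (· ∈ X)]
    congr 1
    · refine Finset.sum_congr ?_ fun _ _ => rfl
      ext q
      simp
    · refine Finset.sum_subtype _ (fun q => ?_) (fun q : G ⧸ T => cj ρ q.out F v)
      simp [hX]
  rw [hsplit]
  congr 1
  rw [hR]
  simp only [map_sum]
  rw [Finset.sum_comm]
  refine Finset.sum_congr rfl fun u _ => Finset.sum_congr rfl fun r _ => ?_
  have h1 : (u • r : Y).1 = ((((u : G) * r.1.out : G)) : G ⧸ T) := by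
    rw [hsm]
    conv_lhs => rw [← QuotientGroup.out_eq' r.1]
    rfl
  rw [h1, cj_out ρ hF, cj_mul]
  have h2 : ρ (u : G)⁻¹ v = v := by
    have := hv u⁻¹
    simpa using this
  simp only [Module.End.mul_apply, h2]

/-- **The dichotomy.**  If every endomorphism commuting with `G` is nilpotent or bijective, then of
two idempotents `F`, `F'` suitably orthogonal on the fixed cosets, one has trivial Tate cohomology. -/
theorem tate_dichotomy [FiniteDimensional k M] (ρ : G →* End k M)
    (hFit : ∀ S : End k M, (∀ g, S * ρ g = ρ g * S) → IsNilpotent S ∨ Function.Bijective S)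
    {T P : Subgroup G} [Fintype P] (hP : (Nat.card P).Prime) {F F' : End k M}
    (hF : ∀ t ∈ T, F * ρ t = ρ t * F)
    (hFone : ∀ g : G, g ∈ T → (∀ u ∈ P, g⁻¹ * u * g ∈ T) → cj ρ g F * F = F)
    (hfix : ∀ g : G, g ∉ T → (∀ u ∈ P, g⁻¹ * u * g ∈ T) → cj ρ g F * F = 0)
    (hfix' : ∀ g : G, (∀ u ∈ P, g⁻¹ * u * g ∈ T) → cj ρ g F * F' = 0)
    (hPT : P ≤ T) :
    (∀ v, F v = v → (∀ u : P, ρ u v = v) → v ∈ LinearMap.range (∑ u : P, ρ (u : G))) ∨
    (∀ v, F' v = v → (∀ u : P, ρ u v = v) → v ∈ LinearMap.range (∑ u : P, ρ (u : G))) := by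
  classical
  letI : Fintype (G ⧸ T) := Fintype.ofFinite _
  set R := relTr ρ T F with hRdef
  have hRcomm : ∀ g, R * ρ g = ρ g * R := relTr_comm ρ hF
  let X : Finset (G ⧸ T) := Finset.univ.filter (fun q : G ⧸ T => ∀ u : P, u • q = q)
  have hX : ∀ q, q ∈ X ↔ ∀ u : P, u • q = q := fun q => by simp [X]
  -- fixed cosets
  have hXg : ∀ q ∈ X, ∀ u ∈ P, q.out⁻¹ * u * q.out ∈ T := by
    intro q hq u hu
    have h1 := (hX q).1 hq ⟨u, hu⟩
    have h2 : ((u * q.out : G) : G ⧸ T) = (q.out : G ⧸ T) := by
      conv_rhs => rw [QuotientGroup.out_eq']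
      conv_rhs => rw [← h1]
      conv_rhs => rw [← QuotientGroup.out_eq' q]
      rfl
    have h3 := QuotientGroup.eq.1 h2
    have h4 : q.out⁻¹ * u⁻¹ * q.out ∈ T := by
      simpa [mul_assoc] using h3
    have h5 := T.inv_mem h4
    simpa [mul_assoc] using h5
  have hRnorm : ∀ w, R (∑ u : P, ρ (u : G) w) = ∑ u : P, ρ (u : G) (R w) := by
    intro w
    rw [map_sum]
    refine Finset.sum_congr rfl fun u _ => ?_
    have := LinearMap.congr_fun (hRcomm (u : G)) w
    simpa using this
  have hRfix : ∀ v, (∀ u : P, ρ u v = v) → ∀ u : P, ρ u (R v) = R v := by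
    intro v hv u
    have := LinearMap.congr_fun (hRcomm (u : G)) v
    simp only [Module.End.mul_apply] at this
    rw [← this, hv]
  have hnorm_sum : ∀ a b : M, (∑ u : P, ρ (u : G) a) + (∑ u : P, ρ (u : G) b) =
      ∑ u : P, ρ (u : G) (a + b) := by
    intro a b
    rw [← Finset.sum_add_distrib]
    simp
  rcases hFit R hRcomm with hnil | hbij
  · -- nilpotent: the first alternative
    left
    intro v hv hfixv
    -- `R v ≡ v` modulo the norm image on `F`-fixed, `P`-fixed vectors
    have hmain : ∃ w, R v = v + ∑ u : P, ρ (u : G) w := by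
      obtain ⟨w, hw⟩ := relTr_apply_sub_mem_range ρ hF hP hfixv X hX
      refine ⟨w, ?_⟩
      rw [hRdef, hw]
      congr 1
      -- the sum over fixed cosets
      have h1 : ∀ q ∈ X, cj ρ q.out F v = if q = ((1 : G) : G ⧸ T) then v else 0 := by
        intro q hq
        split_ifs with hq1
        · subst hq1
          have hmem : ((1 : G) : G ⧸ T).out ∈ T := by
            have : (((1 : G) : G ⧸ T).out : G ⧸ T) = ((1 : G) : G ⧸ T) :=
              QuotientGroup.out_eq' _
            have h2 := QuotientGroup.eq.1 this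
            simpa using T.inv_mem h2 |> fun h => by simpa using h
          have := hFone _ hmem (hXg _ hq)
          have h3 := LinearMap.congr_fun this v
          simp only [Module.End.mul_apply, hv] at h3
          exact h3
        · have hnot : q.out ∉ T := by
            intro hmem
            apply hq1
            rw [← QuotientGroup.out_eq' q]
            apply QuotientGroup.eq.2
            simpa using hmem
          have := hfix _ hnot (hXg _ hq)
          have h3 := LinearMap.congr_fun this v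
          simp only [Module.End.mul_apply, hv, LinearMap.zero_apply] at h3
          exact h3
      rw [Finset.sum_congr rfl h1]
      have h1X : ((1 : G) : G ⧸ T) ∈ X := by
        rw [hX]
        intro u
        have : ((u : G) : G) ∈ T := hPT u.2
        show ((u : G) • ((1 : G) : G ⧸ T)) = _
        rw [MulAction.Quotient.smul_coe]
        apply QuotientGroup.eq.2
        simpa using this
      rw [Finset.sum_ite_eq' X, if_pos h1X]
    -- iterate
    have hiter : ∀ n : ℕ, ∃ w, (R ^ n) v = v + ∑ u : P, ρ (u : G) w := by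
      intro n
      induction n with
      | zero => exact ⟨0, by simp⟩
      | succ n ih =>
        obtain ⟨w, hw⟩ := ih
        obtain ⟨w', hw'⟩ := hmain
        refine ⟨w' + R w, ?_⟩
        rw [pow_succ', Module.End.mul_apply, hw, map_add, hRnorm, hw', add_assoc, hnorm_sum]
    obtain ⟨n, hn⟩ := hnil
    obtain ⟨w, hw⟩ := hiter n
    rw [hn, LinearMap.zero_apply] at hw
    refine ⟨-w, ?_⟩
    rw [LinearMap.sum_apply]
    simp only [map_neg, Finset.sum_neg_distrib]
    exact (eq_neg_of_add_eq_zero_left hw.symm).symm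
  · -- bijective: the second alternative
    right
    intro v hv hfixv
    obtain ⟨w, hw⟩ := relTr_apply_sub_mem_range ρ hF hP hfixv X hX
    have h0 : ∑ q ∈ X, cj ρ q.out F v = 0 := by
      refine Finset.sum_eq_zero fun q hq => ?_
      have := hfix' _ (hXg q hq)
      have h3 := LinearMap.congr_fun this v
      simp only [Module.End.mul_apply, hv, LinearMap.zero_apply] at h3
      exact h3
    rw [h0, zero_add] at hw
    obtain ⟨w', rfl⟩ := hbij.2 w
    have hinj := hbij.1
    have h1 : R v = R (∑ u : P, ρ (u : G) w') := by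
      rw [hRnorm]
      exact hw
    have h2 := hinj h1
    refine ⟨w', ?_⟩
    rw [h2, LinearMap.sum_apply]

end Cfsg.Agent.Lib.DefectOne
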