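import Mathlib
import Cfsg.Agent.Lib.DefectOne.Tate

/-!
# Non-free part of a module for `P ⋊ K`, `|P| = p`

With `M` as in `tate_dichotomy`, `x` of order `p` and `K` a `p'`-subgroup normalising `⟨x⟩`,
an idempotent `E` commuting with `T = ⟨x⟩ K` has `dim ker(x-1)|_{EM} ≤ rank N|_{EM} + f`, where `f`
bounds the dimensions of the simple `K`-submodules of `EM`.
-/

set_option autoImplicit false
set_option linter.unusedSectionVars false

namespace Cfsg.Agent.Lib.DefectOne

open Module

variable {G : Type*} [Group G] {k : Type*} [Field k] {M : Type*} [AddCommGroup M] [Module k M]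

/-- `{∑_{j<n} y^j c_j : c_j ∈ U}`. -/
def polySpan (y : End k M) (U : Submodule k M) (n : ℕ) : Submodule k M where
  carrier := {v | ∃ c : ℕ → M, (∀ j, c j ∈ U) ∧ v = ∑ j ∈ Finset.range n, (y ^ j) (c j)}
  zero_mem' := ⟨fun _ => 0, fun _ => U.zero_mem, by simp⟩
  add_mem' := by
    rintro a b ⟨c, hc, rfl⟩ ⟨d, hd, rfl⟩
    refine ⟨fun j => c j + d j, fun j => U.add_mem (hc j) (hd j), ?_⟩
    simp [Finset.sum_add_distrib]
  smul_mem' := by
    rintro r a ⟨c, hc, rfl⟩
    refine ⟨fun j => r • c j, fun j => U.smul_mem r (hc j), ?_⟩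
    simp [Finset.smul_sum]

lemma mem_polySpan {y : End k M} {U : Submodule k M} {n : ℕ} {v : M} :
    v ∈ polySpan y U n ↔ ∃ c : ℕ → M, (∀ j, c j ∈ U) ∧ v = ∑ j ∈ Finset.range n, (y ^ j) (c j) :=
  Iff.rfl

section Jordan

variable {y E Λ : End k M} {U : Submodule k M} {s : ℕ}

/-- Independence of the `y^j U`. -/
lemma poly_indep (hU : ∀ u ∈ U, E u = u) (hE : y ^ (s + 1) * E = 0)
    (hinj : ∀ u ∈ U, (y ^ s) u = 0 → u = 0) {c : ℕ → M} (hc : ∀ j, c j ∈ U)
    (h0 : ∑ j ∈ Finset.range (s + 1), (y ^ j) (c j) = 0) :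
    ∀ j, j ≤ s → c j = 0 := by
  have hvan : ∀ n u, s + 1 ≤ n → u ∈ U → (y ^ n) u = 0 := by
    intro n u hn hu
    obtain ⟨m, rfl⟩ := Nat.exists_eq_add_of_le hn
    have h1 : (y ^ (s + 1) * E) u = 0 := by rw [hE]; rfl
    rw [Module.End.mul_apply, hU u hu] at h1
    rw [add_comm, pow_add, Module.End.mul_apply, h1, map_zero]
  intro j
  induction j using Nat.strong_induction_on with
  | _ j ih =>
    intro hj
    apply hinj _ (hc j)
    have h1 := congrArg (y ^ (s - j)) h0
    rw [map_zero, map_sum] at h1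
    rw [Finset.sum_eq_single j] at h1
    · rw [← Module.End.mul_apply, ← pow_add] at h1
      have : s - j + j = s := Nat.sub_add_cancel hj
      rwa [this] at h1
    · intro i hi hij
      rw [← Module.End.mul_apply, ← pow_add]
      rcases lt_or_gt_of_ne hij with hlt | hgt
      · have hi0 := ih i hlt (by omega)
        rw [hi0, map_zero]
      · apply hvan _ _ _ (hc i)
        omega
    · intro h
      exact absurd (Finset.mem_range.2 (by omega)) h

/-- Vectors of `C` killed by `y` are `y^s U`. -/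
lemma ker_polySpan (hU : ∀ u ∈ U, E u = u) (hE : y ^ (s + 1) * E = 0)
    (hinj : ∀ u ∈ U, (y ^ s) u = 0 → u = 0) {v : M} (hv : v ∈ polySpan y U (s + 1)) (hyv : y v = 0) :
    ∃ u ∈ U, v = (y ^ s) u := by
  obtain ⟨c, hc, rfl⟩ := hv
  have hvan : ∀ u, u ∈ U → (y ^ (s + 1)) u = 0 := by
    intro u hu
    have h1 : (y ^ (s + 1) * E) u = 0 := by rw [hE]; rfl
    rwa [Module.End.mul_apply, hU u hu] at h1
  have h1 : ∑ j ∈ Finset.range (s + 1), (y ^ j) ((fun j => if j = 0 then 0 else c (j - 1)) j) = 0 := by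
    rw [Finset.sum_range_succ']
    simp only [if_true, map_zero, add_zero, Nat.add_eq_zero_iff, one_ne_zero, and_false, if_false,
      Nat.add_sub_cancel]
    rw [map_sum, Finset.sum_range_succ] at hyv
    have hlast : y ((y ^ s) (c s)) = 0 := by
      rw [← Module.End.mul_apply, ← pow_succ']
      exact hvan _ (hc s)
    rw [hlast, add_zero] at hyv
    rw [← hyv]
    refine Finset.sum_congr rfl fun j _ => ?_
    rw [← Module.End.mul_apply, ← pow_succ']
  have h2 := poly_indep hU hE hinj (c := fun j => if j = 0 then 0 else c (j - 1))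
    (fun j => by
      by_cases hj : j = 0
      · simp [hj]
      · simp [hj, hc]) h1
  refine ⟨c s, hc s, ?_⟩
  rw [Finset.sum_range_succ]
  rw [Finset.sum_eq_zero, zero_add]
  intro j hj
  have hj' := Finset.mem_range.1 hj
  have := h2 (j + 1) (by omega)
  simp only [Nat.add_eq_zero_iff, one_ne_zero, and_false, if_false, Nat.add_sub_cancel] at this
  rw [this, map_zero]

/-- Existence of the coordinate map `Λ`. -/
lemma exists_coord (hU : ∀ u ∈ U, E u = u) (hE : y ^ (s + 1) * E = 0)
    (hinj : ∀ u ∈ U, (y ^ s) u = 0 → u = 0) :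
    ∃ Λ : End k M, (∀ m, Λ m ∈ U) ∧ (∀ u ∈ U, Λ ((y ^ s) u) = u) ∧
      (∀ j, j < s → ∀ u ∈ U, Λ ((y ^ j) u) = 0) := by
  classical
  let C₀ := polySpan y U s
  let g : U →ₗ[k] (M ⧸ C₀) := C₀.mkQ ∘ₗ (y ^ s) ∘ₗ U.subtype
  have hg : LinearMap.ker g = ⊥ := by
    rw [LinearMap.ker_eq_bot]
    rw [injective_iff_map_eq_zero]
    rintro ⟨u, hu⟩ h0
    have h1 : (y ^ s) u ∈ C₀ := by
      have : C₀.mkQ ((y ^ s) u) = 0 := h0
      simpa using this
    obtain ⟨c, hc, hcu⟩ := h1
    have h2 := poly_indep (s := s) (c := fun j => if j = s then -u else c j) hU hE hinj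
      (fun j => by
        by_cases hj : j = s
        · simp only [hj, if_true]; exact U.neg_mem hu
        · simp only [hj, if_false]; exact hc j) (by
        rw [Finset.sum_range_succ]
        simp only [if_true, map_neg]
        rw [Finset.sum_congr rfl (g := fun j => (y ^ j) (c j))]
        · rw [← hcu]; simp
        · intro j hj
          have := (Finset.mem_range.1 hj).ne
          simp [this])
    have h3 := h2 s le_rfl
    simp only [if_true, neg_eq_zero] at h3
    exact Subtype.ext h3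
  obtain ⟨h, hh⟩ := g.exists_leftInverse_of_injective hg
  refine ⟨U.subtype ∘ₗ h ∘ₗ C₀.mkQ, fun m => by simp, ?_, ?_⟩
  · intro u hu
    have := LinearMap.congr_fun hh ⟨u, hu⟩
    simp only [LinearMap.comp_apply, LinearMap.id_apply] at this
    simp only [LinearMap.comp_apply, Submodule.subtype_apply] at *
    have h2 : C₀.mkQ ((y ^ s) u) = g ⟨u, hu⟩ := rfl
    rw [h2, this]
  · intro j hj u hu
    have hmem : (y ^ j) u ∈ C₀ := by
      refine ⟨fun i => if i = j then u else 0, fun i => by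
        by_cases hi : i = j
        · simp [hi, hu]
        · simp [hi], ?_⟩
      rw [Finset.sum_eq_single j]
      · simp
      · intro b _ hb
        simp [hb]
      · intro h
        exact absurd (Finset.mem_range.2 hj) h
    have h1 : C₀.mkQ ((y ^ j) u) = 0 := by simpa using hmem
    simp [h1]

/-- The retraction onto `C`. -/
noncomputable def retr (y Λ E : End k M) (s : ℕ) : End k M :=
  ∑ j ∈ Finset.range (s + 1), y ^ j * Λ * y ^ (s - j) * E

lemma retr_mem {m : M} (hΛ : ∀ m, Λ m ∈ U) : retr y Λ E s m ∈ polySpan y U (s + 1) := by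
  refine ⟨fun j => Λ ((y ^ (s - j)) (E m)), fun j => hΛ _, ?_⟩
  unfold retr
  rw [LinearMap.sum_apply]
  rfl

lemma retr_mul_E (hEE : E * E = E) : retr y Λ E s * E = retr y Λ E s := by
  unfold retr
  rw [Finset.sum_mul]
  refine Finset.sum_congr rfl fun j _ => ?_
  rw [mul_assoc, hEE]

lemma retr_id (hU : ∀ u ∈ U, E u = u) (hE : y ^ (s + 1) * E = 0) (hyE : y * E = E * y)
    (hΛ₁ : ∀ u ∈ U, Λ ((y ^ s) u) = u)
    (hΛ₀ : ∀ j, j < s → ∀ u ∈ U, Λ ((y ^ j) u) = 0) {v : M} (hv : v ∈ polySpan y U (s + 1)) :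
    retr y Λ E s v = v := by
  obtain ⟨c, hc, rfl⟩ := hv
  rw [map_sum]
  refine Finset.sum_congr rfl fun i hi => ?_
  have hi' : i ≤ s := Nat.lt_succ_iff.1 (Finset.mem_range.1 hi)
  unfold retr
  rw [LinearMap.sum_apply, Finset.sum_eq_single i]
  · simp only [Module.End.mul_apply]
    have hcomm : ∀ n : ℕ, E ((y ^ n) (c i)) = (y ^ n) (c i) := by
      intro n
      have h1 : Commute E (y ^ n) := (Commute.pow_right (show Commute E y from hyE.symm) n)
      have h2 := LinearMap.congr_fun h1.eq (c i)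
      simp only [Module.End.mul_apply, hU _ (hc i)] at h2
      exact h2
    rw [hcomm, ← Module.End.mul_apply (y ^ (s - i)), ← pow_add]
    have : s - i + i = s := Nat.sub_add_cancel hi'
    rw [this, hΛ₁ _ (hc i)]
  · intro j hj hji
    have hj' : j ≤ s := Nat.lt_succ_iff.1 (Finset.mem_range.1 hj)
    simp only [Module.End.mul_apply]
    have hcomm : ∀ n : ℕ, E ((y ^ n) (c i)) = (y ^ n) (c i) := by
      intro n
      have h1 : Commute E (y ^ n) := (Commute.pow_right (show Commute E y from hyE.symm) n)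
      have h2 := LinearMap.congr_fun h1.eq (c i)
      simp only [Module.End.mul_apply, hU _ (hc i)] at h2
      exact h2
    rw [hcomm, ← Module.End.mul_apply (y ^ (s - j)), ← pow_add]
    rcases lt_or_gt_of_ne hji with hlt | hgt
    · -- `j < i`: exponent too large
      have : (y ^ (s - j + i)) (c i) = 0 := by
        have h1 : s - j + i = (s - j + i - (s + 1)) + (s + 1) := by omega
        rw [h1, pow_add, Module.End.mul_apply]
        have h2 : (y ^ (s + 1) * E) (c i) = 0 := by rw [hE]; rfl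
        rw [Module.End.mul_apply, hU _ (hc i)] at h2
        rw [h2, map_zero]
      rw [this]
      simp
    · have : Λ ((y ^ (s - j + i)) (c i)) = 0 := hΛ₀ _ (by omega) _ (hc i)
      rw [this, map_zero]
  · intro h
    exact absurd hi h

lemma retr_comm (hU : ∀ u ∈ U, E u = u) (hE : y ^ (s + 1) * E = 0) (hyE : y * E = E * y)
    (hΛ : ∀ m, Λ m ∈ U) : retr y Λ E s * y = y * retr y Λ E s := by
  have hcE : ∀ n : ℕ, E * y ^ n = y ^ n * E := fun n =>
    (Commute.pow_right (show Commute E y from hyE.symm) n).eq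
  unfold retr
  rw [Finset.sum_mul, Finset.mul_sum, Finset.sum_range_succ']
  rw [Finset.sum_range_succ]
  have hfirst : y ^ 0 * Λ * y ^ (s - 0) * E * y = 0 := by
    have : y ^ 0 * Λ * y ^ (s - 0) * E * y = Λ * (y ^ (s + 1) * E) := by
      simp only [pow_zero, one_mul, Nat.sub_zero, mul_assoc]
      rw [← hyE, ← mul_assoc (y ^ s), ← pow_succ]
    rw [this, hE, mul_zero]
  have hlast : y * (y ^ s * Λ * y ^ (s - s) * E) = 0 := by
    ext m
    have h1 : (y ^ (s + 1) * E) (Λ (E m)) = 0 := by rw [hE]; rfl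
    rw [Module.End.mul_apply, hU _ (hΛ _)] at h1
    simp only [Nat.sub_self, pow_zero, mul_one, Module.End.mul_apply, LinearMap.zero_apply]
    rw [← Module.End.mul_apply y, ← pow_succ']
    exact h1
  rw [hfirst, hlast, add_zero, add_zero]
  refine Finset.sum_congr rfl fun j hj => ?_
  have hj' : j < s := Finset.mem_range.1 hj
  have h1 : s - (j + 1) + 1 = s - j := by omega
  have h2 : y ^ (j + 1) * Λ * y ^ (s - (j + 1)) * E * y = y * (y ^ j * Λ * y ^ (s - j) * E) := by
    rw [← h1, pow_succ (n := s - (j + 1)), pow_succ' (n := j)]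
    simp only [mul_assoc]
    rw [hyE]
  exact h2

end Jordan

section Average

variable [Finite G]

/-- `U` is stable under `K`. -/
def KStable (ρ : G →* End k M) (K : Subgroup G) (U : Submodule k M) : Prop :=
  ∀ w ∈ K, ∀ v ∈ U, ρ w v ∈ U

/-- Average over a subgroup. -/
noncomputable def avg (ρ : G →* End k M) (K : Subgroup G) (S : End k M) : End k M :=
  haveI : Fintype K := Fintype.ofFinite _
  (Nat.card K : k)⁻¹ • ∑ w : K, ρ (w : G) * S * ρ (w : G)⁻¹

lemma avg_apply (ρ : G →* End k M) (K : Subgroup G) (S : End k M) (m : M) :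
    haveI : Fintype K := Fintype.ofFinite _
    avg ρ K S m = (Nat.card K : k)⁻¹ • ∑ w : K, ρ (w : G) (S (ρ (w : G)⁻¹ m)) := by
  simp [avg, LinearMap.sum_apply]

lemma avg_comm (ρ : G →* End k M) (K : Subgroup G) (S : End k M) {w : G} (hw : w ∈ K) :
    avg ρ K S * ρ w = ρ w * avg ρ K S := by
  classical
  letI : Fintype K := Fintype.ofFinite _
  unfold avg
  rw [mul_smul_comm, smul_mul_assoc]
  congr 1
  rw [Finset.sum_mul, Finset.mul_sum]
  rw [← Equiv.sum_comp (Equiv.mulLeft (⟨w, hw⟩ : K))]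
  refine Finset.sum_congr rfl fun a _ => ?_
  simp only [Equiv.coe_mulLeft, Subgroup.coe_mul, mul_inv_rev, map_mul, mul_assoc]
  rw [← map_mul, inv_mul_cancel, map_one, mul_one]

lemma avg_mem (ρ : G →* End k M) {K : Subgroup G} {S : End k M} {W : Submodule k M}
    (hW : KStable ρ K W) (hS : ∀ m, S m ∈ W) (m : M) : avg ρ K S m ∈ W := by
  classical
  letI : Fintype K := Fintype.ofFinite _
  rw [avg_apply]
  refine W.smul_mem _ (W.sum_mem fun w _ => hW _ w.2 _ (hS _))

lemma avg_id (ρ : G →* End k M) {K : Subgroup G} {S : End k M} {W : Submodule k M}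
    (hK : (Nat.card K : k) ≠ 0) (hW : KStable ρ K W) (hS : ∀ v ∈ W, S v = v) {v : M} (hv : v ∈ W) :
    avg ρ K S v = v := by
  classical
  letI : Fintype K := Fintype.ofFinite _
  rw [avg_apply]
  have h1 : ∀ w : K, ρ (w : G) (S (ρ (w : G)⁻¹ v)) = v := by
    intro w
    rw [hS _ (hW _ (K.inv_mem w.2) _ hv), ← Module.End.mul_apply, ← map_mul, mul_inv_cancel, map_one]
    rfl
  simp only [h1, Finset.sum_const, Finset.card_univ]
  rw [← Nat.cast_smul_eq_nsmul k, smul_smul, Nat.card_eq_fintype_card] 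
  rw [Nat.card_eq_fintype_card] at hK
  rw [inv_mul_cancel₀ hK, one_smul]

/-- Semisimplicity: a `K`-stable subspace of a `K`-stable subspace has a `K`-stable complement. -/
lemma exists_stable_compl (ρ : G →* End k M) {K : Subgroup G} (hK : (Nat.card K : k) ≠ 0)
    {U U' : Submodule k M} (hU : KStable ρ K U) (hU' : KStable ρ K U') (hle : U' ≤ U) :
    ∃ U'' : Submodule k M, KStable ρ K U'' ∧ U'' ≤ U ∧ U' ⊓ U'' = ⊥ ∧ U' ⊔ U'' = U := by
  classical
  obtain ⟨W, hW⟩ := Submodule.exists_isCompl U'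
  let S : End k M := U'.subtype ∘ₗ (Submodule.projectionOnto U' W hW)
  have hS1 : ∀ m, S m ∈ U' := fun m => by simp [S]
  have hS2 : ∀ v ∈ U', S v = v := fun v hv => by
    simp only [S, LinearMap.comp_apply, Submodule.subtype_apply]
    exact congrArg Subtype.val (Submodule.projectionOnto_apply_left hW ⟨v, hv⟩)
  set Q := avg ρ K S with hQ
  have hQ1 : ∀ m, Q m ∈ U' := avg_mem ρ hU' hS1
  have hQ2 : ∀ v ∈ U', Q v = v := fun v hv => avg_id ρ hK hU' hS2 hv
  refine ⟨LinearMap.ker Q ⊓ U, ?_, inf_le_right, ?_, ?_⟩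
  · rintro w hw v ⟨hv1, hv2⟩
    refine ⟨?_, hU w hw v hv2⟩
    have := LinearMap.congr_fun (avg_comm ρ K S hw) v
    simp only [Module.End.mul_apply] at this
    simp only [SetLike.mem_coe, LinearMap.mem_ker] at hv1 ⊢
    rw [this, hv1, map_zero]
  · rw [eq_bot_iff]
    rintro v ⟨hv1, hv2, -⟩
    have h1 : Q v = 0 := hv2
    rw [hQ2 v hv1] at h1
    simpa using h1
  · apply le_antisymm
    · exact sup_le hle inf_le_right
    · intro v hv
      have : v = Q v + (v - Q v) := by abel
      rw [this]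
      refine Submodule.add_mem_sup (hQ1 v) ⟨?_, U.sub_mem hv (hle (hQ1 v))⟩
      simp only [SetLike.mem_coe, LinearMap.mem_ker, map_sub]
      rw [hQ2 _ (hQ1 v), sub_self]

end Average

section Main

variable [Finite G] {p : ℕ} [hp : Fact p.Prime] [CharP k p] [FiniteDimensional k M]

lemma y_pow_p (ρ : G →* End k M) {x : G} (hx : orderOf x = p) : (ρ x - 1) ^ p = 0 := by
  have h2 : ((Polynomial.X : Polynomial k) - 1) ^ p = Polynomial.X ^ p - 1 := by
    rw [sub_pow_char, one_pow]
  have := congrArg (Polynomial.aeval (ρ x)) h2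
  simp only [map_pow, map_sub, Polynomial.aeval_X, map_one] at this
  rw [this, ← map_pow, ← hx, pow_orderOf_eq_one, map_one, sub_self]

lemma geom_eq_pow (z : End k M) : ∑ i ∈ Finset.range p, z ^ i = (z - 1) ^ (p - 1) := by
  have h : (∑ i ∈ Finset.range p, (Polynomial.X : Polynomial k) ^ i) =
      (Polynomial.X - 1) ^ (p - 1) := by
    have h1 : (∑ i ∈ Finset.range p, (Polynomial.X : Polynomial k) ^ i) * (Polynomial.X - 1) =
        Polynomial.X ^ p - 1 := geom_sum_mul _ _
    have h2 : ((Polynomial.X : Polynomial k) - 1) ^ p = Polynomial.X ^ p - 1 := by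
      rw [sub_pow_char, one_pow]
    have h3 : ((Polynomial.X : Polynomial k) - 1) ≠ 0 := Polynomial.X_sub_C_ne_zero (1 : k)
    apply mul_right_cancel₀ h3
    rw [h1, ← h2, ← pow_succ, Nat.sub_add_cancel hp.out.one_le]
  have := congrArg (Polynomial.aeval z) h
  simpa using this

lemma sum_zpowers_eq (ρ : G →* End k M) {x : G} (hx : orderOf x = p) [Fintype (Subgroup.zpowers x)] :
    ∑ u : Subgroup.zpowers x, ρ (u : G) = (ρ x - 1) ^ (p - 1) := by
  rw [← geom_eq_pow (p := p)]
  have hfin : IsOfFinOrder x := isOfFinOrder_iff_pow_eq_one.2 ⟨p, hp.out.pos, by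
    rw [← hx, pow_orderOf_eq_one]⟩
  rw [← Equiv.sum_comp (finEquivZPowers hfin)]
  rw [← hx, Finset.sum_range]
  refine Finset.sum_congr rfl fun i _ => ?_
  simp [finEquivZPowers_apply, map_pow]

/-- A `y`-stable subspace is stable under `⟨x⟩`. -/
lemma stable_zpowers (ρ : G →* End k M) {x : G} (hx : orderOf x = p) {W : Submodule k M}
    (hW : ∀ v ∈ W, (ρ x - 1) v ∈ W) {u : G} (hu : u ∈ Subgroup.zpowers x) {v : M} (hv : v ∈ W) :
    ρ u v ∈ W := by
  have hfin : IsOfFinOrder x := isOfFinOrder_iff_pow_eq_one.2 ⟨p, hp.out.pos, by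
    rw [← hx, pow_orderOf_eq_one]⟩
  obtain ⟨n, rfl⟩ := (hfin.mem_powers_iff_mem_zpowers).2 hu
  clear hu
  simp only [map_pow]
  have h1 : ∀ v ∈ W, ρ x v ∈ W := by
    intro v hv
    have := W.add_mem (hW v hv) hv
    simpa using this
  induction n with
  | zero => simpa using hv
  | succ n ih =>
    rw [pow_succ', Module.End.mul_apply]
    exact h1 _ ih

lemma comm_zpowers (ρ : G →* End k M) {x : G} (hx : orderOf x = p) {S : End k M}
    (hS : S * (ρ x - 1) = (ρ x - 1) * S) {u : G} (hu : u ∈ Subgroup.zpowers x) :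
    S * ρ u = ρ u * S := by
  have hfin : IsOfFinOrder x := isOfFinOrder_iff_pow_eq_one.2 ⟨p, hp.out.pos, by
    rw [← hx, pow_orderOf_eq_one]⟩
  obtain ⟨n, rfl⟩ := (hfin.mem_powers_iff_mem_zpowers).2 hu
  have h1 : Commute S (ρ x) := by
    show S * ρ x = ρ x * S
    have := hS
    rw [mul_sub, sub_mul, mul_one, one_mul] at this
    exact sub_left_injective this
  simp only [map_pow]
  exact (h1.pow_right n).eq

/-- `ker (y^s)` is stable under elements normalising `⟨x⟩`. -/
lemma ker_pow_stable (ρ : G →* End k M) {x w : G} (hx : orderOf x = p)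
    (hw : w⁻¹ * x * w ∈ Subgroup.zpowers x) (s : ℕ) {v : M} (hv : ((ρ x - 1) ^ s) v = 0) :
    ((ρ x - 1) ^ s) (ρ w v) = 0 := by
  have hfin : IsOfFinOrder x := isOfFinOrder_iff_pow_eq_one.2 ⟨p, hp.out.pos, by
    rw [← hx, pow_orderOf_eq_one]⟩
  obtain ⟨n, hn⟩ := (hfin.mem_powers_iff_mem_zpowers).2 hw
  simp only at hn
  -- `ρ(w⁻¹) y ρ(w) = y * g`
  let g : End k M := ∑ i ∈ Finset.range n, (ρ x) ^ i
  have h1 : (ρ x - 1) * ρ w = ρ w * ((ρ x - 1) * g) := by
    have h2 : ρ x * ρ w = ρ w * (ρ x) ^ n := by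
      rw [← map_pow, ← map_mul, ← map_mul, hn]
      congr 1
      group
    have h3 : (ρ x - 1) * g = (ρ x) ^ n - 1 := by
      exact mul_geom_sum _ _
    rw [h3, mul_sub, sub_mul, ← h2]
    simp
  have h4 : ∀ t : ℕ, (ρ x - 1) ^ t * ρ w = ρ w * ((ρ x - 1) ^ t * g ^ t) := by
    intro t
    induction t with
    | zero => simp
    | succ t ih =>
      have hc : Commute (ρ x - 1) g := by
        refine Commute.sum_right _ _ _ fun i _ => ?_
        exact ((Commute.refl (ρ x)).pow_right i).sub_left (Commute.one_left _)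
      have hc' : g ^ t * (ρ x - 1) = (ρ x - 1) * g ^ t := ((hc.pow_right t).eq).symm
      rw [pow_succ, mul_assoc, h1, ← mul_assoc, ih]
      rw [pow_succ]
      simp only [mul_assoc]
      congr 2
      rw [← mul_assoc (g ^ t), hc', mul_assoc]
  have h5 := LinearMap.congr_fun (h4 s) v
  simp only [Module.End.mul_apply] at h5
  rw [h5]
  have hc : Commute ((ρ x - 1) ^ s) (g ^ s) := by
    refine Commute.pow_pow ?_ s s
    refine Commute.sum_right _ _ _ fun i _ => ?_
    exact ((Commute.refl (ρ x)).pow_right i).sub_left (Commute.one_left _)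
  have h6 := LinearMap.congr_fun hc.eq v
  simp only [Module.End.mul_apply] at h6
  rw [h6, hv, map_zero, map_zero]

/-- A simple `K`-submodule on which `y^s` is injective. -/
lemma exists_simple_block (ρ : G →* End k M) {x : G} (hx : orderOf x = p) {K : Subgroup G}
    (hK : (Nat.card K : k) ≠ 0) (hKx : ∀ w ∈ K, w⁻¹ * x * w ∈ Subgroup.zpowers x)
    {E : End k M} (hEK : ∀ w ∈ K, E * ρ w = ρ w * E) {s : ℕ}
    (hs : (ρ x - 1) ^ s * E ≠ 0) :
    ∃ U : Submodule k M, U ≤ LinearMap.range E ∧ KStable ρ K U ∧ U ≠ ⊥ ∧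
      (∀ U' : Submodule k M, U' ≤ U → KStable ρ K U' → U' = ⊥ ∨ U' = U) ∧
      (∀ u ∈ U, ((ρ x - 1) ^ s) u = 0 → u = 0) := by
  classical
  set y := ρ x - 1 with hy
  let Q : Submodule k M → Prop := fun U =>
    U ≤ LinearMap.range E ∧ KStable ρ K U ∧ ∃ u ∈ U, (y ^ s) u ≠ 0
  have hQ0 : Q (LinearMap.range E) := by
    refine ⟨le_rfl, ?_, ?_⟩
    · rintro w hw _ ⟨m, rfl⟩
      refine ⟨ρ w m, ?_⟩
      have := LinearMap.congr_fun (hEK w hw) m
      simpa using this
    · by_contra hcon
      push Not at hcon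
      apply hs
      ext m
      simpa using hcon (E m) ⟨m, rfl⟩
  have hex : ∃ n, ∃ U, Q U ∧ finrank k U = n := ⟨_, _, hQ0, rfl⟩
  obtain ⟨U, hQU, hUn⟩ := Nat.find_spec hex
  have hmin : ∀ U', Q U' → finrank k U ≤ finrank k U' := by
    intro U' hU'
    rw [hUn]
    exact Nat.find_min' hex ⟨U', hU', rfl⟩
  obtain ⟨hUE, hUK, u₀, hu₀, hyu₀⟩ := hQU
  have hUbot : U ≠ ⊥ := by
    rintro rfl
    apply hyu₀
    have : u₀ = 0 := by simpa using hu₀
    simp [this]
  have hsimple : ∀ U' : Submodule k M, U' ≤ U → KStable ρ K U' → U' = ⊥ ∨ U' = U := by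
    intro U' hU'U hU'K
    by_contra hcon
    push Not at hcon
    obtain ⟨hbot, hne⟩ := hcon
    obtain ⟨U'', hU''K, hU''U, hinf, hsup⟩ := exists_stable_compl ρ hK hUK hU'K hU'U
    have hlt' : U' < U := lt_of_le_of_ne hU'U hne
    have hlt'' : U'' < U := by
      refine lt_of_le_of_ne hU''U ?_
      rintro rfl
      apply hbot
      rw [inf_eq_left.2 hU'U] at hinf
      exact hinf
    have h1 := Submodule.finrank_lt_finrank_of_lt hlt'
    have h2 := Submodule.finrank_lt_finrank_of_lt hlt''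
    have hnot1 : ¬ Q U' := fun h => absurd (hmin _ h) (not_le.2 h1)
    have hnot2 : ¬ Q U'' := fun h => absurd (hmin _ h) (not_le.2 h2)
    have hv1 : ∀ u ∈ U', (y ^ s) u = 0 := by
      intro u hu
      by_contra h
      exact hnot1 ⟨hU'U.trans hUE, hU'K, u, hu, h⟩
    have hv2 : ∀ u ∈ U'', (y ^ s) u = 0 := by
      intro u hu
      by_contra h
      exact hnot2 ⟨hU''U.trans hUE, hU''K, u, hu, h⟩
    rw [← hsup] at hu₀
    obtain ⟨a, ha, b, hb, rfl⟩ := Submodule.mem_sup.1 hu₀
    apply hyu₀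
    rw [map_add, hv1 a ha, hv2 b hb, add_zero]
  refine ⟨U, hUE, hUK, hUbot, hsimple, ?_⟩
  -- injectivity
  let W : Submodule k M := U ⊓ LinearMap.ker (y ^ s)
  have hWK : KStable ρ K W := by
    rintro w hw v ⟨hv1, hv2⟩
    refine ⟨hUK w hw v hv1, ?_⟩
    exact ker_pow_stable ρ hx (hKx w hw) s hv2
  rcases hsimple W inf_le_left hWK with h | h
  · intro u hu hyu
    have : u ∈ W := ⟨hu, hyu⟩
    rw [h] at this
    simpa using this
  · exfalso
    apply hyu₀
    have : u₀ ∈ W := by rw [h]; exact hu₀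
    exact this.2

/-- The idempotent of a block. -/
lemma exists_block_idem (ρ : G →* End k M) {x : G} (hx : orderOf x = p) {K : Subgroup G}
    (hK : (Nat.card K : k) ≠ 0) (hKn : ∀ w ∈ K, ∀ u ∈ Subgroup.zpowers x, w⁻¹ * u * w ∈ Subgroup.zpowers x)
    {E : End k M} (hEE : E * E = E) (hEK : ∀ w ∈ K, E * ρ w = ρ w * E)
    (hEy : (ρ x - 1) * E = E * (ρ x - 1)) {s : ℕ} (hs : (ρ x - 1) ^ (s + 1) * E = 0)
    {U : Submodule k M} (hUE : U ≤ LinearMap.range E) (hUK : KStable ρ K U)
    (hinj : ∀ u ∈ U, ((ρ x - 1) ^ s) u = 0 → u = 0) :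
    ∃ F : End k M, F * F = F ∧ E * F = F ∧ F * E = F ∧ (∀ w ∈ K, F * ρ w = ρ w * F) ∧
      F * (ρ x - 1) = (ρ x - 1) * F ∧ (∀ m, F m ∈ polySpan (ρ x - 1) U (s + 1)) ∧
      (∀ v ∈ polySpan (ρ x - 1) U (s + 1), F v = v) := by
  classical
  set y := ρ x - 1 with hy
  have hU : ∀ u ∈ U, E u = u := by
    rintro u hu
    obtain ⟨m, rfl⟩ := hUE hu
    rw [← Module.End.mul_apply, hEE]
  obtain ⟨Λ, hΛ, hΛ₁, hΛ₀⟩ := exists_coord hU hs hinj
  set C := polySpan y U (s + 1) with hC
  set π := retr y Λ E s with hπ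
  have hπmem : ∀ m, π m ∈ C := fun m => retr_mem hΛ
  have hπid : ∀ v ∈ C, π v = v := fun v hv => retr_id hU hs hEy hΛ₁ hΛ₀ hv
  have hπy : π * y = y * π := retr_comm hU hs hEy hΛ
  have hπE : π * E = π := retr_mul_E hEE
  -- `C` lies in the range of `E`
  have hEy' : ∀ n : ℕ, E * y ^ n = y ^ n * E := fun n =>
    (Commute.pow_right (show Commute E y from hEy.symm) n).eq
  have hCE : ∀ v ∈ C, E v = v := by
    rintro v ⟨c, hc, rfl⟩
    rw [map_sum]
    refine Finset.sum_congr rfl fun j _ => ?_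
    have := LinearMap.congr_fun (hEy' j) (c j)
    simp only [Module.End.mul_apply, hU _ (hc j)] at this
    exact this
  -- `C` is `y`-stable
  have hCy : ∀ v ∈ C, y v ∈ C := by
    rintro v ⟨c, hc, rfl⟩
    refine ⟨fun j => if j = 0 then 0 else c (j - 1), fun j => ?_, ?_⟩
    · by_cases hj : j = 0
      · simp [hj]
      · simp [hj, hc]
    · rw [map_sum, Finset.sum_range_succ, Finset.sum_range_succ']
      have hlast : y ((y ^ s) (c s)) = 0 := by
        rw [← Module.End.mul_apply, ← pow_succ']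
        have h1 : (y ^ (s + 1) * E) (c s) = 0 := by rw [hs]; rfl
        rwa [Module.End.mul_apply, hU _ (hc s)] at h1
      rw [hlast, add_zero]
      simp only [if_true, map_zero, add_zero, Nat.add_eq_zero_iff, one_ne_zero, and_false, if_false,
        Nat.add_sub_cancel]
      refine Finset.sum_congr rfl fun j _ => ?_
      rw [← Module.End.mul_apply, pow_succ']
  have hCu : ∀ u ∈ Subgroup.zpowers x, ∀ v ∈ C, ρ u v ∈ C := fun u hu v hv =>
    stable_zpowers ρ hx hCy hu hv
  -- `C` is `K`-stable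
  have hUC : U ≤ C := by
    intro u hu
    refine ⟨fun j => if j = 0 then u else 0, fun j => ?_, ?_⟩
    · by_cases hj : j = 0
      · simp [hj, hu]
      · simp [hj]
    · rw [Finset.sum_eq_single 0]
      · simp
      · intro b _ hb
        simp [hb]
      · intro h
        exact absurd (Finset.mem_range.2 (Nat.succ_pos s)) h
  have hCK : KStable ρ K C := by
    rintro w hw v ⟨c, hc, rfl⟩
    rw [map_sum]
    refine C.sum_mem fun j _ => ?_
    -- `ρ w y^j = (y_w)^j ρ w`
    let u' : G := w * x * w⁻¹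
    have hu' : u' ∈ Subgroup.zpowers x := by
      have := hKn w⁻¹ (K.inv_mem hw) x (Subgroup.mem_zpowers x)
      simpa [u'] using this
    have hconj : ρ w * y = (ρ u' - 1) * ρ w := by
      simp only [y, u', mul_sub, sub_mul, mul_one, one_mul]
      congr 1
      rw [← map_mul, ← map_mul]
      congr 1
      group
    have hpow : ∀ n : ℕ, ρ w * y ^ n = (ρ u' - 1) ^ n * ρ w := by
      intro n
      induction n with
      | zero => simp
      | succ n ih =>
        rw [pow_succ, ← mul_assoc, ih, mul_assoc, hconj, ← mul_assoc, pow_succ]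
    have h1 := LinearMap.congr_fun (hpow j) (c j)
    simp only [Module.End.mul_apply] at h1
    rw [h1]
    have h2 : ∀ n : ℕ, ∀ v ∈ C, ((ρ u' - 1) ^ n) v ∈ C := by
      intro n
      induction n with
      | zero => intro v hv; simpa using hv
      | succ n ih =>
        intro v hv
        rw [pow_succ, Module.End.mul_apply]
        apply ih
        simp only [LinearMap.sub_apply, Module.End.one_apply]
        exact C.sub_mem (hCu _ hu' _ hv) hv
    exact h2 j _ (hUC (hUK w hw _ (hc j)))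
  set F := avg ρ K π with hF
  have hFmem : ∀ m, F m ∈ C := avg_mem ρ hCK hπmem
  have hFid : ∀ v ∈ C, F v = v := fun v hv => avg_id ρ hK hCK hπid hv
  have hFK : ∀ w ∈ K, F * ρ w = ρ w * F := fun w hw => avg_comm ρ K π hw
  refine ⟨F, ?_, ?_, ?_, hFK, ?_, hFmem, hFid⟩
  · ext m
    exact hFid _ (hFmem m)
  · ext m
    exact hCE _ (hFmem m)
  · letI : Fintype K := Fintype.ofFinite _
    ext m
    simp only [Module.End.mul_apply]
    rw [avg_apply, avg_apply]
    congr 1
    refine Finset.sum_congr rfl fun w _ => ?_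
    have h1 := LinearMap.congr_fun (hEK _ (K.inv_mem w.2)) m
    simp only [Module.End.mul_apply] at h1
    rw [← h1]
    have h2 := LinearMap.congr_fun hπE (ρ (w : G)⁻¹ m)
    simp only [Module.End.mul_apply] at h2
    rw [h2]
  · -- commutes with `y`
    letI : Fintype K := Fintype.ofFinite _
    have hπu : ∀ u ∈ Subgroup.zpowers x, π * ρ u = ρ u * π := fun u hu =>
      comm_zpowers ρ hx hπy hu
    have hx1 : F * ρ x = ρ x * F := by
      rw [hF]
      unfold avg
      rw [mul_smul_comm, smul_mul_assoc]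
      congr 1
      rw [Finset.sum_mul, Finset.mul_sum]
      refine Finset.sum_congr rfl fun w _ => ?_
      have hw1 : (w : G)⁻¹ * x * (w : G) ∈ Subgroup.zpowers x :=
        hKn _ w.2 x (Subgroup.mem_zpowers x)
      have h1 := hπu _ hw1
      have h2 : ρ (w : G)⁻¹ * ρ x = ρ ((w : G)⁻¹ * x * (w : G)) * ρ (w : G)⁻¹ := by
        rw [← map_mul, ← map_mul]
        congr 1
        group
      have h3 : ρ x * ρ (w : G) = ρ (w : G) * ρ ((w : G)⁻¹ * x * (w : G)) := by
        rw [← map_mul, ← map_mul]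
        congr 1
        group
      calc ρ (w : G) * π * ρ (w : G)⁻¹ * ρ x
          = ρ (w : G) * π * (ρ (w : G)⁻¹ * ρ x) := by rw [mul_assoc]
        _ = ρ (w : G) * (π * ρ ((w : G)⁻¹ * x * (w : G))) * ρ (w : G)⁻¹ := by
            rw [h2]; simp only [mul_assoc]
        _ = ρ (w : G) * (ρ ((w : G)⁻¹ * x * (w : G)) * π) * ρ (w : G)⁻¹ := by rw [h1]
        _ = (ρ (w : G) * ρ ((w : G)⁻¹ * x * (w : G))) * π * ρ (w : G)⁻¹ := by
            simp only [mul_assoc]
        _ = ρ x * (ρ (w : G) * π * ρ (w : G)⁻¹) := by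
            rw [← h3]; simp only [mul_assoc]
    rw [mul_sub, sub_mul, hx1, mul_one, one_mul]

lemma cj_orth (ρ : G →* End k M) {g : G} {A B E : End k M} (hA : A * E = A) (hB : E * B = B)
    (h : cj ρ g E * E = 0) : cj ρ g A * B = 0 := by
  have hinv : ρ g⁻¹ * ρ g = 1 := by rw [← map_mul, inv_mul_cancel, map_one]
  calc cj ρ g A * B = ρ g * (A * E) * ρ g⁻¹ * (E * B) := by rw [hA, hB]; rfl
    _ = ρ g * A * ρ g⁻¹ * ((ρ g * E * ρ g⁻¹) * E) * B := by
        simp only [mul_assoc]
        rw [← mul_assoc (ρ g⁻¹) (ρ g), hinv, one_mul]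
    _ = 0 := by
        have : ρ g * E * ρ g⁻¹ * E = 0 := h
        rw [this]; simp

lemma cj_eq_self (ρ : G →* End k M) {T : Subgroup G} {F : End k M}
    (hF : ∀ t ∈ T, F * ρ t = ρ t * F) {g : G} (hg : g ∈ T) : cj ρ g F = F := by
  unfold cj
  rw [← hF g hg, mul_assoc, ← map_mul, mul_inv_cancel, map_one, mul_one]

lemma exists_ker_of_nilp {y : End k M} (hy : y ^ p = 0) {W : Submodule k M}
    (hW : ∀ v ∈ W, y v ∈ W) {v : M} (hv : v ∈ W) (hv0 : v ≠ 0) : ∃ w ∈ W, w ≠ 0 ∧ y w = 0 := by
  classical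
  have hex : ∃ n, (y ^ n) v = 0 := ⟨p, by rw [hy]; rfl⟩
  have hm := Nat.find_spec hex
  have hm0 : Nat.find hex ≠ 0 := by
    intro h
    rw [h] at hm
    exact hv0 (by simpa using hm)
  obtain ⟨s, hs⟩ := Nat.exists_eq_succ_of_ne_zero hm0
  have hmin := Nat.find_min hex (m := s) (by omega)
  have hpowW : ∀ n, (y ^ n) v ∈ W := by
    intro n
    induction n with
    | zero => simpa using hv
    | succ n ih =>
      rw [pow_succ', Module.End.mul_apply]
      exact hW _ ih
  refine ⟨(y ^ s) v, hpowW s, hmin, ?_⟩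
  rw [← Module.End.mul_apply, ← pow_succ']
  rw [hs] at hm
  exact hm

lemma fixed_of_y (ρ : G →* End k M) {x : G} (hx : orderOf x = p) {v : M} (hv : (ρ x - 1) v = 0)
    {u : G} (hu : u ∈ Subgroup.zpowers x) : ρ u v = v := by
  have hfin : IsOfFinOrder x := isOfFinOrder_iff_pow_eq_one.2 ⟨p, hp.out.pos, by
    rw [← hx, pow_orderOf_eq_one]⟩
  obtain ⟨n, rfl⟩ := (hfin.mem_powers_iff_mem_zpowers).2 hu
  clear hu
  have h1 : ρ x v = v := by
    have : ρ x v - v = 0 := by simpa using hv
    exact sub_eq_zero.1 this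
  simp only [map_pow]
  induction n with
  | zero => simp
  | succ n ih => rw [pow_succ', Module.End.mul_apply, ih, h1]

/-- **Main estimate.** -/
theorem beta_le (ρ : G →* End k M)
    (hFit : ∀ S : End k M, (∀ g, S * ρ g = ρ g * S) → IsNilpotent S ∨ Function.Bijective S)
    {x : G} (hx : orderOf x = p) {T K : Subgroup G}
    (hPT : Subgroup.zpowers x ≤ T) (hTPK : ∀ t ∈ T, ∃ u ∈ Subgroup.zpowers x, ∃ w ∈ K, t = u * w)
    (hKT : K ≤ T)
    (hKn : ∀ w ∈ K, ∀ u ∈ Subgroup.zpowers x, w⁻¹ * u * w ∈ Subgroup.zpowers x)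
    (hK : (Nat.card K : k) ≠ 0) (f : ℕ) :
    ∀ (n : ℕ) (E : End k M), finrank k (LinearMap.range E) = n → E * E = E →
      (∀ t ∈ T, E * ρ t = ρ t * E) →
      (∀ g : G, g ∉ T → (∀ u ∈ Subgroup.zpowers x, g⁻¹ * u * g ∈ T) → cj ρ g E * E = 0) →
      (∀ U : Submodule k M, U ≤ LinearMap.range E → KStable ρ K U → U ≠ ⊥ →
        (∀ U' : Submodule k M, U' ≤ U → KStable ρ K U' → U' = ⊥ ∨ U' = U) → finrank k U ≤ f) →
      finrank k (LinearMap.ker (ρ x - 1) ⊓ LinearMap.range E : Submodule k M) ≤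
        finrank k ((LinearMap.range E).map ((ρ x - 1) ^ (p - 1))) + f := by
  classical
  intro n
  induction n using Nat.strong_induction_on with
  | _ n ih =>
  intro E hn hEE hET hfixE hdim
  set y := ρ x - 1 with hy
  have hxT : x ∈ T := hPT (Subgroup.mem_zpowers x)
  have hEy : y * E = E * y := by
    simp only [y, sub_mul, mul_sub, one_mul, mul_one]
    rw [hET x hxT]
  have hEK : ∀ w ∈ K, E * ρ w = ρ w * E := fun w hw => hET w (hKT hw)
  by_cases hE0 : E = 0
  · subst hE0
    have : (LinearMap.range (0 : End k M)) = ⊥ := LinearMap.range_zero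
    rw [this, inf_bot_eq]
    simp
  have hyp : y ^ p = 0 := y_pow_p ρ hx
  have hex : ∃ m, y ^ m * E = 0 := ⟨p, by rw [hyp, zero_mul]⟩
  have hm := Nat.find_spec hex
  have hm0 : Nat.find hex ≠ 0 := by
    intro h
    rw [h] at hm
    exact hE0 (by simpa using hm)
  obtain ⟨s, hsm⟩ := Nat.exists_eq_succ_of_ne_zero hm0
  have hs1 : y ^ s * E ≠ 0 := Nat.find_min hex (m := s) (by omega)
  have hs0 : y ^ (s + 1) * E = 0 := by
    rw [hsm] at hm
    exact hm
  have hsp : s + 1 ≤ p := by
    have : Nat.find hex ≤ p := Nat.find_min' hex (by rw [hyp, zero_mul])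
    omega
  have hKx : ∀ w ∈ K, w⁻¹ * x * w ∈ Subgroup.zpowers x := fun w hw =>
    hKn w hw x (Subgroup.mem_zpowers x)
  obtain ⟨U, hUE, hUK, hUbot, hUsimple, hinj⟩ := exists_simple_block ρ hx hK hKx hEK hs1
  obtain ⟨F, hFF, hEF, hFE, hFK, hFy, hFmem, hFid⟩ :=
    exists_block_idem ρ hx hK hKn hEE hEK hEy hs0 hUE hUK hinj
  set C := polySpan y U (s + 1) with hC
  have hU : ∀ u ∈ U, E u = u := by
    rintro u hu
    obtain ⟨m, rfl⟩ := hUE hu
    rw [← Module.End.mul_apply, hEE]
  have hUC : U ≤ C := by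
    intro u hu
    refine ⟨fun j => if j = 0 then u else 0, fun j => ?_, ?_⟩
    · by_cases hj : j = 0
      · simp [hj, hu]
      · simp [hj]
    · rw [Finset.sum_eq_single 0]
      · simp
      · intro b _ hb
        simp [hb]
      · intro h
        exact absurd (Finset.mem_range.2 (Nat.succ_pos s)) h
  have hysU : ∀ u ∈ U, (y ^ s) u ∈ C := by
    intro u hu
    refine ⟨fun j => if j = s then u else 0, fun j => ?_, ?_⟩
    · by_cases hj : j = s
      · simp [hj, hu]
      · simp [hj]
    · rw [Finset.sum_eq_single s]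
      · simp
      · intro b _ hb
        simp [hb]
      · intro h
        exact absurd (Finset.mem_range.2 (Nat.lt_succ_self s)) h
  have hFu : ∀ u ∈ Subgroup.zpowers x, F * ρ u = ρ u * F := fun u hu => comm_zpowers ρ hx hFy hu
  have hFT : ∀ t ∈ T, F * ρ t = ρ t * F := by
    intro t ht
    obtain ⟨u, hu, w, hw, rfl⟩ := hTPK t ht
    rw [map_mul, ← mul_assoc, hFu u hu, mul_assoc, hFK w hw, mul_assoc]
  set F' := E - F with hF'
  have hF'F' : F' * F' = F' := by
    simp only [F', sub_mul, mul_sub, hEE, hEF, hFE, hFF]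
    abel
  have hFF' : F * F' = 0 := by
    simp only [F', mul_sub, hFE, hFF, sub_self]
  have hF'F : F' * F = 0 := by
    simp only [F', sub_mul, hEF, hFF, sub_self]
  have hEF' : E * F' = F' := by
    simp only [F', mul_sub, hEE, hEF]
  have hF'E : F' * E = F' := by
    simp only [F', sub_mul, hEE, hFE]
  have hF'T : ∀ t ∈ T, F' * ρ t = ρ t * F' := by
    intro t ht
    simp only [F', sub_mul, mul_sub, hET t ht, hFT t ht]
  have hFy' : F * y = y * F := hFy
  have hF'y : F' * y = y * F' := by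
    simp only [F', sub_mul, mul_sub, hFy', hEy]
  have hP : (Nat.card (Subgroup.zpowers x)).Prime := by
    rw [Nat.card_zpowers, hx]
    exact hp.out
  letI : Fintype (Subgroup.zpowers x) := Fintype.ofFinite _
  have hNm : ∑ u : Subgroup.zpowers x, ρ (u : G) = y ^ (p - 1) := sum_zpowers_eq ρ hx
  have hdich := tate_dichotomy ρ hFit (T := T) (P := Subgroup.zpowers x) hP (F := F) (F' := F') hFT
    (fun g hg _ => by rw [cj_eq_self ρ hFT hg, hFF])
    (fun g hg hP' => cj_orth ρ hFE hEF (hfixE g hg hP'))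
    (fun g hP' => by
      by_cases hg : g ∈ T
      · rw [cj_eq_self ρ hFT hg, hFF']
      · exact cj_orth ρ hFE hEF' (hfixE g hg hP')) hPT
  rw [hNm] at hdich
  have hFCid : ∀ v ∈ C, F v = v := hFid
  have hyC : ∀ v, y v = 0 → ∀ u : Subgroup.zpowers x, ρ (u : G) v = v := fun v hv u =>
    fixed_of_y ρ hx hv u.2
  rcases Nat.lt_or_eq_of_le hsp with hlt | heq
  · -- the non-free block: `E = F`
    have hNE : y ^ (p - 1) * E = 0 := by
      have h1 : p - 1 = (p - 1 - (s + 1)) + (s + 1) := by omega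
      rw [h1, pow_add, mul_assoc, hs0, mul_zero]
    have hNF : ∀ A : End k M, E * A = A → y ^ (p - 1) * A = 0 := by
      intro A hA
      rw [← hA, ← mul_assoc, hNE, zero_mul]
    have hcommN : ∀ A : End k M, A * y = y * A → A * y ^ (p - 1) = y ^ (p - 1) * A := fun A hA =>
      (Commute.pow_right (show Commute A y from hA) _).eq
    -- the first alternative fails
    have hF'0 : F' = 0 := by
      rcases hdich with halt | halt
      · exfalso
        obtain ⟨u₀, hu₀, hu₀0⟩ := Submodule.exists_mem_ne_zero_of_ne_bot hUbot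
        have hv₀ : (y ^ s) u₀ ≠ 0 := fun h => hu₀0 (hinj u₀ hu₀ h)
        have hyv : y ((y ^ s) u₀) = 0 := by
          rw [← Module.End.mul_apply, ← pow_succ']
          have h1 : (y ^ (s + 1) * E) u₀ = 0 := by rw [hs0]; rfl
          rwa [Module.End.mul_apply, hU _ hu₀] at h1
        obtain ⟨m, hm⟩ := halt _ (hFCid _ (hysU u₀ hu₀)) (hyC _ hyv)
        apply hv₀
        rw [← hFCid _ (hysU u₀ hu₀), ← hm]
        have h1 := LinearMap.congr_fun (hcommN F hFy) m
        simp only [Module.End.mul_apply] at h1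
        rw [h1]
        have h2 := LinearMap.congr_fun (hNF F hEF) m
        simpa using h2
      · by_contra hne
        have : ∃ m, F' m ≠ 0 := by
          by_contra hcon
          push Not at hcon
          apply hne
          ext m
          simpa using hcon m
        obtain ⟨m, hm⟩ := this
        have hWy : ∀ v ∈ LinearMap.range F', y v ∈ LinearMap.range F' := by
          rintro _ ⟨a, rfl⟩
          refine ⟨y a, ?_⟩
          have := LinearMap.congr_fun hF'y a
          simpa using this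
        obtain ⟨w, ⟨a, rfl⟩, hw0, hyw⟩ := exists_ker_of_nilp hyp hWy ⟨m, rfl⟩ hm
        obtain ⟨b, hb⟩ := halt (F' a) (by rw [← Module.End.mul_apply, hF'F']) (hyC _ hyw)
        apply hw0
        have h3 : F' (F' a) = F' a := by rw [← Module.End.mul_apply, hF'F']
        rw [← h3, ← hb]
        have h1 := LinearMap.congr_fun (hcommN F' hF'y) b
        simp only [Module.End.mul_apply] at h1
        rw [h1]
        have h2 := LinearMap.congr_fun (hNF F' hEF') b
        simpa using h2
    have hEeq : E = F := sub_eq_zero.1 hF'0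
    have hle : (LinearMap.ker y ⊓ LinearMap.range E : Submodule k M) ≤ U.map (y ^ s) := by
      rintro v ⟨hv1, hv2⟩
      rw [hEeq] at hv2
      obtain ⟨m, rfl⟩ := hv2
      obtain ⟨u, hu, hvu⟩ := ker_polySpan hU hs0 hinj (hFmem m) hv1
      exact ⟨u, hu, hvu.symm⟩
    have h1 := Submodule.finrank_mono hle
    have h2 : finrank k (U.map (y ^ s)) ≤ finrank k U := Submodule.finrank_map_le _ _
    have h3 := hdim U hUE hUK hUbot hUsimple
    omega
  · -- the free block: peel it off
    have hps : p - 1 = s := by omega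
    have hrF : LinearMap.range F ≤ LinearMap.range E := by
      rintro _ ⟨m, rfl⟩
      exact ⟨F m, by rw [← Module.End.mul_apply, hEF]⟩
    have hrF' : LinearMap.range F' ≤ LinearMap.range E := by
      rintro _ ⟨m, rfl⟩
      exact ⟨F' m, by rw [← Module.End.mul_apply, hEF']⟩
    have hlt : finrank k (LinearMap.range F') < n := by
      rw [← hn]
      apply Submodule.finrank_lt_finrank_of_lt
      refine lt_of_le_of_ne hrF' ?_
      intro heq'
      obtain ⟨u₀, hu₀, hu₀0⟩ := Submodule.exists_mem_ne_zero_of_ne_bot hUbot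
      have h1 : u₀ ∈ LinearMap.range F' := by rw [heq']; exact hUE hu₀
      obtain ⟨a, ha⟩ := h1
      apply hu₀0
      have h2 : F u₀ = u₀ := hFCid _ (hUC hu₀)
      rw [← h2, ← ha, ← Module.End.mul_apply, hFF']
      rfl
    have hIH := ih _ hlt F' rfl hF'F' hF'T
      (fun g hg hP' => cj_orth ρ hF'E hEF' (hfixE g hg hP'))
      (fun U' hU' => hdim U' (hU'.trans hrF'))
    -- additivity
    have hbeta : (LinearMap.ker y ⊓ LinearMap.range E : Submodule k M) ≤
        (LinearMap.ker y ⊓ LinearMap.range F) ⊔ (LinearMap.ker y ⊓ LinearMap.range F') := by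
      rintro v ⟨hv1, m, rfl⟩
      have hdec : E m = F m + F' m := by simp [F']
      have hv1' : y (E m) = 0 := hv1
      have hEmv : E (E m) = E m := by rw [← Module.End.mul_apply, hEE]
      refine Submodule.mem_sup.2 ⟨F (E m), ⟨?_, E m, rfl⟩, F' (E m), ⟨?_, E m, rfl⟩, ?_⟩
      · show y (F (E m)) = 0
        have := LinearMap.congr_fun hFy (E m)
        simp only [Module.End.mul_apply] at this
        rw [← this, hv1', map_zero]
      · show y (F' (E m)) = 0
        have := LinearMap.congr_fun hF'y (E m)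
        simp only [Module.End.mul_apply] at this
        rw [← this, hv1', map_zero]
      · simp [F', hEmv]
    have hgammaS : (LinearMap.range F).map (y ^ (p - 1)) ⊔ (LinearMap.range F').map (y ^ (p - 1)) ≤
        (LinearMap.range E).map (y ^ (p - 1)) :=
      sup_le (Submodule.map_mono hrF) (Submodule.map_mono hrF')
    have hgammaI : (LinearMap.range F).map (y ^ (p - 1)) ⊓ (LinearMap.range F').map (y ^ (p - 1)) = ⊥ := by
      rw [eq_bot_iff]
      rintro v ⟨⟨_, ⟨a, rfl⟩, ha⟩, ⟨_, ⟨b, rfl⟩, hb⟩⟩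
      have hcN : ∀ A : End k M, A * y = y * A → A * y ^ (p - 1) = y ^ (p - 1) * A := fun A hA =>
        (Commute.pow_right (show Commute A y from hA) _).eq
      have h1 : F v = v := by
        rw [← ha]
        have := LinearMap.congr_fun (hcN F hFy) (F a)
        simp only [Module.End.mul_apply] at this
        rw [this, ← Module.End.mul_apply F F, hFF]
      have h2 : F v = 0 := by
        rw [← hb]
        have := LinearMap.congr_fun (hcN F hFy) (F' b)
        simp only [Module.End.mul_apply] at this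
        rw [this, ← Module.End.mul_apply F F', hFF']
        simp
      rw [h1] at h2
      simp [h2]
    have hsum := Submodule.finrank_sup_add_finrank_inf_eq
      ((LinearMap.range F).map (y ^ (p - 1))) ((LinearMap.range F').map (y ^ (p - 1)))
    rw [hgammaI, finrank_bot, add_zero] at hsum
    have h1 := Submodule.finrank_mono hgammaS
    have h2 := Submodule.finrank_mono hbeta
    have h3 := Submodule.finrank_add_le_finrank_add_finrank
      (LinearMap.ker y ⊓ LinearMap.range F) (LinearMap.ker y ⊓ LinearMap.range F')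
    -- the free block
    have h4 : (LinearMap.ker y ⊓ LinearMap.range F : Submodule k M) ≤
        (LinearMap.range F).map (y ^ (p - 1)) := by
      rintro v ⟨hv1, m, rfl⟩
      obtain ⟨u, hu, hvu⟩ := ker_polySpan hU hs0 hinj (hFmem m) hv1
      refine ⟨u, ⟨u, hFCid _ (hUC hu)⟩, ?_⟩
      rw [hps]
      exact hvu.symm
    have h5 := Submodule.finrank_mono h4
    omega

end Main

end Cfsg.Agent.Lib.DefectOne
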