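import Mathlib

/-!
# Primitive idempotents in finite dimensional algebras

Existence of an idempotent `f` with `Φ f ≠ 0` such that every `c ∈ fAf` is nilpotent or has a
left inverse in `fAf`.
-/

set_option autoImplicit false
set_option linter.unusedSectionVars false

namespace Cfsg.Agent.Lib.DefectOne

open Module Polynomial

variable {k A B : Type*} [Field k] [Ring A] [Algebra k A] [FiniteDimensional k A] [Ring B]

/-- The left ideal generated by `a`. -/
noncomputable def leftId (a : A) : Submodule k A := LinearMap.range (LinearMap.mulRight k a)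

lemma mem_leftId {a b : A} : b ∈ leftId (k := k) a ↔ ∃ c, c * a = b := by
  simp [leftId]

lemma leftId_lt {f ε : A} (hfε : ε * f = ε) (hε : ε * ε = ε) (hfε' : f * ε = ε) (hff : f * f = f)
    (hne : f - ε ≠ 0) : leftId (k := k) ε < leftId (k := k) f := by
  refine lt_of_le_of_ne ?_ ?_
  · rintro b hb
    obtain ⟨c, rfl⟩ := mem_leftId.1 hb
    exact mem_leftId.2 ⟨c * ε, by rw [mul_assoc, hfε]⟩
  · intro h
    have h1 : f ∈ leftId (k := k) f := mem_leftId.2 ⟨f, hff⟩
    rw [← h] at h1
    obtain ⟨c, hc⟩ := mem_leftId.1 h1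
    apply hne
    -- `f = c ε` so `f ε = f`, hence `f = ε`
    have h2 : f * ε = f := by rw [← hc, mul_assoc, hε]
    rw [hfε'] at h2
    rw [← h2, sub_self]

lemma commute_aeval {f c : A} (h : Commute f c) (P : k[X]) : Commute f (aeval c P) := by
  induction P using Polynomial.induction_on' with
  | add p q hp hq =>
    rw [map_add]
    exact hp.add_right hq
  | monomial n a =>
    rw [aeval_monomial]
    exact (show Commute f (algebraMap k A a) from (Algebra.commutes a f).symm).mul_right (h.pow_right n)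

/-- Existence of a "primitive" idempotent relative to `Φ`. -/
theorem exists_primitive (k : Type*) {A B : Type*} [Field k] [Ring A] [Algebra k A]
    [FiniteDimensional k A] [Ring B] (Φ : A →+* B) (h1 : (1 : B) ≠ 0) :
    ∃ f : A, f * f = f ∧ Φ f ≠ 0 ∧ ∀ c : A, f * c = c → c * f = c →
      IsNilpotent c ∨ ∃ d : A, d * f = d ∧ f * d = d ∧ d * c = f := by
  classical
  let Q : A → Prop := fun f => f * f = f ∧ Φ f ≠ 0
  have hex : ∃ n, ∃ f, Q f ∧ finrank k (leftId (k := k) f) = n :=
    ⟨_, 1, ⟨one_mul 1, by rwa [map_one]⟩, rfl⟩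
  obtain ⟨f, ⟨hff, hΦf⟩, hfn⟩ := Nat.find_spec hex
  have hmin : ∀ f', Q f' → finrank k (leftId (k := k) f) ≤ finrank k (leftId (k := k) f') := by
    intro f' hf'
    rw [hfn]
    exact Nat.find_min' hex ⟨f', hf', rfl⟩
  refine ⟨f, hff, hΦf, fun c hfc hcf => ?_⟩
  have hcomm : Commute f c := by
    show f * c = c * f
    rw [hfc, hcf]
  have hint : IsIntegral k c := Algebra.IsIntegral.isIntegral c
  set μ : k[X] := X * minpoly k c with hμ
  have hμ0 : μ ≠ 0 := mul_ne_zero X_ne_zero (minpoly.ne_zero hint)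
  have hμc : aeval c μ = 0 := by
    simp [hμ, minpoly.aeval]
  obtain ⟨q, hq, hnq⟩ := exists_eq_pow_rootMultiplicity_mul_and_not_dvd μ hμ0 0
  simp only [map_zero, sub_zero] at hq hnq
  set b := rootMultiplicity 0 μ with hb
  have hb1 : 1 ≤ b := by
    have : 0 < rootMultiplicity 0 μ := by
      rw [rootMultiplicity_pos hμ0]
      simp [hμ]
    exact this
  have hcop : IsCoprime ((X : k[X]) ^ b) q := by
    apply IsCoprime.pow_left
    exact (Polynomial.irreducible_X.coprime_iff_not_dvd).2 hnq
  obtain ⟨u, v, huv⟩ := hcop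
  set ε := aeval c (u * X ^ b) with hε
  set δ := aeval c (v * q) with hδ
  have hεδ : ε + δ = 1 := by
    rw [hε, hδ, ← map_add, huv, map_one]
  have hprod : ε * δ = 0 := by
    rw [hε, hδ, ← map_mul]
    have : u * X ^ b * (v * q) = u * v * μ := by rw [hq]; ring
    rw [this, map_mul, hμc, mul_zero]
  have hδε : δ * ε = 0 := by
    rw [hε, hδ, ← map_mul]
    have : v * q * (u * X ^ b) = u * v * μ := by rw [hq]; ring
    rw [this, map_mul, hμc, mul_zero]
  have hεε : ε * ε = ε := by
    have : ε = 1 - δ := by rw [← hεδ]; abel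
    calc ε * ε = ε * (1 - δ) := by rw [← this]
      _ = ε := by rw [mul_sub, mul_one, hprod, sub_zero]
  -- `ε` lies in the corner
  have hcpow : ∀ n : ℕ, 1 ≤ n → f * c ^ n = c ^ n := by
    intro n hn
    obtain ⟨m, rfl⟩ := Nat.exists_eq_add_of_le hn
    rw [add_comm, pow_succ', ← mul_assoc, hfc]
  have hfε : f * ε = ε := by
    have h2 : Commute f (aeval c u) := commute_aeval hcomm u
    rw [hε, map_mul, map_pow, aeval_X, ← mul_assoc, h2.eq, mul_assoc, hcpow b hb1]
  have hεf : ε * f = ε := by
    have h2 : Commute f ε := commute_aeval hcomm _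
    rw [← h2.eq, hfε]
  set ε' := f - ε with hε'
  have hε'ε' : ε' * ε' = ε' := by
    simp only [ε', mul_sub, sub_mul, hff, hfε, hεf, hεε, sub_self, sub_zero]
  have hΦsum : Φ f = Φ ε + Φ ε' := by
    rw [← map_add, hε']; congr 1; abel
  by_cases hΦε : Φ ε ≠ 0
  · -- then `ε = f`
    have heq : ε' = 0 := by
      by_contra hne
      have hlt := leftId_lt (k := k) hεf hεε hfε hff hne
      have h2 := Submodule.finrank_lt_finrank_of_lt hlt
      exact absurd (hmin ε ⟨hεε, hΦε⟩) (not_le.2 h2)
    have hfeq : f = ε := sub_eq_zero.1 heq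
    right
    obtain ⟨m, hm⟩ := Nat.exists_eq_add_of_le hb1
    set d := f * (aeval c u * c ^ m) with hd
    have hcomm2 : Commute f (aeval c u * c ^ m) :=
      (commute_aeval hcomm u).mul_right (hcomm.pow_right m)
    refine ⟨d, ?_, ?_, ?_⟩
    · rw [hd, mul_assoc, ← hcomm2.eq, ← mul_assoc, hff]
    · rw [hd, ← mul_assoc, hff]
    · rw [hd, mul_assoc, mul_assoc]
      have h3 : c ^ m * c = c ^ b := by rw [hm, add_comm, pow_succ]
      rw [h3]
      have h4 : aeval c u * c ^ b = ε := by simp [hε]
      rw [h4, ← hfeq, hff]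
  · -- then `ε = 0` and `c` is nilpotent
    push Not at hΦε
    have hΦε' : Φ ε' ≠ 0 := by
      intro h0
      apply hΦf
      rw [hΦsum, hΦε, h0, add_zero]
    have heq : ε = 0 := by
      by_contra hne
      have hne' : f - ε' ≠ 0 := by
        have : f - ε' = ε := by rw [hε']; abel
        rwa [this]
      have hε'f : ε' * f = ε' := by
        simp only [ε', sub_mul, hff, hεf]
      have hfε' : f * ε' = ε' := by
        simp only [ε', mul_sub, hff, hfε]
      have hlt := leftId_lt (k := k) hε'f hε'ε' hfε' hff hne'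
      have h2 := Submodule.finrank_lt_finrank_of_lt hlt
      exact absurd (hmin ε' ⟨hε'ε', hΦε'⟩) (not_le.2 h2)
    left
    refine ⟨b, ?_⟩
    have hδ1 : δ = 1 := by rw [← hεδ, heq, zero_add]
    have hpoly : (X : k[X]) ^ b * (v * q) = v * μ := by
      rw [hq]; ring
    have h5 : c ^ b * δ = aeval c ((X : k[X]) ^ b * (v * q)) := by
      rw [map_mul (aeval c) (X ^ b), map_pow, aeval_X]
    rw [hpoly, map_mul, hμc, mul_zero, hδ1, mul_one] at h5
    exact h5

end Cfsg.Agent.Lib.DefectOne
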