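import Mathlib
import Cfsg.Agent.Lib.DefectOne.Primitive

/-!
# Integral forms of representations over a valuation subring of `ℂ`
-/

set_option autoImplicit false
set_option linter.unusedSectionVars false

namespace Cfsg.Agent.Lib.DefectOne

open Module Matrix

/-- A valuation subring of `ℂ` containing all algebraic integers with `p` a nonunit. -/
theorem exists_val (p : ℕ) [hp : Fact p.Prime] :
    ∃ O : ValuationSubring ℂ, (∀ z : ℂ, IsIntegral ℤ z → z ∈ O) ∧ (p : ℂ) ∈ O.nonunits := by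
  classical
  let A : Subring ℂ := (integralClosure ℤ ℂ).toSubring
  have hpA : (p : ℂ) ∈ A := by
    have : IsIntegral ℤ (p : ℂ) := isIntegral_natCast p
    exact this
  let I : Ideal A := Ideal.span {⟨(p : ℂ), hpA⟩}
  have hI : I ≠ ⊤ := by
    intro h
    rw [Ideal.span_singleton_eq_top] at h
    obtain ⟨⟨a, ha⟩, hinv⟩ := isUnit_iff_exists_inv.mp h
    have hinv' : (p : ℂ) * a = 1 := congrArg Subtype.val hinv
    have hp0 : (p : ℂ) ≠ 0 := by exact_mod_cast hp.out.ne_zero
    have ha1 : a = (((1 : ℚ) / p : ℚ) : ℂ) := by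
      push_cast
      field_simp
      rw [mul_comm]; exact hinv'
    have hint : IsIntegral ℤ (((1 : ℚ) / p : ℚ) : ℂ) := by
      rw [← ha1]; exact ha
    have hint2 : IsIntegral ℤ ((1 : ℚ) / p : ℚ) :=
      (isIntegral_algebraMap_iff (B := ℂ) (algebraMap ℚ ℂ).injective).1 hint
    obtain ⟨n, hn⟩ := IsIntegrallyClosed.isIntegral_iff.1 hint2
    have h1 : (n : ℚ) * p = 1 := by
      have : ((n : ℤ) : ℚ) = 1 / p := hn
      rw [this]
      have : (p : ℚ) ≠ 0 := by exact_mod_cast hp.out.ne_zero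
      field_simp
    have h2 : n * (p : ℤ) = 1 := by exact_mod_cast h1
    have h3 : (p : ℤ) ∣ 1 := ⟨n, by rw [mul_comm]; exact h2.symm⟩
    have h4 : p ∣ 1 := by exact_mod_cast h3
    exact hp.out.one_lt.ne' (Nat.dvd_one.1 h4)
  obtain ⟨O, hO, hIO⟩ := Ideal.image_subset_nonunits_valuationSubring I hI
  refine ⟨O, fun z hz => hO hz, ?_⟩
  exact hIO ⟨⟨(p : ℂ), hpA⟩, Ideal.subset_span rfl, rfl⟩

variable {G : Type*} [Group G] [Finite G] {n : ℕ}

/-- The matrix with columns `R (τ j) v`. -/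
def colsM (R : G →* Matrix (Fin n) (Fin n) ℂ) (v : Fin n → ℂ) (τ : Fin n → G) :
    Matrix (Fin n) (Fin n) ℂ :=
  Matrix.of fun i j => (R (τ j) *ᵥ v) i

lemma exists_det_ne_zero (R : G →* Matrix (Fin n) (Fin n) ℂ) (v : Fin n → ℂ)
    (hspan : Submodule.span ℂ (Set.range fun g => R g *ᵥ v) = ⊤) :
    ∃ τ : Fin n → G, (colsM R v τ).det ≠ 0 := by
  classical
  obtain ⟨b, hb, hspanb, hli⟩ := exists_linearIndependent ℂ (Set.range fun g => R g *ᵥ v)
  rw [hspan] at hspanb
  let bas := Module.Basis.mk hli (by rw [Subtype.range_coe]; exact hspanb.ge)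
  haveI : Finite b := Module.Finite.finite_basis bas
  have hcard : Nat.card b = n := by
    have := Module.finrank_eq_nat_card_basis bas
    simpa using this.symm
  haveI : Fintype b := Fintype.ofFinite _
  have hcard' : Fintype.card b = n := by rwa [Nat.card_eq_fintype_card] at hcard
  let e : Fin n ≃ b := (Fintype.equivFinOfCardEq hcard').symm
  have hτ : ∀ j : Fin n, ∃ g : G, R g *ᵥ v = (e j : Fin n → ℂ) := fun j => hb (e j).2
  choose τ hτ using hτ
  refine ⟨τ, ?_⟩
  have hli2 : LinearIndependent ℂ (colsM R v τ).col := by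
    have h1 : (colsM R v τ).col = fun j => ((e j : b) : Fin n → ℂ) := by
      funext j
      ext i
      simp only [Matrix.col_apply, colsM, Matrix.of_apply]
      rw [hτ j]
    rw [h1]
    exact hli.comp _ e.injective
  have hu := Matrix.linearIndependent_cols_iff_isUnit.1 hli2
  exact ((Matrix.isUnit_iff_isUnit_det _).1 hu).ne_zero

/-- Choosing a basis in the orbit with maximal determinant gives integral coefficients. -/
theorem exists_integral_basis (O : ValuationSubring ℂ) (R : G →* Matrix (Fin n) (Fin n) ℂ)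
    (v : Fin n → ℂ) (hspan : Submodule.span ℂ (Set.range fun g => R g *ᵥ v) = ⊤) :
    ∃ τ : Fin n → G, (colsM R v τ).det ≠ 0 ∧
      ∀ g i, ((colsM R v τ)⁻¹ *ᵥ (R g *ᵥ v)) i ∈ O := by
  classical
  letI : Fintype G := Fintype.ofFinite _
  obtain ⟨τ₀, hτ₀⟩ := exists_det_ne_zero R v hspan
  let S : Finset (Fin n → G) := Finset.univ.filter fun τ => (colsM R v τ).det ≠ 0
  have hS : S.Nonempty := ⟨τ₀, by simpa [S] using hτ₀⟩
  obtain ⟨τ, hτS, hmax⟩ := Finset.exists_max_image S (fun τ => O.valuation (colsM R v τ).det) hS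
  have hτdet : (colsM R v τ).det ≠ 0 := by simpa [S] using hτS
  refine ⟨τ, hτdet, fun g i => ?_⟩
  have hupd : (colsM R v τ).updateCol i (R g *ᵥ v) = colsM R v (Function.update τ i g) := by
    ext a b
    by_cases hb : b = i
    · subst hb
      simp [colsM, Matrix.updateCol_apply]
    · simp [colsM, Matrix.updateCol_apply, hb, Function.update_of_ne hb]
  have h1 : ((colsM R v τ)⁻¹ *ᵥ (R g *ᵥ v)) i =
      ((colsM R v τ).det)⁻¹ * (colsM R v (Function.update τ i g)).det := by
    rw [Matrix.inv_def, Matrix.smul_mulVec, Pi.smul_apply, smul_eq_mul, ← Matrix.cramer_eq_adjugate_mulVec,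
      Matrix.cramer_apply, hupd, Ring.inverse_eq_inv']
  rw [h1, ← ValuationSubring.valuation_le_one_iff, map_mul, map_inv₀]
  by_cases hd : (colsM R v (Function.update τ i g)).det = 0
  · simp [hd]
  · have hle := hmax (Function.update τ i g) (by simpa [S] using hd)
    have hpos : O.valuation (colsM R v τ).det ≠ 0 := by
      simpa using hτdet
    rw [inv_mul_le_iff₀ (zero_lt_iff.2 hpos), mul_one]
    exact hle

/-- The integral form attached to a spanning vector. -/
theorem exists_int_form (O : ValuationSubring ℂ) (R : G →* Matrix (Fin n) (Fin n) ℂ)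
    (v : Fin n → ℂ) (hspan : Submodule.span ℂ (Set.range fun g => R g *ᵥ v) = ⊤) :
    ∃ (B : Matrix (Fin n) (Fin n) ℂ) (A : G →* Matrix (Fin n) (Fin n) O) (c : Fin n → O)
      (τ : Fin n → G), B.det ≠ 0 ∧ (∀ g, (A g).map (Subtype.val) = B⁻¹ * R g * B) ∧
        (B⁻¹ *ᵥ v = fun i => (c i : ℂ)) ∧ (∀ j, A (τ j) *ᵥ c = Pi.single j 1) := by
  classical
  obtain ⟨τ, hdet, hint⟩ := exists_integral_basis O R v hspan
  set B := colsM R v τ with hB
  have hBu : IsUnit B.det := isUnit_iff_ne_zero.2 hdet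
  have hBinv : B⁻¹ * B = 1 := Matrix.nonsing_inv_mul _ hBu
  have hBinv' : B * B⁻¹ = 1 := Matrix.mul_nonsing_inv _ hBu
  have hent : ∀ g i j, (B⁻¹ * R g * B) i j ∈ O := by
    intro g i j
    have h1 : (B⁻¹ * R g * B) i j = (B⁻¹ *ᵥ (R (g * τ j) *ᵥ v)) i := by
      rw [map_mul, ← Matrix.mulVec_mulVec, Matrix.mulVec_mulVec _ B⁻¹, Matrix.mul_apply]
      simp only [Matrix.mulVec, dotProduct]
      refine Finset.sum_congr rfl fun l _ => ?_
      simp [B, colsM, Matrix.mulVec, dotProduct]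
    rw [h1]
    exact hint _ i
  let A₀ : G → Matrix (Fin n) (Fin n) O := fun g => Matrix.of fun i j => ⟨_, hent g i j⟩
  have hA₀ : ∀ g, (A₀ g).map (Subtype.val) = B⁻¹ * R g * B := by
    intro g; ext i j; rfl
  have hinj : Function.Injective (fun M : Matrix (Fin n) (Fin n) O => M.map (Subtype.val : O → ℂ)) :=
    Matrix.map_injective Subtype.val_injective
  let valHom : O →+* ℂ := O.subtype
  have hmapmul : ∀ a b : Matrix (Fin n) (Fin n) O,
      (a * b).map (Subtype.val : O → ℂ) = a.map Subtype.val * b.map Subtype.val := fun a b =>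
    Matrix.map_mul (f := valHom)
  let A : G →* Matrix (Fin n) (Fin n) O :=
    { toFun := A₀
      map_one' := by
        apply hinj
        show (A₀ 1).map _ = _
        rw [hA₀, map_one, mul_one, hBinv]
        ext i j
        simp [Matrix.one_apply]
        split_ifs <;> simp
      map_mul' := by
        intro a b
        apply hinj
        show (A₀ (a * b)).map _ = (A₀ a * A₀ b).map _
        rw [hmapmul, hA₀, hA₀, hA₀, map_mul]
        calc B⁻¹ * (R a * R b) * B = B⁻¹ * R a * 1 * R b * B := by simp [mul_assoc]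
          _ = B⁻¹ * R a * (B * B⁻¹) * R b * B := by rw [hBinv']
          _ = _ := by simp [mul_assoc] }
  have hA : ∀ g, (A g).map (Subtype.val) = B⁻¹ * R g * B := hA₀
  have hc : ∀ i, (B⁻¹ *ᵥ v) i ∈ O := by
    intro i
    have := hint 1 i
    simpa using this
  let c : Fin n → O := fun i => ⟨_, hc i⟩
  refine ⟨B, A, c, τ, hdet, hA, rfl, fun j => ?_⟩
  ext i
  have h1 : ((A (τ j) *ᵥ c) i : O).1 = ((A (τ j)).map (Subtype.val) *ᵥ (fun l => (c l : ℂ))) i := by
    simp [Matrix.mulVec, dotProduct]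
  rw [h1, hA]
  have h2 : (fun l => (c l : ℂ)) = B⁻¹ *ᵥ v := rfl
  rw [h2, Matrix.mulVec_mulVec, mul_assoc, mul_assoc, hBinv', mul_one, ← Matrix.mulVec_mulVec]
  have h3 : R (τ j) *ᵥ v = B.col j := by
    ext i
    simp [B, colsM]
  rw [h3]
  have h4 : B⁻¹ *ᵥ B.col j = Pi.single j 1 := by
    have : B.col j = B *ᵥ Pi.single j 1 := by
      ext i
      simp
    rw [this, Matrix.mulVec_mulVec, hBinv, Matrix.one_mulVec]
  rw [h4]
  by_cases hij : i = j
  · subst hij; simp
  · simp [Pi.single_apply, hij]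

section Fit

variable (O : ValuationSubring ℂ)

/-- Reduction of an integral form. -/
noncomputable def redHom (A : G →* Matrix (Fin n) (Fin n) O) :
    G →* Matrix (Fin n) (Fin n) (IsLocalRing.ResidueField O) :=
  ((IsLocalRing.residue O).mapMatrix :
    Matrix (Fin n) (Fin n) O →+* Matrix (Fin n) (Fin n) (IsLocalRing.ResidueField O)).toMonoidHom.comp A

lemma redHom_apply (A : G →* Matrix (Fin n) (Fin n) O) (g : G) :
    redHom O A g = (A g).map (IsLocalRing.residue O) := rfl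

lemma lin_red [Fintype G] (A : G →* Matrix (Fin n) (Fin n) O) (cf : G → O)
    (f : MonoidAlgebra (IsLocalRing.ResidueField O) G)
    (hcf : ∀ g, IsLocalRing.residue O (cf g) = f.coeff g) :
    (∑ g, cf g • A g).map (IsLocalRing.residue O) =
      MonoidAlgebra.lift (IsLocalRing.ResidueField O) _ G (redHom O A) f := by
  rw [MonoidAlgebra.lift_apply, Finsupp.sum_fintype _ _ (fun _ => by simp)]
  have h1 : (∑ g, cf g • A g).map (IsLocalRing.residue O) =
      (IsLocalRing.residue O).mapMatrix (∑ g, cf g • A g) := rfl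
  rw [h1, map_sum]
  refine Finset.sum_congr rfl fun g _ => ?_
  rw [← hcf g, redHom_apply]
  ext i j
  simp

lemma charP_residue (p : ℕ) [hp : Fact p.Prime] (hpO : (p : ℂ) ∈ O.nonunits) :
    CharP (IsLocalRing.ResidueField O) p := by
  rw [CharP.charP_iff_prime_eq_zero hp.out]
  have h1 : (p : O) ∈ IsLocalRing.maximalIdeal O := by
    rw [ValuationSubring.valuation_lt_one_iff]
    rw [ValuationSubring.mem_nonunits_iff] at hpO
    simpa using hpO
  have := (IsLocalRing.residue_eq_zero_iff (p : O)).2 h1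
  simpa using this

/-- A good integral form: every endomorphism of the reduction is nilpotent or invertible. -/
theorem exists_fit_form (R : G →* Matrix (Fin n) (Fin n) ℂ)
    (hirr : ∀ v : Fin n → ℂ, v ≠ 0 → Submodule.span ℂ (Set.range fun g => R g *ᵥ v) = ⊤)
    (hn : 0 < n) :
    ∃ (B : Matrix (Fin n) (Fin n) ℂ) (A : G →* Matrix (Fin n) (Fin n) O), B.det ≠ 0 ∧
      (∀ g, (A g).map (Subtype.val) = B⁻¹ * R g * B) ∧
      ∀ S : Matrix (Fin n) (Fin n) (IsLocalRing.ResidueField O),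
        (∀ g, S * redHom O A g = redHom O A g * S) → IsNilpotent S ∨ IsUnit S := by
  classical
  letI : Fintype G := Fintype.ofFinite _
  haveI : Nonempty (Fin n) := ⟨⟨0, hn⟩⟩
  set res := IsLocalRing.residue O with hres
  let v₀ : Fin n → ℂ := Pi.single ⟨0, hn⟩ 1
  have hv₀ : v₀ ≠ 0 := by
    intro h
    have := congrFun h ⟨0, hn⟩
    simp [v₀] at this
  obtain ⟨B₀, A₀, -, -, hdet₀, hA₀, -, -⟩ := exists_int_form O R v₀ (hirr v₀ hv₀)
  let Φ₀ := MonoidAlgebra.lift (IsLocalRing.ResidueField O) (Matrix (Fin n) (Fin n) (IsLocalRing.ResidueField O)) G (redHom O A₀)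
  obtain ⟨f, hff, hΦf', hprim⟩ := exists_primitive (IsLocalRing.ResidueField O) Φ₀.toRingHom one_ne_zero
  have hΦf : Φ₀ f ≠ 0 := hΦf'
  have hsurj : Function.Surjective res := IsLocalRing.residue_surjective
  let cf : G → O := fun g => Function.surjInv hsurj (f.coeff g)
  have hcf : ∀ g, res (cf g) = f.coeff g := fun g => Function.surjInv_eq hsurj _
  let a₀ : Matrix (Fin n) (Fin n) O := ∑ g, cf g • A₀ g
  have hred₀ : a₀.map res = Φ₀ f := lin_red O A₀ cf f hcf
  -- the determinant of `1 - a₀` lies in the maximal ideal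
  set E₀ := Φ₀ f with hE₀
  have hE₀E₀ : E₀ * E₀ = E₀ := by
    rw [hE₀, ← map_mul, hff]
  have hd₀ : (1 - a₀).det ∈ IsLocalRing.maximalIdeal O := by
    rw [← IsLocalRing.residue_eq_zero_iff]
    have h1 : res (1 - a₀).det = (1 - E₀).det := by
      rw [RingHom.map_det]
      congr 1
      show (1 - a₀).map res = _
      rw [← hred₀]
      ext i j
      simp [Matrix.one_apply, Matrix.sub_apply]
    rw [← hres, h1]
    by_contra hne
    have hu : IsUnit (1 - E₀) := (Matrix.isUnit_iff_isUnit_det _).2 (isUnit_iff_ne_zero.2 hne)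
    apply hΦf
    have h2 : (1 - E₀) * E₀ = 0 := by rw [sub_mul, one_mul, hE₀E₀, sub_self]
    exact (hu.mul_right_eq_zero).1 h2
  -- an eigenvalue close to `1`
  let φ : O →+* ℂ := O.subtype
  have hφ : ∀ x : O, φ x = (x : ℂ) := fun _ => rfl
  let M : Matrix (Fin n) (Fin n) ℂ := (1 - a₀).map φ
  have hchar : M.charpoly = ((1 - a₀).charpoly).map φ := Matrix.charpoly_map _ _
  have hdetM : M.det = φ (1 - a₀).det := by
    rw [RingHom.map_det]
    rfl
  have hrootsO : ∀ β ∈ M.charpoly.roots, β ∈ O := by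
    intro β hβ
    have hroot : (M.charpoly).IsRoot β := (Polynomial.mem_roots'.1 hβ).2
    have hint : IsIntegral O β := by
      refine ⟨(1 - a₀).charpoly, Matrix.charpoly_monic _, ?_⟩
      rw [hchar, Polynomial.IsRoot.def, Polynomial.eval_map] at hroot
      exact hroot
    obtain ⟨y, hy⟩ := IsIntegrallyClosed.isIntegral_iff.1 hint
    rw [← hy]
    exact y.2
  have hex : ∃ β ∈ M.charpoly.roots, O.valuation β < 1 := by
    by_contra hcon
    push Not at hcon
    have hone : ∀ x ∈ M.charpoly.roots.map O.valuation, x = 1 := by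
      intro x hx
      obtain ⟨β, hβ, rfl⟩ := Multiset.mem_map.1 hx
      exact le_antisymm ((ValuationSubring.valuation_le_one_iff O β).2 (hrootsO β hβ)) (hcon β hβ)
    have h1 : O.valuation M.det = 1 := by
      rw [Matrix.det_eq_prod_roots_charpoly, map_multiset_prod]
      exact Multiset.prod_eq_one hone
    rw [hdetM] at h1
    have h2 := (ValuationSubring.valuation_lt_one_iff O _).1 hd₀
    rw [hφ] at h1
    exact h2.ne h1
  obtain ⟨β, hβ, hβv⟩ := hex
  have hβO := hrootsO β hβ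
  have hroot : (M.charpoly).IsRoot β := (Polynomial.mem_roots'.1 hβ).2
  have hdet0 : (Matrix.scalar (Fin n) β - M).det = 0 := by
    rw [← Matrix.eval_charpoly]
    exact hroot
  obtain ⟨w, hw0, hw⟩ := Matrix.exists_mulVec_eq_zero_iff.2 hdet0
  -- the eigenvector for `a_R`
  have hB₀u : IsUnit B₀.det := isUnit_iff_ne_zero.2 hdet₀
  have hB₀inv' : B₀ * B₀⁻¹ = 1 := Matrix.mul_nonsing_inv _ hB₀u
  have hB₀inv : B₀⁻¹ * B₀ = 1 := Matrix.nonsing_inv_mul _ hB₀u
  let aR : Matrix (Fin n) (Fin n) ℂ := ∑ g, (cf g : ℂ) • R g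
  have haC : a₀.map φ = B₀⁻¹ * aR * B₀ := by
    have h1 : a₀.map φ = φ.mapMatrix a₀ := rfl
    rw [h1, map_sum]
    simp only [aR, Finset.mul_sum, Finset.sum_mul]
    refine Finset.sum_congr rfl fun g _ => ?_
    have h2 : φ.mapMatrix (cf g • A₀ g) = (cf g : ℂ) • (A₀ g).map φ := by
      ext i j
      simp [hφ]
    rw [h2]
    have h3 : (A₀ g).map φ = B₀⁻¹ * R g * B₀ := hA₀ g
    rw [h3]
    simp [Matrix.mul_smul, Matrix.smul_mul]
  have hMa : M = 1 - a₀.map φ := by
    ext i j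
    simp [M, Matrix.one_apply, Matrix.sub_apply]
  have hw' : a₀.map φ *ᵥ w = (1 - β) • w := by
    have h1 : Matrix.scalar (Fin n) β *ᵥ w - M *ᵥ w = 0 := by
      rw [← Matrix.sub_mulVec]; exact hw
    rw [hMa, Matrix.sub_mulVec, Matrix.one_mulVec] at h1
    have h2 : Matrix.scalar (Fin n) β *ᵥ w = β • w := by
      ext i
      simp [Matrix.scalar_apply, Matrix.mulVec_diagonal]
    rw [h2] at h1
    have h3 : β • w - (w - a₀.map φ *ᵥ w) = 0 := h1
    linear_combination (norm := module) h3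
  let v₁ : Fin n → ℂ := B₀ *ᵥ w
  have hv₁0 : v₁ ≠ 0 := by
    intro h
    apply hw0
    have h2 : B₀⁻¹ *ᵥ v₁ = w := by
      simp only [v₁]
      rw [Matrix.mulVec_mulVec, hB₀inv, Matrix.one_mulVec]
    rw [← h2, h, Matrix.mulVec_zero]
  have haR : aR *ᵥ v₁ = (1 - β) • v₁ := by
    have h1 : aR *ᵥ v₁ = B₀ *ᵥ (a₀.map φ *ᵥ w) := by
      rw [haC]
      show aR *ᵥ (B₀ *ᵥ w) = _
      rw [Matrix.mulVec_mulVec, Matrix.mulVec_mulVec]
      congr 1
      calc aR * B₀ = 1 * aR * B₀ := by rw [one_mul]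
        _ = (B₀ * B₀⁻¹) * aR * B₀ := by rw [hB₀inv']
        _ = _ := by simp only [mul_assoc]
    rw [h1, hw', Matrix.mulVec_smul]
  -- the second integral form
  obtain ⟨B, A, c, τ, hdet, hA, hc, hτ⟩ := exists_int_form O R v₁ (hirr v₁ hv₁0)
  refine ⟨B, A, hdet, hA, fun S hS => ?_⟩
  have hBu : IsUnit B.det := isUnit_iff_ne_zero.2 hdet
  have hBinv' : B * B⁻¹ = 1 := Matrix.mul_nonsing_inv _ hBu
  have hBinv : B⁻¹ * B = 1 := Matrix.nonsing_inv_mul _ hBu
  let Φ := MonoidAlgebra.lift (IsLocalRing.ResidueField O) (Matrix (Fin n) (Fin n) (IsLocalRing.ResidueField O)) G (redHom O A)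
  let a : Matrix (Fin n) (Fin n) O := ∑ g, cf g • A g
  have hred : a.map res = Φ f := lin_red O A cf f hcf
  have haC2 : a.map φ = B⁻¹ * aR * B := by
    have h1 : a.map φ = φ.mapMatrix a := rfl
    rw [h1, map_sum]
    simp only [aR, Finset.mul_sum, Finset.sum_mul]
    refine Finset.sum_congr rfl fun g _ => ?_
    have h2 : φ.mapMatrix (cf g • A g) = (cf g : ℂ) • (A g).map φ := by
      ext i j
      simp [hφ]
    rw [h2]
    have h3 : (A g).map φ = B⁻¹ * R g * B := hA g
    rw [h3]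
    simp [Matrix.mul_smul, Matrix.smul_mul]
  let α : O := ⟨1 - β, sub_mem O.one_mem hβO⟩
  have hαres : res α = 1 := by
    have h1 : (1 - α) ∈ IsLocalRing.maximalIdeal O := by
      rw [ValuationSubring.valuation_lt_one_iff]
      have : (((1 - α : O)) : ℂ) = β := by simp [α]
      rw [this]
      exact hβv
    have h2 := (IsLocalRing.residue_eq_zero_iff _).2 h1
    rw [map_sub, map_one, sub_eq_zero] at h2
    exact h2.symm
  have hac : a *ᵥ c = α • c := by
    ext i
    have h1 : ((a *ᵥ c) i : O).1 = (a.map φ *ᵥ (fun l => (c l : ℂ))) i := by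
      simp [Matrix.mulVec, dotProduct, hφ]
    rw [h1, ← hc, haC2, Matrix.mulVec_mulVec, mul_assoc, mul_assoc, hBinv', mul_one,
      ← Matrix.mulVec_mulVec, haR, Matrix.mulVec_smul]
    have h2 : (B⁻¹ *ᵥ v₁) i = (c i : ℂ) := congrFun hc i
    simp [h2, α]
  let cb : Fin n → IsLocalRing.ResidueField O := fun i => res (c i)
  have hcb_map : ∀ M' : Matrix (Fin n) (Fin n) O, M'.map res *ᵥ cb = fun i => res ((M' *ᵥ c) i) := by
    intro M'
    ext i
    simp [Matrix.mulVec, dotProduct, cb, map_sum]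
  have hΦf_cb : Φ f *ᵥ cb = cb := by
    rw [← hred, hcb_map, hac]
    ext i
    simp [cb, hαres]
  have hτb : ∀ j, redHom O A (τ j) *ᵥ cb = Pi.single j 1 := by
    intro j
    rw [redHom_apply, hcb_map, hτ]
    ext i
    by_cases hij : i = j
    · subst hij; simp
    · simp [Pi.single_apply, hij]
  have hSΦ : ∀ b, S * Φ b = Φ b * S := by
    intro b
    simp only [Φ]
    rw [MonoidAlgebra.lift_apply, Finsupp.sum_fintype _ _ (fun _ => by simp)]
    rw [Finset.mul_sum, Finset.sum_mul]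
    refine Finset.sum_congr rfl fun g _ => ?_
    rw [Matrix.mul_smul, Matrix.smul_mul, hS g]
  have hSb : ∀ b u, S *ᵥ (Φ b *ᵥ u) = Φ b *ᵥ (S *ᵥ u) := by
    intro b u
    rw [Matrix.mulVec_mulVec, Matrix.mulVec_mulVec, hSΦ]
  have hSA : ∀ g u, S *ᵥ (redHom O A g *ᵥ u) = redHom O A g *ᵥ (S *ᵥ u) := by
    intro g u
    rw [Matrix.mulVec_mulVec, Matrix.mulVec_mulVec, hS]
  -- `S c̄ = Φ(b) c̄`
  let b : MonoidAlgebra (IsLocalRing.ResidueField O) G :=
    ∑ j, MonoidAlgebra.single (τ j) ((S *ᵥ cb) j)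
  have hb : Φ b *ᵥ cb = S *ᵥ cb := by
    simp only [b, map_sum, Φ, MonoidAlgebra.lift_single]
    rw [Matrix.sum_mulVec]
    simp only [Matrix.smul_mulVec, hτb]
    ext i
    simp [Finset.sum_apply, Pi.single_apply]
  set c₁ := f * b * f with hc₁
  have hΦ_mul : ∀ x y u, Φ (x * y) *ᵥ u = Φ x *ᵥ (Φ y *ᵥ u) := by
    intro x y u
    rw [map_mul, Matrix.mulVec_mulVec]
  have hc₁S : S *ᵥ cb = Φ c₁ *ᵥ cb := by
    rw [hc₁, hΦ_mul, hΦf_cb, hΦ_mul, hb, ← hSb, hΦf_cb]
  have hfc : f * c₁ = c₁ := by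
    rw [hc₁, ← mul_assoc, ← mul_assoc, hff]
  have hcf₁ : c₁ * f = c₁ := by
    rw [hc₁, mul_assoc, hff]
  rcases hprim c₁ hfc hcf₁ with ⟨N, hN⟩ | ⟨d, hdf, hfd, hdc⟩
  · left
    refine ⟨N, ?_⟩
    have hpow : ∀ m : ℕ, (S ^ m) *ᵥ cb = Φ (c₁ ^ m) *ᵥ cb := by
      intro m
      induction m with
      | zero => simp
      | succ m ih =>
        have h1 : (S ^ (m + 1)) *ᵥ cb = S *ᵥ ((S ^ m) *ᵥ cb) := by
          rw [pow_succ', ← Matrix.mulVec_mulVec]
        rw [h1, ih, hSb, hc₁S, ← hΦ_mul, pow_succ]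
    have h0 : (S ^ N) *ᵥ cb = 0 := by
      rw [hpow, hN, map_zero, Matrix.zero_mulVec]
    have hSpow : ∀ m g u, (S ^ m) *ᵥ (redHom O A g *ᵥ u) = redHom O A g *ᵥ ((S ^ m) *ᵥ u) := by
      intro m g u
      rw [Matrix.mulVec_mulVec, Matrix.mulVec_mulVec]
      congr 1
      exact (Commute.pow_left (show Commute S (redHom O A g) from hS g) m).eq
    ext i j
    have h1 : (S ^ N) *ᵥ (Pi.single j 1) = 0 := by
      rw [← hτb j, hSpow, h0, Matrix.mulVec_zero]
    have h2 := congrFun h1 i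
    simpa using h2
  · right
    let X : Matrix (Fin n) (Fin n) (IsLocalRing.ResidueField O) :=
      Matrix.of fun i j => (redHom O A (τ j) *ᵥ (Φ d *ᵥ cb)) i
    have hX : S * X = 1 := by
      ext i j
      have h1 : (S * X) i j = (S *ᵥ (redHom O A (τ j) *ᵥ (Φ d *ᵥ cb))) i := by
        simp [X, Matrix.mul_apply, Matrix.mulVec, dotProduct]
      rw [h1, hSA, hSb, hc₁S, ← hΦ_mul, hdc, hΦf_cb, hτb]
      by_cases hij : i = j
      · subst hij; simp
      · simp [Pi.single_apply, hij, Matrix.one_apply]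
    exact (Matrix.isUnit_iff_isUnit_det _).2 (Matrix.isUnit_det_of_right_inverse hX)

end Fit

end Cfsg.Agent.Lib.DefectOne
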