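import Mathlib
import Cfsg.Agent.Lib.DefectOne.Jordan
import Cfsg.Agent.Lib.DefectOne.Lattice

/-!
# Multiplicities in the restriction to a subgroup of prime order

The integral form with "Fitting" reduction implies that the multiplicities of the eigenvalues of `x`
on the image of an idempotent `E` take values in an interval of length `f`.
-/

set_option autoImplicit false
set_option linter.unusedSectionVars false

namespace Cfsg.Agent.Lib.DefectOne

open Module Matrix

section Rank

variable (O : ValuationSubring ℂ) {n : ℕ}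

/-- Rank can only drop under reduction. -/
theorem rank_red_le (M : Matrix (Fin n) (Fin n) O) :
    (M.map (IsLocalRing.residue O)).rank ≤ (M.map (Subtype.val : O → ℂ)).rank := by
  classical
  set res := IsLocalRing.residue O with hres
  set Mb := M.map res with hMb
  set Mc := M.map (Subtype.val : O → ℂ) with hMc
  rw [Matrix.rank_eq_finrank_span_cols, Matrix.rank_eq_finrank_span_cols]
  obtain ⟨b, hb, hspan, hli⟩ := exists_linearIndependent (IsLocalRing.ResidueField O) (Set.range Mb.col)
  rw [← hspan]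
  haveI : Finite b := (Set.finite_range Mb.col).subset hb
  letI : Fintype b := Fintype.ofFinite _
  have hj : ∀ e : b, ∃ j, Mb.col j = e := fun e => hb e.2
  choose j hj using hj
  have hcard : finrank (IsLocalRing.ResidueField O) (Submodule.span (IsLocalRing.ResidueField O) b) = Fintype.card b := by
    have h1 := finrank_span_eq_card hli
    rwa [Subtype.range_coe] at h1
  rw [hcard]
  have hindep : LinearIndependent ℂ (fun e : b => Mc.col (j e)) := by
    rw [Fintype.linearIndependent_iff]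
    intro g hg e₁
    by_contra hne
    obtain ⟨e₀, -, hmax⟩ := Finset.exists_max_image Finset.univ (fun e => O.valuation (g e)) ⟨e₁, Finset.mem_univ _⟩
    have hg0 : g e₀ ≠ 0 := by
      intro h0
      apply hne
      have h1 := hmax e₁ (Finset.mem_univ _)
      rw [h0, map_zero] at h1
      have h2 : O.valuation (g e₁) = 0 := le_antisymm h1 zero_le'
      simpa using h2
    have hvpos : O.valuation (g e₀) ≠ 0 := by simpa using hg0
    have hmem : ∀ e, g e / g e₀ ∈ O := by
      intro e
      rw [← ValuationSubring.valuation_le_one_iff, map_div₀]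
      rw [div_le_one₀ (zero_lt_iff.2 hvpos)]
      exact hmax e (Finset.mem_univ _)
    let h : b → O := fun e => ⟨_, hmem e⟩
    have hh0 : h e₀ = 1 := Subtype.ext (div_self hg0)
    have hrel : ∑ e, res (h e) • (e : Fin n → IsLocalRing.ResidueField O) = 0 := by
      ext i
      have hO : ∑ e, h e * M i (j e) = 0 := by
        apply Subtype.val_injective
        have h1 := congrFun hg i
        simp only [Finset.sum_apply, Pi.smul_apply, smul_eq_mul, Pi.zero_apply] at h1
        have h2 : ∑ e, (g e / g e₀) * (M i (j e) : ℂ) = 0 := by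
          have : ∑ e, (g e / g e₀) * (M i (j e) : ℂ) = (g e₀)⁻¹ * ∑ e, g e * Mc.col (j e) i := by
            rw [Finset.mul_sum]
            refine Finset.sum_congr rfl fun e _ => ?_
            simp only [Matrix.col_apply, Mc, Matrix.map_apply]
            field_simp
          rw [this, h1, mul_zero]
        simpa [h] using h2
      have h3 := congrArg res hO
      rw [map_sum, map_zero] at h3
      simp only [Finset.sum_apply, Pi.smul_apply, smul_eq_mul, Pi.zero_apply]
      rw [← h3]
      refine Finset.sum_congr rfl fun e _ => ?_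
      rw [← hj e]
      simp [Mb, map_mul]
    have := (Fintype.linearIndependent_iff.1 hli) _ hrel e₀
    rw [hh0, map_one] at this
    exact one_ne_zero this
  have h2 := finrank_span_eq_card hindep
  rw [← h2]
  apply Submodule.finrank_mono
  apply Submodule.span_mono
  rintro _ ⟨e, rfl⟩
  exact ⟨j e, rfl⟩

end Rank

section Idem

variable {n : ℕ}

/-- For an idempotent complex matrix, the rank is the trace. -/
lemma rank_eq_trace {Q : Matrix (Fin n) (Fin n) ℂ} (hQ : Q * Q = Q) : (Q.rank : ℂ) = Q.trace := by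
  have h1 : IsIdempotentElem (Matrix.toLin' Q) := by
    show Matrix.toLin' Q * Matrix.toLin' Q = Matrix.toLin' Q
    have := Matrix.toLin'_mul Q Q
    rw [hQ] at this
    exact this.symm
  have h2 := LinearMap.IsIdempotentElem.isProj_range _ h1
  have h3 := h2.trace
  rw [Matrix.trace_toLin'_eq] at h3
  rw [h3, Matrix.toLin'_apply']
  rfl

variable {p : ℕ} [hp : Fact p.Prime]

/-- The eigenprojection of `X` for the eigenvalue `w`. -/
noncomputable def eigP (p : ℕ) (X : Matrix (Fin n) (Fin n) ℂ) (w : ℂ) : Matrix (Fin n) (Fin n) ℂ :=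
  (p : ℂ)⁻¹ • ∑ i ∈ Finset.range p, (w⁻¹) ^ i • X ^ i

lemma mul_eigP {X : Matrix (Fin n) (Fin n) ℂ} {w : ℂ} (hX : X ^ p = 1) (hw : w ^ p = 1) :
    X * eigP p X w = w • eigP p X w := by
  have hw0 : w ≠ 0 := by
    intro h
    rw [h, zero_pow hp.out.ne_zero] at hw
    exact zero_ne_one hw
  unfold eigP
  rw [Matrix.mul_smul, smul_comm]
  congr 1
  rw [Finset.mul_sum, Finset.smul_sum]
  have h1 : ∀ i ∈ Finset.range p, X * ((w⁻¹) ^ i • X ^ i) = w • ((w⁻¹) ^ (i + 1) • X ^ (i + 1)) := by
    intro i _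
    rw [smul_smul, pow_succ' (w⁻¹), ← mul_assoc, mul_inv_cancel₀ hw0, one_mul, Matrix.mul_smul, pow_succ']
  rw [Finset.sum_congr rfl h1, ← Finset.smul_sum, ← Finset.smul_sum]
  congr 1
  have h2 := Finset.sum_range_succ' (fun i => (w⁻¹) ^ i • X ^ i) p
  have h3 := Finset.sum_range_succ (fun i => (w⁻¹) ^ i • X ^ i) p
  have hlast : (w⁻¹) ^ p • X ^ p = (w⁻¹) ^ 0 • X ^ 0 := by
    rw [hX, inv_pow, hw]; simp
  rw [h2, hlast] at h3
  exact add_right_cancel h3

lemma eigP_mul_self {X : Matrix (Fin n) (Fin n) ℂ} {w : ℂ} (hX : X ^ p = 1) (hw : w ^ p = 1) :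
    eigP p X w * eigP p X w = eigP p X w := by
  have hw0 : w ≠ 0 := by
    intro h
    rw [h, zero_pow hp.out.ne_zero] at hw
    exact zero_ne_one hw
  have hp0 : (p : ℂ) ≠ 0 := by exact_mod_cast hp.out.ne_zero
  have h1 : ∀ i : ℕ, X ^ i * eigP p X w = w ^ i • eigP p X w := by
    intro i
    induction i with
    | zero => simp
    | succ i ih =>
      rw [pow_succ, mul_assoc, mul_eigP hX hw, Matrix.mul_smul, ih, smul_smul, pow_succ, mul_comm w]
  conv_lhs => arg 1; rw [eigP]
  rw [Matrix.smul_mul, Finset.sum_mul]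
  have h2 : ∀ i ∈ Finset.range p, (w⁻¹) ^ i • X ^ i * eigP p X w = eigP p X w := by
    intro i _
    rw [Matrix.smul_mul, h1, smul_smul, ← mul_pow, inv_mul_cancel₀ hw0, one_pow, one_smul]
  rw [Finset.sum_congr rfl h2, Finset.sum_const, Finset.card_range, ← Nat.cast_smul_eq_nsmul ℂ, smul_smul,
    inv_mul_cancel₀ hp0, one_smul]

lemma sub_mul_eigP {X : Matrix (Fin n) (Fin n) ℂ} {w : ℂ} (hX : X ^ p = 1) (hw : w ^ p = 1) :
    (X - w • 1) * eigP p X w = 0 := by
  rw [sub_mul, mul_eigP hX hw, smul_mul_assoc, one_mul, sub_self]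

lemma comm_eigP {X E : Matrix (Fin n) (Fin n) ℂ} {w : ℂ} (hXE : X * E = E * X) :
    E * eigP p X w = eigP p X w * E := by
  unfold eigP
  rw [Matrix.mul_smul, Matrix.smul_mul, Finset.mul_sum, Finset.sum_mul]
  congr 1
  refine Finset.sum_congr rfl fun i _ => ?_
  rw [Matrix.mul_smul, Matrix.smul_mul]
  congr 1
  exact (Commute.pow_left (show Commute X E from hXE) i).eq.symm

end Idem

section Core

variable {G : Type*} [Group G] [Finite G] {n : ℕ} {p : ℕ} [hp : Fact p.Prime]
variable (O : ValuationSubring ℂ)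

lemma mem_of_pow_eq_one (hO : ∀ z : ℂ, IsIntegral ℤ z → z ∈ O) {z : ℂ} {m : ℕ} (hm : 0 < m) (hz : z ^ m = 1) :
    z ∈ O := hO z ⟨Polynomial.X ^ m - 1, Polynomial.monic_X_pow_sub_C 1 hm.ne', by simp [hz]⟩

/-- A root of unity of `p`-power order reduces to `1`. -/
lemma res_eq_one (hOp : (p : ℂ) ∈ O.nonunits) {z : O} (hz : z ^ p = 1) :
    IsLocalRing.residue O z = 1 := by
  haveI := charP_residue O p hOp
  have h1 : (IsLocalRing.residue O z) ^ p = 1 := by rw [← map_pow, hz, map_one]
  have h2 : (IsLocalRing.residue O z - 1) ^ p = 0 := by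
    rw [sub_pow_char, h1, one_pow, sub_self]
  exact sub_eq_zero.1 (pow_eq_zero_iff hp.out.ne_zero |>.1 h2)

variable {ι : Type*} [Fintype ι]

/-- The representation on `k^n`. -/
noncomputable def rhoK (A : G →* Matrix (Fin n) (Fin n) O) :
    G →* End (IsLocalRing.ResidueField O) (Fin n → IsLocalRing.ResidueField O) where
  toFun g := Matrix.toLinAlgEquiv' (redHom O A g)
  map_one' := by simp
  map_mul' a b := by simp

/-- The ring homomorphism from `n × n` matrices over `O` to endomorphisms of `k^n`. -/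
noncomputable def redEnd : Matrix (Fin n) (Fin n) O →+*
    End (IsLocalRing.ResidueField O) (Fin n → IsLocalRing.ResidueField O) :=
  (Matrix.toLinAlgEquiv' : _ ≃ₐ[IsLocalRing.ResidueField O] _).toRingEquiv.toRingHom.comp
    (IsLocalRing.residue O).mapMatrix

lemma redEnd_A (A : G →* Matrix (Fin n) (Fin n) O) (g : G) : redEnd O (A g) = rhoK O A g := rfl

lemma rank_redEnd (M : Matrix (Fin n) (Fin n) O) :
    finrank (IsLocalRing.ResidueField O) (LinearMap.range (redEnd O M)) = (M.map (IsLocalRing.residue O)).rank := by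
  have : LinearMap.range (redEnd O M) = LinearMap.range (M.map (IsLocalRing.residue O)).mulVecLin := by
    congr 1
  rw [this]
  rfl

lemma rank_conj {B Y : Matrix (Fin n) (Fin n) ℂ} (hB : B.det ≠ 0) : (B⁻¹ * Y * B).rank = Y.rank := by
  have hu : IsUnit B.det := isUnit_iff_ne_zero.2 hB
  have hu' : IsUnit (B⁻¹).det := by
    rw [Matrix.det_nonsing_inv]
    exact (Ring.inverse_unit hu.unit) ▸ (hu.unit⁻¹).isUnit
  rw [Matrix.rank_mul_eq_left_of_isUnit_det _ _ hu, Matrix.rank_mul_eq_right_of_isUnit_det _ _ hu']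

lemma rank_smul_ne_zero {c : ℂ} (hc : c ≠ 0) (Y : Matrix (Fin n) (Fin n) ℂ) : (c • Y).rank = Y.rank := by
  have hu : IsUnit (c • (1 : Matrix (Fin n) (Fin n) ℂ)).det := by
    rw [Matrix.det_smul, Matrix.det_one, mul_one]
    exact (isUnit_iff_ne_zero.2 hc).pow _
  have h1 : c • Y = (c • (1 : Matrix (Fin n) (Fin n) ℂ)) * Y := by simp [Matrix.smul_mul]
  rw [h1, Matrix.rank_mul_eq_right_of_isUnit_det _ _ hu]

lemma redEnd_smul (r : O) (M : Matrix (Fin n) (Fin n) O) :
    redEnd O (r • M) = (IsLocalRing.residue O r) • redEnd O M := by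
  have h : (r • M).map (IsLocalRing.residue O) = (IsLocalRing.residue O r) • M.map (IsLocalRing.residue O) := by
    ext i j
    simp
  show Matrix.toLinAlgEquiv' ((r • M).map (IsLocalRing.residue O)) = _
  rw [h, map_smul]
  rfl

lemma rank_idem_sub {E Q : Matrix (Fin n) (Fin n) ℂ} (hE : E * E = E) (hQ : Q * Q = Q)
    (hEQ : E * Q = Q) (hQE : Q * E = Q) : (E - Q).rank + Q.rank = E.rank := by
  have h : (E - Q) * (E - Q) = E - Q := by
    rw [sub_mul, mul_sub, mul_sub, hE, hEQ, hQE, hQ]
    abel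
  have h1 := rank_eq_trace h
  have h2 := rank_eq_trace hQ
  have h3 := rank_eq_trace hE
  rw [Matrix.trace_sub, ← h2, ← h3] at h1
  have h4 : (((E - Q).rank + Q.rank : ℕ) : ℂ) = (E.rank : ℂ) := by
    push_cast
    rw [h1]
    ring
  exact_mod_cast h4

lemma rank_one_sub_add {E : Matrix (Fin n) (Fin n) ℂ} (hE : E * E = E) : (1 - E).rank + E.rank = n := by
  have h := rank_idem_sub (E := 1) (Q := E) (by simp) hE (by simp) (by simp)
  rwa [Matrix.rank_one, Fintype.card_fin] at h

/-- **The core estimate.** -/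
theorem core_estimate (hOint : ∀ z : ℂ, IsIntegral ℤ z → z ∈ O) (hOp : (p : ℂ) ∈ O.nonunits)
    (R : G →* Matrix (Fin n) (Fin n) ℂ) (B : Matrix (Fin n) (Fin n) ℂ)
    (A : G →* Matrix (Fin n) (Fin n) O) (hdet : B.det ≠ 0)
    (hA : ∀ g, (A g).map (Subtype.val : O → ℂ) = B⁻¹ * R g * B)
    (hFit : ∀ S : Matrix (Fin n) (Fin n) (IsLocalRing.ResidueField O),
        (∀ g, S * redHom O A g = redHom O A g * S) → IsNilpotent S ∨ IsUnit S)
    {x : G} (hx : orderOf x = p) {ζ : ℂ} (hζ : IsPrimitiveRoot ζ p) {T K : Subgroup G}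
    (hPT : Subgroup.zpowers x ≤ T) (hTPK : ∀ t ∈ T, ∃ u ∈ Subgroup.zpowers x, ∃ w ∈ K, t = u * w)
    (hKT : K ≤ T) (hKn : ∀ w ∈ K, ∀ u ∈ Subgroup.zpowers x, w⁻¹ * u * w ∈ Subgroup.zpowers x)
    (hK : ¬ p ∣ Nat.card K) (s : ι → G) (c : ι → O)
    (hEE : (∑ i, (c i : ℂ) • R (s i)) * (∑ i, (c i : ℂ) • R (s i)) = ∑ i, (c i : ℂ) • R (s i))
    (hET : ∀ t ∈ T, (∑ i, (c i : ℂ) • R (s i)) * R t = R t * ∑ i, (c i : ℂ) • R (s i))
    (hfix : ∀ g : G, g ∉ T → (∀ u ∈ Subgroup.zpowers x, g⁻¹ * u * g ∈ T) →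
      R g * (∑ i, (c i : ℂ) • R (s i)) * R g⁻¹ * (∑ i, (c i : ℂ) • R (s i)) = 0)
    (f : ℕ)
    (hdim : ∀ U : Submodule (IsLocalRing.ResidueField O) (Fin n → IsLocalRing.ResidueField O),
      U ≤ LinearMap.range (redEnd O (∑ i, c i • A (s i))) → KStable (rhoK O A) K U → U ≠ ⊥ →
      (∀ U' : Submodule (IsLocalRing.ResidueField O) (Fin n → IsLocalRing.ResidueField O), U' ≤ U →
        KStable (rhoK O A) K U' → U' = ⊥ ∨ U' = U) → finrank (IsLocalRing.ResidueField O) U ≤ f)
    (a b : ℕ) :
    ((eigP p (R x) (ζ ^ a) * ∑ i, (c i : ℂ) • R (s i)).rank) ≤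
      ((eigP p (R x) (ζ ^ b) * ∑ i, (c i : ℂ) • R (s i)).rank) + f := by
  classical
  haveI := charP_residue O p hOp
  set ER := ∑ i, (c i : ℂ) • R (s i) with hER
  set EO := ∑ i, c i • A (s i) with hEO
  let φ : O →+* ℂ := O.subtype
  have hφinj : Function.Injective (φ.mapMatrix : Matrix (Fin n) (Fin n) O →+* Matrix (Fin n) (Fin n) ℂ) := by
    intro X Y hXY
    ext a b
    exact congrFun (congrFun hXY a) b
  have hφA : ∀ g, φ.mapMatrix (A g) = B⁻¹ * R g * B := hA
  have hBu : IsUnit B.det := isUnit_iff_ne_zero.2 hdet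
  have hBinv' : B * B⁻¹ = 1 := Matrix.mul_nonsing_inv _ hBu
  have hBinv : B⁻¹ * B = 1 := Matrix.nonsing_inv_mul _ hBu
  -- conjugation
  have hconj_mul : ∀ Y Z : Matrix (Fin n) (Fin n) ℂ, (B⁻¹ * Y * B) * (B⁻¹ * Z * B) = B⁻¹ * (Y * Z) * B := by
    intro Y Z
    calc (B⁻¹ * Y * B) * (B⁻¹ * Z * B) = B⁻¹ * Y * (B * B⁻¹) * Z * B := by simp only [mul_assoc]
      _ = _ := by rw [hBinv']; simp only [mul_one, mul_assoc]
  have hφE : φ.mapMatrix EO = B⁻¹ * ER * B := by
    rw [hEO, map_sum, hER, Finset.mul_sum, Finset.sum_mul]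
    refine Finset.sum_congr rfl fun i _ => ?_
    have h1 : φ.mapMatrix (c i • A (s i)) = (c i : ℂ) • φ.mapMatrix (A (s i)) := by
      ext a b
      simp [φ]
    rw [h1, hφA]
    simp [Matrix.mul_smul, Matrix.smul_mul]
  -- the representation on `k^n`
  set ρ := rhoK O A with hρ
  set Ek := redEnd O EO with hEk
  have hEkEk : Ek * Ek = Ek := by
    have : EO * EO = EO := by
      apply hφinj
      rw [map_mul, hφE, hconj_mul, hEE]
    rw [hEk, ← map_mul, this]
  have hEkT : ∀ t ∈ T, Ek * ρ t = ρ t * Ek := by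
    intro t ht
    have : EO * A t = A t * EO := by
      apply hφinj
      rw [map_mul, map_mul, hφE, hφA, hconj_mul, hconj_mul, hET t ht]
    rw [hEk, ← redEnd_A, ← map_mul, this, map_mul]
  have hAinv : ∀ g : G, φ.mapMatrix (A g⁻¹) = B⁻¹ * R g⁻¹ * B := fun g => hφA g⁻¹
  have hEkfix : ∀ g : G, g ∉ T → (∀ u ∈ Subgroup.zpowers x, g⁻¹ * u * g ∈ T) → cj ρ g Ek * Ek = 0 := by
    intro g hg hg'
    have : A g * EO * A g⁻¹ * EO = 0 := by
      apply hφinj
      rw [map_mul, map_mul, map_mul, map_zero, hφE, hφA, hφA, hconj_mul, hconj_mul, hconj_mul, hfix g hg hg']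
      simp
    unfold cj
    rw [hEk, ← redEnd_A, ← redEnd_A, ← map_mul, ← map_mul, ← map_mul, this, map_zero]
  have hFit' : ∀ S : End (IsLocalRing.ResidueField O) (Fin n → IsLocalRing.ResidueField O),
      (∀ g, S * ρ g = ρ g * S) → IsNilpotent S ∨ Function.Bijective S := by
    intro S hS
    let Ψ : Matrix (Fin n) (Fin n) (IsLocalRing.ResidueField O) ≃ₐ[IsLocalRing.ResidueField O] _ := Matrix.toLinAlgEquiv'
    have h1 : ∀ g, Ψ.symm S * redHom O A g = redHom O A g * Ψ.symm S := by
      intro g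
      apply Ψ.injective
      rw [map_mul, map_mul, AlgEquiv.apply_symm_apply]
      exact hS g
    rcases hFit _ h1 with h2 | h2
    · left
      obtain ⟨m, hm⟩ := h2
      refine ⟨m, ?_⟩
      have := congrArg Ψ hm
      rwa [map_pow, map_zero, AlgEquiv.apply_symm_apply] at this
    · right
      have h3 : IsUnit S := by
        have := h2.map Ψ
        rwa [AlgEquiv.apply_symm_apply] at this
      exact (Module.End.isUnit_iff S).1 h3
  have hKk : (Nat.card K : IsLocalRing.ResidueField O) ≠ 0 := by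
    intro h
    exact hK ((CharP.cast_eq_zero_iff _ p _).1 h)
  have hbeta := beta_le (p := p) ρ hFit' hx hPT hTPK hKT hKn hKk f _ Ek rfl hEkEk hEkT hEkfix
    (fun U hU hUK hU0 hUs => hdim U hU hUK hU0 hUs)
  set y := ρ x - 1 with hy
  -- Step 1: `Γ ≤ rank Q_b`
  have hRxp : R x ^ p = 1 := by
    rw [← map_pow, ← hx, pow_orderOf_eq_one, map_one]
  have hXE : R x * ER = ER * R x := (hET x (hPT (Subgroup.mem_zpowers x))).symm
  have hzpow : ∀ a : ℕ, (ζ ^ a) ^ p = 1 := fun a => by
    rw [← pow_mul, mul_comm, pow_mul, hζ.pow_eq_one, one_pow]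
  have hzinv : ∀ a : ℕ, ((ζ ^ a)⁻¹) ^ p = 1 := fun a => by
    rw [inv_pow, hzpow, inv_one]
  have hp0 : (p : ℂ) ≠ 0 := by exact_mod_cast hp.out.ne_zero
  have hstep1 : finrank (IsLocalRing.ResidueField O) ((LinearMap.range Ek).map (y ^ (p - 1))) ≤
      (eigP p (R x) (ζ ^ b) * ER).rank := by
    have hw : (ζ ^ b)⁻¹ ∈ O := mem_of_pow_eq_one O hOint hp.out.pos (hzinv b)
    let w' : O := ⟨_, hw⟩
    have hw'p : w' ^ p = 1 := Subtype.ext (by simpa [w'] using hzinv b)
    have hres : IsLocalRing.residue O w' = 1 := res_eq_one O hOp hw'p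
    let TO : Matrix (Fin n) (Fin n) O := (∑ i ∈ Finset.range p, w' ^ i • (A x) ^ i) * EO
    have h1 := rank_red_le O TO
    have h2 : (TO.map (Subtype.val : O → ℂ)).rank = (eigP p (R x) (ζ ^ b) * ER).rank := by
      have h3 : TO.map (Subtype.val : O → ℂ) = B⁻¹ * ((p : ℂ) • (eigP p (R x) (ζ ^ b) * ER)) * B := by
        show φ.mapMatrix TO = _
        rw [map_mul, hφE, map_sum]
        have h4 : (∑ i ∈ Finset.range p, φ.mapMatrix (w' ^ i • (A x) ^ i)) = B⁻¹ * (∑ i ∈ Finset.range p, ((ζ ^ b)⁻¹) ^ i • (R x) ^ i) * B := by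
          rw [Finset.mul_sum, Finset.sum_mul]
          refine Finset.sum_congr rfl fun i _ => ?_
          have h5 : φ.mapMatrix (w' ^ i • (A x) ^ i) = ((ζ ^ b)⁻¹) ^ i • (φ.mapMatrix (A x)) ^ i := by
            have h7 : ∀ (r : O) (M : Matrix (Fin n) (Fin n) O), φ.mapMatrix (r • M) = (r : ℂ) • φ.mapMatrix M := by
              intro r M
              ext a b
              simp [φ]
            rw [h7, map_pow]
            simp [w']
          rw [h5, hφA]
          have h6 : ∀ m : ℕ, (B⁻¹ * R x * B) ^ m = B⁻¹ * (R x) ^ m * B := by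
            intro m
            induction m with
            | zero => simp [hBinv]
            | succ m ih => rw [pow_succ, ih, hconj_mul, pow_succ]
          rw [h6]
          simp [Matrix.mul_smul, Matrix.smul_mul]
        rw [h4, hconj_mul]
        congr 2
        unfold eigP
        rw [Matrix.smul_mul, smul_smul, mul_inv_cancel₀ hp0, one_smul]
      rw [h3, rank_conj hdet]
      exact rank_smul_ne_zero hp0 _
    have h3 : redEnd O TO = y ^ (p - 1) * Ek := by
      have h4 : redEnd O (∑ i ∈ Finset.range p, w' ^ i • (A x) ^ i) = y ^ (p - 1) := by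
        rw [hy, ← geom_eq_pow (p := p), map_sum]
        refine Finset.sum_congr rfl fun i _ => ?_
        have h5 : redEnd O (w' ^ i • (A x) ^ i) = (IsLocalRing.residue O (w' ^ i)) • (redEnd O (A x)) ^ i := by
          rw [redEnd_smul, map_pow (redEnd O)]
        rw [h5, map_pow, hres, one_pow, one_smul, redEnd_A]
      rw [map_mul, h4]
    have h4 : finrank (IsLocalRing.ResidueField O) ((LinearMap.range Ek).map (y ^ (p - 1))) = (TO.map (IsLocalRing.residue O)).rank := by
      rw [← rank_redEnd, h3]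
      have h5 : LinearMap.range (y ^ (p - 1) * Ek) = (LinearMap.range Ek).map (y ^ (p - 1)) := LinearMap.range_comp _ _
      rw [h5]
    rw [h4, ← h2]
    exact h1
  -- general reduction bound
  have hle : ∀ (M : Matrix (Fin n) (Fin n) O) (Y : Matrix (Fin n) (Fin n) ℂ), φ.mapMatrix M = B⁻¹ * Y * B →
      finrank (IsLocalRing.ResidueField O) (LinearMap.range (redEnd O M)) ≤ Y.rank := by
    intro M Y hM
    rw [rank_redEnd, ← rank_conj hdet, ← hM]
    exact rank_red_le O M
  -- `rank_k Ek = rank ER`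
  have hEr1 : finrank (IsLocalRing.ResidueField O) (LinearMap.range Ek) ≤ ER.rank := hle EO ER hφE
  have hEr2 : ER.rank ≤ finrank (IsLocalRing.ResidueField O) (LinearMap.range Ek) := by
    have h1 : finrank (IsLocalRing.ResidueField O) (LinearMap.range (1 - Ek)) ≤ (1 - ER).rank := by
      have h2 := hle (1 - EO) (1 - ER) (by
        rw [map_sub, map_one, hφE, mul_sub, sub_mul, mul_one, hBinv])
      rwa [map_sub, map_one] at h2
    have h3 := rank_one_sub_add hEE
    have h4 : (⊤ : Submodule (IsLocalRing.ResidueField O) (Fin n → IsLocalRing.ResidueField O)) ≤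
        LinearMap.range Ek ⊔ LinearMap.range (1 - Ek) := by
      intro v _
      have h5 : v = Ek v + (1 - Ek) v := by simp
      rw [h5]
      exact Submodule.add_mem_sup (LinearMap.mem_range_self _ _) (LinearMap.mem_range_self _ _)
    have h6 := Submodule.finrank_mono h4
    have h7 := Submodule.finrank_add_le_finrank_add_finrank (LinearMap.range Ek) (LinearMap.range (1 - Ek))
    rw [finrank_top, Module.finrank_fin_fun] at h6
    omega
  -- Step 2
  set Qa := eigP p (R x) (ζ ^ a) * ER with hQa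
  set Pa := eigP p (R x) (ζ ^ a) with hPa
  have hPP : Pa * Pa = Pa := eigP_mul_self hRxp (hzpow a)
  have hEP : ER * Pa = Pa * ER := comm_eigP hXE
  have hQQ : Qa * Qa = Qa := by
    calc Qa * Qa = Pa * (ER * Pa) * ER := by simp only [hQa, mul_assoc]
      _ = Pa * Pa * (ER * ER) := by rw [hEP]; simp only [mul_assoc]
      _ = Qa := by rw [hPP, hEE]
  have hEQ : ER * Qa = Qa := by
    calc ER * Qa = (ER * Pa) * ER := by simp only [hQa, mul_assoc]
      _ = Pa * (ER * ER) := by rw [hEP]; simp only [mul_assoc]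
      _ = Qa := by rw [hEE]
  have hQE : Qa * ER = Qa := by
    rw [hQa, mul_assoc, hEE]
  have hsum := rank_idem_sub hEE hQQ hEQ hQE
  have hstep2 : finrank (IsLocalRing.ResidueField O) (LinearMap.range (y * Ek)) ≤ (ER - Qa).rank := by
    have hw : ζ ^ a ∈ O := mem_of_pow_eq_one O hOint hp.out.pos (hzpow a)
    let wO : O := ⟨_, hw⟩
    have hwp : wO ^ p = 1 := Subtype.ext (by simpa [wO] using hzpow a)
    have hres : IsLocalRing.residue O wO = 1 := res_eq_one O hOp hwp
    let ZO : Matrix (Fin n) (Fin n) O := (A x - wO • 1) * EO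
    have h1 : redEnd O ZO = y * Ek := by
      show redEnd O ((A x - wO • 1) * EO) = _
      rw [map_mul, map_sub, redEnd_smul, hres, one_smul, map_one, redEnd_A]
    have h2 : φ.mapMatrix ZO = B⁻¹ * ((R x - (ζ ^ a) • 1) * ER) * B := by
      show φ.mapMatrix ((A x - wO • 1) * EO) = _
      have h7 : φ.mapMatrix (wO • (1 : Matrix (Fin n) (Fin n) O)) = (ζ ^ a) • (1 : Matrix (Fin n) (Fin n) ℂ) := by
        ext i j
        simp [φ, wO, Matrix.one_apply]
        split_ifs <;> simp
      rw [map_mul, map_sub, h7, hφA, hφE, ← hconj_mul]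
      congr 1
      rw [mul_sub, sub_mul, mul_smul_comm, mul_one, smul_mul_assoc, hBinv]
    have h3 := hle ZO _ h2
    rw [h1] at h3
    refine h3.trans ?_
    have h4 : (R x - (ζ ^ a) • 1) * ER = (R x - (ζ ^ a) • 1) * (ER - Qa) := by
      have h5 : (R x - (ζ ^ a) • 1) * Qa = 0 := by
        rw [hQa, ← mul_assoc, sub_mul_eigP hRxp (hzpow a), zero_mul]
      rw [mul_sub, h5, sub_zero]
    rw [h4]
    exact Matrix.rank_mul_le_right _ _
  -- rank-nullity on `range Ek`
  have hnull : finrank (IsLocalRing.ResidueField O) (LinearMap.ker y ⊓ LinearMap.range Ek : Submodule (IsLocalRing.ResidueField O) _) +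
      finrank (IsLocalRing.ResidueField O) (LinearMap.range (y * Ek)) =
      finrank (IsLocalRing.ResidueField O) (LinearMap.range Ek) := by
    have h1 := LinearMap.finrank_range_add_finrank_ker (y.domRestrict (LinearMap.range Ek))
    have h2 : LinearMap.range (y.domRestrict (LinearMap.range Ek)) = LinearMap.range (y * Ek) := by
      rw [LinearMap.range_domRestrict]
      exact (LinearMap.range_comp _ _).symm
    have h3 : finrank (IsLocalRing.ResidueField O) (LinearMap.ker (y.domRestrict (LinearMap.range Ek))) =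
        finrank (IsLocalRing.ResidueField O) (LinearMap.ker y ⊓ LinearMap.range Ek : Submodule (IsLocalRing.ResidueField O) _) := by
      rw [LinearMap.ker_domRestrict]
      have h4 : (LinearMap.ker y).comap (LinearMap.range Ek).subtype =
          (LinearMap.ker y ⊓ LinearMap.range Ek).comap (LinearMap.range Ek).subtype := by
        ext v
        simp
      rw [h4]
      exact (Submodule.comapSubtypeEquivOfLe (inf_le_right : LinearMap.ker y ⊓ LinearMap.range Ek ≤ LinearMap.range Ek)).finrank_eq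
    rw [h2, h3] at h1
    omega
  have hfin : Qa.rank ≤ finrank (IsLocalRing.ResidueField O) (LinearMap.ker y ⊓ LinearMap.range Ek : Submodule (IsLocalRing.ResidueField O) _) := by
    omega
  have h5 := hbeta
  omega

end Core

end Cfsg.Agent.Lib.DefectOne
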