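import Mathlib
import Cfsg.Agent.Lib.DefectOne.ThmA
import Cfsg.Agent.Lib.Blocks.Osima
import Cfsg.Agent.Lib.Char.AbelianQuot
import Cfsg.Agent.Lib.Char.CompleteCor
import Cfsg.Agent.S0886

/-!
# Dimension of simple modules of `p'`-groups in the reduction of an integral form

A simple `k[Γ]`-module, for a `p'`-group `Γ`, occurring in the reduction of an `O`-form has dimension at most
the degree of an irreducible character `ψ` of `Γ` whose central idempotent acts nontrivially on it.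
-/

set_option autoImplicit false
set_option linter.unusedSectionVars false

namespace Cfsg.Agent.Lib.DefectOne

open Module Matrix Cfsg Cfsg.Agent.Lib.Blocks.Central Cfsg.Agent.Lib.Blocks.Osima
open scoped ComplexConjugate

universe u

section Irr

variable {Γ : Type*} [Group Γ]

/-- The matrix form of an irreducible character. -/
theorem exists_irr_matrix {ψ : Γ → ℂ} (hψ : IsIrrCharacter Γ ψ) :
    ∃ (d : ℕ) (R : Γ →* Matrix (Fin d) (Fin d) ℂ), 0 < d ∧ ψ 1 = d ∧ (∀ g, (R g).trace = ψ g) ∧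
      ∀ v : Fin d → ℂ, v ≠ 0 → Submodule.span ℂ (Set.range fun g => R g *ᵥ v) = ⊤ := by
  classical
  obtain ⟨d, ρ, hρ, rfl⟩ := hψ
  haveI := hρ
  have hnt : Nontrivial (Fin d → ℂ) := Cfsg.Agent.Lib.Char.Integrality.nontrivial_of_isIrreducible ρ
  have hd : 0 < d := by
    by_contra h
    have h0 : d = 0 := by omega
    subst h0
    exact not_subsingleton _ (inferInstance : Subsingleton (Fin 0 → ℂ))
  let Ψ : (Module.End ℂ (Fin d → ℂ)) ≃ₐ[ℂ] Matrix (Fin d) (Fin d) ℂ := LinearMap.toMatrixAlgEquiv'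
  let R : Γ →* Matrix (Fin d) (Fin d) ℂ := (Ψ : _ →* _).comp ρ
  have hR : ∀ g v, R g *ᵥ v = ρ g v := fun g v => by
    show (LinearMap.toMatrix' (ρ g)) *ᵥ v = _
    rw [LinearMap.toMatrix'_mulVec]
  refine ⟨d, R, hd, ?_, ?_, ?_⟩
  · rw [Representation.char_one]
    simp
  · intro g
    show (LinearMap.toMatrix' (ρ g)).trace = LinearMap.trace ℂ _ (ρ g)
    rw [LinearMap.trace_eq_matrix_trace ℂ (Pi.basisFun ℂ (Fin d))]
    rfl
  · intro v hv
    let W : Subrepresentation ρ := ⟨Submodule.span ℂ (Set.range fun g => ρ g v), by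
      intro g w hw
      induction hw using Submodule.span_induction with
      | mem w hw =>
        obtain ⟨h, rfl⟩ := hw
        refine Submodule.subset_span ⟨g * h, ?_⟩
        simp
      | zero => simp
      | add a b _ _ ha hb => rw [map_add]; exact add_mem ha hb
      | smul c a _ ha => rw [map_smul]; exact Submodule.smul_mem _ _ ha⟩
    have hW : W ≠ ⊥ := by
      intro h0
      have h1 : v ∈ W.toSubmodule := Submodule.subset_span ⟨1, by simp⟩
      rw [h0] at h1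
      exact hv h1
    have hW2 : W = ⊤ := (hρ.eq_bot_or_eq_top W).resolve_left hW
    have h3 : Submodule.span ℂ (Set.range fun g => ρ g v) = ⊤ := congrArg Subrepresentation.toSubmodule hW2
    rw [← h3]
    congr 2
    funext g
    exact hR g v

end Irr

section Coeff

variable {Γ : Type u} [Group Γ] [Fintype Γ]

/-- The coefficients of the central idempotent of a character. -/
noncomputable def idemCoeff (ψ : Γ → ℂ) (w : Γ) : ℂ := ψ 1 * ψ w⁻¹ / Nat.card Γ

lemma idemCoeff_eq_blockCoeff (ψ : IrrCharacter Γ) (w : Γ) :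
    idemCoeff (ψ : Γ → ℂ) w = blockCoeff ({ψ} : Set (IrrCharacter Γ)) w := by
  unfold idemCoeff blockCoeff
  rw [finsum_mem_singleton, Cfsg.Agent.Lib.Char.Ortho.character_inv_of_isCharacter
    (Cfsg.Agent.Lib.Char.Basic.isCharacter_of_isIrrCharacter ψ.2)]
  ring

lemma sum_idemCoeff [Fintype (IrrCharacter Γ)] [DecidableEq Γ] (w : Γ) :
    ∑ ψ : IrrCharacter Γ, idemCoeff (ψ : Γ → ℂ) w = if w = 1 then 1 else 0 := by
  have hG : (Nat.card Γ : ℂ) ≠ 0 := by exact_mod_cast Nat.card_pos.ne'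
  have h1 : ∀ ψ : IrrCharacter Γ, idemCoeff (ψ : Γ → ℂ) w =
      (ψ : Γ → ℂ) w⁻¹ * conj ((ψ : Γ → ℂ) 1) / Nat.card Γ := by
    intro ψ
    obtain ⟨n, -, hn⟩ := Cfsg.Agent.Lib.Char.Ortho.irr_degree_pos ψ.2
    unfold idemCoeff
    rw [hn, Complex.conj_natCast]
    ring
  simp_rw [h1]
  rw [← Finset.sum_div]
  split_ifs with hw
  · subst hw
    rw [inv_one, Cfsg.Agent.Lib.Char.CompleteCor.column_orth_conj (IsConj.refl _)]
    have : (Nat.card (Subgroup.centralizer ({(1 : Γ)} : Set Γ)) : ℂ) = Nat.card Γ := by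
      have h2 : Subgroup.centralizer ({(1 : Γ)} : Set Γ) = ⊤ := by
        ext g
        simp [Subgroup.mem_centralizer_singleton_iff]
      rw [h2, Subgroup.card_top]
    rw [this, div_self hG]
  · rw [Cfsg.Agent.Lib.Char.CompleteCor.column_orth_not_conj, zero_div]
    intro h
    exact hw (inv_eq_one.1 (isConj_one_right.1 h.symm))

end Coeff

section Simple

variable {Γ : Type u} [Group Γ] [Fintype Γ] {p : ℕ} [hp : Fact p.Prime] (O : ValuationSubring ℂ)
  {n : ℕ}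

/-- A natural number prime to `p` is a unit in `O`. -/
lemma inv_natCast_mem (hOp : (p : ℂ) ∈ O.nonunits) {m : ℕ} (hm : ¬ p ∣ m) :
    ((m : ℂ))⁻¹ ∈ O := by
  haveI := charP_residue O p hOp
  have h1 : (m : IsLocalRing.ResidueField O) ≠ 0 := by
    intro h
    exact hm ((CharP.cast_eq_zero_iff _ p m).1 h)
  have h2 : IsLocalRing.residue O (m : O) ≠ 0 := by
    rw [map_natCast]
    exact h1
  have h3 : IsUnit (m : O) := by
    rw [Ne, IsLocalRing.residue_eq_zero_iff, IsLocalRing.mem_maximalIdeal, mem_nonunits_iff, not_not] at h2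
    exact h2
  obtain ⟨b, hb⟩ := h3.exists_right_inv
  have h4 : (m : ℂ) * (b : ℂ) = 1 := by
    have := congrArg (Subtype.val) hb
    simpa using this
  rw [inv_eq_of_mul_eq_one_right h4]
  exact b.2

variable (hOint : ∀ z : ℂ, IsIntegral ℤ z → z ∈ O) (hOp : (p : ℂ) ∈ O.nonunits)

include hOint hOp in
lemma idemCoeff_mem (hΓ : ¬ p ∣ Nat.card Γ) {ψ : Γ → ℂ} (hψ : IsIrrCharacter Γ ψ) (w : Γ) :
    idemCoeff ψ w ∈ O := by
  have h1 : ψ w⁻¹ ∈ O := hOint _ (Cfsg.Agent.Lib.Char.Values.IsCharacter.isIntegral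
    (Cfsg.Agent.Lib.Char.Basic.isCharacter_of_isIrrCharacter hψ) _)
  have h2 : ψ 1 ∈ O := hOint _ (Cfsg.Agent.Lib.Char.Values.IsCharacter.isIntegral
    (Cfsg.Agent.Lib.Char.Basic.isCharacter_of_isIrrCharacter hψ) _)
  unfold idemCoeff
  rw [div_eq_mul_inv]
  exact mul_mem (mul_mem h2 h1) (inv_natCast_mem O hOp hΓ)

include hOint hOp in
/-- The main lemma on simple modules. -/
theorem exists_irr_of_simple (hΓ : ¬ p ∣ Nat.card Γ) (Ak : Γ →* Matrix (Fin n) (Fin n) O)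
    (U : Submodule (IsLocalRing.ResidueField O) (Fin n → IsLocalRing.ResidueField O))
    (hstab : ∀ w, ∀ v ∈ U, rhoK O Ak w v ∈ U) (hU0 : U ≠ ⊥)
    (hsimple : ∀ U' : Submodule (IsLocalRing.ResidueField O) (Fin n → IsLocalRing.ResidueField O), U' ≤ U →
      (∀ w, ∀ v ∈ U', rhoK O Ak w v ∈ U') → U' = ⊥ ∨ U' = U) :
    ∃ (ψ : Γ → ℂ) (c : Γ → O) (d : ℕ), IsIrrCharacter Γ ψ ∧ (∀ w, (c w : ℂ) = idemCoeff ψ w) ∧ ψ 1 = d ∧
      finrank (IsLocalRing.ResidueField O) U ≤ d ∧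
      ∃ u ∈ U, redEnd O (∑ w, c w • Ak w) u ≠ 0 := by
  classical
  haveI : Finite (IrrCharacter Γ) := Cfsg.Agent.Lib.Char.Complete.finite_irr
  letI : Fintype (IrrCharacter Γ) := Fintype.ofFinite _
  obtain ⟨u₀, hu₀, hu₀0⟩ := U.ne_bot_iff.1 hU0
  have hval : Function.Injective (Subtype.val : O → ℂ) := Subtype.val_injective
  let cc : IrrCharacter Γ → Γ → O := fun ψ w => ⟨idemCoeff (ψ : Γ → ℂ) w, idemCoeff_mem O hOint hOp hΓ ψ.2 w⟩
  have hcc : ∀ w, ∑ ψ, cc ψ w = if w = 1 then 1 else 0 := by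
    intro w
    apply hval
    rw [AddSubmonoidClass.coe_finset_sum]
    show ∑ ψ : IrrCharacter Γ, idemCoeff (ψ : Γ → ℂ) w = _
    rw [sum_idemCoeff]
    split_ifs <;> simp
  have hsum1 : ∑ ψ, ∑ w, cc ψ w • Ak w = 1 := by
    rw [Finset.sum_comm]
    simp_rw [← Finset.sum_smul, hcc]
    simp
  have hsum2 : ∑ ψ, redEnd O (∑ w, cc ψ w • Ak w) u₀ = u₀ := by
    have h1 := congrArg (fun z => redEnd O z u₀) hsum1
    simp only [map_sum, map_one, LinearMap.sum_apply] at h1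
    simpa using h1
  have hex : ∃ ψ, redEnd O (∑ w, cc ψ w • Ak w) u₀ ≠ 0 := by
    by_contra hno
    push Not at hno
    apply hu₀0
    rw [← hsum2]
    exact Finset.sum_eq_zero fun ψ _ => hno ψ
  obtain ⟨ψ, hψne⟩ := hex
  obtain ⟨d, R, hd, hψ1, htr, hirr⟩ := exists_irr_matrix ψ.2
  obtain ⟨v, hv⟩ : ∃ v : Fin d → ℂ, v ≠ 0 := ⟨fun _ => 1, fun h => one_ne_zero (congrFun h ⟨0, hd⟩)⟩
  obtain ⟨B, Aψ, -, -, hB, hA, -, -⟩ := exists_int_form O R v (hirr v hv)
  have hBu : IsUnit B.det := isUnit_iff_ne_zero.2 hB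
  have htrA : ∀ w, ((Aψ w).trace : ℂ) = (ψ : Γ → ℂ) w := by
    intro w
    have h1 : ((Aψ w).trace : ℂ) = ((Aψ w).map (Subtype.val : O → ℂ)).trace := by
      simp [Matrix.trace, AddSubmonoidClass.coe_finset_sum]
    rw [h1, hA w, ← htr w, Matrix.trace_mul_comm, ← mul_assoc, Matrix.mul_nonsing_inv _ hBu, one_mul]
  have hκ : (d : ℂ) / Nat.card Γ ∈ O := by
    rw [div_eq_mul_inv]
    exact mul_mem (natCast_mem O d) (inv_natCast_mem O hOp hΓ)
  let κ : O := ⟨_, hκ⟩
  have hcc2 : ∀ w, cc ψ w = κ * (Aψ w⁻¹).trace := by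
    intro w
    apply hval
    show idemCoeff (ψ : Γ → ℂ) w = (d : ℂ) / Nat.card Γ * ((Aψ w⁻¹).trace : ℂ)
    rw [htrA]
    unfold idemCoeff
    rw [hψ1]
    ring
  let E : Fin d → Fin d → Matrix (Fin n) (Fin n) O := fun i j => ∑ w, (κ * Aψ w⁻¹ j i) • Ak w
  have hsumE : ∑ i, E i i = ∑ w, cc ψ w • Ak w := by
    simp only [E]
    rw [Finset.sum_comm]
    refine Finset.sum_congr rfl fun w _ => ?_
    rw [← Finset.sum_smul, hcc2, Matrix.trace, ← Finset.mul_sum]
    rfl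
  obtain ⟨i, hi⟩ : ∃ i, redEnd O (E i i) u₀ ≠ 0 := by
    by_contra hno
    push Not at hno
    apply hψne
    rw [← hsumE, map_sum, LinearMap.sum_apply]
    exact Finset.sum_eq_zero fun i _ => hno i
  have hmul : ∀ (w₀ : Γ) (l : Fin d), Ak w₀ * E l i = ∑ m, Aψ w₀ m l • E m i := by
    intro w₀ l
    simp only [E]
    rw [Finset.mul_sum]
    have h1 : ∀ w, Ak w₀ * ((κ * Aψ w⁻¹ i l) • Ak w) = (κ * Aψ w⁻¹ i l) • Ak (w₀ * w) := by
      intro w
      rw [Matrix.mul_smul, map_mul]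
    simp_rw [h1, Finset.smul_sum, smul_smul]
    rw [Finset.sum_comm]
    rw [← Equiv.sum_comp (Equiv.mulLeft w₀) (fun y => ∑ x, (Aψ w₀ x l * (κ * Aψ y⁻¹ i x)) • Ak y)]
    refine Finset.sum_congr rfl fun x _ => ?_
    simp only [Equiv.coe_mulLeft]
    rw [← Finset.sum_smul]
    congr 1
    have h2 : x⁻¹ = (w₀ * x)⁻¹ * w₀ := by group
    conv_lhs => rw [h2, map_mul, Matrix.mul_apply, Finset.mul_sum]
    refine Finset.sum_congr rfl fun m _ => ?_
    ring
  have hres : ∀ l, redEnd O (E l i) u₀ ∈ U := by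
    intro l
    simp only [E]
    rw [map_sum, LinearMap.sum_apply]
    refine Submodule.sum_mem _ fun w _ => ?_
    rw [redEnd_smul, LinearMap.smul_apply, redEnd_A]
    exact Submodule.smul_mem _ _ (hstab w u₀ hu₀)
  let W : Submodule (IsLocalRing.ResidueField O) (Fin n → IsLocalRing.ResidueField O) :=
    Submodule.span _ (Set.range fun l => redEnd O (E l i) u₀)
  have hWU : W ≤ U := by
    rw [Submodule.span_le]
    rintro _ ⟨l, rfl⟩
    exact hres l
  have hWs : ∀ w, ∀ v ∈ W, rhoK O Ak w v ∈ W := by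
    intro w v hv
    induction hv using Submodule.span_induction with
    | mem v hv =>
      obtain ⟨l, rfl⟩ := hv
      rw [← redEnd_A, ← Module.End.mul_apply, ← map_mul, hmul, map_sum, LinearMap.sum_apply]
      refine Submodule.sum_mem _ fun m _ => ?_
      rw [redEnd_smul, LinearMap.smul_apply]
      exact Submodule.smul_mem _ _ (Submodule.subset_span ⟨m, rfl⟩)
    | zero => simp
    | add a b _ _ ha hb => rw [map_add]; exact add_mem ha hb
    | smul c a _ ha => rw [map_smul]; exact Submodule.smul_mem _ _ ha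
  have hW0 : W ≠ ⊥ := by
    intro h0
    have h1 : redEnd O (E i i) u₀ ∈ W := Submodule.subset_span ⟨i, rfl⟩
    rw [h0] at h1
    exact hi h1
  have hWeq : W = U := (hsimple W hWU hWs).resolve_left hW0
  refine ⟨ψ, cc ψ, d, ψ.2, fun _ => rfl, hψ1, ?_, u₀, hu₀, hψne⟩
  rw [← hWeq]
  have h1 := finrank_range_le_card (R := IsLocalRing.ResidueField O) (fun l => redEnd O (E l i) u₀)
  have h2 : finrank (IsLocalRing.ResidueField O) W = Set.finrank (IsLocalRing.ResidueField O)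
    (Set.range fun l => redEnd O (E l i) u₀) := rfl
  rw [h2]
  simpa using h1

end Simple

section Over

variable {Γ : Type u} [Group Γ] [Fintype Γ]

/-- Convolution of idempotent coefficients. -/
lemma sum_idemCoeff_mul (φ₁ φ₂ : IrrCharacter Γ) (g : Γ) :
    ∑ a, idemCoeff (φ₁ : Γ → ℂ) a * idemCoeff (φ₂ : Γ → ℂ) (a⁻¹ * g) =
      if φ₁ = φ₂ then idemCoeff (φ₁ : Γ → ℂ) g else 0 := by
  classical
  have h1 := blockElt_mul ({φ₁} : Set (IrrCharacter Γ)) {φ₂}
  have h2 := congrArg (fun z => z.coeff g) h1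
  simp only [coeff_mul_eq_sum, coeff_blockElt] at h2
  simp_rw [idemCoeff_eq_blockCoeff]
  rw [h2]
  split_ifs with h
  · subst h
    simp
  · have : ({φ₁} : Set (IrrCharacter Γ)) ∩ {φ₂} = ∅ := by
      ext z
      simp only [Set.mem_inter_iff, Set.mem_singleton_iff, Set.mem_empty_iff_false, iff_false]
      rintro ⟨rfl, h3⟩
      exact h h3
    rw [this]
    simp [blockCoeff]

/-- The idempotent in a matrix representation. -/
lemma idem_matrix {d : ℕ} (R : Γ →* Matrix (Fin d) (Fin d) ℂ) (φ₁ φ₂ : IrrCharacter Γ) :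
    (∑ a, idemCoeff (φ₁ : Γ → ℂ) a • R a) * (∑ b, idemCoeff (φ₂ : Γ → ℂ) b • R b) =
      if φ₁ = φ₂ then ∑ a, idemCoeff (φ₁ : Γ → ℂ) a • R a else 0 := by
  rw [Finset.sum_mul]
  simp_rw [Finset.mul_sum, Matrix.smul_mul, Matrix.mul_smul, smul_smul, ← map_mul]
  have h1 : ∀ a, ∑ b, (idemCoeff (φ₁ : Γ → ℂ) a * idemCoeff (φ₂ : Γ → ℂ) b) • R (a * b) =
      ∑ g, (idemCoeff (φ₁ : Γ → ℂ) a * idemCoeff (φ₂ : Γ → ℂ) (a⁻¹ * g)) • R g := by
    intro a
    rw [← Equiv.sum_comp (Equiv.mulLeft a) (fun g => (idemCoeff (φ₁ : Γ → ℂ) a * idemCoeff (φ₂ : Γ → ℂ) (a⁻¹ * g)) • R g)]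
    refine Finset.sum_congr rfl fun b _ => ?_
    simp
  simp_rw [h1]
  rw [Finset.sum_comm]
  simp_rw [← Finset.sum_smul, sum_idemCoeff_mul]
  split_ifs <;> simp

end Over

section Degree

variable {K : Type u} [Group K] [Fintype K] (N : Subgroup K) [hN : N.Normal] [Fintype N]

/-- Characters over an invariant character with cyclic quotient have the same degree. -/
theorem degree_eq_of_cyclic (hcyc : IsCyclic (K ⧸ N)) {θ : N → ℂ} (hθ : IsIrrCharacter N θ)
    (hinv : ∀ (g : K) (n : N), θ ⟨g * n * g⁻¹, hN.conj_mem (n : K) n.2 g⟩ = θ n)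
    {ψ : K → ℂ} (hψ : IsIrrCharacter K ψ) (h : Cfsg.classInner (fun n : N => ψ n) θ ≠ 0) :
    ψ 1 = θ 1 := by
  obtain ⟨χ, hχ, hext⟩ := Cfsg.Agent.S0886.result N hcyc θ hθ hinv
  have h1 : (fun n : N => χ n) = θ := funext hext
  have hχ1 : Cfsg.classInner (fun n : N => χ n) θ = 1 := by
    rw [h1]
    exact Cfsg.Agent.Lib.Char.Ortho.classInner_irr_self hθ
  have hab : ∀ x y : K, x * y * x⁻¹ * y⁻¹ ∈ N := by
    intro x y
    have hcomm : ∀ a b : K ⧸ N, a * b = b * a := by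
      letI := IsCyclic.commGroup (α := K ⧸ N)
      exact mul_comm
    rw [← QuotientGroup.eq_one_iff]
    simp only [QuotientGroup.mk_mul, QuotientGroup.mk_inv]
    rw [hcomm (x : K ⧸ N) y]
    group
  have h2 := Cfsg.Agent.Lib.Char.AbelianQuot.classInner_res_eq_of_abelian N hab hθ hinv hψ hχ h (by rw [hχ1]; exact one_ne_zero)
  rw [hχ1] at h2
  have h3 := Cfsg.Agent.Lib.Char.GallagherAvg.res_eq_smul_of_invariant N hψ hθ h hinv
  rw [← h2, one_smul] at h3
  have h4 := congrFun h3 1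
  simpa using h4

end Degree

end Cfsg.Agent.Lib.DefectOne
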