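import Mathlib
import Cfsg.Prelude.Def_Characters

/-!
# The local structure at a Sylow subgroup of prime order

`LocalData p x H`: `x` has order `p`, `p² ∤ |G|`, and `C_G(x) = ⟨x⟩ × H` with `H` a `p'`-group.
-/

set_option autoImplicit false
set_option linter.unusedSectionVars false

namespace Cfsg.Agent.Lib.DefectOne

open Subgroup

universe u

variable {G : Type u} [Group G] {p : ℕ} [hp : Fact p.Prime]

/-- Powers of `x` indexed by residues. -/
def XX (x : G) (i : ZMod p) : G := x ^ i.val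

/-- The local structure. -/
structure LocalData (p : ℕ) (x : G) (H : Subgroup G) : Prop where
  ord : orderOf x = p
  syl : ¬ p ^ 2 ∣ Nat.card G
  comm : ∀ y ∈ H, y * x = x * y
  cop : ¬ p ∣ Nat.card H
  decomp : ∀ c : G, c * x = x * c → ∃ i : ℕ, ∃ y ∈ H, c = x ^ i * y

section Powers

variable {x : G}

lemma XX_natCast (hx : orderOf x = p) (k : ℕ) : XX x (k : ZMod p) = x ^ k := by
  unfold XX
  rw [ZMod.val_natCast]
  have := pow_mod_orderOf x k
  rwa [hx] at this

lemma XX_pow_p (hx : orderOf x = p) (i : ZMod p) : (XX x i) ^ p = 1 := by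
  unfold XX
  have h : x ^ p = 1 := by
    have := pow_orderOf_eq_one x
    rwa [hx] at this
  rw [← pow_mul, mul_comm, pow_mul, h, one_pow]

lemma XX_zero (x : G) : XX x (0 : ZMod p) = 1 := by
  simp [XX]

lemma XX_one (hx : orderOf x = p) : XX x (1 : ZMod p) = x := by
  have := XX_natCast hx 1
  simpa using this

lemma XX_add (hx : orderOf x = p) (i j : ZMod p) : XX x (i + j) = XX x i * XX x j := by
  unfold XX
  rw [← pow_add, ZMod.val_add]
  have := pow_mod_orderOf x (i.val + j.val)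
  rwa [hx] at this

lemma XX_mul_natCast (hx : orderOf x = p) (k : ℕ) (i : ZMod p) : XX x ((k : ZMod p) * i) = XX x i ^ k := by
  have h1 : ((k : ZMod p) * i) = ((k * i.val : ℕ) : ZMod p) := by
    push_cast
    rw [ZMod.natCast_zmod_val]
  rw [h1, XX_natCast hx, XX, pow_mul, ← pow_mul, ← pow_mul, mul_comm]

lemma XX_mul_val (hx : orderOf x = p) (a i : ZMod p) : XX x (a * i) = XX x i ^ a.val := by
  have h := XX_mul_natCast hx a.val i
  rwa [ZMod.natCast_zmod_val] at h

lemma XX_inj (hx : orderOf x = p) {i j : ZMod p} (h : XX x i = XX x j) : i = j := by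
  unfold XX at h
  have h1 := (pow_eq_pow_iff_modEq).1 h
  rw [hx] at h1
  have h2 := (ZMod.natCast_eq_natCast_iff _ _ p).2 h1
  simpa using h2

lemma XX_neg (hx : orderOf x = p) (i : ZMod p) : XX x (-i) = (XX x i)⁻¹ := by
  have := XX_add hx i (-i)
  rw [add_neg_cancel, XX_zero] at this
  exact (inv_eq_of_mul_eq_one_right this.symm).symm

lemma XX_mem_zpowers (i : ZMod p) : XX x i ∈ zpowers x := by
  unfold XX
  exact Subgroup.npow_mem_zpowers x _

lemma exists_XX_of_mem (hx : orderOf x = p) {u : G} (hu : u ∈ zpowers x) : ∃ i : ZMod p, u = XX x i := by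
  obtain ⟨k, rfl⟩ := Subgroup.mem_zpowers_iff.1 hu
  refine ⟨((k : ℤ) : ZMod p), ?_⟩
  have hp0 : 0 < orderOf x := by rw [hx]; exact hp.out.pos
  obtain ⟨m, hm⟩ : ∃ m : ℕ, x ^ k = x ^ m := by
    refine ⟨(k % orderOf x).toNat, ?_⟩
    rw [← zpow_natCast, Int.toNat_of_nonneg (Int.emod_nonneg _ (by exact_mod_cast hp0.ne')), zpow_mod_orderOf]
  have h1 : x ^ k = x ^ m := hm
  have h2 : ((k : ℤ) : ZMod p) = (m : ZMod p) := by
    have h3 : (k : ℤ) ≡ (m : ℤ) [ZMOD orderOf x] := by
      rw [← zpow_natCast] at h1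
      exact (zpow_eq_zpow_iff_modEq).1 h1
    rw [hx] at h3
    have := (ZMod.intCast_eq_intCast_iff _ _ p).2 h3
    simpa using this
  rw [h2, XX_natCast hx, h1]

end Powers

namespace LocalData

variable {x : G} {H : Subgroup G} (hL : LocalData p x H)
include hL

lemma comm_XX {y : G} (hy : y ∈ H) (i : ZMod p) : y * XX x i = XX x i * y := by
  have h : Commute y x := hL.comm y hy
  exact (h.pow_right _).eq

lemma orderOf_not_dvd [Finite G] {y : G} (hy : y ∈ H) : ¬ p ∣ orderOf y := by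
  intro h
  apply hL.cop
  have h1 : orderOf y ∣ Nat.card H := by
    have := Subgroup.orderOf_dvd_natCard H hy
    exact this
  exact h.trans h1

lemma eq_one_of_pow [Finite G] {y : G} (hy : y ∈ H) (h : y ^ p = 1) : y = 1 := by
  have h1 := orderOf_dvd_of_pow_eq_one h
  rcases (Nat.dvd_prime hp.out).1 h1 with h2 | h2
  · exact orderOf_eq_one_iff.1 h2
  · exact absurd (h2 ▸ dvd_rfl) (hL.orderOf_not_dvd hy)

lemma XX_mem_H [Finite G] {i : ZMod p} (h : XX x i ∈ H) : i = 0 := by
  have h1 : (XX x i) ^ p = 1 := XX_pow_p hL.ord i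
  have h2 := hL.eq_one_of_pow h h1
  rw [← XX_zero (p := p) x] at h2
  exact XX_inj hL.ord h2

lemma exists_decomp {c : G} (hc : c * x = x * c) : ∃ (i : ZMod p) (y : G), y ∈ H ∧ c = XX x i * y := by
  obtain ⟨k, y, hy, rfl⟩ := hL.decomp c hc
  exact ⟨(k : ZMod p), y, hy, by rw [XX_natCast hL.ord]⟩

lemma decomp_unique [Finite G] {i j : ZMod p} {y z : G} (hy : y ∈ H) (hz : z ∈ H)
    (h : XX x i * y = XX x j * z) : i = j ∧ y = z := by
  have h1 : XX x (i + -j) = z * y⁻¹ := by
    rw [XX_add hL.ord, XX_neg hL.ord]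
    have h2 := hL.comm_XX hz j
    calc XX x i * (XX x j)⁻¹ = (XX x j)⁻¹ * XX x i := by
          have h3 : Commute (XX x i) (XX x j) := by
            unfold XX
            exact (Commute.refl x).pow_pow _ _
          exact (h3.inv_right).eq
      _ = (XX x j)⁻¹ * (XX x i * y) * y⁻¹ := by group
      _ = z * y⁻¹ := by rw [h]; group
  have h2 : XX x (i + -j) ∈ H := by
    rw [h1]
    exact H.mul_mem hz (H.inv_mem hy)
  have h3 := hL.XX_mem_H h2
  have h4 : i = j := by
    rw [← sub_eq_add_neg] at h3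
    exact sub_eq_zero.1 h3
  subst h4
  exact ⟨rfl, mul_left_cancel h⟩

lemma mem_iff [Finite G] {y : G} : y ∈ H ↔ y * x = x * y ∧ ¬ p ∣ orderOf y := by
  constructor
  · intro hy
    exact ⟨hL.comm y hy, hL.orderOf_not_dvd hy⟩
  · rintro ⟨h1, h2⟩
    obtain ⟨i, z, hz, rfl⟩ := hL.exists_decomp h1
    set m := orderOf (XX x i * z) with hm
    have h3 : (XX x i * z) ^ m = 1 := pow_orderOf_eq_one _
    have hcomm : Commute (XX x i) z := (hL.comm_XX hz i).symm
    rw [hcomm.mul_pow] at h3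
    have h4 : (XX x i) ^ m ∈ H := by
      have : (XX x i) ^ m = (z ^ m)⁻¹ := eq_inv_of_mul_eq_one_left h3
      rw [this]
      exact H.inv_mem (H.pow_mem hz m)
    have h5 : (XX x i) ^ m = XX x ((m : ZMod p) * i) := (XX_mul_natCast hL.ord m i).symm
    rw [h5] at h4
    have h6 := hL.XX_mem_H h4
    have h7 : (m : ZMod p) ≠ 0 := by
      rw [Ne, ZMod.natCast_eq_zero_iff]
      exact h2
    have h8 : i = 0 := by
      rcases mul_eq_zero.1 h6 with h9 | h9
      · exact absurd h9 h7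
      · exact h9
    subst h8
    rw [XX_zero, one_mul]
    exact hz

/-- `p`-elements of the centralizer lie in `⟨x⟩`. -/
lemma exists_XX_of_pow [Finite G] {c : G} (hc : c * x = x * c) (hcp : c ^ p = 1) : ∃ i : ZMod p, c = XX x i := by
  obtain ⟨i, y, hy, rfl⟩ := hL.exists_decomp hc
  have hcomm : Commute (XX x i) y := (hL.comm_XX hy i).symm
  rw [hcomm.mul_pow] at hcp
  have h1 : (XX x i) ^ p = 1 := XX_pow_p hL.ord i
  rw [h1, one_mul] at hcp
  have h2 := hL.eq_one_of_pow hy hcp
  exact ⟨i, by rw [h2, mul_one]⟩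

/-- An element conjugating `x` into its centralizer conjugates it into `⟨x⟩`. -/
lemma exists_alpha_of_comm [Finite G] {g : G} (h : (g * x * g⁻¹) * x = x * (g * x * g⁻¹)) :
    ∃ α : ZMod p, α ≠ 0 ∧ g * x * g⁻¹ = XX x α := by
  have hp1 : (g * x * g⁻¹) ^ p = 1 := by
    rw [conj_pow]
    have h2 : x ^ p = 1 := by
      have := pow_orderOf_eq_one x
      rwa [hL.ord] at this
    rw [h2]
    group
  obtain ⟨α, hα⟩ := hL.exists_XX_of_pow h hp1
  refine ⟨α, ?_, hα⟩
  rintro rfl
  rw [XX_zero] at hα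
  have h1 : x = 1 := by
    have : x = g⁻¹ * (g * x * g⁻¹) * g := by group
    rw [this, hα]
    group
  have h2 := hL.ord
  rw [h1, orderOf_one] at h2
  exact hp.out.one_lt.ne h2

/-- Conjugation on powers. -/
lemma conj_XX {g : G} {α : ZMod p} (h : g * x * g⁻¹ = XX x α) (i : ZMod p) :
    g * XX x i * g⁻¹ = XX x (α * i) := by
  have h1 : g * XX x i * g⁻¹ = (g * x * g⁻¹) ^ i.val := by
    rw [conj_pow]
    rfl
  rw [h1, h, mul_comm, XX_mul_val hL.ord]

lemma ne_zero_of_conj {g : G} {α : ZMod p} (h : g * x * g⁻¹ = XX x α) : α ≠ 0 := by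
  rintro rfl
  rw [XX_zero] at h
  have h1 : x = 1 := by
    have : x = g⁻¹ * (g * x * g⁻¹) * g := by group
    rw [this, h]
    group
  have h2 := hL.ord
  rw [h1, orderOf_one] at h2
  exact hp.out.one_lt.ne h2

lemma conj_inv {g : G} {α : ZMod p} (h : g * x * g⁻¹ = XX x α) : g⁻¹ * x * g = XX x α⁻¹ := by
  have h1 := hL.conj_XX h α⁻¹
  rw [mul_inv_cancel₀ (hL.ne_zero_of_conj h), XX_one hL.ord] at h1
  calc g⁻¹ * x * g = g⁻¹ * (g * XX x α⁻¹ * g⁻¹) * g := by rw [h1]
    _ = _ := by group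

lemma mem_normalizer_of_conj {g : G} {α : ZMod p} (h : g * x * g⁻¹ = XX x α) :
    g ∈ normalizer (zpowers x : Set G) := by
  rw [Subgroup.mem_normalizer_iff]
  intro u
  have hinv := hL.conj_inv h
  constructor
  · intro hu
    obtain ⟨i, rfl⟩ := exists_XX_of_mem hL.ord hu
    rw [hL.conj_XX h]
    exact XX_mem_zpowers _
  · intro hu
    obtain ⟨i, hi⟩ := exists_XX_of_mem hL.ord hu
    have h1 : u = g⁻¹ * XX x i * g⁻¹⁻¹ := by
      rw [← hi]
      group
    have h2 : g⁻¹ * x * g⁻¹⁻¹ = XX x α⁻¹ := by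
      rw [inv_inv]
      exact hinv
    rw [h1, hL.conj_XX h2]
    exact XX_mem_zpowers _

lemma exists_alpha {g : G} (hg : g ∈ normalizer (zpowers x : Set G)) : ∃ α : ZMod p, g * x * g⁻¹ = XX x α := by
  rw [Subgroup.mem_normalizer_iff] at hg
  have h1 : g * x * g⁻¹ ∈ zpowers x := (hg x).1 (Subgroup.mem_zpowers x)
  exact exists_XX_of_mem hL.ord h1

lemma conj_mem_H [Finite G] {g y : G} (hg : g ∈ normalizer (zpowers x : Set G)) (hy : y ∈ H) :
    g * y * g⁻¹ ∈ H := by
  obtain ⟨α, hα⟩ := hL.exists_alpha hg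
  have hinv := hL.conj_inv hα
  rw [hL.mem_iff]
  constructor
  · have h1 := hL.comm_XX hy α⁻¹
    rw [← hinv] at h1
    calc g * y * g⁻¹ * x = g * (y * (g⁻¹ * x * g)) * g⁻¹ := by group
      _ = g * ((g⁻¹ * x * g) * y) * g⁻¹ := by rw [h1]
      _ = x * (g * y * g⁻¹) := by group
  · have h2 : orderOf (g * y * g⁻¹) = orderOf y :=
      orderOf_injective (MulAut.conj g).toMonoidHom (MulAut.conj g).injective y
    rw [h2]
    exact hL.orderOf_not_dvd hy

end LocalData

section Conj

variable [Finite G] {x : G} {H : Subgroup G} (hL : LocalData p x H)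

/-- Conjugation as an automorphism of `H`. -/
noncomputable def conjH (g : G) (hg : g ∈ normalizer (zpowers x : Set G)) : H ≃* H where
  toFun y := ⟨g * y * g⁻¹, hL.conj_mem_H hg y.2⟩
  invFun y := ⟨g⁻¹ * y * g, by
    have := hL.conj_mem_H (Subgroup.inv_mem _ hg) y.2
    rwa [inv_inv] at this⟩
  left_inv y := Subtype.ext (by show g⁻¹ * (g * y * g⁻¹) * g = y; group)
  right_inv y := Subtype.ext (by show g * (g⁻¹ * y * g) * g⁻¹ = y; group)
  map_mul' a b := Subtype.ext (by show g * (a * b) * g⁻¹ = (g * a * g⁻¹) * (g * b * g⁻¹); group)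

@[simp] lemma conjH_coe (g : G) (hg : g ∈ normalizer (zpowers x : Set G)) (y : H) :
    (conjH hL g hg y : G) = g * y * g⁻¹ := rfl

/-- The inertia group in `N_G(⟨x⟩)` of a function on `H`. -/
def TT (φ : H → ℂ) : Subgroup G where
  carrier := {g | ∃ hg : g ∈ normalizer (zpowers x : Set G), ∀ y : H, φ (conjH hL g hg y) = φ y}
  one_mem' := ⟨Subgroup.one_mem _, fun y => by
    congr 1
    apply Subtype.ext
    simp⟩
  mul_mem' := by
    rintro a b ⟨ha, ha'⟩ ⟨hb, hb'⟩
    refine ⟨Subgroup.mul_mem _ ha hb, fun y => ?_⟩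
    have h1 : conjH hL (a * b) (Subgroup.mul_mem _ ha hb) y = conjH hL a ha (conjH hL b hb y) := by
      apply Subtype.ext
      show (a * b) * y * (a * b)⁻¹ = a * (b * y * b⁻¹) * a⁻¹
      group
    rw [h1, ha', hb']
  inv_mem' := by
    rintro a ⟨ha, ha'⟩
    refine ⟨Subgroup.inv_mem _ ha, fun y => ?_⟩
    have h1 := ha' (conjH hL a⁻¹ (Subgroup.inv_mem _ ha) y)
    rw [← h1]
    congr 1
    apply Subtype.ext
    show a * (a⁻¹ * y * a⁻¹⁻¹) * a⁻¹ = y.1
    group

lemma mem_TT {φ : H → ℂ} {g : G} : g ∈ TT hL φ ↔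
    ∃ hg : g ∈ normalizer (zpowers x : Set G), ∀ y : H, φ (conjH hL g hg y) = φ y := Iff.rfl

lemma TT_le (φ : H → ℂ) : TT hL φ ≤ normalizer (zpowers x : Set G) := fun _ h => h.1

include hL in
/-- Centralizing elements lie in the normalizer. -/
lemma mem_normalizer_of_comm {c : G} (hc : c * x = x * c) : c ∈ normalizer (zpowers x : Set G) := by
  refine hL.mem_normalizer_of_conj (α := 1) ?_
  rw [XX_one hL.ord, hc]
  group

/-- Centralizing elements lie in the inertia group of class functions. -/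
lemma mem_TT_of_comm {φ : H → ℂ} (hφ : IsClassFunction H φ) {c : G} (hc : c * x = x * c) : c ∈ TT hL φ := by
  obtain ⟨i, y, hy, rfl⟩ := hL.exists_decomp hc
  refine ⟨mem_normalizer_of_comm hL hc, fun z => ?_⟩
  have h1 : conjH hL _ (mem_normalizer_of_comm hL hc) z = (⟨y, hy⟩ : H) * z * (⟨y, hy⟩ : H)⁻¹ := by
    apply Subtype.ext
    show (XX x i * y) * z * (XX x i * y)⁻¹ = y * z * y⁻¹
    have h2 := hL.comm_XX z.2 i
    have h3 := hL.comm_XX hy i
    calc (XX x i * y) * z * (XX x i * y)⁻¹ = XX x i * (y * z * y⁻¹) * (XX x i)⁻¹ := by group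
      _ = (y * z * y⁻¹) * XX x i * (XX x i)⁻¹ := by
        rw [← hL.comm_XX (H.mul_mem (H.mul_mem hy z.2) (H.inv_mem hy)) i]
      _ = _ := by group
  rw [h1, hφ]

include hL in
/-- The complement. -/
theorem exists_K (T : Subgroup G) (hT : T ≤ normalizer (zpowers x : Set G)) (hxT : x ∈ T) :
    ∃ K : Subgroup G, K ≤ T ∧ ¬ p ∣ Nat.card K ∧ ∀ t ∈ T, ∃ u ∈ zpowers x, ∃ w ∈ K, t = u * w := by
  classical
  have hzT : zpowers x ≤ T := by
    rw [Subgroup.zpowers_le]
    exact hxT
  let P' : Subgroup T := (zpowers x).subgroupOf T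
  haveI hP'n : P'.Normal := by
    constructor
    intro n hn g
    rw [Subgroup.mem_subgroupOf] at hn ⊢
    exact ((Subgroup.mem_normalizer_iff.1 (hT g.2)) _).1 hn
  have hcard : Nat.card P' = p := by
    have h1 : Nat.card P' = Nat.card (zpowers x) := Nat.card_congr (Subgroup.subgroupOfEquivOfLe hzT).toEquiv
    rw [h1, Nat.card_zpowers, hL.ord]
  have hmul : Nat.card P' * P'.index = Nat.card T := P'.card_mul_index
  have hTG : Nat.card T ∣ Nat.card G := Subgroup.card_subgroup_dvd_card T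
  have hcop : (Nat.card P').Coprime P'.index := by
    rw [hcard, Nat.Prime.coprime_iff_not_dvd hp.out]
    intro hd
    apply hL.syl
    rw [hcard] at hmul
    refine Dvd.dvd.trans ?_ hTG
    rw [← hmul, pow_two]
    exact Nat.mul_dvd_mul_left p hd
  obtain ⟨K', hK'⟩ := Subgroup.exists_right_complement'_of_coprime hcop
  have hcardK : Nat.card P' * Nat.card K' = Nat.card T := hK'.card_mul_card
  refine ⟨K'.map T.subtype, ?_, ?_, ?_⟩
  · rintro _ ⟨w, -, rfl⟩
    exact w.2
  · have h1 : Nat.card (K'.map T.subtype) = Nat.card K' :=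
      Nat.card_congr (Subgroup.equivMapOfInjective K' T.subtype T.subtype_injective).symm.toEquiv
    rw [h1]
    intro hd
    apply hL.syl
    rw [hcard] at hcardK
    refine Dvd.dvd.trans ?_ hTG
    rw [← hcardK, pow_two]
    exact Nat.mul_dvd_mul_left p hd
  · intro t ht
    obtain ⟨⟨u, w⟩, huw⟩ := hK'.2 ⟨t, ht⟩
    refine ⟨u.1, Subgroup.mem_subgroupOf.1 u.2, w.1, ⟨w.1, w.2, rfl⟩, ?_⟩
    have := congrArg Subtype.val huw
    exact this.symm

/-- The action on `⟨x⟩`. -/
noncomputable def alphaFun (g : normalizer (zpowers x : Set G)) : ZMod p :=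
  Classical.choose (hL.exists_alpha g.2)

lemma alphaFun_spec (g : normalizer (zpowers x : Set G)) : (g : G) * x * (g : G)⁻¹ = XX x (alphaFun hL g) :=
  Classical.choose_spec (hL.exists_alpha g.2)

/-- The action on `⟨x⟩` as a homomorphism to the units of `ZMod p`. -/
noncomputable def alphaHom : normalizer (zpowers x : Set G) →* (ZMod p)ˣ :=
  MonoidHom.toHomUnits
    { toFun := alphaFun hL
      map_one' := by
        apply XX_inj hL.ord
        rw [← alphaFun_spec]
        simp [XX_one hL.ord]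
      map_mul' := fun a b => by
        apply XX_inj hL.ord
        rw [← alphaFun_spec]
        have h1 := hL.conj_XX (alphaFun_spec hL a) (alphaFun hL b)
        rw [← h1, ← alphaFun_spec hL b]
        simp only [Subgroup.coe_mul]
        group }

lemma alphaHom_spec (g : normalizer (zpowers x : Set G)) :
    (g : G) * x * (g : G)⁻¹ = XX x ((alphaHom hL g : (ZMod p)ˣ) : ZMod p) :=
  alphaFun_spec hL g

lemma alphaHom_eq_one_iff (g : normalizer (zpowers x : Set G)) : alphaHom hL g = 1 ↔ (g : G) * x = x * g := by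
  constructor
  · intro h
    have h1 := alphaHom_spec hL g
    rw [h, Units.val_one, XX_one hL.ord] at h1
    calc (g : G) * x = ((g : G) * x * (g : G)⁻¹) * g := by group
      _ = x * g := by rw [h1]
  · intro h
    apply Units.ext
    apply XX_inj hL.ord
    rw [← alphaHom_spec, Units.val_one, XX_one hL.ord, h]
    group

include hL in
/-- Elements of order dividing `p` in `N_G(⟨x⟩)` lie in `⟨x⟩`. -/
lemma mem_zpowers_of_normalizer {z : G} (hz : z ∈ normalizer (zpowers x : Set G)) (hzp : z ^ p = 1) : z ∈ zpowers x := by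
  obtain ⟨α, hα⟩ := hL.exists_alpha hz
  have h1 : ∀ k : ℕ, z ^ k * x * (z ^ k)⁻¹ = XX x (α ^ k) := by
    intro k
    induction k with
    | zero => simp [XX_one hL.ord]
    | succ k ih =>
      have h2 := hL.conj_XX hα (α ^ k)
      rw [pow_succ' α, ← h2, ← ih]
      rw [pow_succ' z]
      group
  have h2 := h1 p
  rw [hzp, ZMod.pow_card] at h2
  have h3 : z * x = x * z := by
    have h4 : x = z * x * z⁻¹ := by
      rw [hα, ← h2]
      group
    calc z * x = z * x * z⁻¹ * z := by group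
      _ = x * z := by rw [← h4]
  obtain ⟨i, hi⟩ := hL.exists_XX_of_pow h3 hzp
  rw [hi]
  exact XX_mem_zpowers i

include hL in
/-- An element conjugating `x` into `N_G(⟨x⟩)` normalizes `⟨x⟩`. -/
lemma mem_normalizer_of_conj_mem {g : G} (hg : g⁻¹ * x * g ∈ normalizer (zpowers x : Set G)) :
    g ∈ normalizer (zpowers x : Set G) := by
  have h1 : (g⁻¹ * x * g) ^ p = 1 := by
    have h2 : g⁻¹ * x * g = g⁻¹ * x * g⁻¹⁻¹ := by simp
    rw [h2, conj_pow]
    have h3 : x ^ p = 1 := by
      have := pow_orderOf_eq_one x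
      rwa [hL.ord] at this
    rw [h3]
    group
  have h2 := mem_zpowers_of_normalizer hL hg h1
  obtain ⟨i, hi⟩ := exists_XX_of_mem hL.ord h2
  have h3 : g⁻¹ * x * g⁻¹⁻¹ = XX x i := by simpa using hi
  have h4 := hL.mem_normalizer_of_conj h3
  have h5 := Subgroup.inv_mem _ h4
  simpa using h5

end Conj

end Cfsg.Agent.Lib.DefectOne
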