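import Mathlib
import Cfsg.Agent.Lib.DefectOne.Local

/-!
# The image of the inertia group in the automorphism group of `⟨x⟩`
-/

set_option autoImplicit false
set_option linter.unusedSectionVars false

namespace Cfsg.Agent.Lib.DefectOne

open Cfsg Subgroup Finset

universe u

variable {G : Type u} [Group G] [Fintype G] {p : ℕ} [hp : Fact p.Prime] {x : G} {H : Subgroup G}
  (hL : LocalData p x H)

open scoped Classical in
/-- The residue by which an element of the normalizer acts. -/
noncomputable def alphaG (g : G) : ZMod p :=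
  if h : g ∈ normalizer (zpowers x : Set G) then ((alphaHom hL ⟨g, h⟩ : (ZMod p)ˣ) : ZMod p) else 0

lemma alphaG_spec {g : G} (h : g ∈ normalizer (zpowers x : Set G)) : g * x * g⁻¹ = XX x (alphaG hL g) := by
  unfold alphaG
  rw [dif_pos h]
  exact alphaHom_spec hL ⟨g, h⟩

lemma alphaG_mul {g g' : G} (h : g ∈ normalizer (zpowers x : Set G)) (h' : g' ∈ normalizer (zpowers x : Set G)) :
    alphaG hL (g * g') = alphaG hL g * alphaG hL g' := by
  apply XX_inj hL.ord
  rw [← alphaG_spec hL (Subgroup.mul_mem _ h h'), ← hL.conj_XX (alphaG_spec hL h), ← alphaG_spec hL h']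
  group

lemma alphaG_eq_one_iff {g : G} (h : g ∈ normalizer (zpowers x : Set G)) : alphaG hL g = 1 ↔ g * x = x * g := by
  unfold alphaG
  rw [dif_pos h]
  have := alphaHom_eq_one_iff hL ⟨g, h⟩
  rw [← this]
  constructor
  · intro h1
    exact Units.ext h1
  · intro h1
    rw [h1]
    rfl

lemma alphaG_of_comm {g : G} (h : g * x = x * g) : alphaG hL g = 1 :=
  (alphaG_eq_one_iff hL (mem_normalizer_of_comm hL h)).2 h

lemma alphaG_ne_zero {g : G} (h : g ∈ normalizer (zpowers x : Set G)) : alphaG hL g ≠ 0 :=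
  hL.ne_zero_of_conj (alphaG_spec hL h)

open scoped Classical in
/-- The structure of the image of a subgroup of the normalizer containing the centralizer. -/
theorem exists_inertia (T : Subgroup G) (hTN : T ≤ normalizer (zpowers x : Set G))
    (hCT : ∀ c : G, c * x = x * c → c ∈ T) :
    ∃ (A : Finset (ZMod p)) (e t : ℕ), 0 < e ∧ p - 1 = e * t ∧ A.card = e ∧ (∀ α, α ∈ A ↔ α ^ e = 1) ∧
      (centralizer (zpowers x : Set G)).relIndex T = e ∧ (∀ g ∈ T, alphaG hL g ∈ A) ∧
      (∀ α ∈ A, ∃ g ∈ T, alphaG hL g = α) ∧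
      ∀ f : ZMod p → ℂ, ∑ g ∈ univ.filter (fun g => g ∈ T), f (alphaG hL g) =
        (Nat.card (centralizer (zpowers x : Set G)) : ℂ) * ∑ α ∈ A, f α := by
  classical
  set C := centralizer (zpowers x : Set G) with hC
  have hCmem : ∀ c : G, c ∈ C ↔ c * x = x * c := by
    intro c
    constructor
    · intro hc
      exact (Subgroup.mem_centralizer_iff.1 hc x (Subgroup.mem_zpowers x)).symm
    · intro hc
      rw [Subgroup.mem_centralizer_iff]
      intro h hh
      obtain ⟨k, rfl⟩ := Subgroup.mem_zpowers_iff.1 hh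
      have : Commute c x := hc
      exact (this.zpow_right k).eq.symm
  let Tn : T →* (ZMod p)ˣ := (alphaHom hL).comp (Subgroup.inclusion hTN)
  have hTn : ∀ g : T, ((Tn g : (ZMod p)ˣ) : ZMod p) = alphaG hL g := by
    intro g
    unfold alphaG
    rw [dif_pos (hTN g.2)]
    rfl
  have hker : Tn.ker = C.subgroupOf T := by
    ext g
    rw [MonoidHom.mem_ker, Subgroup.mem_subgroupOf, hCmem]
    exact alphaHom_eq_one_iff hL _
  set e := C.relIndex T with he
  have hcardrange : Nat.card Tn.range = e := by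
    rw [← Subgroup.index_ker, hker]
    rfl
  have hepos : 0 < e := by
    rw [← hcardrange]
    exact Nat.card_pos
  letI : Fintype Tn.range := Fintype.ofFinite _
  let A : Finset (ZMod p) := univ.image (fun u : Tn.range => (((u : (ZMod p)ˣ)) : ZMod p))
  have hAinj : Function.Injective (fun u : Tn.range => (((u : (ZMod p)ˣ)) : ZMod p)) := by
    intro a b hab
    exact Subtype.ext (Units.ext hab)
  have hAcard : A.card = e := by
    rw [card_image_of_injective _ hAinj, card_univ, ← Nat.card_eq_fintype_card, hcardrange]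
  have hApow : ∀ α ∈ A, α ^ e = 1 := by
    intro α hα
    obtain ⟨u, -, rfl⟩ := mem_image.1 hα
    have h1 : u ^ e = 1 := by
      rw [← hcardrange]
      exact pow_card_eq_one'
    have h2 := congrArg (fun z : Tn.range => (((z : (ZMod p)ˣ)) : ZMod p)) h1
    simpa using h2
  have hA : ∀ α, α ∈ A ↔ α ^ e = 1 := by
    intro α
    refine ⟨hApow α, fun h => ?_⟩
    let Ro : Finset (ZMod p) := (Polynomial.nthRoots e (1 : ZMod p)).toFinset
    have hRo : ∀ z, z ∈ Ro ↔ z ^ e = 1 := by
      intro z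
      simp only [Ro, Multiset.mem_toFinset]
      rw [Polynomial.mem_nthRoots hepos]
    have hRocard : Ro.card ≤ e := (Multiset.toFinset_card_le _).trans (Polynomial.card_nthRoots e 1)
    have hsub : A ⊆ Ro := fun a ha => (hRo a).2 (hApow a ha)
    have heq : A = Ro := eq_of_subset_of_card_le hsub (by rw [hAcard]; exact hRocard)
    rw [heq, hRo]
    exact h
  have hdvd : e ∣ p - 1 := by
    have h1 := Subgroup.card_subgroup_dvd_card Tn.range
    rw [hcardrange, Nat.card_eq_fintype_card, ZMod.card_units_eq_totient, Nat.totient_prime hp.out] at h1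
    exact h1
  obtain ⟨t, ht⟩ := hdvd
  have hT1 : ∀ g ∈ T, alphaG hL g ∈ A := by
    intro g hg
    have h1 := hTn ⟨g, hg⟩
    simp only at h1
    rw [← h1]
    exact mem_image.2 ⟨⟨Tn ⟨g, hg⟩, ⟨⟨g, hg⟩, rfl⟩⟩, mem_univ _, rfl⟩
  have hT2 : ∀ α ∈ A, ∃ g ∈ T, alphaG hL g = α := by
    intro α hα
    obtain ⟨⟨u, ⟨g, rfl⟩⟩, -, rfl⟩ := mem_image.1 hα
    exact ⟨g, g.2, (hTn g).symm⟩
  refine ⟨A, e, t, hepos, ht, hAcard, hA, rfl, hT1, hT2, fun f => ?_⟩
  have hmaps : ∀ g ∈ univ.filter (fun g => g ∈ T), alphaG hL g ∈ A := fun g hg => hT1 g (mem_filter.1 hg).2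
  rw [← sum_fiberwise_of_maps_to hmaps, mul_sum]
  refine sum_congr rfl fun α hα => ?_
  have h1 : ∀ g ∈ (univ.filter (fun g => g ∈ T)).filter (fun g => alphaG hL g = α), f (alphaG hL g) = f α := by
    intro g hg
    rw [(mem_filter.1 hg).2]
  rw [sum_congr rfl h1, sum_const, nsmul_eq_mul]
  congr 1
  obtain ⟨g₀, hg₀, rfl⟩ := hT2 α hα
  have h2 : ((univ.filter (fun g => g ∈ T)).filter (fun g => alphaG hL g = alphaG hL g₀)).card = Nat.card C := by
    letI : Fintype C := Fintype.ofFinite _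
    rw [Nat.card_eq_fintype_card, ← card_univ]
    symm
    refine card_bij (fun (c : C) _ => g₀ * c) ?_ ?_ ?_
    · intro c _
      have hcT : (c : G) ∈ T := hCT _ ((hCmem _).1 c.2)
      refine mem_filter.2 ⟨mem_filter.2 ⟨mem_univ _, T.mul_mem hg₀ hcT⟩, ?_⟩
      rw [alphaG_mul hL (hTN hg₀) (hTN hcT), alphaG_of_comm hL ((hCmem _).1 c.2), mul_one]
    · intro a _ b _ hab
      exact Subtype.ext (mul_left_cancel hab)
    · intro g hg
      obtain ⟨hg1, hg2⟩ := mem_filter.1 hg
      have hgT := (mem_filter.1 hg1).2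
      have hc : g₀⁻¹ * g ∈ C := by
        rw [hCmem]
        have h3 : g₀⁻¹ ∈ normalizer (zpowers x : Set G) := Subgroup.inv_mem _ (hTN hg₀)
        have h4 : g₀⁻¹ * g ∈ normalizer (zpowers x : Set G) := Subgroup.mul_mem _ h3 (hTN hgT)
        rw [← alphaG_eq_one_iff hL h4, alphaG_mul hL h3 (hTN hgT), hg2, ← alphaG_mul hL h3 (hTN hg₀)]
        rw [inv_mul_cancel]
        exact alphaG_of_comm hL (by simp)
      exact ⟨⟨_, hc⟩, mem_univ _, by simp⟩
  rw [h2]

end Cfsg.Agent.Lib.DefectOne
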