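import Mathlib
import Cfsg.Agent.Lib.DefectOne.ThmA
import Cfsg.Agent.Lib.DefectOne.SimpleDim

/-!
# Congruences modulo `p` in the cyclotomic integers

If `∑ w_i ζ^{d_i} ∈ pO` then `∑ w_i d_i^k ≡ 0 (mod p)` for `k ≤ p - 2`.
-/

set_option autoImplicit false
set_option linter.unusedSectionVars false

namespace Cfsg.Agent.Lib.DefectOne

open Finset

variable {p : ℕ} [hp : Fact p.Prime] (O : ValuationSubring ℂ)
  (hOint : ∀ z : ℂ, IsIntegral ℤ z → z ∈ O) (hOp : (p : ℂ) ∈ O.nonunits)
  {ζ : ℂ} (hζ : IsPrimitiveRoot ζ p)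

include hOint hOp hζ in
/-- `p` is divisible by `(ζ - 1)^{p-1}` in `O`. -/
lemma exists_unit_mul : ∃ u ∈ O, (p : ℂ) = (ζ - 1) ^ (p - 1) * u := by
  obtain ⟨m, hm⟩ : ∃ m, p = m + 1 := ⟨p - 1, (Nat.sub_add_cancel hp.out.pos).symm⟩
  subst hm
  have h1 := hζ.prod_one_sub_pow_eq_order
  have hgeom : ∀ k : ℕ, 1 - ζ ^ (k + 1) = (ζ - 1) * (-(∑ j ∈ range (k + 1), ζ ^ j)) := by
    intro k
    have := geom_sum_mul ζ (k + 1)
    rw [mul_comm] at this
    rw [mul_neg, this]
    ring
  refine ⟨∏ k ∈ range m, (-(∑ j ∈ range (k + 1), ζ ^ j)), ?_, ?_⟩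
  · refine prod_mem fun k _ => neg_mem (sum_mem fun j _ => pow_mem ?_ j)
    exact mem_of_pow_eq_one O hOint (Nat.succ_pos m) hζ.pow_eq_one
  · simp only [Nat.add_sub_cancel]
    have h2 : ((m + 1 : ℕ) : ℂ) = ∏ k ∈ range m, (1 - ζ ^ (k + 1)) := by
      rw [h1]
      push_cast
      rfl
    rw [h2]
    simp_rw [hgeom]
    rw [prod_mul_distrib, prod_const, card_range]

include hOint hOp hζ in
/-- The digit lemma. -/
theorem digit_dvd (D : ℕ → ℤ) {z : ℂ} (hz : z ∈ O)
    (h : ∑ l ∈ range p, (D l : ℂ) * (ζ - 1) ^ l = p * z) :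
    ∀ l, l + 2 ≤ p → (p : ℤ) ∣ D l := by
  classical
  obtain ⟨u, hu, hpu⟩ := exists_unit_mul O hOint hOp hζ
  have hζO : ζ ∈ O := mem_of_pow_eq_one O hOint hp.out.pos hζ.pow_eq_one
  have hπ : ζ - 1 ∈ O := sub_mem hζO (one_mem O)
  have hπ0 : ζ - 1 ≠ 0 := sub_ne_zero.2 (hζ.ne_one hp.out.one_lt)
  set π := ζ - 1 with hπdef
  haveI := charP_residue O p hOp
  intro l
  induction l using Nat.strong_induction_on with
  | _ l ih =>
    intro hl
    -- all terms other than the `l`-th are multiples of `π^(l+1)`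
    have hterm : ∀ l' ∈ range p, l' ≠ l → ∃ y ∈ O, (D l' : ℂ) * π ^ l' = π ^ (l + 1) * y := by
      intro l' hl' hne
      rcases lt_or_gt_of_ne hne with hlt | hgt
      · obtain ⟨n, hn⟩ := ih l' hlt (by omega)
        have hexp : p - 1 + l' = (l + 1) + (p - 2 - l + l') := by omega
        refine ⟨(n : ℂ) * u * π ^ (p - 2 - l + l'), mul_mem (mul_mem ?_ hu) (pow_mem hπ _), ?_⟩
        · exact hOint _ (isIntegral_intCast ..)
        · rw [hn]
          push_cast
          rw [hpu]
          calc π ^ (p - 1) * u * (n : ℂ) * π ^ l' = (n : ℂ) * u * π ^ (p - 1 + l') := by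
                rw [pow_add]; ring
            _ = _ := by rw [hexp, pow_add]; ring
      · refine ⟨(D l' : ℂ) * π ^ (l' - l - 1), mul_mem (hOint _ (isIntegral_intCast ..)) (pow_mem hπ _), ?_⟩
        have hexp : π ^ l' = π ^ (l + 1) * π ^ (l' - l - 1) := by
          rw [← pow_add]
          congr 1
          omega
        rw [hexp]
        ring
    choose! y hy hyeq using hterm
    have hlm : l ∈ range p := mem_range.2 (by omega)
    have h1 := Finset.add_sum_erase (range p) (fun l => (D l : ℂ) * π ^ l) hlm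
    have h2 : ∑ l' ∈ (range p).erase l, (D l' : ℂ) * π ^ l' = π ^ (l + 1) * ∑ l' ∈ (range p).erase l, y l' := by
      rw [mul_sum]
      refine sum_congr rfl fun l' hl' => ?_
      exact hyeq l' (mem_of_mem_erase hl') (ne_of_mem_erase hl')
    rw [h2, h] at h1
    have hexp2 : p - 1 = (l + 1) + (p - 2 - l) := by omega
    have h3 : (p : ℂ) * z = π ^ (l + 1) * (π ^ (p - 2 - l) * u * z) := by
      rw [hpu]
      conv_lhs => rw [hexp2, pow_add]
      ring
    set Y := ∑ l' ∈ (range p).erase l, y l' with hY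
    have hYO : Y ∈ O := sum_mem fun l' hl' => hy l' (mem_of_mem_erase hl') (ne_of_mem_erase hl')
    set W := π ^ (p - 2 - l) * u * z with hW
    have hWO : W ∈ O := mul_mem (mul_mem (pow_mem hπ _) hu) hz
    have h4 : (D l : ℂ) * π ^ l = π ^ (l + 1) * (W - Y) := by
      rw [mul_sub, ← h3]
      linear_combination h1
    have h5 : (D l : ℂ) = π * (W - Y) := by
      have hπl : π ^ l ≠ 0 := pow_ne_zero _ hπ0
      apply mul_right_cancel₀ hπl
      rw [h4, pow_succ]
      ring
    -- reduce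
    let ζO : O := ⟨ζ, hζO⟩
    have hζp : ζO ^ p = 1 := Subtype.ext (by simpa [ζO] using hζ.pow_eq_one)
    have hres := res_eq_one O hOp hζp
    let V : O := ⟨W - Y, sub_mem hWO hYO⟩
    have h6 : ((D l : ℤ) : O) = (ζO - 1) * V := by
      apply Subtype.ext
      simpa [ζO, V, hπdef] using h5
    have h7 := congrArg (IsLocalRing.residue O) h6
    rw [map_mul, map_sub, map_one, hres, sub_self, zero_mul, map_intCast] at h7
    exact (CharP.intCast_eq_zero_iff _ p _).1 h7

/-- Monomials in terms of binomial coefficients. -/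
lemma exists_choose_coeff (k : ℕ) : ∃ c : ℕ → ℤ, ∀ n : ℕ, (n : ℤ) ^ k = ∑ l ∈ range (k + 1), c l * (n.choose l : ℤ) := by
  have hident : ∀ n l : ℕ, (n.choose l : ℤ) * n = (l + 1) * (n.choose (l + 1) : ℤ) + l * (n.choose l : ℤ) := by
    intro n l
    by_cases hl : l ≤ n
    · have h1 := Nat.choose_succ_right_eq n l
      have h2 : ((n.choose (l + 1) * (l + 1) : ℕ) : ℤ) = ((n.choose l * (n - l) : ℕ) : ℤ) := by rw [h1]
      push_cast [Nat.cast_sub hl] at h2
      linear_combination -h2
    · have h1 : n.choose l = 0 := Nat.choose_eq_zero_of_lt (by omega)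
      have h2 : n.choose (l + 1) = 0 := Nat.choose_eq_zero_of_lt (by omega)
      simp [h1, h2]
  induction k with
  | zero =>
    refine ⟨fun _ => 1, fun n => ?_⟩
    simp
  | succ k ih =>
    obtain ⟨c, hc⟩ := ih
    refine ⟨fun l => (l : ℤ) * (if l ≤ k then c l else 0) + (if l = 0 then 0 else (l : ℤ) * c (l - 1)), fun n => ?_⟩
    rw [pow_succ, hc n, sum_mul]
    rw [sum_range_succ' _ (k + 1)]
    simp only [Nat.cast_zero, zero_mul, if_true, zero_add, add_zero, Nat.cast_add, Nat.cast_one]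
    simp only [add_mul]
    rw [sum_add_distrib]
    have h1 : ∀ l ∈ range (k + 1), c l * (n.choose l : ℤ) * n =
        (l + 1) * c l * (n.choose (l + 1) : ℤ) + l * c l * (n.choose l : ℤ) := by
      intro l _
      linear_combination c l * hident n l
    rw [sum_congr rfl h1, sum_add_distrib, add_comm]
    congr 1
    · rw [sum_range_succ', sum_range_succ]
      simp only [Nat.cast_zero, zero_mul, add_zero]
      have h2 : ¬ (k + 1 ≤ k) := by omega
      rw [if_neg h2]
      simp only [mul_zero, zero_mul, add_zero]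
      refine sum_congr rfl fun l hl => ?_
      have h3 : l + 1 ≤ k := by
        have := mem_range.1 hl
        omega
      rw [if_pos h3]
      push_cast
      ring
    · refine sum_congr rfl fun l _ => ?_
      have h2 : l + 1 ≠ 0 := by omega
      rw [if_neg h2, Nat.add_sub_cancel]
      ring

include hOint hOp hζ in
/-- **The moment lemma.** -/
theorem moment_zero {ι : Type*} [Fintype ι] (w : ι → ℤ) (d : ι → ZMod p) {z : ℂ} (hz : z ∈ O)
    (h : ∑ i, (w i : ℂ) * ζ ^ (d i).val = p * z) (k : ℕ) (hk : k + 2 ≤ p) :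
    ∑ i, (w i : ZMod p) * (d i) ^ k = 0 := by
  classical
  let D : ℕ → ℤ := fun l => ∑ i, w i * ((d i).val.choose l : ℤ)
  have hexp : ∀ v : ℕ, v < p → ζ ^ v = ∑ l ∈ range p, (v.choose l : ℂ) * (ζ - 1) ^ l := by
    intro v hv
    have h1 : ζ = (ζ - 1) + 1 := by ring
    conv_lhs => rw [h1, add_pow]
    simp only [one_pow, mul_one]
    have h2 : range (v + 1) ⊆ range p := by
      intro l hl
      rw [mem_range] at hl ⊢
      omega
    rw [sum_subset h2]
    · refine sum_congr rfl fun l _ => ?_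
      ring
    · intro l _ hl
      have h3 : v.choose l = 0 := Nat.choose_eq_zero_of_lt (by
        rw [mem_range] at hl
        omega)
      simp [h3]
  have h1 : ∑ l ∈ range p, (D l : ℂ) * (ζ - 1) ^ l = p * z := by
    rw [← h]
    simp only [D]
    push_cast
    simp_rw [sum_mul]
    rw [sum_comm]
    refine sum_congr rfl fun i _ => ?_
    rw [hexp _ (ZMod.val_lt _), mul_sum]
    refine sum_congr rfl fun l _ => ?_
    ring
  have h2 := digit_dvd O hOint hOp hζ D hz h1
  obtain ⟨c, hc⟩ := exists_choose_coeff k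
  have h3 : (∑ i, w i * (((d i).val : ℤ)) ^ k) = ∑ l ∈ range (k + 1), c l * D l := by
    simp only [D]
    simp_rw [mul_sum]
    rw [sum_comm]
    refine sum_congr rfl fun i _ => ?_
    rw [hc, mul_sum]
    refine sum_congr rfl fun l _ => ?_
    ring
  have h4 : (p : ℤ) ∣ ∑ i, w i * (((d i).val : ℤ)) ^ k := by
    rw [h3]
    refine dvd_sum fun l hl => Dvd.dvd.mul_left (h2 l ?_) _
    have := mem_range.1 hl
    omega
  have h5 := (ZMod.intCast_zmod_eq_zero_iff_dvd _ p).2 h4
  push_cast at h5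
  simpa using h5

end Cfsg.Agent.Lib.DefectOne
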