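import Mathlib
import Cfsg.Agent.Lib.DefectOne.Moment

/-!
# The shape of a row

Let `r : ZMod p → ℤ` be invariant under the group of `e`-th roots of unity with `r 0 = 0`, with values in an interval of length `1`,
and suppose that the function `τ(i) = ∑ r_a ζ^{ai}` satisfies the multiplicative congruence
`T₀ τ(i) τ(j) ≡ X₀ ∑_{α^e = 1} τ(α i + j) (mod p O)`.  Then `r = 0`, or `r` is (up to sign) the indicator function of a fibre of
`a ↦ a^e`, or (up to sign) the indicator function of the non-zero residues.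
-/

set_option autoImplicit false
set_option linter.unusedSectionVars false

namespace Cfsg.Agent.Lib.DefectOne

open Finset Polynomial

section Field

variable {p : ℕ} [hp : Fact p.Prime]

/-- Finite field part. `ν l = ∑_{a ∈ S} (a^e)^l`. -/
theorem subset_shape {e t : ℕ} (he : 0 < e) (het : p - 1 = e * t) (S : Finset (ZMod p)) (h0 : (0 : ZMod p) ∉ S)
    (hS : S.Nonempty) (hinv : ∀ a ∈ S, ∀ a' : ZMod p, a' ≠ 0 → a' ^ e = a ^ e → a' ∈ S)
    (hprod : ∀ l m : ℕ, l + m + 1 ≤ t →
      (∑ a ∈ S, (a ^ e) ^ l) * (∑ a ∈ S, (a ^ e) ^ m) = (S.card : ZMod p) * ∑ a ∈ S, (a ^ e) ^ (l + m)) :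
    (∃ b : ZMod p, ∀ a : ZMod p, a ∈ S ↔ a ≠ 0 ∧ a ^ e = b) ∨ (∀ a : ZMod p, a ∈ S ↔ a ≠ 0) := by
  classical
  have hcard : S.card < p := by
    have h1 : S ⊆ univ.erase (0 : ZMod p) := fun a ha => mem_erase.2 ⟨fun h => h0 (h ▸ ha), mem_univ _⟩
    have h2 := card_le_card h1
    rw [card_erase_of_mem (mem_univ _), card_univ, ZMod.card] at h2
    have := hp.out.pos
    omega
  have hR : (S.card : ZMod p) ≠ 0 := by
    rw [Ne, ZMod.natCast_eq_zero_iff]
    intro h
    exact absurd (Nat.le_of_dvd (card_pos.2 hS) h) (by omega)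
  have ht : 0 < t := by
    by_contra h
    have : t = 0 := by omega
    rw [this, mul_zero] at het
    have := hp.out.one_lt
    omega
  have hroot : ∀ a : ZMod p, a ≠ 0 → (a ^ e) ^ t = 1 := by
    intro a ha
    rw [← pow_mul, ← het]
    exact ZMod.pow_card_sub_one_eq_one ha
  -- image under `a ↦ a^e`
  set S' := S.image (fun a => a ^ e) with hS'
  let Ro : Finset (ZMod p) := (Polynomial.nthRoots t (1 : ZMod p)).toFinset
  have hRo : ∀ z, z ∈ Ro ↔ z ^ t = 1 := by
    intro z
    simp only [Ro, Multiset.mem_toFinset]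
    rw [Polynomial.mem_nthRoots ht]
  have hRocard : Ro.card ≤ t := by
    refine (Multiset.toFinset_card_le _).trans ?_
    exact Polynomial.card_nthRoots t 1
  have hS'Ro : S' ⊆ Ro := by
    intro z hz
    obtain ⟨a, ha, rfl⟩ := mem_image.1 hz
    rw [hRo]
    exact hroot a (fun h => h0 (h ▸ ha))
  by_cases hfull : t ≤ S'.card
  · -- all non-zero residues
    right
    have h1 : S' = Ro := eq_of_subset_of_card_le hS'Ro (hRocard.trans hfull)
    intro a
    refine ⟨fun ha h => h0 (h ▸ ha), fun ha => ?_⟩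
    have h2 : a ^ e ∈ S' := by
      rw [h1, hRo]
      exact hroot a ha
    obtain ⟨a₁, ha₁, h3⟩ := mem_image.1 h2
    exact hinv a₁ ha₁ a ha h3.symm
  · -- the polynomial argument
    left
    push Not at hfull
    have hS'ne : S'.Nonempty := hS.image _
    have ht2 : 1 ≤ t - 1 := by
      have := card_pos.2 hS'ne
      omega
    set ν : ℕ → ZMod p := fun l => ∑ a ∈ S, (a ^ e) ^ l with hν
    set R := (S.card : ZMod p) with hRdef
    have hν0 : ν 0 = R := by
      simp [hν, hRdef]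
    set β := ν 1 / R with hβ
    have hνpow : ∀ l, l + 1 ≤ t → ν l = R * β ^ l := by
      intro l
      induction l with
      | zero =>
        intro _
        simp [hν0]
      | succ l ih =>
        intro hl
        have h1 := hprod l 1 (by omega)
        have h2 := ih (by omega)
        have h3 : ν l * ν 1 = R * ν (l + 1) := h1
        rw [h2] at h3
        have h4 : R * ν (l + 1) = R * (R * β ^ (l + 1)) := by
          rw [← h3, pow_succ, hβ]
          field_simp
        exact mul_left_cancel₀ hR h4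
    have hpoly : ∀ g : (ZMod p)[X], g.natDegree + 1 ≤ t → ∑ a ∈ S, g.eval (a ^ e) = R * g.eval β := by
      intro g hg
      have h1 : ∀ y, g.eval y = ∑ l ∈ range t, g.coeff l * y ^ l := fun y =>
        Polynomial.eval_eq_sum_range' (by omega) y
      simp_rw [h1]
      rw [sum_comm, mul_sum]
      refine sum_congr rfl fun l hl => ?_
      rw [← mul_sum]
      have h2 := hνpow l (by
        have := mem_range.1 hl
        omega)
      have h3 : ∑ a ∈ S, (a ^ e) ^ l = R * β ^ l := h2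
      rw [h3]
      ring
    -- each element of `S'` is `β`
    have hall : ∀ b₀ ∈ S', b₀ = β := by
      intro b₀ hb₀
      let g : (ZMod p)[X] := (X - C β) * ∏ b ∈ S'.erase b₀, (X - C b)
      have hgdeg : g.natDegree + 1 ≤ t := by
        have h1 : g.natDegree ≤ 1 + (S'.erase b₀).card := by
          refine natDegree_mul_le.trans ?_
          refine Nat.add_le_add (natDegree_X_sub_C_le β) ?_
          refine (natDegree_prod_le _ _).trans ?_
          refine (sum_le_card_nsmul _ _ 1 fun b _ => natDegree_X_sub_C_le b).trans ?_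
          simp
        rw [card_erase_of_mem hb₀] at h1
        have := card_pos.2 hS'ne
        omega
      have h2 := hpoly g hgdeg
      have hgβ : g.eval β = 0 := by
        simp [g]
      rw [hgβ, mul_zero] at h2
      have hsplit : ∑ a ∈ S, g.eval (a ^ e) = ((S.filter fun a => a ^ e = b₀).card : ZMod p) * g.eval b₀ := by
        rw [← sum_filter_add_sum_filter_not S (fun a => a ^ e = b₀)]
        have h3 : ∑ a ∈ S.filter (fun a => ¬ a ^ e = b₀), g.eval (a ^ e) = 0 := by
          refine sum_eq_zero fun a ha => ?_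
          obtain ⟨ha1, ha2⟩ := mem_filter.1 ha
          have h4 : a ^ e ∈ S'.erase b₀ := mem_erase.2 ⟨ha2, mem_image_of_mem _ ha1⟩
          simp only [g, eval_mul, eval_prod]
          rw [prod_eq_zero h4 (by simp), mul_zero]
        rw [h3, add_zero]
        have h5 : ∀ a ∈ S.filter (fun a => a ^ e = b₀), g.eval (a ^ e) = g.eval b₀ := by
          intro a ha
          rw [(mem_filter.1 ha).2]
        rw [sum_congr rfl h5, sum_const, nsmul_eq_mul]
      have hfib : ((S.filter fun a => a ^ e = b₀).card : ZMod p) ≠ 0 := by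
        obtain ⟨a₀, ha₀, rfl⟩ := mem_image.1 hb₀
        rw [Ne, ZMod.natCast_eq_zero_iff]
        intro hd
        have h6 : 0 < (S.filter fun a => a ^ e = a₀ ^ e).card :=
          card_pos.2 ⟨a₀, mem_filter.2 ⟨ha₀, rfl⟩⟩
        have h7 := Nat.le_of_dvd h6 hd
        have h8 := card_filter_le S (fun a => a ^ e = a₀ ^ e)
        omega
      rw [hsplit] at h2
      have h9 := (mul_eq_zero.1 h2).resolve_left hfib
      simp only [g, eval_mul, eval_sub, eval_X, eval_C, eval_prod] at h9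
      rcases mul_eq_zero.1 h9 with h10 | h10
      · exact sub_eq_zero.1 h10
      · rw [prod_eq_zero_iff] at h10
        obtain ⟨b, hb, hb2⟩ := h10
        exact absurd (sub_eq_zero.1 hb2).symm (mem_erase.1 hb).1
    refine ⟨β, fun a => ⟨fun ha => ⟨fun h => h0 (h ▸ ha), hall _ (mem_image_of_mem _ ha)⟩, ?_⟩⟩
    rintro ⟨ha, ha2⟩
    obtain ⟨a₀, ha₀⟩ := hS
    have h1 := hall _ (mem_image_of_mem (fun a => a ^ e) ha₀)
    exact hinv a₀ ha₀ a ha (by rw [ha2, ← h1])

end Field

section Binom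

variable {F : Type*} [CommRing F] {ι : Type*} [Fintype ι]

/-- Binomial expansion of the double sum. -/
lemma sum_sum_pow (r v : ι → F) (i j : F) (k : ℕ) :
    ∑ a, ∑ b, r a * r b * (v a * i + v b * j) ^ k =
      ∑ l ∈ range (k + 1), (k.choose l : F) * (i ^ l * j ^ (k - l) *
        ((∑ a, r a * v a ^ l) * (∑ b, r b * v b ^ (k - l)))) := by
  have h1 : ∀ a b, r a * r b * (v a * i + v b * j) ^ k =
      ∑ l ∈ range (k + 1), r a * r b * ((v a * i) ^ l * (v b * j) ^ (k - l) * (k.choose l : F)) := by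
    intro a b
    rw [add_pow, mul_sum]
  simp_rw [h1]
  have h2 : ∀ a, ∑ b, ∑ l ∈ range (k + 1), r a * r b * ((v a * i) ^ l * (v b * j) ^ (k - l) * (k.choose l : F)) =
      ∑ l ∈ range (k + 1), ∑ b, r a * r b * ((v a * i) ^ l * (v b * j) ^ (k - l) * (k.choose l : F)) :=
    fun a => sum_comm
  simp_rw [h2]
  rw [sum_comm]
  refine sum_congr rfl fun l _ => ?_
  rw [sum_mul_sum, mul_sum, mul_sum]
  refine sum_congr rfl fun a _ => ?_
  rw [mul_sum, mul_sum]
  refine sum_congr rfl fun b _ => ?_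
  rw [mul_pow, mul_pow]
  ring

/-- Binomial expansion for the other side. -/
lemma sum_pow_one (A : Finset F) (i : F) (k : ℕ) :
    ∑ α ∈ A, (α * i + 1) ^ k = ∑ l ∈ range (k + 1), (k.choose l : F) * (i ^ l * ∑ α ∈ A, α ^ l) := by
  have h1 : ∀ α ∈ A, (α * i + 1) ^ k = ∑ l ∈ range (k + 1), (k.choose l : F) * (i ^ l * α ^ l) := by
    intro α _
    rw [add_pow]
    refine sum_congr rfl fun l _ => ?_
    rw [mul_pow, one_pow]
    ring
  rw [sum_congr rfl h1, sum_comm]
  refine sum_congr rfl fun l _ => ?_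
  rw [mul_sum, mul_sum]

end Binom

section Main

variable {p : ℕ} [hp : Fact p.Prime] (O : ValuationSubring ℂ)
  (hOint : ∀ z : ℂ, IsIntegral ℤ z → z ∈ O) (hOp : (p : ℂ) ∈ O.nonunits)
  {ζ : ℂ} (hζ : IsPrimitiveRoot ζ p)

include hζ in
lemma zeta_val_add (a b : ZMod p) : ζ ^ (a + b).val = ζ ^ a.val * ζ ^ b.val := by
  rw [← pow_add, ZMod.val_add]
  have := pow_mod_orderOf ζ (a.val + b.val)
  rwa [← hζ.eq_orderOf] at this

/-- The function `τ`. -/
noncomputable def tauR (ζ : ℂ) (r : ZMod p → ℤ) (i : ZMod p) : ℂ := ∑ a, (r a : ℂ) * ζ ^ (a * i).val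

include hOint hOp hζ in
/-- The congruence implies polynomial identities in the moments. -/
theorem moment_identity (A : Finset (ZMod p)) (r : ZMod p → ℤ) (T₀ X₀ : ℤ)
    (hstar : ∀ i j : ZMod p, ∃ z ∈ O, (T₀ : ℂ) * tauR ζ r i * tauR ζ r j -
      X₀ * ∑ α ∈ A, tauR ζ r (α * i + j) = p * z)
    (k l : ℕ) (hk : k + 2 ≤ p) (hl : l ≤ k) :
    (T₀ : ZMod p) * ((∑ a, (r a : ZMod p) * a ^ l) * (∑ a, (r a : ZMod p) * a ^ (k - l))) =
      (X₀ : ZMod p) * ((∑ a, (r a : ZMod p) * a ^ k) * ∑ α ∈ A, α ^ l) := by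
  classical
  set μ : ℕ → ZMod p := fun n => ∑ a, (r a : ZMod p) * a ^ n with hμ
  -- the identity at `(i, 1)`
  have hI : ∀ i : ZMod p, (T₀ : ZMod p) * ∑ a, ∑ b, (r a : ZMod p) * (r b : ZMod p) * (a * i + b * 1) ^ k -
      (X₀ : ZMod p) * ∑ α ∈ A, ∑ c, (r c : ZMod p) * (c * (α * i + 1)) ^ k = 0 := by
    intro i
    obtain ⟨z, hz, hzeq⟩ := hstar i 1
    let ι := (ZMod p × ZMod p) ⊕ (A × ZMod p)
    let w : ι → ℤ := fun s => Sum.elim (fun q => T₀ * (r q.1 * r q.2)) (fun q => - (X₀ * r q.2)) s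
    let d : ι → ZMod p := fun s => Sum.elim (fun q => q.1 * i + q.2 * 1) (fun q => q.2 * ((q.1 : ZMod p) * i + 1)) s
    have hsum : ∑ s, (w s : ℂ) * ζ ^ (d s).val = p * z := by
      rw [← hzeq, Fintype.sum_sum_type, Fintype.sum_prod_type, Fintype.sum_prod_type, sub_eq_add_neg]
      congr 1
      · simp only [w, d, Sum.elim_inl, tauR]
        rw [mul_assoc, sum_mul_sum, mul_sum]
        refine sum_congr rfl fun a _ => ?_
        rw [mul_sum]
        refine sum_congr rfl fun b _ => ?_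
        rw [zeta_val_add hζ]
        push_cast
        ring
      · simp only [w, d, Sum.elim_inr, tauR]
        rw [← sum_coe_sort A (fun α => ∑ a, (r a : ℂ) * ζ ^ (a * (α * i + 1)).val), mul_sum, ← sum_neg_distrib]
        refine sum_congr rfl fun α _ => ?_
        rw [mul_sum, ← sum_neg_distrib]
        refine sum_congr rfl fun c _ => ?_
        push_cast
        ring
    have h0 := moment_zero O hOint hOp hζ w d hz hsum k hk
    rw [Fintype.sum_sum_type, Fintype.sum_prod_type, Fintype.sum_prod_type] at h0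
    simp only [w, d, Sum.elim_inl, Sum.elim_inr] at h0
    rw [sub_eq_add_neg, ← h0]
    congr 1
    · rw [mul_sum]
      refine sum_congr rfl fun a _ => ?_
      rw [mul_sum]
      refine sum_congr rfl fun b _ => ?_
      push_cast
      ring
    · rw [← sum_coe_sort A (fun α => ∑ c, (r c : ZMod p) * (c * (α * i + 1)) ^ k), mul_sum, ← sum_neg_distrib]
      refine sum_congr rfl fun α _ => ?_
      rw [mul_sum, ← sum_neg_distrib]
      refine sum_congr rfl fun c _ => ?_
      push_cast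
      ring
  -- the polynomial
  let f : (ZMod p)[X] := ∑ l ∈ range (k + 1), C ((k.choose l : ZMod p) *
    ((T₀ : ZMod p) * (μ l * μ (k - l)) - (X₀ : ZMod p) * (μ k * ∑ α ∈ A, α ^ l))) * X ^ l
  have hfeval : ∀ i, f.eval i = 0 := by
    intro i
    have h1 := hI i
    have h2 := sum_sum_pow (fun a : ZMod p => (r a : ZMod p)) (fun a => a) i 1 k
    simp only [one_pow, mul_one] at h2 h1
    have h3 : ∑ α ∈ A, ∑ c, (r c : ZMod p) * (c * (α * i + 1)) ^ k = μ k * ∑ α ∈ A, (α * i + 1) ^ k := by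
      rw [mul_sum]
      refine sum_congr rfl fun α _ => ?_
      simp only [hμ]
      rw [sum_mul]
      refine sum_congr rfl fun c _ => ?_
      rw [mul_pow]
      ring
    rw [h2, h3, sum_pow_one, mul_sum, mul_sum, mul_sum, ← sum_sub_distrib] at h1
    simp only [f, eval_finset_sum, eval_mul, eval_C, eval_pow, eval_X]
    rw [← h1]
    refine sum_congr rfl fun m _ => ?_
    ring
  have hfdeg : f.natDegree < (univ : Finset (ZMod p)).card := by
    rw [card_univ, ZMod.card]
    have h1 : f.natDegree ≤ k := by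
      refine natDegree_sum_le_of_forall_le _ _ fun m hm => ?_
      refine (natDegree_C_mul_X_pow_le _ _).trans ?_
      have := mem_range.1 hm
      omega
    omega
  have hf0 : f = 0 := Polynomial.eq_zero_of_natDegree_lt_card_of_eval_eq_zero' f univ (fun i _ => hfeval i) hfdeg
  have hcoef : f.coeff l = (k.choose l : ZMod p) *
      ((T₀ : ZMod p) * (μ l * μ (k - l)) - (X₀ : ZMod p) * (μ k * ∑ α ∈ A, α ^ l)) := by
    simp only [f, finset_sum_coeff, coeff_C_mul, coeff_X_pow]
    rw [sum_eq_single l]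
    · simp
    · intro m _ hm
      simp [Ne.symm hm]
    · intro h
      exact absurd (mem_range.2 (by omega)) h
  rw [hf0, coeff_zero] at hcoef
  have hchoose : (k.choose l : ZMod p) ≠ 0 := by
    rw [Ne, ZMod.natCast_eq_zero_iff]
    intro hd
    have h1 : k < p := by omega
    have h2 : p ∣ k.factorial := by
      rw [← Nat.choose_mul_factorial_mul_factorial hl]
      exact Dvd.dvd.mul_right (Dvd.dvd.mul_right hd _) _
    exact absurd ((hp.out.dvd_factorial).1 h2) (by omega)
  have h4 := (mul_eq_zero.1 hcoef.symm).resolve_left hchoose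
  exact sub_eq_zero.1 h4

include hOint hOp hζ in
/-- **The shape of a row.** -/
theorem row_shape {e t : ℕ} (he : 0 < e) (het : p - 1 = e * t) (A : Finset (ZMod p))
    (hA : ∀ α, α ∈ A ↔ α ^ e = 1) (hAcard : A.card = e) (r : ZMod p → ℤ) (hr0 : r 0 = 0)
    (hrA : ∀ α ∈ A, ∀ a, r (α * a) = r a) (hr1 : ∀ a b, r a ≤ r b + 1) (T₀ X₀ : ℤ) (hT : ¬ (p : ℤ) ∣ T₀)
    (hstar : ∀ i j : ZMod p, ∃ z ∈ O, (T₀ : ℂ) * tauR ζ r i * tauR ζ r j -
      X₀ * ∑ α ∈ A, tauR ζ r (α * i + j) = p * z) :
    (∀ a, r a = 0) ∨ ∃ ε : ℤ, (ε = 1 ∨ ε = -1) ∧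
      ((T₀ : ZMod p) * ∑ a, (r a : ZMod p) = (X₀ : ZMod p) * (e : ZMod p)) ∧
      ((∃ b : ZMod p, ∀ a, r a = if a ≠ 0 ∧ a ^ e = b then ε else 0) ∨ (∀ a, r a = if a ≠ 0 then ε else 0)) := by
  classical
  by_cases hall : ∀ a, r a = 0
  · exact Or.inl hall
  right
  push Not at hall
  obtain ⟨a₁, ha₁⟩ := hall
  have hb1 : ∀ a, r a ≤ 1 := fun a => by
    have := hr1 a 0
    rwa [hr0, zero_add] at this
  have hb2 : ∀ a, -1 ≤ r a := fun a => by
    have := hr1 0 a
    rw [hr0] at this
    omega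
  set ε := r a₁ with hε
  have hε1 : ε = 1 ∨ ε = -1 := by
    have h1 := hb1 a₁
    have h2 := hb2 a₁
    omega
  have hval : ∀ a, r a = 0 ∨ r a = ε := by
    intro a
    have h1 : r a ≤ ε + 1 := hr1 a a₁
    have h2 : ε ≤ r a + 1 := hr1 a₁ a
    have h3 := hb1 a
    have h4 := hb2 a
    rcases hε1 with h5 | h5 <;> rw [h5] at h1 h2 ⊢ <;> omega
  let S : Finset (ZMod p) := univ.filter fun a => r a ≠ 0
  have hS : ∀ a, a ∈ S ↔ r a ≠ 0 := fun a => by simp [S]
  have h0S : (0 : ZMod p) ∉ S := by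
    rw [hS, hr0]
    simp
  have hSne : S.Nonempty := ⟨a₁, (hS a₁).2 ha₁⟩
  have hinv : ∀ a ∈ S, ∀ a' : ZMod p, a' ≠ 0 → a' ^ e = a ^ e → a' ∈ S := by
    intro a ha a' ha' heq
    have ha0 : a ≠ 0 := fun h => h0S (h ▸ ha)
    have h1 : a' / a ∈ A := by
      rw [hA, div_pow, heq, div_self (pow_ne_zero _ ha0)]
    have h2 := hrA _ h1 a
    rw [div_mul_cancel₀ _ ha0] at h2
    rw [hS, h2]
    exact (hS a).1 ha
  have hεz : (ε : ZMod p) ≠ 0 := by
    rcases hε1 with h | h <;> rw [h] <;> simp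
  have hε2 : (ε : ZMod p) * (ε : ZMod p) = 1 := by
    rcases hε1 with h | h <;> rw [h] <;> simp
  have hbar : ∀ a, (r a : ZMod p) = if a ∈ S then (ε : ZMod p) else 0 := by
    intro a
    by_cases ha : a ∈ S
    · rw [if_pos ha]
      have := (hS a).1 ha
      rcases hval a with h | h
      · exact absurd h this
      · rw [h]
    · rw [if_neg ha]
      have : r a = 0 := by
        by_contra h
        exact ha ((hS a).2 h)
      rw [this]
      simp
  have hμ : ∀ n, ∑ a, (r a : ZMod p) * a ^ n = (ε : ZMod p) * ∑ a ∈ S, a ^ n := by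
    intro n
    rw [mul_sum]
    rw [← sum_filter_add_sum_filter_not univ (· ∈ S)]
    have h1 : univ.filter (· ∈ S) = S := by
      ext a
      simp
    rw [h1]
    have h2 : ∑ a ∈ univ.filter (fun a => a ∉ S), (r a : ZMod p) * a ^ n = 0 := by
      refine sum_eq_zero fun a ha => ?_
      rw [hbar, if_neg (mem_filter.1 ha).2, zero_mul]
    rw [h2, add_zero]
    refine sum_congr rfl fun a ha => ?_
    rw [hbar, if_pos ha]
  have hmom := moment_identity O hOint hOp hζ A r T₀ X₀ hstar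
  have hE : ∀ n : ℕ, e ∣ n → ∑ α ∈ A, α ^ n = (e : ZMod p) := by
    intro n hn
    obtain ⟨m, rfl⟩ := hn
    have h1 : ∀ α ∈ A, α ^ (e * m) = 1 := by
      intro α hα
      rw [pow_mul, (hA α).1 hα, one_pow]
    rw [sum_congr rfl h1, sum_const, hAcard]
    simp
  have hp2 : 0 + 2 ≤ p := hp.out.two_le
  have hcardne : (S.card : ZMod p) ≠ 0 := by
    rw [Ne, ZMod.natCast_eq_zero_iff]
    intro h
    have h1 : S ⊆ univ.erase (0 : ZMod p) := fun a ha => mem_erase.2 ⟨fun h => h0S (h ▸ ha), mem_univ _⟩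
    have h2 := card_le_card h1
    rw [card_erase_of_mem (mem_univ _), card_univ, ZMod.card] at h2
    have h3 := Nat.le_of_dvd (card_pos.2 hSne) h
    have := hp.out.pos
    omega
  have hR0 : ∑ a ∈ S, a ^ 0 = (S.card : ZMod p) := by simp
  have hTbar : (T₀ : ZMod p) ≠ 0 := by
    rw [Ne, ZMod.intCast_zmod_eq_zero_iff_dvd]
    exact hT
  -- the case `l = m = 0`
  have hz := hmom 0 0 hp2 le_rfl
  simp only [Nat.sub_zero, hμ, hE 0 (dvd_zero e), hR0] at hz
  have hTX : (T₀ : ZMod p) * ((ε : ZMod p) * (S.card : ZMod p)) = (X₀ : ZMod p) * (e : ZMod p) := by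
    have h1 : ((ε : ZMod p) * (S.card : ZMod p)) ≠ 0 := mul_ne_zero hεz hcardne
    apply mul_right_cancel₀ h1
    linear_combination hz
  have hsumr : ∑ a, (r a : ZMod p) = (ε : ZMod p) * (S.card : ZMod p) := by
    have := hμ 0
    simp only [pow_zero, mul_one] at this
    rw [this]
    simp
  refine ⟨ε, hε1, by rw [hsumr]; exact hTX, ?_⟩
  -- the product rule
  have hprod : ∀ l m : ℕ, l + m + 1 ≤ t →
      (∑ a ∈ S, (a ^ e) ^ l) * (∑ a ∈ S, (a ^ e) ^ m) = (S.card : ZMod p) * ∑ a ∈ S, (a ^ e) ^ (l + m) := by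
    intro l m hlm
    have hk : e * (l + m) + 2 ≤ p := by
      have h1 : e * (l + m + 1) ≤ e * t := Nat.mul_le_mul_left e hlm
      have h2 : e * (l + m + 1) = e * (l + m) + e := by ring
      have := hp.out.pos
      omega
    have h1 := hmom (e * (l + m)) (e * l) hk (Nat.mul_le_mul_left e (by omega))
    have h2 : e * (l + m) - e * l = e * m := by
      rw [← Nat.mul_sub]
      congr 1
      omega
    rw [h2, hE _ (dvd_mul_right e l), hμ, hμ, hμ] at h1
    have h3 : ∀ n, ∑ a ∈ S, a ^ (e * n) = ∑ a ∈ S, (a ^ e) ^ n := fun n =>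
      sum_congr rfl fun a _ => pow_mul a e n
    rw [h3, h3, h3] at h1
    set P := ∑ a ∈ S, (a ^ e) ^ l
    set Q := ∑ a ∈ S, (a ^ e) ^ m
    set W := ∑ a ∈ S, (a ^ e) ^ (l + m)
    apply mul_left_cancel₀ hTbar
    have h4 : (T₀ : ZMod p) * (P * Q) = (T₀ : ZMod p) * ((ε : ZMod p) * (ε : ZMod p)) * (P * Q) := by
      rw [hε2, mul_one]
    rw [h4]
    have h5 : (T₀ : ZMod p) * ((S.card : ZMod p) * W) = (ε : ZMod p) * (W * ((T₀ : ZMod p) * ((ε : ZMod p) * (S.card : ZMod p)))) := by
      linear_combination (-((T₀ : ZMod p) * (S.card : ZMod p) * W)) * hε2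
    rw [h5, hTX]
    linear_combination h1
  have hshape := subset_shape he het S h0S hSne hinv hprod
  rcases hshape with ⟨b, hb⟩ | h
  · left
    refine ⟨b, fun a => ?_⟩
    by_cases ha : a ∈ S
    · have h1 := (hb a).1 ha
      rw [if_pos h1]
      rcases hval a with h2 | h2
      · exact absurd h2 ((hS a).1 ha)
      · exact h2
    · have h1 : ¬ (a ≠ 0 ∧ a ^ e = b) := fun h2 => ha ((hb a).2 h2)
      rw [if_neg h1]
      by_contra h2
      exact ha ((hS a).2 h2)
  · right
    intro a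
    by_cases ha : a ∈ S
    · have h1 := (h a).1 ha
      rw [if_pos h1]
      rcases hval a with h2 | h2
      · exact absurd h2 ((hS a).1 ha)
      · exact h2
    · have h1 : ¬ (a ≠ 0) := fun h2 => ha ((h a).2 h2)
      rw [if_neg h1]
      by_contra h2
      exact ha ((hS a).2 h2)

end Main

end Cfsg.Agent.Lib.DefectOne
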