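import Mathlib
import Cfsg.Agent.Lib.DefectOne.Local
import Cfsg.Agent.Lib.DefectOne.SimpleDim

/-!
# Multiplicities: the group theoretic form of the core estimate
-/

set_option autoImplicit false
set_option linter.unusedSectionVars false

namespace Cfsg.Agent.Lib.DefectOne

open Module Matrix Cfsg Subgroup
open scoped ComplexConjugate

universe u

section Idem

variable {Γ : Type*} [Group Γ] {d : ℕ}

/-- The trace on the image of a commuting idempotent is a character. -/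
theorem isCharacter_trace_idem (R : Γ →* Matrix (Fin d) (Fin d) ℂ) (Q : Matrix (Fin d) (Fin d) ℂ)
    (hQ : Q * Q = Q) (hc : ∀ g, R g * Q = Q * R g) : IsCharacter Γ (fun g => (R g * Q).trace) := by
  classical
  let W : Submodule ℂ (Fin d → ℂ) := LinearMap.range (Matrix.toLin' Q)
  have hQW : ∀ w ∈ W, Q *ᵥ w = w := by
    rintro _ ⟨v, rfl⟩
    rw [Matrix.toLin'_apply, Matrix.mulVec_mulVec, hQ]
  let r : (Fin d → ℂ) →ₗ[ℂ] W := (Matrix.toLin' Q).rangeRestrict
  let i : W →ₗ[ℂ] (Fin d → ℂ) := W.subtype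
  let ρ : Representation ℂ Γ W :=
    { toFun := fun g => r ∘ₗ (Matrix.toLin' (R g)) ∘ₗ i
      map_one' := by
        ext w : 1
        apply Subtype.ext
        show Q *ᵥ (R 1 *ᵥ (w : Fin d → ℂ)) = w
        rw [map_one, Matrix.one_mulVec, hQW _ w.2]
      map_mul' := fun a b => by
        ext w : 1
        apply Subtype.ext
        show Q *ᵥ (R (a * b) *ᵥ (w : Fin d → ℂ)) = Q *ᵥ (R a *ᵥ (Q *ᵥ (R b *ᵥ (w : Fin d → ℂ))))
        have h1 : Q *ᵥ (R b *ᵥ (w : Fin d → ℂ)) = R b *ᵥ (w : Fin d → ℂ) := by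
          rw [Matrix.mulVec_mulVec, ← hc b, ← Matrix.mulVec_mulVec, hQW _ w.2]
        rw [h1, map_mul, ← Matrix.mulVec_mulVec] }
  have hchar : ρ.character = fun g => (R g * Q).trace := by
    funext g
    have h1 := LinearMap.trace_comp_comm' (R := ℂ) (r) ((Matrix.toLin' (R g)) ∘ₗ i)
    show LinearMap.trace ℂ W (r ∘ₗ (Matrix.toLin' (R g)) ∘ₗ i) = _
    rw [← h1]
    have h2 : ((Matrix.toLin' (R g)) ∘ₗ i) ∘ₗ r = Matrix.toLin' (R g * Q) := by
      refine LinearMap.ext fun v => ?_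
      show R g *ᵥ (Q *ᵥ v) = (R g * Q) *ᵥ v
      rw [Matrix.mulVec_mulVec]
    rw [h2, Matrix.trace_toLin'_eq]
  rw [← hchar]
  exact Cfsg.Agent.Lib.Char.Basic.isCharacter_of_rep ρ

end Idem

section Over

variable {G : Type u} [Group G] [Fintype G] {K H : Subgroup G} [Fintype K] [Fintype H] {n d : ℕ}

lemma eq_zero_of_rank_eq_zero {Q : Matrix (Fin n) (Fin n) ℂ} (h : Q.rank = 0) : Q = 0 := by
  have h1 : LinearMap.range Q.mulVecLin = ⊥ := Submodule.finrank_eq_zero.1 h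
  have h2 := LinearMap.range_eq_bot.1 h1
  have h3 : Matrix.toLin' Q = 0 := by
    rw [Matrix.toLin'_apply']
    exact h2
  exact (LinearEquiv.map_eq_zero_iff _).1 h3

/-- Vanishing of `e_ψ e_φ` if `ψ` does not lie over `φ`. -/
theorem idem_mul_eq_zero (hHK : H ≤ K) (R : G →* Matrix (Fin n) (Fin n) ℂ) {ψ : K → ℂ} (hψ : IsIrrCharacter K ψ)
    {φ : H → ℂ} (hφ : IsIrrCharacter H φ)
    (h0 : ∑ y : H, ψ ⟨y, hHK y.2⟩ * φ y⁻¹ = 0) :
    (∑ w : K, idemCoeff ψ w • R w) * (∑ y : H, idemCoeff φ y • R y) = 0 := by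
  classical
  obtain ⟨m, Rψ, -, hψ1, htr, -⟩ := exists_irr_matrix hψ
  let ι : H →* K := Subgroup.inclusion hHK
  have hι : ∀ y : H, ι y = ⟨y, hHK y.2⟩ := fun y => rfl
  let φ' : IrrCharacter H := ⟨φ, hφ⟩
  let Λ : Matrix (Fin m) (Fin m) ℂ := ∑ y : H, idemCoeff φ y • (Rψ.comp ι) y
  have hΛ : Λ * Λ = Λ := by
    have := idem_matrix (Rψ.comp ι) φ' φ'
    rwa [if_pos rfl] at this
  have htrΛ : Λ.trace = 0 := by
    simp only [Λ, Matrix.trace_sum, Matrix.trace_smul, MonoidHom.comp_apply, htr, smul_eq_mul, idemCoeff]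
    have h1 : ∀ y : H, φ 1 * φ y⁻¹ / (Nat.card H : ℂ) * ψ (ι y) = (φ 1 / Nat.card H) * (ψ ⟨y, hHK y.2⟩ * φ y⁻¹) := by
      intro y
      rw [hι]
      ring
    simp_rw [h1]
    rw [← Finset.mul_sum, h0, mul_zero]
  have hΛ0 : Λ = 0 := by
    have h1 := rank_eq_trace hΛ
    rw [htrΛ] at h1
    have h2 : Λ.rank = 0 := by exact_mod_cast h1
    exact eq_zero_of_rank_eq_zero h2
  have hz : ∀ z : K, ∑ y : H, idemCoeff φ y * ψ (ι y * z⁻¹) = 0 := by
    intro z
    have h1 : (Λ * Rψ z⁻¹).trace = ∑ y : H, idemCoeff φ y * ψ (ι y * z⁻¹) := by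
      simp only [Λ, Finset.sum_mul, Matrix.trace_sum, Matrix.smul_mul, Matrix.trace_smul, MonoidHom.comp_apply,
        ← map_mul, htr, smul_eq_mul]
    rw [← h1, hΛ0, zero_mul, Matrix.trace_zero]
  rw [Finset.mul_sum]
  have h2 : ∀ y : H, (∑ w : K, idemCoeff ψ w • R w) * (idemCoeff φ y • R y) =
      ∑ z : K, (idemCoeff ψ (z * (ι y)⁻¹) * idemCoeff φ y) • R z := by
    intro y
    rw [Finset.sum_mul, ← Equiv.sum_comp (Equiv.mulRight (ι y))
      (fun z : K => (idemCoeff ψ (z * (ι y)⁻¹) * idemCoeff φ y) • R z)]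
    refine Finset.sum_congr rfl fun w _ => ?_
    simp only [Equiv.coe_mulRight, mul_inv_cancel_right, Matrix.smul_mul, Matrix.mul_smul, smul_smul]
    have h5 : R ((w * ι y : K) : G) = R w * R y := map_mul R _ _
    rw [h5, mul_comm (idemCoeff φ y)]
  simp_rw [h2]
  rw [Finset.sum_comm]
  refine Finset.sum_eq_zero fun z _ => ?_
  rw [← Finset.sum_smul]
  have h3 : ∑ y : H, idemCoeff ψ (z * (ι y)⁻¹) * idemCoeff φ y =
      (ψ 1 / Nat.card K) * ∑ y : H, idemCoeff φ y * ψ (ι y * z⁻¹) := by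
    rw [Finset.mul_sum]
    refine Finset.sum_congr rfl fun y _ => ?_
    unfold idemCoeff
    rw [_root_.mul_inv_rev, inv_inv]
    ring
  rw [h3, hz, mul_zero, zero_smul]

end Over

section Main

variable {G : Type u} [Group G] [Fintype G] {p : ℕ} [hp : Fact p.Prime] {x : G} {H : Subgroup G}
  [Fintype H] (hL : LocalData p x H) {n : ℕ}

/-- `H` lies in the inertia group; the element `y` conjugates by an inner automorphism of `H`. -/
lemma H_le_TT {φ : H → ℂ} (hφ : IsClassFunction H φ) : H ≤ TT hL φ := fun _ hy =>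
  mem_TT_of_comm hL hφ (hL.comm _ hy)

/-- Conjugation of the idempotent of `H`. -/
lemma conj_ER (R : G →* Matrix (Fin n) (Fin n) ℂ) (φ : H → ℂ) {g : G} (hg : g ∈ normalizer (zpowers x : Set G)) :
    R g * (∑ y : H, idemCoeff φ y • R y) * R g⁻¹ =
      ∑ y : H, idemCoeff (fun z => φ (conjH hL g⁻¹ (Subgroup.inv_mem _ hg) z)) y • R y := by
  rw [Finset.mul_sum, Finset.sum_mul]
  rw [← Equiv.sum_comp (conjH hL g hg).toEquiv (fun y : H =>
    idemCoeff (fun z => φ (conjH hL g⁻¹ (Subgroup.inv_mem _ hg) z)) y • R y)]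
  refine Finset.sum_congr rfl fun y _ => ?_
  have h1 : R g * (idemCoeff φ y • R y) * R g⁻¹ = idemCoeff φ y • R (conjH hL g hg y) := by
    rw [Matrix.mul_smul, Matrix.smul_mul, ← map_mul, ← map_mul]
    rfl
  rw [h1]
  congr 1
  unfold idemCoeff
  have h2 : conjH hL g⁻¹ (Subgroup.inv_mem _ hg) = (conjH hL g hg).symm := by
    ext z
    show g⁻¹ * z * g⁻¹⁻¹ = g⁻¹ * z * g
    rw [inv_inv]
  simp only [h2, MulEquiv.toEquiv_eq_coe, EquivLike.coe_coe, map_one, map_inv, MulEquiv.symm_apply_apply]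

/-- The function `y ↦ p⁻¹ ∑ w^{-i} χ(x^i y)`. -/
noncomputable def psiA (x : G) (H : Subgroup G) (χ : G → ℂ) (w : ℂ) (y : H) : ℂ :=
  (p : ℂ)⁻¹ * ∑ i : ZMod p, (w⁻¹) ^ i.val * χ (XX x i * y)

omit [Fintype G] [Fintype H] in
lemma sum_range_eq_sum_zmod {A : Type*} [AddCommMonoid A] (f : ℕ → A) :
    ∑ i ∈ Finset.range p, f i = ∑ i : ZMod p, f i.val := by
  obtain ⟨m, hm⟩ : ∃ m, p = m + 1 := ⟨p - 1, (Nat.sub_add_cancel hp.out.pos).symm⟩
  subst hm
  rw [Finset.sum_range]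
  rfl

include hL in
/-- The link between `psiA` and the eigenprojection. -/
lemma psiA_eq_trace (R : G →* Matrix (Fin n) (Fin n) ℂ) {χ : G → ℂ} (htr : ∀ g, (R g).trace = χ g) (w : ℂ) (y : H) :
    psiA (p := p) x H χ w y = (R y * eigP p (R x) w).trace := by
  unfold psiA eigP
  rw [Matrix.mul_smul, Matrix.trace_smul, smul_eq_mul]
  congr 1
  rw [Finset.mul_sum, Matrix.trace_sum, sum_range_eq_sum_zmod]
  refine Finset.sum_congr rfl fun i _ => ?_
  rw [Matrix.mul_smul, Matrix.trace_smul, smul_eq_mul, ← htr]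
  congr 2
  have h2 : R (y * XX x i) = R (XX x i * y) := by
    rw [hL.comm_XX y.2]
  rw [← h2, map_mul]
  congr 1
  unfold XX
  rw [map_pow]

include hL in
theorem isCharacter_psiA (R : G →* Matrix (Fin n) (Fin n) ℂ) {χ : G → ℂ} (htr : ∀ g, (R g).trace = χ g)
    {w : ℂ} (hw : w ^ p = 1) : IsCharacter H (psiA (p := p) x H χ w) := by
  have h1 : psiA (p := p) x H χ w = fun y : H => ((R.comp H.subtype) y * eigP p (R x) w).trace := by
    funext y
    exact psiA_eq_trace hL R htr w y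
  rw [h1]
  have hRx : R x ^ p = 1 := by
    rw [← map_pow]
    have : x ^ p = 1 := by
      have := pow_orderOf_eq_one x
      rwa [hL.ord] at this
    rw [this, map_one]
  refine isCharacter_trace_idem _ _ (eigP_mul_self hRx hw) fun y => ?_
  refine comm_eigP (X := R x) (E := R y) ?_
  rw [← map_mul, ← map_mul, hL.comm y y.2]

include hL in
/-- Rank of `P E` as a multiple of the multiplicity. -/
lemma rank_Q_eq (R : G →* Matrix (Fin n) (Fin n) ℂ) {χ : G → ℂ} (htr : ∀ g, (R g).trace = χ g)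
    {φ : H → ℂ} (hφ : IsIrrCharacter H φ) {w : ℂ} (hw : w ^ p = 1) :
    (((eigP p (R x) w * ∑ y : H, idemCoeff φ y • R y).rank : ℕ) : ℂ) =
      φ 1 * classInner (psiA (p := p) x H χ w) φ := by
  classical
  set E := ∑ y : H, idemCoeff φ y • R y with hE
  set P := eigP p (R x) w with hP
  have hRx : R x ^ p = 1 := by
    rw [← map_pow]
    have : x ^ p = 1 := by
      have := pow_orderOf_eq_one x
      rwa [hL.ord] at this
    rw [this, map_one]
  have hPP : P * P = P := eigP_mul_self hRx hw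
  have hEE : E * E = E := by
    have := idem_matrix (R.comp H.subtype) (⟨φ, hφ⟩ : IrrCharacter H) ⟨φ, hφ⟩
    rwa [if_pos rfl] at this
  have hXE : R x * E = E * R x := by
    rw [hE, Finset.mul_sum, Finset.sum_mul]
    refine Finset.sum_congr rfl fun y _ => ?_
    rw [Matrix.mul_smul, Matrix.smul_mul, ← map_mul, ← map_mul, hL.comm y y.2]
  have hEP : E * P = P * E := comm_eigP hXE
  have hQQ : (P * E) * (P * E) = P * E := by
    calc (P * E) * (P * E) = P * (E * P) * E := by simp only [mul_assoc]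
      _ = (P * P) * (E * E) := by rw [hEP]; simp only [mul_assoc]
      _ = P * E := by rw [hPP, hEE]
  rw [rank_eq_trace hQQ]
  unfold classInner
  rw [hE, Finset.mul_sum, Matrix.trace_sum, Finset.mul_sum, Finset.mul_sum]
  refine Finset.sum_congr rfl fun y _ => ?_
  rw [Matrix.mul_smul, Matrix.trace_smul, smul_eq_mul, Matrix.trace_mul_comm, ← psiA_eq_trace hL R htr w y]
  rw [← Cfsg.Agent.Lib.Char.Ortho.character_inv_of_isCharacter (Cfsg.Agent.Lib.Char.Basic.isCharacter_of_isIrrCharacter hφ)]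
  unfold idemCoeff
  ring

/-- The multiplicities. -/
noncomputable def mm (p : ℕ) [Fact p.Prime] (x : G) (H : Subgroup G) [Fintype H] (χ : G → ℂ) (φ : H → ℂ) (w : ℂ) : ℕ :=
  ⌊(classInner (psiA (p := p) x H χ w) φ).re⌋₊

include hL in
lemma mm_spec {χ : G → ℂ} (hχ : IsIrrCharacter G χ) {φ : H → ℂ} (hφ : IsIrrCharacter H φ) {w : ℂ} (hw : w ^ p = 1) :
    (mm p x H χ φ w : ℂ) = classInner (psiA (p := p) x H χ w) φ := by
  obtain ⟨d, R, -, -, htr, -⟩ := exists_irr_matrix hχ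
  obtain ⟨m, hm⟩ := Cfsg.Agent.Lib.Char.Ortho.exists_nat_classInner_of_isCharacter
    (isCharacter_psiA hL R htr hw) (Cfsg.Agent.Lib.Char.Basic.isCharacter_of_isIrrCharacter hφ)
  unfold mm
  rw [hm]
  simp

include hL in
/-- The cyclic quotient. -/
lemma isCyclic_quot {K : Subgroup G} [(H.subgroupOf K).Normal] (hKN : K ≤ normalizer (zpowers x : Set G)) (hHK : H ≤ K)
    (hK : ¬ p ∣ Nat.card K) : IsCyclic (K ⧸ H.subgroupOf K) := by
  classical
  let F : K →* (ZMod p)ˣ := (alphaHom hL).comp (Subgroup.inclusion hKN)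
  have h1 : ∀ a ∈ H.subgroupOf K, F a = 1 := by
    intro a ha
    rw [Subgroup.mem_subgroupOf] at ha
    exact (alphaHom_eq_one_iff hL _).2 (hL.comm _ ha)
  let L : K ⧸ H.subgroupOf K →* (ZMod p)ˣ := QuotientGroup.lift _ F h1
  refine isCyclic_of_injective L ?_
  rw [injective_iff_map_eq_one]
  intro q hq
  obtain ⟨w, rfl⟩ := QuotientGroup.mk_surjective q
  have h2 : F w = 1 := hq
  have h3 : (w : G) * x = x * w := (alphaHom_eq_one_iff hL _).1 h2
  have h4 : ¬ p ∣ orderOf (w : G) := by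
    intro hd
    apply hK
    exact hd.trans (Subgroup.orderOf_dvd_natCard K w.2)
  have h5 : (w : G) ∈ H := hL.mem_iff.2 ⟨h3, h4⟩
  exact (QuotientGroup.eq_one_iff w).2 (Subgroup.mem_subgroupOf.2 h5)

include hL in
/-- Degree of characters of `K` lying over `φ`. -/
lemma degree_over {K : Subgroup G} [Fintype K] {φ : H → ℂ} (hφ : IsIrrCharacter H φ)
    (hKT : K ≤ TT hL φ) (hHK : H ≤ K) (hK : ¬ p ∣ Nat.card K) {ψ : K → ℂ} (hψ : IsIrrCharacter K ψ)
    (hne : ∑ y : H, ψ ⟨y, hHK y.2⟩ * φ y⁻¹ ≠ 0) : ψ 1 = φ 1 := by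
  classical
  let N : Subgroup K := H.subgroupOf K
  haveI hN : N.Normal := by
    constructor
    intro n hn g
    rw [Subgroup.mem_subgroupOf] at hn ⊢
    exact hL.conj_mem_H (TT_le hL φ (hKT g.2)) hn
  letI : Fintype N := Fintype.ofFinite _
  let e : N ≃* H := Subgroup.subgroupOfEquivOfLe hHK
  have he : ∀ n : N, (e n : G) = ((n : K) : G) := fun n => rfl
  let φ' : N → ℂ := φ ∘ e
  have hφ' : IsIrrCharacter N φ' :=
    Cfsg.Agent.Lib.Char.Basic.isIrrCharacter_comp_surjective hφ e.toMonoidHom e.surjective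
  have hinv : ∀ (g : K) (n : N), φ' ⟨g * n * g⁻¹, hN.conj_mem (n : K) n.2 g⟩ = φ' n := by
    intro g n
    obtain ⟨hg, hg'⟩ := hKT g.2
    have h1 := hg' (e n)
    show φ (e ⟨g * n * g⁻¹, hN.conj_mem (n : K) n.2 g⟩) = φ (e n)
    rw [← h1]
    congr 1
  have h : classInner (fun n : N => ψ n) φ' ≠ 0 := by
    unfold classInner
    have hc : (Nat.card N : ℂ) ≠ 0 := by exact_mod_cast Nat.card_pos.ne'
    refine mul_ne_zero (inv_ne_zero hc) ?_
    have h1 : ∑ n : N, ψ n * conj (φ' n) = ∑ y : H, ψ ⟨y, hHK y.2⟩ * φ y⁻¹ := by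
      rw [← Equiv.sum_comp e.toEquiv (fun y : H => ψ ⟨y, hHK y.2⟩ * φ y⁻¹)]
      refine Finset.sum_congr rfl fun n _ => ?_
      rw [Cfsg.Agent.Lib.Char.Ortho.character_inv_of_isCharacter (Cfsg.Agent.Lib.Char.Basic.isCharacter_of_isIrrCharacter hφ)]
      rfl
    rw [h1]
    exact hne
  have hcyc : IsCyclic (K ⧸ N) :=
    @isCyclic_quot G _ _ p _ x H _ hL K hN (hKT.trans (TT_le hL φ)) hHK hK
  have h2 := degree_eq_of_cyclic N hcyc hφ' hinv hψ h
  rw [h2]
  show φ (e 1) = φ 1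
  rw [map_one]

include hL in
/-- **Theorem A.** The multiplicities of the characters over `φ` of `C_G(x) = ⟨x⟩ × H` in an irreducible
character of `G` differ by at most one. -/
theorem mm_le {χ : G → ℂ} (hχ : IsIrrCharacter G χ) {φ : H → ℂ} (hφ : IsIrrCharacter H φ)
    {ζ : ℂ} (hζ : IsPrimitiveRoot ζ p) (a b : ℕ) :
    mm p x H χ φ (ζ ^ a) ≤ mm p x H χ φ (ζ ^ b) + 1 := by
  classical
  obtain ⟨d, R, hd, hχ1, htr, hirr⟩ := exists_irr_matrix hχ
  obtain ⟨O, hOint, hOp⟩ := exists_val p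
  obtain ⟨B, A, hdet, hA, hFit⟩ := exists_fit_form O R hirr hd
  have hφc := Cfsg.Agent.Lib.Char.Basic.isCharacter_of_isIrrCharacter hφ
  have hφcl : IsClassFunction H φ := Cfsg.Agent.Lib.Char.Basic.isClassFunction_of_isCharacter hφc
  set T := TT hL φ with hT
  have hxT : x ∈ T := mem_TT_of_comm hL hφcl rfl
  have hTN : T ≤ normalizer (zpowers x : Set G) := TT_le hL φ
  obtain ⟨K, hKT, hK, hTPK⟩ := exists_K hL T hTN hxT
  letI : Fintype K := Fintype.ofFinite _
  have hPT : zpowers x ≤ T := by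
    rw [Subgroup.zpowers_le]
    exact hxT
  have hKn : ∀ w ∈ K, ∀ u ∈ zpowers x, w⁻¹ * u * w ∈ zpowers x := by
    intro w hw u hu
    have h1 := Subgroup.inv_mem _ (hTN (hKT hw))
    have h2 := ((Subgroup.mem_normalizer_iff.1 h1) u).1 hu
    simpa using h2
  have hHT : H ≤ T := H_le_TT hL hφcl
  have hHK : H ≤ K := by
    intro y hy
    obtain ⟨u, hu, w, hw, huw⟩ := hTPK y (hHT hy)
    obtain ⟨i, rfl⟩ := exists_XX_of_mem hL.ord hu
    have h1 : (w : G) = (XX x i)⁻¹ * y := by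
      rw [huw]
      group
    have h2 : w * x = x * w := by
      have h3 : XX x i * x = x * XX x i := by
        have : Commute (XX x i) x := by
          unfold XX
          exact (Commute.refl x).pow_left _
        exact this.eq
      have h4 : (XX x i)⁻¹ * x = x * (XX x i)⁻¹ := by
        have : Commute (XX x i)⁻¹ x := Commute.inv_left h3
        exact this.eq
      rw [h1, mul_assoc, hL.comm y hy, ← mul_assoc, h4, mul_assoc]
    have h5 : ¬ p ∣ orderOf w := by
      intro hd'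
      apply hK
      exact hd'.trans (Subgroup.orderOf_dvd_natCard K hw)
    have h6 : w ∈ H := hL.mem_iff.2 ⟨h2, h5⟩
    have h7 : XX x i = y * w⁻¹ := by
      rw [huw]
      group
    have h8 : XX x i ∈ H := by
      rw [h7]
      exact H.mul_mem hy (H.inv_mem h6)
    have h9 := hL.XX_mem_H h8
    subst h9
    rw [XX_zero, one_mul] at huw
    rw [huw]
    exact hw
  obtain ⟨f, hf0, hf⟩ := Cfsg.Agent.Lib.Char.Ortho.irr_degree_pos hφ
  let c : H → O := fun y => ⟨idemCoeff φ y, idemCoeff_mem O hOint hOp hL.cop hφ y⟩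
  have hE : ∑ y : H, ((c y : O) : ℂ) • R y = ∑ y : H, idemCoeff φ y • R y := rfl
  have hEE : (∑ y : H, ((c y : O) : ℂ) • R y) * (∑ y : H, ((c y : O) : ℂ) • R y) = ∑ y : H, ((c y : O) : ℂ) • R y := by
    have := idem_matrix (R.comp H.subtype) (⟨φ, hφ⟩ : IrrCharacter H) ⟨φ, hφ⟩
    rwa [if_pos rfl] at this
  have hconjT : ∀ t ∈ T, R t * (∑ y : H, idemCoeff φ y • R y) * R t⁻¹ = ∑ y : H, idemCoeff φ y • R y := by
    intro t ht
    rw [conj_ER hL R φ (hTN ht)]
    have h1 : (fun z => φ (conjH hL t⁻¹ (Subgroup.inv_mem _ (hTN ht)) z)) = φ := by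
      funext z
      exact (T.inv_mem ht).2 z ▸ rfl
    rw [h1]
  have hET : ∀ t ∈ T, (∑ y : H, ((c y : O) : ℂ) • R y) * R t = R t * ∑ y : H, ((c y : O) : ℂ) • R y := by
    intro t ht
    have h1 : R t⁻¹ * R t = 1 := by rw [← map_mul]; simp
    rw [hE]
    calc (∑ y : H, idemCoeff φ y • R y) * R t
        = (R t * (∑ y : H, idemCoeff φ y • R y) * R t⁻¹) * R t := by rw [hconjT t ht]
      _ = R t * (∑ y : H, idemCoeff φ y • R y) * (R t⁻¹ * R t) := by simp only [mul_assoc]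
      _ = R t * ∑ y : H, idemCoeff φ y • R y := by rw [h1, mul_one]
  have hfix : ∀ g : G, g ∉ T → (∀ u ∈ zpowers x, g⁻¹ * u * g ∈ T) →
      R g * (∑ y : H, ((c y : O) : ℂ) • R y) * R g⁻¹ * (∑ y : H, ((c y : O) : ℂ) • R y) = 0 := by
    intro g hg hg'
    have hgN : g ∈ normalizer (zpowers x : Set G) :=
      mem_normalizer_of_conj_mem hL (hTN (hg' x (Subgroup.mem_zpowers x)))
    rw [hE, conj_ER hL R φ hgN]
    let e : H ≃* H := conjH hL g⁻¹ (Subgroup.inv_mem _ hgN)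
    have hφ'' : IsIrrCharacter H (φ ∘ e) :=
      Cfsg.Agent.Lib.Char.Basic.isIrrCharacter_comp_surjective hφ e.toMonoidHom e.surjective
    have hne : (⟨φ ∘ e, hφ''⟩ : IrrCharacter H) ≠ ⟨φ, hφ⟩ := by
      intro h0
      have h1 : φ ∘ e = φ := congrArg Subtype.val h0
      apply hg
      refine ⟨hgN, fun y => ?_⟩
      have h2 := congrFun h1 (conjH hL g hgN y)
      rw [← h2]
      show φ (e (conjH hL g hgN y)) = φ y
      congr 1
      apply Subtype.ext
      show g⁻¹ * (g * y * g⁻¹) * g⁻¹⁻¹ = y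
      group
    have := idem_matrix (R.comp H.subtype) (⟨φ ∘ e, hφ''⟩ : IrrCharacter H) ⟨φ, hφ⟩
    rwa [if_neg hne] at this
  let Φ : Matrix (Fin d) (Fin d) O →+* Matrix (Fin d) (Fin d) ℂ := O.subtype.mapMatrix
  have hΦinj : Function.Injective Φ := by
    intro X Y hXY
    ext a b
    exact congrFun (congrFun hXY a) b
  have hΦA : ∀ g, Φ (A g) = B⁻¹ * R g * B := hA
  have hBu : IsUnit B.det := isUnit_iff_ne_zero.2 hdet
  have hBinv' : B * B⁻¹ = 1 := Matrix.mul_nonsing_inv _ hBu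
  have hΦsum : ∀ {ι : Type _} [Fintype ι] (c' : ι → O) (s' : ι → G),
      Φ (∑ i, c' i • A (s' i)) = B⁻¹ * (∑ i, (c' i : ℂ) • R (s' i)) * B := by
    intro ι _ c' s'
    rw [map_sum, Finset.mul_sum, Finset.sum_mul]
    refine Finset.sum_congr rfl fun i _ => ?_
    have h1 : Φ (c' i • A (s' i)) = (c' i : ℂ) • Φ (A (s' i)) := by
      ext a b
      simp [Φ]
    rw [h1, hΦA]
    simp [Matrix.mul_smul, Matrix.smul_mul]
  have hdim : ∀ U : Submodule (IsLocalRing.ResidueField O) (Fin d → IsLocalRing.ResidueField O),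
      U ≤ LinearMap.range (redEnd O (∑ y : H, c y • A y)) → KStable (rhoK O A) K U → U ≠ ⊥ →
      (∀ U' : Submodule (IsLocalRing.ResidueField O) (Fin d → IsLocalRing.ResidueField O), U' ≤ U →
        KStable (rhoK O A) K U' → U' = ⊥ ∨ U' = U) → finrank (IsLocalRing.ResidueField O) U ≤ f := by
    intro U hU hUK hU0 hUs
    obtain ⟨ψ, c', dd, hψ, hc', hψ1, hfin, u, huU, hu⟩ := exists_irr_of_simple (p := p) O hOint hOp hK
      (A.comp K.subtype) U (fun w v hv => hUK w w.2 v hv) hU0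
      (fun U' hU' hs => hUs U' hU' (fun w hw v hv => hs ⟨w, hw⟩ v hv))
    obtain ⟨u', rfl⟩ := hU huU
    have hne : ∑ y : H, ψ ⟨y, hHK y.2⟩ * φ y⁻¹ ≠ 0 := by
      intro h0
      have h1 := idem_mul_eq_zero hHK R hψ hφ h0
      apply hu
      rw [← Module.End.mul_apply, ← map_mul]
      have h2 : (∑ w : K, c' w • (A.comp K.subtype) w) * (∑ y : H, c y • A y) = 0 := by
        apply hΦinj
        rw [map_mul, map_zero]
        have h3 := hΦsum c' (fun w : K => (w : G))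
        have h4 := hΦsum c (fun y : H => (y : G))
        have h5 : ∑ w : K, c' w • (A.comp K.subtype) w = ∑ w : K, c' w • A w := rfl
        rw [h5, h3, h4]
        calc B⁻¹ * (∑ w : K, (c' w : ℂ) • R w) * B * (B⁻¹ * (∑ y : H, ((c y : O) : ℂ) • R y) * B)
            = B⁻¹ * (∑ w : K, (c' w : ℂ) • R w) * (B * B⁻¹) * (∑ y : H, ((c y : O) : ℂ) • R y) * B := by
              simp only [mul_assoc]
          _ = B⁻¹ * ((∑ w : K, (c' w : ℂ) • R w) * (∑ y : H, ((c y : O) : ℂ) • R y)) * B := by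
              rw [hBinv']
              simp only [mul_one, mul_assoc]
          _ = 0 := by
              have h6 : ∑ w : K, (c' w : ℂ) • R w = ∑ w : K, idemCoeff ψ w • R w :=
                Finset.sum_congr rfl fun w _ => by rw [hc']
              rw [h6, hE, h1]
              simp
      rw [h2, map_zero]
      rfl
    have h1 := degree_over hL hφ hKT hHK hK hψ hne
    rw [hψ1, hf] at h1
    have h2 : dd = f := by exact_mod_cast h1
    rw [← h2]
    exact hfin
  have hbound := core_estimate O hOint hOp R B A hdet hA hFit hL.ord hζ hPT hTPK hKT hKn hK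
    (fun y : H => (y : G)) c hEE hET hfix f hdim a b
  rw [hE] at hbound
  have hzp : ∀ a : ℕ, (ζ ^ a) ^ p = 1 := fun a => by
    rw [← pow_mul, mul_comm, pow_mul, hζ.pow_eq_one, one_pow]
  have hr : ∀ a : ℕ, (eigP p (R x) (ζ ^ a) * ∑ y : H, idemCoeff φ y • R y).rank = f * mm p x H χ φ (ζ ^ a) := by
    intro a
    have h1 := rank_Q_eq hL R htr hφ (hzp a)
    rw [← mm_spec hL hχ hφ (hzp a), hf] at h1
    exact_mod_cast h1
  rw [hr, hr] at hbound
  have h3 : f * mm p x H χ φ (ζ ^ a) ≤ f * (mm p x H χ φ (ζ ^ b) + 1) := by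
    rw [mul_add, mul_one]
    exact hbound
  exact Nat.le_of_mul_le_mul_left h3 hf0

end Main

end Cfsg.Agent.Lib.DefectOne
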