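import Mathlib
import Cfsg.Agent.Lib.DefectOne.ThmAGroup
import Cfsg.Agent.Lib.Char.ClassMul

/-!
# The product formula modulo `p`
-/

set_option autoImplicit false
set_option linter.unusedSectionVars false

namespace Cfsg.Agent.Lib.DefectOne

open Cfsg Subgroup Finset

universe u

section Free

/-- Sum of an invariant function over a set with a free action. -/
lemma sum_eq_card_mul_of_free {Γ X : Type*} [Group Γ] [Fintype Γ] [Fintype X] [MulAction Γ X]
    (hfree : ∀ (γ : Γ) (z : X), γ • z = z → γ = 1) (F : X → ℂ) (hF : ∀ (γ : Γ) z, F (γ • z) = F z) :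
    ∃ Ω : Finset X, ∑ z, F z = (Fintype.card Γ : ℂ) * ∑ z ∈ Ω, F z := by
  classical
  let Q := MulAction.orbitRel.Quotient Γ X
  letI : Fintype Q := Fintype.ofFinite _
  let q : X → Q := Quotient.mk _
  refine ⟨univ.image (fun ω : Q => ω.out), ?_⟩
  have hinj : Function.Injective (fun ω : Q => ω.out) := Quotient.out_injective
  rw [sum_image (fun a _ b _ h => hinj h), mul_sum]
  rw [← sum_fiberwise univ q F]
  refine sum_congr rfl fun ω _ => ?_
  have hfib : ∀ z ∈ univ.filter (fun z => q z = ω), F z = F ω.out := by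
    intro z hz
    have h1 : q z = ω := (mem_filter.1 hz).2
    have h2 : q ω.out = ω := Quotient.out_eq ω
    have h3 : q z = q ω.out := h1.trans h2.symm
    obtain ⟨γ, hγ⟩ := Quotient.exact h3
    rw [← hγ, hF]
  rw [sum_congr rfl hfib, sum_const, nsmul_eq_mul]
  congr 2
  have h4 : (univ.filter (fun z => q z = ω)).card = (univ : Finset Γ).card := by
    refine (card_bij (fun (γ : Γ) _ => γ • ω.out) ?_ ?_ ?_).symm
    · intro γ _
      refine mem_filter.2 ⟨mem_univ _, ?_⟩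
      have h5 : q (γ • ω.out) = q ω.out := Quotient.sound ⟨γ, rfl⟩
      rw [h5]
      exact Quotient.out_eq ω
    · intro a _ b _ hab
      have hab' : a • ω.out = b • ω.out := hab
      have h5 : (b⁻¹ * a) • ω.out = ω.out := by
        rw [mul_smul, hab', inv_smul_smul]
      have h6 := hfree _ _ h5
      exact (inv_mul_eq_one.1 h6).symm
    · intro z hz
      have h1 : q z = ω := (mem_filter.1 hz).2
      have h2 : q ω.out = ω := Quotient.out_eq ω
      have h3 : q z = q ω.out := h1.trans h2.symm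
      obtain ⟨γ, hγ⟩ := Quotient.exact h3
      exact ⟨γ, mem_univ _, hγ⟩
  rw [h4]
  rfl

end Free

section Main

variable {G : Type u} [Group G] [Fintype G] {p : ℕ} [hp : Fact p.Prime] {x : G} {H : Subgroup G}
  [Fintype H] (hL : LocalData p x H)

/-- The value of `χ` on `u e_φ`. -/
noncomputable def SS (H : Subgroup G) [Fintype H] (χ : G → ℂ) (φ : H → ℂ) (u : G) : ℂ :=
  ∑ y : H, idemCoeff φ y * χ (u * y)

/-- The double sum function. -/
noncomputable def FF (H : Subgroup G) [Fintype H] (χ : G → ℂ) (φ : H → ℂ) (u v g : G) : ℂ :=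
  ∑ y : H, ∑ z : H, idemCoeff φ y * idemCoeff φ z * χ (g * (u * y) * g⁻¹ * (v * z))

/-- The sum over the whole group. -/
lemma sum_FF (χ : IrrCharacter G) (φ : H → ℂ) (u v : G) :
    (χ : G → ℂ) 1 * ∑ g, FF H χ φ u v g = (Nat.card G : ℂ) * (SS H χ φ u * SS H χ φ v) := by
  unfold FF SS
  rw [sum_comm, mul_sum, sum_mul_sum, mul_sum]
  refine sum_congr rfl fun y _ => ?_
  rw [sum_comm, mul_sum, mul_sum]
  refine sum_congr rfl fun z _ => ?_
  rw [← mul_sum, mul_left_comm]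
  rw [Cfsg.Agent.Lib.Char.ClassMul.irr_one_mul_sum χ (u * y) (v * z)]
  ring

include hL in
/-- The value on the normalizer. -/
lemma FF_eq (φ : H → ℂ) (χ : G → ℂ) (u : G) (j : ZMod p) {g : G} (hg : g ∈ normalizer (zpowers x : Set G)) :
    FF H χ φ u (XX x j) g = ∑ w : H, (∑ y : H, idemCoeff (φ ∘ conjH hL g⁻¹ (Subgroup.inv_mem _ hg)) y *
      idemCoeff φ (y⁻¹ * w)) * χ ((g * u * g⁻¹ * XX x j) * w) := by
  classical
  unfold FF
  let e : H ≃* H := conjH hL g hg
  have he : ∀ y : H, idemCoeff φ y = idemCoeff (φ ∘ conjH hL g⁻¹ (Subgroup.inv_mem _ hg)) (e y) := by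
    intro y
    unfold idemCoeff
    have h2 : conjH hL g⁻¹ (Subgroup.inv_mem _ hg) = e.symm := by
      ext z
      show g⁻¹ * z * g⁻¹⁻¹ = g⁻¹ * z * g
      rw [inv_inv]
    simp only [Function.comp_apply, h2, map_one, map_inv, MulEquiv.symm_apply_apply]
  have h1 : ∀ y z : H, g * (u * y) * g⁻¹ * (XX x j * z) = (g * u * g⁻¹ * XX x j) * ((e y * z : H) : G) := by
    intro y z
    have h3 : ((e y * z : H) : G) = g * y * g⁻¹ * z := rfl
    rw [h3]
    have h4 := hL.comm_XX (e y).2 j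
    have h5 : (g * y * g⁻¹) * XX x j = XX x j * (g * y * g⁻¹) := h4
    calc g * (u * y) * g⁻¹ * (XX x j * z) = (g * u * g⁻¹) * ((g * y * g⁻¹) * XX x j) * z := by group
      _ = _ := by rw [h5]; group
  have hstep : ∑ y : H, ∑ z : H, idemCoeff φ y * idemCoeff φ z * χ (g * (u * y) * g⁻¹ * (XX x j * z)) =
      ∑ y : H, ∑ z : H, idemCoeff (φ ∘ conjH hL g⁻¹ (Subgroup.inv_mem _ hg)) (e y) * idemCoeff φ z *
        χ ((g * u * g⁻¹ * XX x j) * ((e y * z : H) : G)) := by
    refine sum_congr rfl fun y _ => sum_congr rfl fun z _ => ?_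
    rw [h1, he y]
  have hstep2 : ∑ y : H, ∑ z : H, idemCoeff (φ ∘ conjH hL g⁻¹ (Subgroup.inv_mem _ hg)) (e y) * idemCoeff φ z *
        χ ((g * u * g⁻¹ * XX x j) * ((e y * z : H) : G)) =
      ∑ y : H, ∑ z : H, idemCoeff (φ ∘ conjH hL g⁻¹ (Subgroup.inv_mem _ hg)) y * idemCoeff φ z *
        χ ((g * u * g⁻¹ * XX x j) * ((y * z : H) : G)) :=
    Equiv.sum_comp e.toEquiv (fun y : H => ∑ z : H, idemCoeff (φ ∘ conjH hL g⁻¹ (Subgroup.inv_mem _ hg)) y * idemCoeff φ z *
      χ ((g * u * g⁻¹ * XX x j) * ((y * z : H) : G)))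
  rw [hstep, hstep2]
  have h2 : ∀ y : H, ∑ z : H, idemCoeff (φ ∘ conjH hL g⁻¹ (Subgroup.inv_mem _ hg)) y * idemCoeff φ z *
      χ ((g * u * g⁻¹ * XX x j) * ((y * z : H) : G)) =
      ∑ w : H, idemCoeff (φ ∘ conjH hL g⁻¹ (Subgroup.inv_mem _ hg)) y * idemCoeff φ (y⁻¹ * w) * χ ((g * u * g⁻¹ * XX x j) * w) := by
    intro y
    rw [← Equiv.sum_comp (Equiv.mulLeft y) (fun w : H => idemCoeff (φ ∘ conjH hL g⁻¹ (Subgroup.inv_mem _ hg)) y * idemCoeff φ (y⁻¹ * w) *
      χ ((g * u * g⁻¹ * XX x j) * w))]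
    refine sum_congr rfl fun z _ => ?_
    simp
  rw [sum_congr rfl fun y _ => h2 y]
  rw [sum_comm]
  refine sum_congr rfl fun w _ => ?_
  rw [sum_mul]

include hL in
lemma FF_of_mem_T {φ : H → ℂ} (hφ : IsIrrCharacter H φ) (χ : G → ℂ) (u : G) (j : ZMod p) {g : G} (hg : g ∈ TT hL φ) :
    FF H χ φ u (XX x j) g = SS H χ φ (g * u * g⁻¹ * XX x j) := by
  classical
  have hgN := TT_le hL φ hg
  rw [FF_eq hL φ χ u j hgN]
  unfold SS
  have h1 : φ ∘ conjH hL g⁻¹ (Subgroup.inv_mem _ hgN) = φ := by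
    funext z
    exact ((TT hL φ).inv_mem hg).2 z ▸ rfl
  rw [h1]
  refine sum_congr rfl fun w _ => ?_
  have h2 := sum_idemCoeff_mul (⟨φ, hφ⟩ : IrrCharacter H) ⟨φ, hφ⟩ w
  rw [if_pos rfl] at h2
  rw [h2]

include hL in
lemma FF_of_not_mem_T {φ : H → ℂ} (hφ : IsIrrCharacter H φ) (χ : G → ℂ) (u : G) (j : ZMod p) {g : G}
    (hgN : g ∈ normalizer (zpowers x : Set G)) (hg : g ∉ TT hL φ) : FF H χ φ u (XX x j) g = 0 := by
  classical
  rw [FF_eq hL φ χ u j hgN]
  refine sum_eq_zero fun w _ => ?_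
  let e : H ≃* H := conjH hL g⁻¹ (Subgroup.inv_mem _ hgN)
  have hφ'' : IsIrrCharacter H (φ ∘ e) :=
    Cfsg.Agent.Lib.Char.Basic.isIrrCharacter_comp_surjective hφ e.toMonoidHom e.surjective
  have hne : (⟨φ ∘ e, hφ''⟩ : IrrCharacter H) ≠ ⟨φ, hφ⟩ := by
    intro h0
    have h1 : φ ∘ e = φ := congrArg Subtype.val h0
    apply hg
    refine ⟨hgN, fun y => ?_⟩
    have h2 := congrFun h1 (conjH hL g hgN y)
    rw [← h2]
    show φ (e (conjH hL g hgN y)) = φ y
    congr 1
    apply Subtype.ext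
    show g⁻¹ * (g * y * g⁻¹) * g⁻¹⁻¹ = y
    group
  have h2 := sum_idemCoeff_mul (⟨φ ∘ e, hφ''⟩ : IrrCharacter H) ⟨φ, hφ⟩ w
  rw [if_neg hne] at h2
  have h3 : (∑ y : H, idemCoeff (φ ∘ conjH hL g⁻¹ (Subgroup.inv_mem _ hgN)) y * idemCoeff φ (y⁻¹ * w)) = 0 := h2
  rw [h3, zero_mul]

include hL in
lemma FF_left {χ : G → ℂ} (hχ : IsClassFunction G χ) (φ : H → ℂ) (u : G) (j k : ZMod p) (g : G) :
    FF H χ φ u (XX x j) (XX x k * g) = FF H χ φ u (XX x j) g := by
  unfold FF
  refine sum_congr rfl fun y _ => sum_congr rfl fun z _ => ?_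
  congr 1
  set B := g * (u * y) * g⁻¹ with hB
  set D := XX x j * (z : G) with hD
  have h1 : XX x k * D = D * XX x k := by
    have h2 : XX x k * XX x j = XX x j * XX x k := by
      unfold XX
      exact (Commute.refl x).pow_pow _ _
    rw [hD, ← mul_assoc, h2, mul_assoc, ← hL.comm_XX z.2 k, mul_assoc]
  have h2 : XX x k * g * (u * y) * (XX x k * g)⁻¹ * D = XX x k * (B * D) * (XX x k)⁻¹ := by
    calc XX x k * g * (u * y) * (XX x k * g)⁻¹ * D = XX x k * B * ((XX x k)⁻¹ * D) := by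
          rw [hB]; group
      _ = XX x k * B * (D * (XX x k)⁻¹) := by
          congr 1
          have : Commute (XX x k) D := h1
          exact (this.inv_left).eq
      _ = _ := by group
  rw [h2, hχ]

include hL in
lemma FF_right {φ : H → ℂ} (hφ : IsClassFunction H φ) (χ : G → ℂ) (i : ZMod p) (v : G) (g c : G) (hc : c * x = x * c) :
    FF H χ φ (XX x i) v (g * c) = FF H χ φ (XX x i) v g := by
  unfold FF
  have hcN : c ∈ normalizer (zpowers x : Set G) := mem_normalizer_of_comm hL hc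
  have hcT : c ∈ TT hL φ := mem_TT_of_comm hL hφ hc
  let e : H ≃* H := conjH hL c hcN
  have he : ∀ y : H, idemCoeff φ (e y) = idemCoeff φ y := by
    intro y
    unfold idemCoeff
    have h1 : ∀ z : H, φ (e z) = φ z := fun z => by
      obtain ⟨hg, hg'⟩ := hcT
      exact hg' z
    rw [← map_inv, h1]
  have hu : c * XX x i = XX x i * c := by
    have : Commute c x := hc
    exact (this.pow_right _).eq
  have h1 : ∀ y z : H, (g * c) * (XX x i * y) * (g * c)⁻¹ * (v * z) = g * (XX x i * (e y : H)) * g⁻¹ * (v * z) := by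
    intro y z
    have h2 : ((e y : H) : G) = c * y * c⁻¹ := rfl
    rw [h2]
    calc (g * c) * (XX x i * y) * (g * c)⁻¹ * (v * z) = g * (c * XX x i) * y * c⁻¹ * g⁻¹ * (v * z) := by group
      _ = g * (XX x i * c) * y * c⁻¹ * g⁻¹ * (v * z) := by rw [hu]
      _ = _ := by group
  have h2 : ∑ y : H, ∑ z : H, idemCoeff φ y * idemCoeff φ z * χ ((g * c) * (XX x i * y) * (g * c)⁻¹ * (v * z)) =
      ∑ y : H, ∑ z : H, idemCoeff φ (e y) * idemCoeff φ z * χ (g * (XX x i * (e y : H)) * g⁻¹ * (v * z)) := by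
    refine sum_congr rfl fun y _ => sum_congr rfl fun z _ => ?_
    rw [h1, he]
  rw [h2]
  exact Equiv.sum_comp e.toEquiv (fun y : H => ∑ z : H, idemCoeff φ y * idemCoeff φ z * χ (g * (XX x i * y) * g⁻¹ * (v * z)))

include hL in
/-- The freeness of the action on the complement of the normalizer. -/
lemma free_of_not_mem {g : G} (hg : g ∉ normalizer (zpowers x : Set G)) {k : ZMod p} {c : G}
    (hc : c * x = x * c) (h : XX x k * g * c⁻¹ = g) : k = 0 ∧ c = 1 := by
  have hk : k = 0 := by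
    by_contra hk
    have h1 : g⁻¹ * XX x k * g = c := by
      calc g⁻¹ * XX x k * g = g⁻¹ * (XX x k * g * c⁻¹) * c := by group
        _ = c := by rw [h]; group
    have h2 : x = XX x k ^ (k⁻¹).val := by
      rw [← XX_mul_val hL.ord, mul_comm, mul_inv_cancel₀ hk, XX_one hL.ord]
    have h3 : g⁻¹ * x * g = c ^ (k⁻¹).val := by
      have h4 : g⁻¹ * x * g⁻¹⁻¹ = c ^ (k⁻¹).val := by
        have h10 : c = g⁻¹ * XX x k * g⁻¹⁻¹ := by
          rw [inv_inv]
          exact h1.symm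
        rw [h10, conj_pow, ← h2]
      simpa using h4
    have h5 : (g⁻¹ * x * g⁻¹⁻¹) * x = x * (g⁻¹ * x * g⁻¹⁻¹) := by
      rw [inv_inv, h3]
      have : Commute c x := hc
      exact (this.pow_left _).eq
    obtain ⟨α, -, hα⟩ := hL.exists_alpha_of_comm h5
    have h6 := hL.mem_normalizer_of_conj hα
    apply hg
    have h7 := Subgroup.inv_mem _ h6
    simpa using h7
  subst hk
  refine ⟨rfl, ?_⟩
  rw [XX_zero, one_mul] at h
  have h8 : g * c⁻¹ = g * 1 := by rw [h, mul_one]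
  have h9 := mul_left_cancel h8
  simpa using h9

variable (O : ValuationSubring ℂ) (hOint : ∀ z : ℂ, IsIntegral ℤ z → z ∈ O) (hOp : (p : ℂ) ∈ O.nonunits)

include hOint hOp hL in
lemma FF_mem {χ : G → ℂ} (hχ : IsCharacter G χ) {φ : H → ℂ} (hφ : IsIrrCharacter H φ) (u v g : G) :
    FF H χ φ u v g ∈ O := by
  unfold FF
  refine sum_mem fun y _ => sum_mem fun z _ => mul_mem (mul_mem ?_ ?_) ?_
  · exact idemCoeff_mem O hOint hOp hL.cop hφ y
  · exact idemCoeff_mem O hOint hOp hL.cop hφ z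
  · exact hOint _ (Cfsg.Agent.Lib.Char.Values.IsCharacter.isIntegral hχ _)

open scoped Classical in
include hOint hOp hL in
/-- The sum over the complement of the normalizer is divisible by `p |C_G(x)|`. -/
theorem sum_FF_compl {χ : G → ℂ} (hχ : IsCharacter G χ) {φ : H → ℂ} (hφ : IsIrrCharacter H φ) (i j : ZMod p) :
    ∃ w ∈ O, ∑ g ∈ univ.filter (fun g => g ∉ normalizer (zpowers x : Set G)), FF H χ φ (XX x i) (XX x j) g =
      (p * Nat.card (centralizer (zpowers x : Set G)) : ℕ) * w := by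
  classical
  have hφc := Cfsg.Agent.Lib.Char.Basic.isCharacter_of_isIrrCharacter hφ
  have hφcl : IsClassFunction H φ := Cfsg.Agent.Lib.Char.Basic.isClassFunction_of_isCharacter hφc
  have hχcl : IsClassFunction G χ := Cfsg.Agent.Lib.Char.Basic.isClassFunction_of_isCharacter hχ
  set N := normalizer (zpowers x : Set G) with hN
  set C := centralizer (zpowers x : Set G) with hC
  letI : Fintype (zpowers x) := Fintype.ofFinite _
  letI : Fintype C := Fintype.ofFinite _
  have hCc : ∀ c : C, (c : G) * x = x * c := by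
    intro c
    exact (Subgroup.mem_centralizer_iff.1 c.2 x (Subgroup.mem_zpowers x)).symm
  have hCN : ∀ c : C, (c : G) ∈ N := fun c => mem_normalizer_of_comm hL (hCc c)
  have hPN : ∀ v : zpowers x, (v : G) ∈ N := by
    intro v
    obtain ⟨k, hk⟩ := exists_XX_of_mem hL.ord v.2
    rw [hk]
    refine mem_normalizer_of_comm hL ?_
    have : Commute (XX x k) x := by
      unfold XX
      exact (Commute.refl x).pow_left _
    exact this.eq
  let X := {g : G // g ∉ N}
  let Γ := (zpowers x) × C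
  letI : MulAction Γ X :=
    { smul := fun γ g => ⟨(γ.1 : G) * g * (γ.2 : G)⁻¹, fun h => g.2 (by
        have h1 : (γ.1 : G)⁻¹ * ((γ.1 : G) * g * (γ.2 : G)⁻¹) * γ.2 ∈ N :=
          N.mul_mem (N.mul_mem (N.inv_mem (hPN γ.1)) h) (hCN γ.2)
        have h2 : (γ.1 : G)⁻¹ * ((γ.1 : G) * g * (γ.2 : G)⁻¹) * γ.2 = g := by group
        rwa [h2] at h1)⟩
      one_smul := fun g => Subtype.ext (by
        show (1 : G) * g * (1 : G)⁻¹ = g
        simp)
      mul_smul := fun a b g => Subtype.ext (by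
        show ((a.1 : G) * (b.1 : G)) * g * ((a.2 : G) * (b.2 : G))⁻¹ = (a.1 : G) * ((b.1 : G) * g * (b.2 : G)⁻¹) * (a.2 : G)⁻¹
        group) }
  have hsmul : ∀ (γ : Γ) (g : X), ((γ • g : X) : G) = (γ.1 : G) * g * (γ.2 : G)⁻¹ := fun _ _ => rfl
  have hfree : ∀ (γ : Γ) (z : X), γ • z = z → γ = 1 := by
    intro γ z h
    have h1 := congrArg Subtype.val h
    rw [hsmul] at h1
    obtain ⟨k, hk⟩ := exists_XX_of_mem hL.ord γ.1.2
    rw [hk] at h1
    obtain ⟨h2, h3⟩ := free_of_not_mem hL z.2 (hCc γ.2) h1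
    subst h2
    rw [XX_zero] at hk
    exact Prod.ext (Subtype.ext hk) (Subtype.ext h3)
  let F : X → ℂ := fun g => FF H χ φ (XX x i) (XX x j) g
  have hF : ∀ (γ : Γ) z, F (γ • z) = F z := by
    intro γ z
    show FF H χ φ (XX x i) (XX x j) ((γ • z : X) : G) = FF H χ φ (XX x i) (XX x j) z
    rw [hsmul]
    obtain ⟨k, hk⟩ := exists_XX_of_mem hL.ord γ.1.2
    rw [hk, mul_assoc, FF_left hL hχcl]
    exact FF_right hL hφcl χ i _ _ _ (by
      have h1 := hCc γ.2
      have : Commute (γ.2 : G) x := h1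
      exact (this.inv_left).eq)
  obtain ⟨Ω, hΩ⟩ := sum_eq_card_mul_of_free hfree F hF
  refine ⟨∑ z ∈ Ω, F z, sum_mem fun z _ => FF_mem hL O hOint hOp hχ hφ _ _ _, ?_⟩
  have h1 : ∑ g ∈ univ.filter (fun g => g ∉ N), FF H χ φ (XX x i) (XX x j) g = ∑ z : X, F z := by
    rw [Finset.sum_subtype (p := fun g => g ∉ N) _ (by simp)]
  rw [h1, hΩ]
  congr 1
  have h2 : Fintype.card Γ = p * Nat.card C := by
    rw [Fintype.card_prod, ← Nat.card_eq_fintype_card, ← Nat.card_eq_fintype_card, Nat.card_zpowers, hL.ord]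
  rw [h2]

open scoped Classical in
include hOint hOp hL in
/-- **The product formula.** -/
theorem star_star (χ : IrrCharacter G) {φ : H → ℂ} (hφ : IsIrrCharacter H φ) (i j : ZMod p) :
    ∃ w ∈ O, (Nat.card G : ℂ) * (SS H χ φ (XX x i) * SS H χ φ (XX x j)) =
      (χ : G → ℂ) 1 * (∑ g ∈ univ.filter (fun g => g ∈ TT hL φ), SS H χ φ (g * XX x i * g⁻¹ * XX x j) +
        (p * Nat.card (centralizer (zpowers x : Set G)) : ℕ) * w) := by
  classical
  have hχc := Cfsg.Agent.Lib.Char.Basic.isCharacter_of_isIrrCharacter χ.2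
  obtain ⟨w, hw, hweq⟩ := sum_FF_compl hL O hOint hOp hχc hφ i j
  refine ⟨w, hw, ?_⟩
  rw [← sum_FF, ← hweq, ← sum_filter_add_sum_filter_not univ (fun g => g ∈ normalizer (zpowers x : Set G))]
  congr 2
  have hsub : univ.filter (fun g => g ∈ TT hL φ) ⊆ univ.filter (fun g => g ∈ normalizer (zpowers x : Set G)) := by
    intro g hg
    rw [mem_filter] at hg ⊢
    exact ⟨hg.1, TT_le hL φ hg.2⟩
  rw [← sum_subset hsub]
  · refine sum_congr rfl fun g hg => ?_
    exact FF_of_mem_T hL hφ _ _ _ (mem_filter.1 hg).2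
  · intro g hg hg'
    refine FF_of_not_mem_T hL hφ _ _ _ (mem_filter.1 hg).2 ?_
    intro h
    exact hg' (mem_filter.2 ⟨mem_univ _, h⟩)

end Main

end Cfsg.Agent.Lib.DefectOne
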