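import Mathlib
import Cfsg.Agent.Lib.DefectOne.StarStar
import Cfsg.Agent.Lib.DefectOne.Inertia
import Cfsg.Agent.Lib.DefectOne.Row
import Cfsg.Agent.Lib.Char.GlaubOver

/-!
# Rows of the decomposition: combination of Theorem A and the product formula
-/

set_option autoImplicit false
set_option linter.unusedSectionVars false

namespace Cfsg.Agent.Lib.DefectOne

open Cfsg Subgroup Finset
open scoped ComplexConjugate

universe u

section Zeta

variable {p : ℕ} [hp : Fact p.Prime] {ζ : ℂ} (hζ : IsPrimitiveRoot ζ p)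

include hζ

lemma zeta_pow_val_mul (a j : ZMod p) : ζ ^ (a * j).val = (ζ ^ a.val) ^ j.val := by
  rw [← pow_mul, ZMod.val_mul]
  have := pow_mod_orderOf ζ (a.val * j.val)
  rwa [← hζ.eq_orderOf] at this

lemma zeta_val_neg (a : ZMod p) : ζ ^ (-a).val = (ζ ^ a.val)⁻¹ := by
  have h0 : ζ ≠ 0 := hζ.ne_zero hp.out.ne_zero
  have h1 := zeta_val_add hζ a (-a)
  rw [add_neg_cancel, ZMod.val_zero, pow_zero] at h1
  exact eq_inv_of_mul_eq_one_right h1.symm

lemma sum_zeta (b : ZMod p) : ∑ a : ZMod p, ζ ^ (a * b).val = if b = 0 then (p : ℂ) else 0 := by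
  split_ifs with hb
  · subst hb
    simp
  · have h1 : ∑ a : ZMod p, ζ ^ (a * b).val = ∑ c : ZMod p, ζ ^ c.val :=
      Equiv.sum_comp (Equiv.mulRight₀ b hb) (fun c : ZMod p => ζ ^ c.val)
    rw [h1, ← sum_range_eq_sum_zmod (fun k => ζ ^ k)]
    exact hζ.geom_sum_eq_zero hp.out.one_lt

lemma sum_zeta_sub (i j : ZMod p) : ∑ a : ZMod p, ζ ^ (a * i).val * (ζ ^ a.val)⁻¹ ^ j.val =
    if i = j then (p : ℂ) else 0 := by
  have h1 : ∀ a : ZMod p, ζ ^ (a * i).val * (ζ ^ a.val)⁻¹ ^ j.val = ζ ^ (a * (i - j)).val := by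
    intro a
    rw [mul_sub, sub_eq_add_neg, zeta_val_add hζ]
    congr 1
    rw [← mul_neg, mul_comm a (-j), neg_mul, zeta_val_neg hζ, mul_comm j a, zeta_pow_val_mul hζ, inv_pow]
  simp_rw [h1]
  rw [sum_zeta hζ]
  by_cases h : i = j
  · rw [if_pos h, if_pos (sub_eq_zero.2 h)]
  · rw [if_neg h, if_neg (fun h2 => h (sub_eq_zero.1 h2))]

end Zeta

section Main

variable {G : Type u} [Group G] [Fintype G] {p : ℕ} [hp : Fact p.Prime] {x : G} {H : Subgroup G}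
  [Fintype H] (hL : LocalData p x H)

/-- The multiplicity of the character `λ_a × φ` of `C_G(x)` in `χ`. -/
noncomputable def mval (x : G) (H : Subgroup G) [Fintype H] (χ : G → ℂ) (φ : H → ℂ) (ζ : ℂ) (a : ZMod p) : ℕ :=
  mm p x H χ φ (ζ ^ a.val)

include hL in
lemma zeta_pow_pow_p {ζ : ℂ} (hζ : IsPrimitiveRoot ζ p) (a : ℕ) : (ζ ^ a) ^ p = 1 := by
  rw [← pow_mul, mul_comm, pow_mul, hζ.pow_eq_one, one_pow]

include hL in
/-- The multiplicity in terms of the values `SS`. -/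
lemma mval_eq {χ : G → ℂ} (hχ : IsIrrCharacter G χ) {φ : H → ℂ} (hφ : IsIrrCharacter H φ) {ζ : ℂ}
    (hζ : IsPrimitiveRoot ζ p) (a : ZMod p) :
    φ 1 * (mval x H χ φ ζ a : ℂ) = (p : ℂ)⁻¹ * ∑ i : ZMod p, (ζ ^ a.val)⁻¹ ^ i.val * SS H χ φ (XX x i) := by
  unfold mval
  rw [mm_spec hL hχ hφ (zeta_pow_pow_p hL hζ a.val)]
  unfold classInner psiA SS
  have hφc := Cfsg.Agent.Lib.Char.Basic.isCharacter_of_isIrrCharacter hφ
  simp_rw [← Cfsg.Agent.Lib.Char.Ortho.character_inv_of_isCharacter hφc]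
  simp_rw [mul_sum, sum_mul, mul_sum]
  rw [sum_comm]
  refine sum_congr rfl fun i _ => sum_congr rfl fun y _ => ?_
  unfold idemCoeff
  ring

include hL in
/-- Fourier inversion. -/
lemma SS_eq {χ : G → ℂ} (hχ : IsIrrCharacter G χ) {φ : H → ℂ} (hφ : IsIrrCharacter H φ) {ζ : ℂ}
    (hζ : IsPrimitiveRoot ζ p) (i : ZMod p) :
    SS H χ φ (XX x i) = φ 1 * ∑ a : ZMod p, (mval x H χ φ ζ a : ℂ) * ζ ^ (a * i).val := by
  classical
  have hp0 : (p : ℂ) ≠ 0 := by exact_mod_cast hp.out.ne_zero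
  rw [mul_sum]
  have h1 : ∀ a : ZMod p, φ 1 * ((mval x H χ φ ζ a : ℂ) * ζ ^ (a * i).val) =
      (p : ℂ)⁻¹ * ∑ j : ZMod p, (ζ ^ a.val)⁻¹ ^ j.val * SS H χ φ (XX x j) * ζ ^ (a * i).val := by
    intro a
    rw [← mul_assoc, mval_eq hL hχ hφ hζ, mul_assoc, sum_mul]
  simp_rw [h1]
  rw [← mul_sum, sum_comm]
  have h2 : ∀ j : ZMod p, ∑ a : ZMod p, (ζ ^ a.val)⁻¹ ^ j.val * SS H χ φ (XX x j) * ζ ^ (a * i).val =
      SS H χ φ (XX x j) * (if i = j then (p : ℂ) else 0) := by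
    intro j
    rw [← sum_zeta_sub hζ i j, mul_sum]
    refine sum_congr rfl fun a _ => ?_
    ring
  simp_rw [h2]
  simp only [mul_ite, mul_zero, sum_ite_eq, mem_univ, if_true]
  field_simp

include hL in
/-- Conjugation by the inertia group. -/
lemma SS_conj {χ : G → ℂ} (hχ : IsClassFunction G χ) {φ : H → ℂ} {g : G} (hg : g ∈ TT hL φ) (u : G) :
    SS H χ φ (g * u * g⁻¹) = SS H χ φ u := by
  unfold SS
  obtain ⟨hgN, hg'⟩ := hg
  let e : H ≃* H := conjH hL g hgN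
  have he : ∀ y : H, idemCoeff φ (e y) = idemCoeff φ y := by
    intro y
    unfold idemCoeff
    rw [← map_inv]
    rw [hg' y⁻¹]
  have h1 : ∀ y : H, χ (g * u * g⁻¹ * (e y : H)) = χ (u * y) := by
    intro y
    have h2 : ((e y : H) : G) = g * y * g⁻¹ := rfl
    rw [h2]
    have h3 : g * u * g⁻¹ * (g * y * g⁻¹) = g * (u * y) * g⁻¹ := by group
    rw [h3, hχ]
  have h2 : ∑ y : H, idemCoeff φ y * χ (g * u * g⁻¹ * y) = ∑ y : H, idemCoeff φ (e y) * χ (g * u * g⁻¹ * (e y : H)) :=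
    (Equiv.sum_comp e.toEquiv (fun y : H => idemCoeff φ y * χ (g * u * g⁻¹ * y))).symm
  rw [h2]
  refine sum_congr rfl fun y _ => ?_
  rw [he, h1]

include hL in
/-- Invariance of the multiplicities under the inertia group. -/
lemma mval_inv {χ : G → ℂ} (hχ : IsIrrCharacter G χ) {φ : H → ℂ} (hφ : IsIrrCharacter H φ) {ζ : ℂ}
    (hζ : IsPrimitiveRoot ζ p) {g : G} (hg : g ∈ TT hL φ) (a : ZMod p) :
    mval x H χ φ ζ (alphaG hL g * a) = mval x H χ φ ζ a := by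
  have hcl : IsClassFunction G χ := Cfsg.Agent.Lib.Char.Basic.isClassFunction_of_isCharacter
    (Cfsg.Agent.Lib.Char.Basic.isCharacter_of_isIrrCharacter hχ)
  have hgN := TT_le hL φ hg
  have hα := alphaG_spec hL hgN
  have hα0 := alphaG_ne_zero hL hgN
  set α := alphaG hL g with hαdef
  have hS : ∀ i : ZMod p, SS H χ φ (XX x (α * i)) = SS H χ φ (XX x i) := by
    intro i
    rw [← hL.conj_XX hα, SS_conj hL hcl hg]
  have hφ0 := Cfsg.Agent.Lib.Char.Ortho.irr_apply_one_ne_zero hφ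
  have h1 : φ 1 * (mval x H χ φ ζ (α * a) : ℂ) = φ 1 * (mval x H χ φ ζ a : ℂ) := by
    rw [mval_eq hL hχ hφ hζ, mval_eq hL hχ hφ hζ]
    congr 1
    rw [← Equiv.sum_comp (Equiv.mulLeft₀ α hα0) (fun i : ZMod p => (ζ ^ a.val)⁻¹ ^ i.val * SS H χ φ (XX x i))]
    refine sum_congr rfl fun i _ => ?_
    show _ = (ζ ^ a.val)⁻¹ ^ (α * i).val * SS H χ φ (XX x (α * i))
    rw [hS]
    congr 1
    rw [inv_pow, inv_pow, ← zeta_pow_val_mul hζ, ← zeta_pow_val_mul hζ]
    congr 3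
    ring
  have h2 := mul_left_cancel₀ hφ0 h1
  exact_mod_cast h2

/-- **The row theorem.** -/
theorem row_main (χ : IrrCharacter G) {φ : H → ℂ} (hφ : IsIrrCharacter H φ) {ζ : ℂ} (hζ : IsPrimitiveRoot ζ p)
    {A : Finset (ZMod p)} {e t : ℕ} (he : 0 < e) (het : p - 1 = e * t) (hAcard : A.card = e)
    (hA : ∀ α, α ∈ A ↔ α ^ e = 1) (hT1 : ∀ g ∈ TT hL φ, alphaG hL g ∈ A)
    (hT2 : ∀ α ∈ A, ∃ g ∈ TT hL φ, alphaG hL g = α)
    (hfib : ∀ f : ZMod p → ℂ, ∑ g ∈ (open scoped Classical in univ.filter (fun g => g ∈ TT hL φ)), f (alphaG hL g) =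
        (Nat.card (centralizer (zpowers x : Set G)) : ℂ) * ∑ α ∈ A, f α)
    (dχ dφ : ℕ) (hdχ : (χ : G → ℂ) 1 = dχ) (hdφ : φ 1 = dφ) :
    (∀ a : ZMod p, ((mval x H χ φ ζ a : ℤ) - mval x H χ φ ζ (0 : ZMod p)) = 0) ∨ ∃ ε : ℤ, (ε = 1 ∨ ε = -1) ∧
      (((centralizer (zpowers x : Set G)).index * dφ : ℕ) : ZMod p) * ∑ a : ZMod p, (((mval x H χ φ ζ a : ℤ) - mval x H χ φ ζ (0 : ZMod p) : ℤ) : ZMod p) =
        (dχ : ZMod p) * (e : ZMod p) ∧
      ((∃ b : ZMod p, ∀ a : ZMod p, ((mval x H χ φ ζ a : ℤ) - mval x H χ φ ζ (0 : ZMod p)) = if a ≠ 0 ∧ a ^ e = b then ε else 0) ∨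
        (∀ a : ZMod p, ((mval x H χ φ ζ a : ℤ) - mval x H χ φ ζ (0 : ZMod p)) = if a ≠ 0 then ε else 0)) := by
  classical
  obtain ⟨O, hOint, hOp⟩ := exists_val p
  set m : ZMod p → ℕ := mval x H χ φ ζ with hm
  set r : ZMod p → ℤ := fun a => (m a : ℤ) - m 0 with hr
  have hχ := χ.2
  have hχc := Cfsg.Agent.Lib.Char.Basic.isCharacter_of_isIrrCharacter χ.2
  set C := centralizer (zpowers x : Set G) with hC
  have hcl : IsClassFunction G (χ : G → ℂ) := Cfsg.Agent.Lib.Char.Basic.isClassFunction_of_isCharacter hχc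
  -- `r` basic
  have hr0 : r 0 = 0 := by simp [hr]
  have hrA : ∀ α ∈ A, ∀ a, r (α * a) = r a := by
    intro α hα a
    obtain ⟨g, hg, rfl⟩ := hT2 α hα
    simp only [hr, hm, mval_inv hL hχ hφ hζ hg a]
  have hr1 : ∀ a b, r a ≤ r b + 1 := by
    intro a b
    have h1 := mm_le hL hχ hφ hζ a.val b.val
    have h2 : m a ≤ m b + 1 := h1
    simp only [hr]
    omega
  -- degree facts
  obtain ⟨dφ', hdφ', -, hdvd⟩ := Cfsg.Agent.Lib.Char.GlaubOver.exists_degree_dvd hφ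
  have hdeq : dφ' = dφ := by
    have : (dφ' : ℂ) = dφ := by rw [← hdφ', hdφ]
    exact_mod_cast this
  subst hdeq
  have hpf : ¬ p ∣ dφ' := fun h => hL.cop (h.trans hdvd)
  have hf0 : (dφ' : ℂ) ≠ 0 := by
    intro h
    have : dφ' = 0 := by exact_mod_cast h
    exact hpf (this ▸ dvd_zero p)
  have hCcard : Nat.card C * C.index = Nat.card G := C.card_mul_index
  have hpC : p ∣ Nat.card C := by
    have h1 : x ∈ C := by
      rw [hC, Subgroup.mem_centralizer_iff]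
      intro h hh
      obtain ⟨k, rfl⟩ := Subgroup.mem_zpowers_iff.1 hh
      exact ((Commute.refl x).zpow_left k).eq
    have h2 := Subgroup.orderOf_dvd_natCard C h1
    rwa [hL.ord] at h2
  have hpi : ¬ p ∣ C.index := by
    intro h
    apply hL.syl
    rw [← hCcard, pow_two]
    exact Nat.mul_dvd_mul hpC h
  have hCne : (Nat.card C : ℂ) ≠ 0 := by exact_mod_cast Nat.card_pos.ne'
  have hp0 : (p : ℂ) ≠ 0 := by exact_mod_cast hp.out.ne_zero
  have hζO : ∀ b : ZMod p, ζ ^ b.val ∈ O := fun b =>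
    pow_mem (mem_of_pow_eq_one O hOint hp.out.pos hζ.pow_eq_one) _
  -- `τ`
  let τN : ZMod p → ℂ := fun i => ∑ a, (m a : ℂ) * ζ ^ (a * i).val
  let δ : ZMod p → ℂ := fun i => if i = 0 then (m 0 : ℂ) else 0
  have hδO : ∀ i, δ i ∈ O := by
    intro i
    simp only [δ]
    split_ifs
    · exact natCast_mem O _
    · exact zero_mem O
  have hτO : ∀ i, tauR ζ r i ∈ O := by
    intro i
    refine sum_mem fun a _ => mul_mem ?_ (hζO _)
    exact hOint _ (isIntegral_intCast ..)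
  have hτ : ∀ i, τN i = tauR ζ r i + p * δ i := by
    intro i
    have h1 : tauR ζ r i = τN i - (m 0 : ℂ) * ∑ a : ZMod p, ζ ^ (a * i).val := by
      simp only [tauR, τN, hr]
      rw [mul_sum, ← sum_sub_distrib]
      refine sum_congr rfl fun a _ => ?_
      push_cast
      ring
    rw [h1, sum_zeta hζ]
    simp only [δ]
    split_ifs
    · ring
    · ring
  have hSτ : ∀ i, SS H χ φ (XX x i) = dφ' * τN i := by
    intro i
    rw [SS_eq hL hχ hφ hζ, hdφ']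
  -- the product formula
  have hstar : ∀ i j : ZMod p, ∃ z ∈ O, (((C.index * dφ' : ℕ) : ℤ) : ℂ) * tauR ζ r i * tauR ζ r j -
      ((dχ : ℤ) : ℂ) * ∑ α ∈ A, tauR ζ r (α * i + j) = p * z := by
    intro i j
    obtain ⟨w, hw, hweq⟩ := star_star hL O hOint hOp χ hφ i j
    have h1 : ∑ g ∈ univ.filter (fun g => g ∈ TT hL φ), SS H χ φ (g * XX x i * g⁻¹ * XX x j) =
        (Nat.card C : ℂ) * ∑ α ∈ A, SS H χ φ (XX x (α * i + j)) := by
      rw [← hfib (fun α => SS H χ φ (XX x (α * i + j)))]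
      refine sum_congr rfl fun g hg => ?_
      have hgN := TT_le hL φ (mem_filter.1 hg).2
      rw [hL.conj_XX (alphaG_spec hL hgN), XX_add hL.ord]
    rw [h1] at hweq
    have h2 : (Nat.card G : ℂ) = (Nat.card C : ℂ) * C.index := by
      rw [← hCcard]
      push_cast
      rfl
    rw [h2, hdχ] at hweq
    have h3 : (C.index : ℂ) * (SS H χ φ (XX x i) * SS H χ φ (XX x j)) =
        (dχ : ℂ) * (∑ α ∈ A, SS H χ φ (XX x (α * i + j)) + p * w) := by
      apply mul_left_cancel₀ hCne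
      have h5 : ((p * Nat.card (centralizer (zpowers x : Set G)) : ℕ) : ℂ) = (p : ℂ) * (Nat.card C : ℂ) := by
        rw [Nat.cast_mul]
      rw [h5] at hweq
      linear_combination hweq
    simp_rw [hSτ] at h3
    rw [← mul_sum] at h3
    have hw' : w * (dφ' : ℂ)⁻¹ ∈ O := mul_mem hw (inv_natCast_mem O hOp hpf)
    set w' := w * (dφ' : ℂ)⁻¹ with hw'def
    have hww : w = dφ' * w' := by
      rw [hw'def]
      field_simp
    have h4 : ((C.index : ℂ) * dφ') * (τN i * τN j) = dχ * (∑ α ∈ A, τN (α * i + j) + p * w') := by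
      apply mul_left_cancel₀ hf0
      rw [hww] at h3
      linear_combination h3
    simp_rw [hτ] at h4
    rw [sum_add_distrib, ← mul_sum] at h4
    refine ⟨(dχ : ℂ) * (∑ α ∈ A, δ (α * i + j) + w') - ((C.index : ℂ) * dφ') *
      (δ i * tauR ζ r j + δ j * tauR ζ r i + p * (δ i * δ j)), ?_, ?_⟩
    · refine sub_mem (mul_mem (natCast_mem O _) (add_mem (sum_mem fun α _ => hδO _) hw')) ?_
      refine mul_mem (mul_mem (natCast_mem O _) (natCast_mem O _)) ?_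
      exact add_mem (add_mem (mul_mem (hδO _) (hτO _)) (mul_mem (hδO _) (hτO _)))
        (mul_mem (natCast_mem O _) (mul_mem (hδO _) (hδO _)))
    · push_cast
      linear_combination h4
  have hT : ¬ (p : ℤ) ∣ ((C.index * dφ' : ℕ) : ℤ) := by
    rw [Int.natCast_dvd_natCast, hp.out.dvd_mul]
    rintro (h | h)
    · exact hpi h
    · exact hpf h
  have hmain := row_shape O hOint hOp hζ he het A hA hAcard r hr0 hrA hr1 _ _ hT hstar
  rcases hmain with h | ⟨ε, hε, hc, hs⟩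
  · exact Or.inl h
  · refine Or.inr ⟨ε, hε, ?_, hs⟩
    simp only [hr] at hc
    push_cast at hc ⊢
    exact hc

end Main

end Cfsg.Agent.Lib.DefectOne
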