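import Mathlib
import Cfsg.Agent.Lib.DefectOne.Rows
import Cfsg.Agent.Lib.Char.CompleteCor

/-!
# Orthogonality relations for the rows
-/

set_option autoImplicit false
set_option linter.unusedSectionVars false

namespace Cfsg.Agent.Lib.DefectOne

open Cfsg Subgroup Finset
open scoped ComplexConjugate

universe u

variable {G : Type u} [Group G] [Fintype G] {p : ℕ} [hp : Fact p.Prime] {x : G} {H : Subgroup G}
  [Fintype H] (hL : LocalData p x H)

include hL in
lemma card_centralizer : Nat.card (centralizer (zpowers x : Set G)) = p * Nat.card H := by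
  classical
  have hmem : ∀ c : G, c ∈ centralizer (zpowers x : Set G) ↔ c * x = x * c := by
    intro c
    constructor
    · intro hc
      exact (Subgroup.mem_centralizer_iff.1 hc x (Subgroup.mem_zpowers x)).symm
    · intro hc
      rw [Subgroup.mem_centralizer_iff]
      intro h hh
      obtain ⟨k, rfl⟩ := Subgroup.mem_zpowers_iff.1 hh
      have : Commute c x := hc
      exact (this.zpow_right k).eq.symm
  let f : ZMod p × H → centralizer (zpowers x : Set G) := fun q => ⟨XX x q.1 * q.2, by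
    rw [hmem, mul_assoc, hL.comm _ q.2.2, ← mul_assoc, ← mul_assoc]
    congr 1
    have : Commute (XX x q.1) x := by
      unfold XX
      exact (Commute.refl x).pow_left _
    exact this.eq⟩
  have hf : Function.Bijective f := by
    constructor
    · rintro ⟨i, y⟩ ⟨j, z⟩ h
      have h1 : XX x i * (y : G) = XX x j * z := congrArg Subtype.val h
      obtain ⟨h2, h3⟩ := hL.decomp_unique y.2 z.2 h1
      exact Prod.ext h2 (Subtype.ext h3)
    · rintro ⟨c, hc⟩
      obtain ⟨i, y, hy, rfl⟩ := hL.exists_decomp ((hmem c).1 hc)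
      exact ⟨(i, ⟨y, hy⟩), rfl⟩
  rw [← Nat.card_congr (Equiv.ofBijective f hf), Nat.card_prod, Nat.card_zmod]

/-- The integer coefficient `m_a - m_0`. -/
noncomputable def rr (x : G) (H : Subgroup G) [Fintype H] (φ : H → ℂ) (ζ : ℂ) (χ : G → ℂ) (a : ZMod p) : ℤ :=
  (mval x H χ φ ζ a : ℤ) - mval x H χ φ ζ (0 : ZMod p)

/-- The kernel of the transform. -/
noncomputable def KK (H : Subgroup G) (φ : H → ℂ) (ζ : ℂ) (a i : ZMod p) (y : H) : ℂ :=
  ((ζ ^ a.val)⁻¹ ^ i.val - 1) * φ y⁻¹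

include hL in
/-- The row as a transform of `χ`. -/
lemma rr_eq {χ : G → ℂ} (hχ : IsIrrCharacter G χ) {φ : H → ℂ} (hφ : IsIrrCharacter H φ) {ζ : ℂ}
    (hζ : IsPrimitiveRoot ζ p) (a : ZMod p) :
    (rr x H φ ζ χ a : ℂ) = (p * Nat.card H : ℂ)⁻¹ * ∑ i : ZMod p, ∑ y : H, KK H φ ζ a i y * χ (XX x i * y) := by
  have hφ0 := Cfsg.Agent.Lib.Char.Ortho.irr_apply_one_ne_zero hφ
  have hp0 : (p : ℂ) ≠ 0 := by exact_mod_cast hp.out.ne_zero
  have hH0 : (Nat.card H : ℂ) ≠ 0 := by exact_mod_cast Nat.card_pos.ne'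
  have hm : ∀ a : ZMod p, (mval x H χ φ ζ a : ℂ) = (p * Nat.card H : ℂ)⁻¹ * ∑ i : ZMod p, ∑ y : H,
      (ζ ^ a.val)⁻¹ ^ i.val * φ y⁻¹ * χ (XX x i * y) := by
    intro a
    apply mul_left_cancel₀ hφ0
    rw [mval_eq hL hχ hφ hζ]
    unfold SS idemCoeff
    simp only [mul_sum]
    refine sum_congr rfl fun i _ => sum_congr rfl fun y _ => ?_
    field_simp
  unfold rr KK
  push_cast
  rw [hm a, hm 0, ← mul_sub, ← sum_sub_distrib]
  congr 1
  refine sum_congr rfl fun i _ => ?_
  rw [← sum_sub_distrib]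
  refine sum_congr rfl fun y _ => ?_
  simp only [ZMod.val_zero, pow_zero, inv_one, one_pow]
  ring

include hL in
/-- Elements of `C_G(x)` with non-trivial `p`-part have order divisible by `p`. -/
lemma dvd_orderOf {i : ZMod p} (hi : i ≠ 0) {y : G} (hy : y ∈ H) : p ∣ orderOf (XX x i * y) := by
  by_contra h
  have h1 := (hL.mem_iff (y := XX x i * y))
  have h2 : (XX x i * y) * x = x * (XX x i * y) := by
    rw [mul_assoc, hL.comm y hy, ← mul_assoc, ← mul_assoc]
    congr 1
    have : Commute (XX x i) x := by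
      unfold XX
      exact (Commute.refl x).pow_left _
    exact this.eq
  have h3 := h1.2 ⟨h2, h⟩
  have h4 : XX x i ∈ H := by
    have h5 : XX x i = (XX x i * y) * y⁻¹ := by group
    rw [h5]
    exact H.mul_mem h3 (H.inv_mem hy)
  exact hi (hL.XX_mem_H h4)

include hL in
lemma KK_zero {φ : H → ℂ} {ζ : ℂ} (a : ZMod p) (y : H) : KK H φ ζ a (0 : ZMod p) y = 0 := by
  simp [KK]

variable [Fintype (IrrCharacter G)]

include hL in
/-- **Vanishing on `p`-regular elements.** -/
theorem sum_rr_mul {φ : H → ℂ} (hφ : IsIrrCharacter H φ) {ζ : ℂ} (hζ : IsPrimitiveRoot ζ p) (a : ZMod p) {g : G}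
    (hg : ¬ p ∣ orderOf g) : ∑ χ : IrrCharacter G, (rr x H φ ζ (χ : G → ℂ) a : ℂ) * (χ : G → ℂ) g = 0 := by
  have h1 : ∀ χ : IrrCharacter G, (rr x H φ ζ (χ : G → ℂ) a : ℂ) * (χ : G → ℂ) g =
      conj ((p * Nat.card H : ℂ)⁻¹) * ∑ i : ZMod p, ∑ y : H, conj (KK H φ ζ a i y) *
        ((χ : G → ℂ) g * conj ((χ : G → ℂ) (XX x i * y))) := by
    intro χ
    have h2 : (rr x H φ ζ (χ : G → ℂ) a : ℂ) = conj (rr x H φ ζ (χ : G → ℂ) a : ℂ) := by
      rw [map_intCast]
    rw [h2, rr_eq hL χ.2 hφ hζ, map_mul, map_sum, mul_assoc, sum_mul]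
    congr 1
    refine sum_congr rfl fun i _ => ?_
    rw [map_sum, sum_mul]
    refine sum_congr rfl fun y _ => ?_
    rw [map_mul]
    ring
  simp_rw [h1]
  rw [← mul_sum, sum_comm]
  simp_rw [sum_comm (s := (univ : Finset (IrrCharacter G))) (t := (univ : Finset H))]
  simp_rw [← mul_sum]
  have h3 : ∀ (i : ZMod p) (y : H), conj (KK H φ ζ a i y) *
      ∑ χ : IrrCharacter G, (χ : G → ℂ) g * conj ((χ : G → ℂ) (XX x i * y)) = 0 := by
    intro i y
    by_cases hi : i = 0
    · subst hi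
      rw [KK_zero hL]
      simp
    · rw [← Cfsg.Agent.Lib.Char.CompleteCor.conjCount_eq_sum, Cfsg.Agent.Lib.Char.CompleteCor.conjCount_of_not_isConj, mul_zero]
      intro hc
      have h4 : orderOf g = orderOf (XX x i * y) := by
        obtain ⟨k, hk⟩ := isConj_iff.1 hc
        rw [← hk]
        exact (orderOf_injective (MulAut.conj k).toMonoidHom (MulAut.conj k).injective g).symm
      exact hg (h4 ▸ dvd_orderOf hL hi y.2)
  simp_rw [h3]
  simp

include hL in
/-- Conjugation of an element of the centralizer by an element of the normalizer. -/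
lemma conj_W {t : G} (ht : t ∈ normalizer (zpowers x : Set G)) (i : ZMod p) (y : H) :
    t * (XX x i * y) * t⁻¹ = XX x (alphaG hL t * i) * (conjH hL t ht y : H) := by
  have h1 := hL.conj_XX (alphaG_spec hL ht) i
  rw [← h1]
  show _ = t * XX x i * t⁻¹ * (t * y * t⁻¹)
  group

include hL in
/-- An element conjugating a `p`-singular element of the centralizer into the centralizer lies in the normalizer. -/
lemma mem_normalizer_of_W {t : G} {i j : ZMod p} {y z : G} (hi : i ≠ 0) (hy : y ∈ H) (hz : z ∈ H)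
    (h : t * (XX x i * y) * t⁻¹ = XX x j * z) : t ∈ normalizer (zpowers x : Set G) := by
  classical
  set m := Nat.card H with hm
  have hyp : y ^ m = 1 := by
    have := pow_card_eq_one' (x := (⟨y, hy⟩ : H))
    exact congrArg Subtype.val this
  have hzp : z ^ m = 1 := by
    have := pow_card_eq_one' (x := (⟨z, hz⟩ : H))
    exact congrArg Subtype.val this
  have h1 : (XX x i * y) ^ m = XX x ((m : ZMod p) * i) := by
    have : Commute (XX x i) y := (hL.comm_XX hy i).symm
    rw [this.mul_pow, hyp, mul_one, XX_mul_natCast hL.ord]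
  have h2 : (XX x j * z) ^ m = XX x ((m : ZMod p) * j) := by
    have : Commute (XX x j) z := (hL.comm_XX hz j).symm
    rw [this.mul_pow, hzp, mul_one, XX_mul_natCast hL.ord]
  have h3 : t * XX x ((m : ZMod p) * i) * t⁻¹ = XX x ((m : ZMod p) * j) := by
    rw [← h1, ← h2, ← h, conj_pow]
  have hm0 : (m : ZMod p) ≠ 0 := by
    rw [Ne, ZMod.natCast_eq_zero_iff]
    exact hL.cop
  have hmi : (m : ZMod p) * i ≠ 0 := mul_ne_zero hm0 hi
  set u := (m : ZMod p) * i with hu
  have h4 : x = XX x u ^ (u⁻¹).val := by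
    rw [← XX_mul_val hL.ord, mul_comm, mul_inv_cancel₀ hmi, XX_one hL.ord]
  have h5 : t * x * t⁻¹ = XX x (u⁻¹ * ((m : ZMod p) * j)) := by
    rw [XX_mul_val hL.ord, ← h3, conj_pow, ← h4]
  exact hL.mem_normalizer_of_conj h5

open scoped Classical in
include hL in
/-- Evaluating the sum over solutions. -/
lemma sum_solutions (Z : ZMod p → H → ℂ) {t : G} (i : ZMod p) (hi : i ≠ 0) (y : H) :
    ∑ j : ZMod p, ∑ z : H, (if t * (XX x i * y) * t⁻¹ = XX x j * z then Z j z else 0) =
      if ht : t ∈ normalizer (zpowers x : Set G) then Z (alphaG hL t * i) (conjH hL t ht y) else 0 := by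
  split_ifs with ht
  · rw [sum_eq_single (alphaG hL t * i), sum_eq_single (conjH hL t ht y)]
    · rw [if_pos (conj_W hL ht i y)]
    · intro z _ hz
      rw [if_neg]
      intro h
      rw [conj_W hL ht i y] at h
      obtain ⟨-, h2⟩ := hL.decomp_unique (conjH hL t ht y).2 z.2 h
      exact hz (Subtype.ext h2).symm
    · intro h
      exact absurd (mem_univ _) h
    · intro j _ hj
      refine sum_eq_zero fun z _ => ?_
      rw [if_neg]
      intro h
      rw [conj_W hL ht i y] at h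
      obtain ⟨h2, -⟩ := hL.decomp_unique (conjH hL t ht y).2 z.2 h
      exact hj h2.symm
    · intro h
      exact absurd (mem_univ _) h
  · refine sum_eq_zero fun j _ => sum_eq_zero fun z _ => ?_
    rw [if_neg]
    intro h
    exact ht (mem_normalizer_of_W hL hi y.2 z.2 h)

include hL in
/-- The factor on `P`. -/
lemma sum_Q {ζ : ℂ} (hζ : IsPrimitiveRoot ζ p) (a b α : ZMod p) (ha : a ≠ 0) (hb : b ≠ 0) (hα : α ≠ 0) :
    ∑ i : ZMod p, ((ζ ^ a.val)⁻¹ ^ i.val - 1) * conj ((ζ ^ b.val)⁻¹ ^ (α * i).val - 1) =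
      (open scoped Classical in if b * α = a then (p : ℂ) else 0) + p := by
  classical
  have hzs : ∀ c : ZMod p, ∑ i : ZMod p, ζ ^ (c * i).val = if c = 0 then (p : ℂ) else 0 := by
    intro c
    rw [← sum_zeta hζ c]
    refine sum_congr rfl fun i _ => ?_
    rw [mul_comm]
  have hconj : ∀ k : ℕ, conj (ζ ^ k) = (ζ ^ k)⁻¹ := by
    intro k
    refine Cfsg.Agent.Lib.Char.OrthoBasic.conj_eq_inv_of_pow_eq_one hp.out.pos ?_
    rw [← pow_mul, mul_comm, pow_mul, hζ.pow_eq_one, one_pow]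
  have h1 : ∀ i : ZMod p, ((ζ ^ a.val)⁻¹ ^ i.val - 1) * conj ((ζ ^ b.val)⁻¹ ^ (α * i).val - 1) =
      ζ ^ ((b * α - a) * i).val - ζ ^ ((-a) * i).val - ζ ^ ((b * α) * i).val + 1 := by
    intro i
    have h2 : (ζ ^ a.val)⁻¹ ^ i.val = ζ ^ ((-a) * i).val := by
      rw [inv_pow, ← zeta_pow_val_mul hζ, neg_mul, zeta_val_neg hζ]
    have h3 : conj ((ζ ^ b.val)⁻¹ ^ (α * i).val) = ζ ^ ((b * α) * i).val := by
      rw [inv_pow, map_inv₀, ← zeta_pow_val_mul hζ, hconj, inv_inv, mul_assoc]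
    have h4 : ζ ^ ((b * α - a) * i).val = ζ ^ ((b * α) * i).val * ζ ^ ((-a) * i).val := by
      rw [← zeta_val_add hζ]
      congr 2
      ring
    rw [map_sub, map_one, h2, h3, h4]
    ring
  simp_rw [h1]
  rw [sum_add_distrib, sum_sub_distrib, sum_sub_distrib, hzs, hzs, hzs, sum_const, card_univ, ZMod.card,
    nsmul_eq_mul, mul_one, if_neg (neg_ne_zero.2 ha), if_neg (mul_ne_zero hb hα)]
  by_cases h : b * α = a
  · rw [if_pos h, if_pos (sub_eq_zero.2 h)]
    ring
  · rw [if_neg h, if_neg (fun h2 => h (sub_eq_zero.1 h2))]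
    ring

include hL in
/-- The factor on `H`. -/
lemma sum_Y {φ : H → ℂ} (hφ : IsIrrCharacter H φ) {t : G} (ht : t ∈ normalizer (zpowers x : Set G)) :
    ∑ y : H, φ y⁻¹ * conj (φ (conjH hL t ht y)⁻¹) =
      (open scoped Classical in if t ∈ TT hL φ then (Nat.card H : ℂ) else 0) := by
  classical
  have hφc := Cfsg.Agent.Lib.Char.Basic.isCharacter_of_isIrrCharacter hφ
  have hinv : ∀ y : H, φ y⁻¹ = conj (φ y) := fun y =>
    Cfsg.Agent.Lib.Char.Ortho.character_inv_of_isCharacter hφc y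
  let e : H ≃* H := conjH hL t ht
  have he : IsIrrCharacter H (φ ∘ e) :=
    Cfsg.Agent.Lib.Char.Basic.isIrrCharacter_comp_surjective hφ e.toMonoidHom e.surjective
  have h1 := Cfsg.Agent.Lib.Char.Ortho.classInner_irr he hφ
  unfold classInner at h1
  have hH0 : (Nat.card H : ℂ) ≠ 0 := by exact_mod_cast Nat.card_pos.ne'
  have h2 : ∑ y : H, φ y⁻¹ * conj (φ (conjH hL t ht y)⁻¹) = ∑ y : H, (φ ∘ e) y * conj (φ y) := by
    refine sum_congr rfl fun y _ => ?_
    rw [hinv, hinv, Complex.conj_conj, mul_comm]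
    rfl
  rw [h2]
  have h3 : ∑ y : H, (φ ∘ e) y * conj (φ y) = (Nat.card H : ℂ) * (if φ ∘ e = φ then 1 else 0) := by
    rw [← h1]
    field_simp
  rw [h3]
  by_cases h : t ∈ TT hL φ
  · rw [if_pos h, if_pos, mul_one]
    funext y
    obtain ⟨_, hg'⟩ := h
    exact hg' y
  · rw [if_neg h, if_neg, mul_zero]
    intro h4
    apply h
    refine ⟨ht, fun y => ?_⟩
    exact congrFun h4 y

include hL in
/-- **The Gram matrix of the rows.** -/
theorem gram {φ : H → ℂ} (hφ : IsIrrCharacter H φ) {ζ : ℂ} (hζ : IsPrimitiveRoot ζ p)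
    {A : Finset (ZMod p)} {e : ℕ} (hAcard : A.card = e)
    (hfib : ∀ f : ZMod p → ℂ, ∑ g ∈ (open scoped Classical in univ.filter (fun g => g ∈ TT hL φ)), f (alphaG hL g) =
        (Nat.card (centralizer (zpowers x : Set G)) : ℂ) * ∑ α ∈ A, f α)
    (a b : ZMod p) (ha : a ≠ 0) (hb : b ≠ 0) :
    ∑ χ : IrrCharacter G, (rr x H φ ζ (χ : G → ℂ) a : ℂ) * (rr x H φ ζ (χ : G → ℂ) b : ℂ) =
      (open scoped Classical in ((A.filter (fun α => b * α = a)).card : ℂ)) + e := by
  classical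
  set c := (p * Nat.card H : ℂ)⁻¹ with hc
  have hcreal : conj c = c := by
    rw [hc, map_inv₀, map_mul, Complex.conj_natCast, Complex.conj_natCast]
  let W : ZMod p × H → G := fun q => XX x q.1 * (q.2 : G)
  let Kq : ZMod p → ZMod p × H → ℂ := fun a q => KK H φ ζ a q.1 q.2
  have hrr : ∀ (χ : IrrCharacter G) (a : ZMod p), (rr x H φ ζ (χ : G → ℂ) a : ℂ) =
      c * ∑ q : ZMod p × H, Kq a q * (χ : G → ℂ) (W q) := by
    intro χ a
    rw [rr_eq hL χ.2 hφ hζ, Fintype.sum_prod_type]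
  have h1 : ∀ χ : IrrCharacter G, (rr x H φ ζ (χ : G → ℂ) a : ℂ) * (rr x H φ ζ (χ : G → ℂ) b : ℂ) =
      (c * c) * ∑ q, ∑ q', Kq a q * conj (Kq b q') * ((χ : G → ℂ) (W q) * conj ((χ : G → ℂ) (W q'))) := by
    intro χ
    have h2 : (rr x H φ ζ (χ : G → ℂ) b : ℂ) = conj (rr x H φ ζ (χ : G → ℂ) b : ℂ) := by
      rw [map_intCast]
    rw [h2, hrr χ a, hrr χ b, map_mul, hcreal, map_sum, mul_mul_mul_comm, sum_mul_sum]
    congr 1
    refine sum_congr rfl fun q _ => sum_congr rfl fun q' _ => ?_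
    rw [map_mul]
    ring
  simp_rw [h1]
  rw [← mul_sum, sum_comm]
  have h2 : ∀ q : ZMod p × H, ∑ χ : IrrCharacter G, ∑ q', Kq a q * conj (Kq b q') * ((χ : G → ℂ) (W q) * conj ((χ : G → ℂ) (W q'))) =
      ∑ t : G, Kq a q * ∑ q', conj (Kq b q') * (if t * W q * t⁻¹ = W q' then 1 else 0) := by
    intro q
    rw [sum_comm]
    have h3 : ∀ q', ∑ χ : IrrCharacter G, Kq a q * conj (Kq b q') * ((χ : G → ℂ) (W q) * conj ((χ : G → ℂ) (W q'))) =
        Kq a q * conj (Kq b q') * ∑ t : G, (if t * W q * t⁻¹ = W q' then 1 else 0) := by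
      intro q'
      rw [← mul_sum, ← Cfsg.Agent.Lib.Char.CompleteCor.conjCount_eq_sum]
      unfold Cfsg.Agent.Lib.Char.CompleteCor.conjCount
      congr 1
    simp_rw [h3, mul_sum]
    rw [sum_comm]
    refine sum_congr rfl fun t _ => sum_congr rfl fun q' _ => ?_
    ring
  simp_rw [h2]
  rw [sum_comm]
  have hαA : ∀ t ∈ univ.filter (fun g => g ∈ TT hL φ), alphaG hL t ≠ 0 := fun t ht =>
    alphaG_ne_zero hL (TT_le hL φ (mem_filter.1 ht).2)
  have hT : ∀ t : G, ∑ q, Kq a q * ∑ q', conj (Kq b q') * (if t * W q * t⁻¹ = W q' then 1 else 0) =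
      if t ∈ TT hL φ then (((if b * alphaG hL t = a then (p : ℂ) else 0) + p) * (Nat.card H : ℂ)) else 0 := by
    intro t
    have hq : ∀ q : ZMod p × H, Kq a q * ∑ q', conj (Kq b q') * (if t * W q * t⁻¹ = W q' then 1 else 0) =
        Kq a q * (if ht : t ∈ normalizer (zpowers x : Set G) then conj (KK H φ ζ b (alphaG hL t * q.1) (conjH hL t ht q.2)) else 0) := by
      rintro ⟨i, y⟩
      by_cases hi : i = 0
      · subst hi
        simp only [Kq, KK_zero hL, zero_mul]
      · congr 1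
        rw [Fintype.sum_prod_type]
        have h5 := sum_solutions hL (fun j z => conj (KK H φ ζ b j z)) (t := t) i hi y
        rw [← h5]
        refine sum_congr rfl fun j _ => sum_congr rfl fun z _ => ?_
        simp only [W, Kq, mul_ite, mul_one, mul_zero]
    rw [sum_congr rfl fun q _ => hq q]
    by_cases htN : t ∈ normalizer (zpowers x : Set G)
    · simp only [dif_pos htN]
      rw [Fintype.sum_prod_type]
      have h6 : ∀ (i : ZMod p) (y : H), Kq a (i, y) * conj (KK H φ ζ b (alphaG hL t * (i, y).1) (conjH hL t htN (i, y).2)) =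
          (((ζ ^ a.val)⁻¹ ^ i.val - 1) * conj ((ζ ^ b.val)⁻¹ ^ (alphaG hL t * i).val - 1)) *
            (φ y⁻¹ * conj (φ (conjH hL t htN y)⁻¹)) := by
        intro i y
        simp only [Kq, KK, map_mul]
        ring
      simp_rw [h6]
      rw [← sum_mul_sum, sum_Q hL hζ a b _ ha hb (alphaG_ne_zero hL htN), sum_Y hL hφ htN]
      split_ifs <;> ring
    · simp only [dif_neg htN, mul_zero, sum_const_zero]
      rw [if_neg (fun h => htN (TT_le hL φ h))]
  simp_rw [hT]
  rw [← sum_filter, hfib (fun α => ((if b * α = a then (p : ℂ) else 0) + p) * (Nat.card H : ℂ)), card_centralizer hL]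
  have hp0 : (p : ℂ) ≠ 0 := by exact_mod_cast hp.out.ne_zero
  have hH0 : (Nat.card H : ℂ) ≠ 0 := by exact_mod_cast Nat.card_pos.ne'
  have h7 : ∑ α ∈ A, ((if b * α = a then (p : ℂ) else 0) + p) * (Nat.card H : ℂ) =
      ((p : ℂ) * Nat.card H) * (((A.filter (fun α => b * α = a)).card : ℂ) + e) := by
    rw [← hAcard, ← sum_mul, sum_add_distrib, sum_ite, sum_const_zero, add_zero, sum_const, sum_const, nsmul_eq_mul, nsmul_eq_mul]
    ring
  rw [h7, hc]
  push_cast
  field_simp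

end Cfsg.Agent.Lib.DefectOne
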