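import Mathlib
import Cfsg.Agent.Lib.DefectOne.Gram

/-!
# The structure of the set of characters with a non-trivial row
-/

set_option autoImplicit false
set_option linter.unusedSectionVars false

namespace Cfsg.Agent.Lib.DefectOne

open Cfsg Subgroup Finset
open scoped ComplexConjugate

universe u

section Field

variable {p : ℕ} [hp : Fact p.Prime]

/-- The fibres of `a ↦ a^e`. -/
lemma card_fibre {e : ℕ} {A : Finset (ZMod p)} (hAcard : A.card = e) (hA : ∀ α, α ∈ A ↔ α ^ e = 1)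
    {a : ZMod p} (ha : a ≠ 0) :
    (univ.filter (fun c : ZMod p => c ≠ 0 ∧ c ^ e = a ^ e)).card = e := by
  classical
  refine Eq.trans ?_ hAcard
  symm
  refine card_bij (fun α _ => α * a) ?_ ?_ ?_
  · intro α hα
    have h1 := (hA α).1 hα
    refine mem_filter.2 ⟨mem_univ _, mul_ne_zero ?_ ha, ?_⟩
    · rintro rfl
      by_cases he : e = 0
      · subst he
        have h2 : A.card = 0 := hAcard
        rw [card_eq_zero] at h2
        rw [h2] at hα
        exact absurd hα (by simp)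
      · rw [zero_pow he] at h1
        exact zero_ne_one h1
    · rw [mul_pow, h1, one_mul]
  · intro α _ β _ h
    exact mul_right_cancel₀ ha h
  · intro c hc
    obtain ⟨-, hc0, hc1⟩ := mem_filter.1 hc
    refine ⟨c / a, (hA _).2 ?_, div_mul_cancel₀ _ ha⟩
    rw [div_pow, hc1, div_self (pow_ne_zero _ ha)]

/-- Number of fibres. -/
lemma card_image_pow {e t : ℕ} (he : 0 < e) (het : p - 1 = e * t) {A : Finset (ZMod p)} (hAcard : A.card = e)
    (hA : ∀ α, α ∈ A ↔ α ^ e = 1) :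
    ((univ.erase (0 : ZMod p)).image (fun a => a ^ e)).card = t := by
  classical
  set B := (univ.erase (0 : ZMod p)).image (fun a => a ^ e) with hB
  have h1 : (univ.erase (0 : ZMod p)).card = p - 1 := by
    rw [card_erase_of_mem (mem_univ _), card_univ, ZMod.card]
  have hmaps : ∀ a ∈ univ.erase (0 : ZMod p), a ^ e ∈ B := fun a ha => mem_image_of_mem _ ha
  have h2 := card_eq_sum_card_fiberwise hmaps
  have h3 : ∀ b ∈ B, ((univ.erase (0 : ZMod p)).filter (fun a => a ^ e = b)).card = e := by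
    intro b hb
    obtain ⟨a, ha, rfl⟩ := mem_image.1 hb
    have ha0 : a ≠ 0 := (mem_erase.1 ha).1
    refine Eq.trans ?_ (card_fibre hAcard hA ha0)
    congr 1
    ext c
    simp only [mem_filter, mem_erase, mem_univ, and_true, true_and]
  rw [sum_congr rfl h3, sum_const, h1, smul_eq_mul, het, mul_comm] at h2
  exact (Nat.eq_of_mul_eq_mul_right he h2).symm

/-- If `t ≥ 2`, there are two different fibres. -/
lemma exists_ne_fibre {e t : ℕ} (he : 0 < e) (het : p - 1 = e * t) (ht : 2 ≤ t) {A : Finset (ZMod p)} (hAcard : A.card = e)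
    (hA : ∀ α, α ∈ A ↔ α ^ e = 1) (a : ZMod p) (ha : a ≠ 0) : ∃ c : ZMod p, c ≠ 0 ∧ c ^ e ≠ a ^ e := by
  classical
  by_contra hno
  push Not at hno
  have h1 := card_image_pow he het hAcard hA
  have h2 : (univ.erase (0 : ZMod p)).image (fun a => a ^ e) ⊆ {a ^ e} := by
    intro z hz
    obtain ⟨c, hc, rfl⟩ := mem_image.1 hz
    exact mem_singleton.2 (hno c (mem_erase.1 hc).1)
  have h3 := card_le_card h2
  rw [h1, card_singleton] at h3
  omega

end Field

section Main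

variable {G : Type u} [Group G] [Fintype G] {p : ℕ} [hp : Fact p.Prime] {x : G} {H : Subgroup G}
  [Fintype H] (hL : LocalData p x H) [Fintype (IrrCharacter G)]

/-- The structure of the rows. -/
structure RowStructure (x : G) (H : Subgroup G) [Fintype H] (φ : H → ℂ) (ζ : ℂ) (e t : ℕ)
    (X Y : Finset (IrrCharacter G)) (εX : IrrCharacter G → ℤ) (ε₀ : ℤ) (bY : IrrCharacter G → ZMod p) : Prop where
  disj : Disjoint X Y
  supp : ∀ χ : IrrCharacter G, χ ∈ X ∪ Y ↔ ∃ a : ZMod p, rr x H φ ζ (χ : G → ℂ) a ≠ 0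
  cardX : X.card = e
  cardY : Y.card = t
  sign₀ : ε₀ = 1 ∨ ε₀ = -1
  rowX : ∀ χ ∈ X, (εX χ = 1 ∨ εX χ = -1) ∧ ∀ a : ZMod p, a ≠ 0 → rr x H φ ζ (χ : G → ℂ) a = εX χ
  rowY : ∀ θ ∈ Y, ∀ a : ZMod p, a ≠ 0 → rr x H φ ζ (θ : G → ℂ) a = if a ^ e = bY θ then ε₀ else 0
  exY : ∀ θ ∈ Y, ∃ a : ZMod p, a ≠ 0 ∧ a ^ e = bY θ
  injY : ∀ θ ∈ Y, ∀ θ' ∈ Y, bY θ = bY θ' → θ = θ'
  surjY : ∀ a : ZMod p, a ≠ 0 → ∃ θ ∈ Y, bY θ = a ^ e
  rel : ∀ g : G, ¬ p ∣ orderOf g → ∀ θ ∈ Y, (ε₀ : ℂ) * (θ : G → ℂ) g + ∑ χ ∈ X, (εX χ : ℂ) * (χ : G → ℂ) g = 0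

omit [Fintype (IrrCharacter G)] in
lemma rr_zero (φ : H → ℂ) (ζ : ℂ) (χ : G → ℂ) : rr x H φ ζ χ (0 : ZMod p) = 0 := by
  simp [rr]

/-- **The structure theorem for the rows.** -/
theorem exists_rowStructure {φ : H → ℂ} (hφ : IsIrrCharacter H φ) {ζ : ℂ} (hζ : IsPrimitiveRoot ζ p)
    {A : Finset (ZMod p)} {e t : ℕ} (he : 0 < e) (het : p - 1 = e * t) (hAcard : A.card = e)
    (hA : ∀ α, α ∈ A ↔ α ^ e = 1) (hT1 : ∀ g ∈ TT hL φ, alphaG hL g ∈ A)
    (hT2 : ∀ α ∈ A, ∃ g ∈ TT hL φ, alphaG hL g = α)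
    (hfib : ∀ f : ZMod p → ℂ, ∑ g ∈ (open scoped Classical in univ.filter (fun g => g ∈ TT hL φ)), f (alphaG hL g) =
        (Nat.card (centralizer (zpowers x : Set G)) : ℂ) * ∑ α ∈ A, f α) :
    ∃ (X Y : Finset (IrrCharacter G)) (εX : IrrCharacter G → ℤ) (ε₀ : ℤ) (bY : IrrCharacter G → ZMod p),
      RowStructure x H φ ζ e t X Y εX ε₀ bY := by
  classical
  let R : IrrCharacter G → ZMod p → ℤ := fun χ a => rr x H φ ζ (χ : G → ℂ) a
  have hR0 : ∀ χ, R χ 0 = 0 := fun χ => rr_zero φ ζ _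
  obtain ⟨dφ, -, hdφ⟩ := Cfsg.Agent.Lib.Char.Ortho.irr_degree_pos hφ
  have hshape : ∀ χ : IrrCharacter G, (∀ a, R χ a = 0) ∨ ∃ ε : ℤ, (ε = 1 ∨ ε = -1) ∧
      ((∃ b : ZMod p, ∀ a, R χ a = if a ≠ 0 ∧ a ^ e = b then ε else 0) ∨ (∀ a, R χ a = if a ≠ 0 then ε else 0)) := by
    intro χ
    obtain ⟨dχ, -, hdχ⟩ := Cfsg.Agent.Lib.Char.Ortho.irr_degree_pos χ.2
    rcases row_main hL χ hφ hζ he het hAcard hA hT1 hT2 hfib dχ dφ hdχ hdφ with h | ⟨ε, hε, -, hs⟩
    · exact Or.inl h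
    · exact Or.inr ⟨ε, hε, hs⟩
  have hgram : ∀ a b : ZMod p, a ≠ 0 → b ≠ 0 → ∑ χ, R χ a * R χ b = ((A.filter (fun α => b * α = a)).card : ℤ) + e := by
    intro a b ha hb
    have h1 := gram hL hφ hζ hAcard hfib a b ha hb
    have h2 : ((∑ χ, R χ a * R χ b : ℤ) : ℂ) = ((((A.filter (fun α => b * α = a)).card : ℤ) + e : ℤ) : ℂ) := by
      push_cast
      simp only [R]
      convert h1
    exact_mod_cast h2
  have hvan : ∀ (a : ZMod p) (g : G), ¬ p ∣ orderOf g → ∑ χ, (R χ a : ℂ) * (χ : G → ℂ) g = 0 :=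
    fun a g hg => sum_rr_mul hL hφ hζ a hg
  have hone : (1 : ZMod p) ∈ A := (hA 1).2 (one_pow e)
  have hcard1 : ∀ a : ZMod p, a ≠ 0 → (A.filter (fun α => a * α = a)).card = 1 := by
    intro a ha
    rw [card_eq_one]
    refine ⟨1, ?_⟩
    ext α
    simp only [mem_filter, mem_singleton]
    constructor
    · rintro ⟨-, h⟩
      exact mul_left_cancel₀ ha (by rw [h, mul_one])
    · rintro rfl
      exact ⟨hone, mul_one a⟩
  have ht0 : 0 < t := by
    by_contra h
    have h0 : t = 0 := by omega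
    rw [h0, mul_zero] at het
    have := hp.out.one_lt
    omega
  by_cases ht2 : 2 ≤ t
  · -- the general case
    have h10 : (1 : ZMod p) ≠ 0 := one_ne_zero
    obtain ⟨a₂, ha₂0, ha₂⟩ := exists_ne_fibre he het ht2 hAcard hA 1 h10
    rw [one_pow] at ha₂
    let X : Finset (IrrCharacter G) := univ.filter (fun χ => ∀ a : ZMod p, a ≠ 0 → R χ a ≠ 0)
    let Y : Finset (IrrCharacter G) := univ.filter (fun χ => (∃ a : ZMod p, R χ a ≠ 0) ∧ ¬ ∀ a : ZMod p, a ≠ 0 → R χ a ≠ 0)
    have hdisj : Disjoint X Y := by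
      rw [disjoint_left]
      intro χ h1 h2
      exact (mem_filter.1 h2).2.2 (mem_filter.1 h1).2
    have hX : ∀ χ ∈ X, (R χ 1 = 1 ∨ R χ 1 = -1) ∧ ∀ a : ZMod p, a ≠ 0 → R χ a = R χ 1 := by
      intro χ hχ
      have h1 := (mem_filter.1 hχ).2
      rcases hshape χ with h | ⟨ε, hε, ⟨b, hb⟩ | h⟩
      · exact absurd (h 1) (h1 1 h10)
      · exfalso
        have h2 : (1 : ZMod p) ^ e = b := by
          by_contra h3
          apply h1 1 h10
          rw [hb 1, if_neg]
          rintro ⟨-, h4⟩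
          exact h3 h4
        have h3 : a₂ ^ e = b := by
          by_contra h4
          apply h1 a₂ ha₂0
          rw [hb a₂, if_neg]
          rintro ⟨-, h5⟩
          exact h4 h5
        rw [one_pow] at h2
        exact ha₂ (h3.trans h2.symm)
      · have h5 : R χ 1 = ε := by rw [h 1, if_pos h10]
        refine ⟨by rw [h5]; exact hε, fun a ha => ?_⟩
        rw [h5, h a, if_pos ha]
    have hYform : ∀ θ ∈ Y, ∃ (ε : ℤ) (b : ZMod p), (ε = 1 ∨ ε = -1) ∧ (∃ a : ZMod p, a ≠ 0 ∧ a ^ e = b) ∧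
        ∀ a, R θ a = if a ≠ 0 ∧ a ^ e = b then ε else 0 := by
      intro θ hθ
      obtain ⟨-, ⟨a₀, ha₀⟩, h2⟩ := mem_filter.1 hθ
      rcases hshape θ with h | ⟨ε, hε, ⟨b, hb⟩ | h⟩
      · exact absurd (h a₀) ha₀
      · refine ⟨ε, b, hε, ?_, hb⟩
        by_contra h3
        push Not at h3
        apply ha₀
        rw [hb a₀, if_neg]
        rintro ⟨h4, h5⟩
        exact h3 a₀ h4 h5
      · exfalso
        apply h2
        intro a ha
        rw [h a, if_pos ha]
        rcases hε with h4 | h4 <;> rw [h4] <;> norm_num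
    choose! εY bY hεY hbY hRY using hYform
    have hzero : ∀ χ, χ ∉ X ∪ Y → ∀ a, R χ a = 0 := by
      intro χ hχ a
      by_contra h
      apply hχ
      by_cases hall : ∀ a : ZMod p, a ≠ 0 → R χ a ≠ 0
      · exact mem_union_left _ (mem_filter.2 ⟨mem_univ _, hall⟩)
      · exact mem_union_right _ (mem_filter.2 ⟨mem_univ _, ⟨a, h⟩, hall⟩)
    have hsplit : ∀ {M : Type} [AddCommMonoid M] (F : IrrCharacter G → M), (∀ χ, χ ∉ X ∪ Y → F χ = 0) →
        ∑ χ, F χ = ∑ χ ∈ X, F χ + ∑ χ ∈ Y, F χ := by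
      intro M _ F hF
      rw [← sum_union hdisj]
      exact (sum_subset (subset_univ _) (fun χ _ hχ => hF χ hχ)).symm
    -- the size of `X`
    have hcardX : X.card = e := by
      have h1 := hgram 1 a₂ h10 ha₂0
      have h2 : A.filter (fun α => a₂ * α = 1) = ∅ := by
        rw [filter_eq_empty_iff]
        intro α hα h3
        have h4 := (hA α).1 hα
        apply ha₂
        have h5 : (a₂ * α) ^ e = 1 := by rw [h3, one_pow]
        rwa [mul_pow, h4, mul_one] at h5
      rw [h2, card_empty, Nat.cast_zero, zero_add] at h1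
      rw [hsplit _ (fun χ hχ => by rw [hzero χ hχ 1, zero_mul])] at h1
      have h3 : ∑ χ ∈ Y, R χ 1 * R χ a₂ = 0 := by
        refine sum_eq_zero fun θ hθ => ?_
        rw [hRY θ hθ 1, hRY θ hθ a₂]
        by_cases h4 : (1 : ZMod p) ≠ 0 ∧ (1 : ZMod p) ^ e = bY θ
        · have h5 : ¬ (a₂ ≠ 0 ∧ a₂ ^ e = bY θ) := by
            rintro ⟨-, h5⟩
            apply ha₂
            rw [h5, ← h4.2, one_pow]
          rw [if_neg h5, mul_zero]
        · rw [if_neg h4, zero_mul]
      have h4 : ∑ χ ∈ X, R χ 1 * R χ a₂ = X.card := by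
        rw [card_eq_sum_ones]
        push_cast
        refine sum_congr rfl fun χ hχ => ?_
        obtain ⟨h5, h6⟩ := hX χ hχ
        rw [h6 a₂ ha₂0]
        rcases h5 with h5 | h5 <;> rw [h5] <;> norm_num
      rw [h3, h4, add_zero] at h1
      exact_mod_cast h1
    -- the fibres
    have hfibre : ∀ a : ZMod p, a ≠ 0 → (Y.filter (fun θ => bY θ = a ^ e)).card = 1 := by
      intro a ha
      have h1 := hgram a a ha ha
      rw [hcard1 a ha] at h1
      rw [hsplit _ (fun χ hχ => by rw [hzero χ hχ a, zero_mul])] at h1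
      have h2 : ∑ χ ∈ X, R χ a * R χ a = X.card := by
        rw [card_eq_sum_ones]
        push_cast
        refine sum_congr rfl fun χ hχ => ?_
        obtain ⟨h5, h6⟩ := hX χ hχ
        rw [h6 a ha]
        rcases h5 with h5 | h5 <;> rw [h5] <;> norm_num
      have h3 : ∑ χ ∈ Y, R χ a * R χ a = (Y.filter (fun θ => bY θ = a ^ e)).card := by
        rw [card_filter]
        push_cast
        refine sum_congr rfl fun θ hθ => ?_
        rw [hRY θ hθ a]
        by_cases h4 : bY θ = a ^ e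
        · rw [if_pos ⟨ha, h4.symm⟩, if_pos h4]
          rcases hεY θ hθ with h5 | h5 <;> rw [h5] <;> norm_num
        · rw [if_neg (fun h5 => h4 h5.2.symm), if_neg h4]
          norm_num
      rw [h2, h3, hcardX] at h1
      have h4 : ((Y.filter (fun θ => bY θ = a ^ e)).card : ℤ) = 1 := by
        push_cast at h1
        omega
      exact_mod_cast h4
    have hsurj : ∀ a : ZMod p, a ≠ 0 → ∃ θ ∈ Y, bY θ = a ^ e := by
      intro a ha
      have h1 := hfibre a ha
      obtain ⟨θ, hθ⟩ := card_eq_one.1 h1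
      have h2 : θ ∈ Y.filter (fun θ => bY θ = a ^ e) := by
        rw [hθ]
        exact mem_singleton_self _
      exact ⟨θ, (mem_filter.1 h2).1, (mem_filter.1 h2).2⟩
    have hinj : ∀ θ ∈ Y, ∀ θ' ∈ Y, bY θ = bY θ' → θ = θ' := by
      intro θ hθ θ' hθ' h
      obtain ⟨a, ha, hb⟩ := hbY θ hθ
      have h1 := hfibre a ha
      exact card_le_one.1 h1.le _ (mem_filter.2 ⟨hθ, hb.symm⟩) _ (mem_filter.2 ⟨hθ', by rw [← h, hb]⟩)
    have hcardY : Y.card = t := by
      rw [← card_image_pow he het hAcard hA]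
      refine card_bij (fun θ _ => bY θ) ?_ (fun θ hθ θ' hθ' h => hinj θ hθ θ' hθ' h) ?_
      · intro θ hθ
        obtain ⟨a, ha, hb⟩ := hbY θ hθ
        exact mem_image.2 ⟨a, mem_erase.2 ⟨ha, mem_univ _⟩, hb⟩
      · intro b hb
        obtain ⟨a, ha, rfl⟩ := mem_image.1 hb
        obtain ⟨θ, hθ, h⟩ := hsurj a (mem_erase.1 ha).1
        exact ⟨θ, hθ, h⟩
    -- the relation
    have hrelY : ∀ g : G, ¬ p ∣ orderOf g → ∀ θ ∈ Y, (εY θ : ℂ) * (θ : G → ℂ) g + ∑ χ ∈ X, (R χ 1 : ℂ) * (χ : G → ℂ) g = 0 := by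
      intro g hg θ hθ
      obtain ⟨a, ha, hb⟩ := hbY θ hθ
      have h1 := hvan a g hg
      rw [hsplit _ (fun χ hχ => by rw [hzero χ hχ a]; simp)] at h1
      have h2 : ∑ χ ∈ X, (R χ a : ℂ) * (χ : G → ℂ) g = ∑ χ ∈ X, (R χ 1 : ℂ) * (χ : G → ℂ) g :=
        sum_congr rfl fun χ hχ => by rw [(hX χ hχ).2 a ha]
      have h3 : ∑ χ ∈ Y, (R χ a : ℂ) * (χ : G → ℂ) g = (εY θ : ℂ) * (θ : G → ℂ) g := by
        rw [sum_eq_single θ]
        · rw [hRY θ hθ a, if_pos ⟨ha, hb⟩]
        · intro θ' hθ' hne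
          rw [hRY θ' hθ' a, if_neg]
          · simp
          · rintro ⟨-, h4⟩
            exact hne (hinj θ' hθ' θ hθ (by rw [← h4, hb]))
        · intro h
          exact absurd hθ h
      rw [h2, h3, add_comm] at h1
      exact h1
    -- common sign
    obtain ⟨θ₁, hθ₁, -⟩ := hsurj 1 h10
    have hsign : ∀ θ ∈ Y, εY θ = εY θ₁ := by
      intro θ hθ
      have hg1 : ¬ p ∣ orderOf (1 : G) := by
        rw [orderOf_one]
        exact hp.out.one_lt.ne' ∘ Nat.dvd_one.1
      have h1 := hrelY 1 hg1 θ hθ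
      have h2 := hrelY 1 hg1 θ₁ hθ₁
      obtain ⟨n, hn0, hn⟩ := Cfsg.Agent.Lib.Char.Ortho.irr_degree_pos θ.2
      obtain ⟨n₁, hn₁0, hn₁⟩ := Cfsg.Agent.Lib.Char.Ortho.irr_degree_pos θ₁.2
      rw [hn] at h1
      rw [hn₁] at h2
      have h3 : (εY θ : ℂ) * n = (εY θ₁ : ℂ) * n₁ := by
        linear_combination h1 - h2
      have h4 : εY θ * (n : ℤ) = εY θ₁ * (n₁ : ℤ) := by exact_mod_cast h3
      have hn' : (0 : ℤ) < n := by exact_mod_cast hn0
      have hn₁' : (0 : ℤ) < n₁ := by exact_mod_cast hn₁0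
      rcases hεY θ hθ with h5 | h5 <;> rcases hεY θ₁ hθ₁ with h6 | h6 <;> rw [h5, h6] at h4 ⊢
      · nlinarith
      · nlinarith
    refine ⟨X, Y, fun χ => R χ 1, εY θ₁, bY, hdisj, ?_, hcardX, hcardY, hεY θ₁ hθ₁, ?_, ?_, hbY, hinj, hsurj, ?_⟩
    · intro χ
      constructor
      · intro hχ
        rcases mem_union.1 hχ with h | h
        · exact ⟨1, (mem_filter.1 h).2 1 h10⟩
        · exact (mem_filter.1 h).2.1
      · rintro ⟨a, ha⟩
        by_contra h
        exact ha (hzero χ h a)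
    · intro χ hχ
      exact hX χ hχ
    · intro θ hθ a ha
      show R θ a = _
      rw [hRY θ hθ a]
      by_cases h4 : a ^ e = bY θ
      · rw [if_pos ⟨ha, h4⟩, if_pos h4, hsign θ hθ]
      · rw [if_neg (fun h5 => h4 h5.2), if_neg h4]
    · intro g hg θ hθ
      have h1 := hrelY g hg θ hθ
      rw [hsign θ hθ] at h1
      exact h1
  · -- the case `t = 1`
    have ht1 : t = 1 := by omega
    subst ht1
    rw [mul_one] at het
    have hpow : ∀ a : ZMod p, a ≠ 0 → a ^ e = 1 := fun a ha => by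
      rw [← het]
      exact ZMod.pow_card_sub_one_eq_one ha
    have h10 : (1 : ZMod p) ≠ 0 := one_ne_zero
    -- rows are constant
    have hconst : ∀ χ : IrrCharacter G, ∀ a, a ≠ 0 → R χ a = R χ 1 := by
      intro χ a ha
      rcases hshape χ with h | ⟨ε, -, ⟨b, hb⟩ | h⟩
      · rw [h a, h 1]
      · by_cases hb1 : b = 1
        · rw [hb a, hb 1, if_pos ⟨ha, by rw [hpow a ha, hb1]⟩, if_pos ⟨h10, by rw [one_pow, hb1]⟩]
        · rw [hb a, hb 1, if_neg, if_neg]
          · rintro ⟨-, h⟩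
            exact hb1 (by rw [← h, one_pow])
          · rintro ⟨-, h⟩
            exact hb1 (by rw [← h, hpow a ha])
      · rw [h a, h 1, if_pos ha, if_pos h10]
    have hval : ∀ χ : IrrCharacter G, R χ 1 = 0 ∨ R χ 1 = 1 ∨ R χ 1 = -1 := by
      intro χ
      rcases hshape χ with h | ⟨ε, hε, ⟨b, hb⟩ | h⟩
      · exact Or.inl (h 1)
      · rw [hb 1]
        split_ifs
        · rcases hε with h | h <;> simp [h]
        · simp
      · rw [h 1, if_pos h10]
        rcases hε with h | h <;> simp [h]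
    let Rr : Finset (IrrCharacter G) := univ.filter (fun χ => R χ 1 ≠ 0)
    have hRr : ∀ χ, χ ∈ Rr ↔ ∃ a : ZMod p, rr x H φ ζ (χ : G → ℂ) a ≠ 0 := by
      intro χ
      simp only [Rr, mem_filter, mem_univ, true_and]
      constructor
      · intro h
        exact ⟨1, h⟩
      · rintro ⟨a, ha⟩
        by_cases ha0 : a = 0
        · subst ha0
          exact absurd (hR0 χ) ha
        · rw [← hconst χ a ha0]
          exact ha
    have hcardRr : Rr.card = 1 + e := by
      have h1 := hgram 1 1 h10 h10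
      rw [hcard1 1 h10] at h1
      have h2 : ∑ χ, R χ 1 * R χ 1 = ∑ χ ∈ Rr, 1 := by
        rw [← sum_subset (subset_univ Rr)]
        · refine sum_congr rfl fun χ hχ => ?_
          have h3 := (mem_filter.1 hχ).2
          rcases hval χ with h | h | h
          · exact absurd h h3
          · rw [h]; rfl
          · rw [h]; rfl
        · intro χ _ hχ
          have h3 : R χ 1 = 0 := by
            by_contra h4
            exact hχ (mem_filter.2 ⟨mem_univ _, h4⟩)
          rw [h3]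
          rfl
      rw [h2, sum_const, nsmul_eq_mul, mul_one] at h1
      exact_mod_cast h1
    obtain ⟨θ₀, hθ₀⟩ : Rr.Nonempty := by
      rw [← card_pos, hcardRr]
      omega
    have hθ₀v : R θ₀ 1 = 1 ∨ R θ₀ 1 = -1 := by
      have h1 := (mem_filter.1 hθ₀).2
      rcases hval θ₀ with h | h | h
      · exact absurd h h1
      · exact Or.inl h
      · exact Or.inr h
    refine ⟨Rr.erase θ₀, {θ₀}, fun χ => R χ 1, R θ₀ 1, fun _ => 1, ?_⟩
    refine ⟨disjoint_singleton_right.2 (notMem_erase _ _), ?_, ?_, card_singleton _, hθ₀v, ?_, ?_, ?_, ?_, ?_, ?_⟩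
    · intro χ
      rw [← hRr]
      simp only [mem_union, mem_erase, mem_singleton]
      constructor
      · rintro (⟨-, h⟩ | rfl)
        · exact h
        · exact hθ₀
      · intro h
        by_cases hc : χ = θ₀
        · exact Or.inr hc
        · exact Or.inl ⟨hc, h⟩
    · rw [card_erase_of_mem hθ₀, hcardRr]
      omega
    · intro χ hχ
      have h1 := (mem_filter.1 (mem_of_mem_erase hχ)).2
      refine ⟨?_, fun a ha => hconst χ a ha⟩
      rcases hval χ with h | h | h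
      · exact absurd h h1
      · exact Or.inl h
      · exact Or.inr h
    · intro θ hθ a ha
      rw [mem_singleton.1 hθ, if_pos (hpow a ha)]
      exact hconst θ₀ a ha
    · intro θ _
      exact ⟨1, h10, one_pow e⟩
    · intro θ hθ θ' hθ' _
      rw [mem_singleton.1 hθ, mem_singleton.1 hθ']
    · intro a ha
      exact ⟨θ₀, mem_singleton_self _, (hpow a ha).symm⟩
    · intro g hg θ hθ
      rw [mem_singleton.1 hθ]
      have h1 := hvan 1 g hg
      rw [← sum_subset (subset_univ Rr)] at h1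
      · rw [← add_sum_erase Rr _ hθ₀] at h1
        exact h1
      · intro χ _ hχ
        have h3 : R χ 1 = 0 := by
          by_contra h4
          exact hχ (mem_filter.2 ⟨mem_univ _, h4⟩)
        rw [h3]
        simp

end Main

end Cfsg.Agent.Lib.DefectOne
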