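import Mathlib
import Cfsg.Agent.Lib.DefectOne.Structure
import Cfsg.Agent.Lib.Blocks.Osima
import Cfsg.Agent.Lib.Blocks.PElements

/-!
# Central characters and the idempotents of `H`
-/

set_option autoImplicit false
set_option linter.unusedSectionVars false

namespace Cfsg.Agent.Lib.DefectOne

open Cfsg Subgroup Finset Cfsg.Agent.Lib.Blocks.Local Cfsg.Agent.Lib.Blocks.Central
open scoped ComplexConjugate

universe u

section General

variable {G : Type u} [Group G] [Fintype G]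

/-- The central character by the convolution with a class function. -/
lemma sum_class_mul {χ : G → ℂ} (hχ : IsIrrCharacter G χ) {z : G → ℂ} (hz : IsClassFunction G z) (y : G) :
    ∑ u, z u * χ (u * y) = omega χ (ofFun z) * χ y := by
  classical
  have ha : IsClassFunction G (ofFun z).coeff := by
    intro g h
    simp only [coeff_ofFun]
    exact hz g h
  have h1 := omega_mul hχ ha (MonoidAlgebra.single y 1)
  have h0 := Cfsg.Agent.Lib.Char.Ortho.irr_apply_one_ne_zero hχ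
  have h2 : omega χ (MonoidAlgebra.single y (1 : ℂ)) = χ y / χ 1 := by
    rw [omega]
    congr 1
    rw [Finset.sum_eq_single y]
    · simp
    · intro b _ hb
      simp [MonoidAlgebra.coeff_single, Finsupp.single_apply, Ne.symm hb]
    · simp
  have h3 : omega χ (ofFun z * MonoidAlgebra.single y (1 : ℂ)) = (∑ u, z u * χ (u * y)) / χ 1 := by
    rw [omega]
    congr 1
    rw [← Equiv.sum_comp (Equiv.mulRight y)]
    refine sum_congr rfl fun u _ => ?_
    simp [MonoidAlgebra.coeff_mul_single_apply]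
  rw [h3, h2] at h1
  field_simp at h1
  rw [h1]

end General

section Main

variable {G : Type u} [Group G] [Fintype G] {p : ℕ} [hp : Fact p.Prime] {x : G} {H : Subgroup G}
  [Fintype H] (hL : LocalData p x H)

/-- The central character against `SS`. -/
lemma omega_SS {χ : G → ℂ} (hχ : IsIrrCharacter G χ) {z : G → ℂ} (hz : IsClassFunction G z) (φ : H → ℂ) :
    omega χ (ofFun z) * SS H χ φ 1 = ∑ u, z u * SS H χ φ u := by
  unfold SS
  simp_rw [mul_sum]
  rw [sum_comm]
  refine sum_congr rfl fun y _ => ?_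
  simp only [one_mul]
  rw [mul_left_comm, ← sum_class_mul hχ hz, mul_sum]
  refine sum_congr rfl fun u _ => ?_
  ring

open scoped Classical in
/-- The sum over an invariant function: centralizer plus `p` times something. -/
lemma sum_C_add_free (hL : LocalData p x H) (F : G → ℂ) (hF : ∀ u, F (x * u * x⁻¹) = F u) :
    ∃ Ω : Finset G, ∑ u, F u = ∑ u ∈ univ.filter (fun u => u * x = x * u), F u + (p : ℂ) * ∑ u ∈ Ω, F u := by
  classical
  letI : Fintype (zpowers x) := Fintype.ofFinite _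
  let X := {u : G // ¬ u * x = x * u}
  let Γ := zpowers x
  have hcomm : ∀ (v : Γ) (u : G), u * x = x * u → ((v : G) * u * (v : G)⁻¹) * x = x * ((v : G) * u * (v : G)⁻¹) := by
    intro v u hu
    obtain ⟨k, hk⟩ := exists_XX_of_mem hL.ord v.2
    rw [hk]
    have h1 : Commute (XX x k) x := by
      unfold XX
      exact (Commute.refl x).pow_left _
    have h2 : Commute u x := hu
    have h3 : Commute (XX x k * u * (XX x k)⁻¹) x := ((h1.mul_left h2).mul_left h1.inv_left)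
    exact h3.eq
  letI : MulAction Γ X :=
    { smul := fun v u => ⟨(v : G) * u * (v : G)⁻¹, fun h => u.2 (by
        have h1 := hcomm v⁻¹ _ h
        have h2 : ((v⁻¹ : Γ) : G) * ((v : G) * u * (v : G)⁻¹) * ((v⁻¹ : Γ) : G)⁻¹ = u := by
          simp only [Subgroup.coe_inv]
          group
        rwa [h2] at h1)⟩
      one_smul := fun u => Subtype.ext (by
        show ((1 : Γ) : G) * u * ((1 : Γ) : G)⁻¹ = u
        simp)
      mul_smul := fun a b u => Subtype.ext (by
        show ((a * b : Γ) : G) * u * ((a * b : Γ) : G)⁻¹ = (a : G) * ((b : G) * u * (b : G)⁻¹) * (a : G)⁻¹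
        simp only [Subgroup.coe_mul]
        group) }
  have hsmul : ∀ (v : Γ) (u : X), ((v • u : X) : G) = (v : G) * u * (v : G)⁻¹ := fun _ _ => rfl
  have hfree : ∀ (v : Γ) (u : X), v • u = u → v = 1 := by
    intro v u h
    have h1 := congrArg Subtype.val h
    rw [hsmul] at h1
    obtain ⟨k, hk⟩ := exists_XX_of_mem hL.ord v.2
    rw [hk] at h1
    by_cases hk0 : k = 0
    · subst hk0
      rw [XX_zero] at hk
      exact Subtype.ext hk
    · exfalso
      have h2 : x = XX x k ^ (k⁻¹).val := by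
        rw [← XX_mul_val hL.ord, mul_comm, mul_inv_cancel₀ hk0, XX_one hL.ord]
      have h3 : Commute (XX x k) u := by
        have h4 : XX x k * u = u * XX x k := by
          calc XX x k * u = (XX x k * u * (XX x k)⁻¹) * XX x k := by group
            _ = _ := by rw [h1]
        exact h4
      apply u.2
      have h5 := (h3.pow_left (k⁻¹).val).eq
      rw [← h2] at h5
      exact h5.symm
  let F' : X → ℂ := fun u => F u
  have hF' : ∀ (v : Γ) z, F' (v • z) = F' z := by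
    intro v u
    show F ((v • u : X) : G) = F u
    rw [hsmul]
    obtain ⟨k, hk⟩ := exists_XX_of_mem hL.ord v.2
    rw [hk]
    unfold XX
    generalize k.val = n
    induction n with
    | zero => simp
    | succ n ih =>
      have h6 : x ^ (n + 1) * (u : G) * (x ^ (n + 1))⁻¹ = x * (x ^ n * (u : G) * (x ^ n)⁻¹) * x⁻¹ := by
        rw [pow_succ']
        group
      rw [h6, hF]
      exact ih
  obtain ⟨Ω, hΩ⟩ := sum_eq_card_mul_of_free hfree F' hF'
  refine ⟨Ω.image Subtype.val, ?_⟩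
  rw [← sum_filter_add_sum_filter_not univ (fun u => u * x = x * u)]
  congr 1
  have h1 : ∑ u ∈ univ.filter (fun u => ¬ u * x = x * u), F u = ∑ z : X, F' z := by
    rw [Finset.sum_subtype (p := fun u => ¬ u * x = x * u) _ (by simp)]
  rw [h1, hΩ, sum_image (fun a _ b _ h => Subtype.ext h)]
  congr 1
  rw [← Nat.card_eq_fintype_card, Nat.card_zpowers, hL.ord]

open scoped Classical in
/-- The sum over the centralizer as a double sum. -/
lemma sum_C_eq (hL : LocalData p x H) (F : G → ℂ) :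
    ∑ u ∈ univ.filter (fun u => u * x = x * u), F u = ∑ i : ZMod p, ∑ y : H, F (XX x i * y) := by
  rw [← Finset.sum_product']
  symm
  refine sum_bij (fun q _ => XX x q.1 * (q.2 : G)) ?_ ?_ ?_ ?_
  · intro q _
    refine mem_filter.2 ⟨mem_univ _, ?_⟩
    rw [mul_assoc, hL.comm _ q.2.2, ← mul_assoc, ← mul_assoc]
    congr 1
    have : Commute (XX x q.1) x := by
      unfold XX
      exact (Commute.refl x).pow_left _
    exact this.eq
  · rintro ⟨i, y⟩ _ ⟨j, z⟩ _ h
    obtain ⟨h2, h3⟩ := hL.decomp_unique y.2 z.2 h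
    exact Prod.ext h2 (Subtype.ext h3)
  · intro u hu
    obtain ⟨i, y, hy, rfl⟩ := hL.exists_decomp (mem_filter.1 hu).2
    exact ⟨(i, ⟨y, hy⟩), mem_univ _, rfl⟩
  · intro q _
    rfl

section Idem

variable {Γ : Type u} [Group Γ] [Fintype Γ]

/-- The idempotent acts on an irreducible character. -/
lemma sum_idemCoeff_irr (φ φ' : IrrCharacter Γ) (y0 : Γ) :
    ∑ w, idemCoeff (φ : Γ → ℂ) w * (φ' : Γ → ℂ) (y0 * w) = if φ = φ' then (φ : Γ → ℂ) y0 else 0 := by
  have h1 := sum_idemCoeff_mul φ φ' y0⁻¹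
  have hc : (Nat.card Γ : ℂ) ≠ 0 := by exact_mod_cast Nat.card_pos.ne'
  have h0 := Cfsg.Agent.Lib.Char.Ortho.irr_apply_one_ne_zero φ.2
  have h0' := Cfsg.Agent.Lib.Char.Ortho.irr_apply_one_ne_zero φ'.2
  have h2 : ∀ a, idemCoeff (φ : Γ → ℂ) a * idemCoeff (φ' : Γ → ℂ) (a⁻¹ * y0⁻¹) =
      idemCoeff (φ : Γ → ℂ) a * (φ' : Γ → ℂ) (y0 * a) * ((φ' : Γ → ℂ) 1 / Nat.card Γ) := by
    intro a
    unfold idemCoeff
    have : (a⁻¹ * y0⁻¹)⁻¹ = y0 * a := by group
    rw [this]
    ring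
  simp_rw [h2] at h1
  rw [← sum_mul] at h1
  by_cases h : φ = φ'
  · subst h
    rw [if_pos rfl] at h1 ⊢
    have h3 : idemCoeff (φ : Γ → ℂ) y0⁻¹ = (φ : Γ → ℂ) y0 * ((φ : Γ → ℂ) 1 / Nat.card Γ) := by
      unfold idemCoeff
      rw [inv_inv]
      ring
    rw [h3] at h1
    exact mul_right_cancel₀ (div_ne_zero h0 hc) h1
  · rw [if_neg h] at h1 ⊢
    exact (mul_eq_zero.1 h1).resolve_right (div_ne_zero h0' hc)

/-- The idempotent on a class function. -/
lemma sum_idemCoeff_class {ψ : Γ → ℂ} (hψ : IsClassFunction Γ ψ) (φ : IrrCharacter Γ) (y0 : Γ) :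
    ∑ w, idemCoeff (φ : Γ → ℂ) w * ψ (y0 * w) = classInner ψ (φ : Γ → ℂ) * (φ : Γ → ℂ) y0 := by
  classical
  letI : Fintype (IrrCharacter Γ) := Fintype.ofFinite _
  have h1 := Cfsg.Agent.Lib.Char.Complete.eq_sum_classInner ψ hψ
  have h2 : ∀ w, ψ (y0 * w) = ∑ φ' : IrrCharacter Γ, classInner ψ (φ' : Γ → ℂ) * (φ' : Γ → ℂ) (y0 * w) := by
    intro w
    conv_lhs => rw [h1]
    simp [Finset.sum_apply]
  simp_rw [h2, mul_sum]
  rw [sum_comm]
  have h3 : ∀ φ' : IrrCharacter Γ, ∑ w, idemCoeff (φ : Γ → ℂ) w * (classInner ψ (φ' : Γ → ℂ) * (φ' : Γ → ℂ) (y0 * w)) =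
      classInner ψ (φ' : Γ → ℂ) * (if φ = φ' then (φ : Γ → ℂ) y0 else 0) := by
    intro φ'
    rw [← sum_idemCoeff_irr, mul_sum]
    refine sum_congr rfl fun w _ => ?_
    ring
  simp_rw [h3]
  simp

end Idem

lemma isClassFunction_psiA (hL : LocalData p x H) {χ : G → ℂ} (hχ : IsClassFunction G χ) (w : ℂ) :
    IsClassFunction H (psiA (p := p) x H χ w) := by
  intro y z
  unfold psiA
  congr 1
  refine sum_congr rfl fun i _ => ?_
  congr 1
  have h1 := hL.comm_XX z.2 i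
  have h2 : XX x i * (((z * y * z⁻¹ : H)) : G) = (z : G) * (XX x i * y) * (z : G)⁻¹ := by
    simp only [Subgroup.coe_mul, Subgroup.coe_inv]
    calc XX x i * (↑z * ↑y * (↑z)⁻¹) = (XX x i * ↑z) * ↑y * (↑z)⁻¹ := by group
      _ = (↑z * XX x i) * ↑y * (↑z)⁻¹ := by rw [h1]
      _ = _ := by group
  rw [h2, hχ]

/-- Fourier inversion for the functions `psiA`. -/
lemma eq_sum_psiA {ζ : ℂ} (hζ : IsPrimitiveRoot ζ p) (χ : G → ℂ) (i : ZMod p) (y : H) :
    χ (XX x i * y) = ∑ a : ZMod p, ζ ^ (a * i).val * psiA (p := p) x H χ (ζ ^ a.val) y := by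
  classical
  have hp0 : (p : ℂ) ≠ 0 := by exact_mod_cast hp.out.ne_zero
  unfold psiA
  have h1 : ∀ a : ZMod p, ζ ^ (a * i).val * ((p : ℂ)⁻¹ * ∑ j : ZMod p, (ζ ^ a.val)⁻¹ ^ j.val * χ (XX x j * y)) =
      (p : ℂ)⁻¹ * ∑ j : ZMod p, (ζ ^ (a * i).val * (ζ ^ a.val)⁻¹ ^ j.val) * χ (XX x j * y) := by
    intro a
    rw [mul_left_comm, mul_sum]
    congr 1
    refine sum_congr rfl fun j _ => ?_
    ring
  simp_rw [h1]
  rw [← mul_sum, sum_comm]
  simp_rw [← sum_mul, sum_zeta_sub hζ]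
  simp only [ite_mul, zero_mul, sum_ite_eq, mem_univ, if_true]
  field_simp

/-- The value of `SS` on the centralizer. -/
lemma SS_mul (hL : LocalData p x H) {χ : G → ℂ} (hχ : IsIrrCharacter G χ) {φ : H → ℂ} (hφ : IsIrrCharacter H φ)
    {ζ : ℂ} (hζ : IsPrimitiveRoot ζ p) (i : ZMod p) (y0 : H) :
    SS H χ φ (XX x i * y0) = φ y0 * ∑ a : ZMod p, (mval x H χ φ ζ a : ℂ) * ζ ^ (a * i).val := by
  have hcl : IsClassFunction G χ := Cfsg.Agent.Lib.Char.Basic.isClassFunction_of_isCharacter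
    (Cfsg.Agent.Lib.Char.Basic.isCharacter_of_isIrrCharacter hχ)
  unfold SS
  have h1 : ∀ w : H, χ (XX x i * y0 * w) = ∑ a : ZMod p, ζ ^ (a * i).val * psiA (p := p) x H χ (ζ ^ a.val) (y0 * w) := by
    intro w
    rw [mul_assoc, ← eq_sum_psiA hζ χ i (y0 * w)]
    rfl
  simp_rw [h1, mul_sum]
  rw [sum_comm]
  refine sum_congr rfl fun a _ => ?_
  have h2 := sum_idemCoeff_class (isClassFunction_psiA hL hcl (ζ ^ a.val)) (⟨φ, hφ⟩ : IrrCharacter H) y0
  have h3 : ∑ w : H, idemCoeff φ w * (ζ ^ (a * i).val * psiA (p := p) x H χ (ζ ^ a.val) (y0 * w)) =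
      ζ ^ (a * i).val * ∑ w : H, idemCoeff φ w * psiA (p := p) x H χ (ζ ^ a.val) (y0 * w) := by
    rw [mul_sum]
    refine sum_congr rfl fun w _ => ?_
    ring
  rw [h3]
  have h4 : ∑ w : H, idemCoeff φ w * psiA (p := p) x H χ (ζ ^ a.val) (y0 * w) =
      classInner (psiA (p := p) x H χ (ζ ^ a.val)) φ * φ y0 := h2
  rw [h4, ← mm_spec hL hχ hφ (zeta_pow_pow_p hL hζ a.val)]
  unfold mval
  ring

/-- The total multiplicity over `φ`. -/
noncomputable def mTot (x : G) (H : Subgroup G) [Fintype H] (χ : G → ℂ) (φ : H → ℂ) (ζ : ℂ) : ℕ :=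
  ∑ a : ZMod p, mval x H χ φ ζ a

lemma SS_one (hL : LocalData p x H) {χ : G → ℂ} (hχ : IsIrrCharacter G χ) {φ : H → ℂ} (hφ : IsIrrCharacter H φ)
    {ζ : ℂ} (hζ : IsPrimitiveRoot ζ p) : SS H χ φ 1 = φ 1 * (mTot (p := p) x H χ φ ζ : ℂ) := by
  have h1 := SS_mul hL hχ hφ hζ 0 1
  rw [XX_zero] at h1
  simp only [OneMemClass.coe_one, mul_one] at h1
  rw [h1]
  unfold mTot
  push_cast
  congr 1
  refine sum_congr rfl fun a _ => ?_
  simp

variable {M : Ideal AlgInt} [hMp : M.IsPrime]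

omit [Fintype G] in
lemma memLocalRing_idemCoeff [Finite G] (hM : IsPModular p M) (hL : LocalData p x H) {φ : H → ℂ} (hφ : IsIrrCharacter H φ) (w : H) :
    MemLocalRing M (idemCoeff φ w) := by
  unfold idemCoeff
  rw [div_eq_mul_inv]
  refine memLocalRing_mul (memLocalRing_mul ?_ ?_) (memLocalRing_inv_natCast hM hL.cop)
  · exact memLocalRing_of_isIntegral (isIntegral_irr hφ 1)
  · exact memLocalRing_of_isIntegral (isIntegral_irr hφ w⁻¹)

lemma memLocalRing_SS (hM : IsPModular p M) (hL : LocalData p x H) {χ : G → ℂ} (hχ : IsIrrCharacter G χ)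
    {φ : H → ℂ} (hφ : IsIrrCharacter H φ) (u : G) : MemLocalRing M (SS H χ φ u) := by
  unfold SS
  refine memLocalRing_sum _ _ fun y _ => memLocalRing_mul (memLocalRing_idemCoeff hM hL hφ y) ?_
  exact memLocalRing_of_isIntegral (isIntegral_irr hχ _)

/-- The key congruence. -/
theorem omega_congr (hM : IsPModular p M) (hL : LocalData p x H) {χ : G → ℂ} (hχ : IsIrrCharacter G χ)
    {φ : H → ℂ} (hφ : IsIrrCharacter H φ) {ζ : ℂ} (hζ : IsPrimitiveRoot ζ p) {z : G → ℂ}
    (hz : IsClassFunction G z) (hzl : ∀ u, MemLocalRing M (z u)) :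
    MemLocalIdeal M ((φ 1 * omega χ (ofFun z) - ∑ i : ZMod p, ∑ y : H, z (XX x i * y) * φ y) *
      (mTot (p := p) x H χ φ ζ : ℂ)) := by
  classical
  have hcl : IsClassFunction G χ := isClassFunction_of_irr hχ
  have hφcl : IsClassFunction H φ := isClassFunction_of_irr hφ
  have hxT : x ∈ TT hL φ := mem_TT_of_comm hL hφcl rfl
  let F : G → ℂ := fun u => z u * SS H χ φ u
  have hF : ∀ u, F (x * u * x⁻¹) = F u := by
    intro u
    simp only [F]
    rw [hz u x, SS_conj hL hcl hxT]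
  obtain ⟨Ω, hΩ⟩ := sum_C_add_free hL F hF
  rw [sum_C_eq hL, ← omega_SS hχ hz, SS_one hL hχ hφ hζ] at hΩ
  have hFC : ∀ i y, F (XX x i * (y : H)) = z (XX x i * y) * φ y * ∑ a : ZMod p, (mval x H χ φ ζ a : ℂ) * ζ ^ (a * i).val := by
    intro i y
    simp only [F]
    rw [SS_mul hL hχ hφ hζ]
    ring
  simp_rw [hFC] at hΩ
  have hW : MemLocalRing M (∑ u ∈ Ω, F u) :=
    memLocalRing_sum _ _ fun u _ => memLocalRing_mul (hzl u) (memLocalRing_SS hM hL hχ hφ u)
  have hroot : ∀ i : ZMod p, MemLocalIdeal M (∑ a : ZMod p, (mval x H χ φ ζ a : ℂ) * ζ ^ (a * i).val - (mTot (p := p) x H χ φ ζ : ℂ)) := by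
    intro i
    unfold mTot
    push_cast
    rw [← sum_sub_distrib]
    refine memLocalIdeal_sum _ _ fun a _ => ?_
    rw [← mul_one ((mval x H χ φ ζ a : ℂ)), mul_assoc, one_mul, ← mul_sub]
    refine memLocalIdeal_mul_left (memLocalRing_natCast _) ?_
    refine Cfsg.Agent.Lib.Blocks.PElements.memLocalIdeal_sub_one_of_pow hM (k := 1) ?_
    rw [pow_one, ← pow_mul, mul_comm, pow_mul, hζ.pow_eq_one, one_pow]
  have hkey : (φ 1 * omega χ (ofFun z) - ∑ i : ZMod p, ∑ y : H, z (XX x i * y) * φ y) * (mTot (p := p) x H χ φ ζ : ℂ) =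
      ∑ i : ZMod p, ∑ y : H, (z (XX x i * y) * φ y) * (∑ a : ZMod p, (mval x H χ φ ζ a : ℂ) * ζ ^ (a * i).val - (mTot (p := p) x H χ φ ζ : ℂ)) +
        (p : ℂ) * ∑ u ∈ Ω, F u := by
    have h1 : ∑ i : ZMod p, ∑ y : H, (z (XX x i * y) * φ y) * (∑ a : ZMod p, (mval x H χ φ ζ a : ℂ) * ζ ^ (a * i).val - (mTot (p := p) x H χ φ ζ : ℂ)) =
        ∑ i : ZMod p, ∑ y : H, z (XX x i * y) * φ y * ∑ a : ZMod p, (mval x H χ φ ζ a : ℂ) * ζ ^ (a * i).val -
          (∑ i : ZMod p, ∑ y : H, z (XX x i * y) * φ y) * (mTot (p := p) x H χ φ ζ : ℂ) := by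
      rw [sum_mul, ← sum_sub_distrib]
      refine sum_congr rfl fun i _ => ?_
      rw [sum_mul, ← sum_sub_distrib]
      refine sum_congr rfl fun y _ => ?_
      ring
    rw [h1]
    linear_combination hΩ
  rw [hkey]
  refine memLocalIdeal_add (memLocalIdeal_sum _ _ fun i _ => memLocalIdeal_sum _ _ fun y _ => ?_) ?_
  · refine memLocalIdeal_mul_left ?_ (hroot i)
    exact memLocalRing_mul (hzl _) (memLocalRing_of_isIntegral (isIntegral_irr hφ y))
  · exact memLocalIdeal_mul_right (memLocalIdeal_natCast_self hM) hW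

end Main

end Cfsg.Agent.Lib.DefectOne
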