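import Mathlib
import Cfsg.Agent.Lib.DefectOne.BlockA
import Cfsg.Agent.Lib.Blocks.Pairs12

/-!
# The trace of the idempotent of `H` from `C_G(x)` to `G`
-/

set_option autoImplicit false
set_option linter.unusedSectionVars false

namespace Cfsg.Agent.Lib.DefectOne

open Cfsg Subgroup Finset Cfsg.Agent.Lib.Blocks.Local Cfsg.Agent.Lib.Blocks.Central
open scoped ComplexConjugate

universe u

section Main

variable {G : Type u} [Group G] [Fintype G] {p : ℕ} [hp : Fact p.Prime] {x : G} {H : Subgroup G}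
  [Fintype H] (hL : LocalData p x H)

open scoped Classical in
/-- Extension by zero of the idempotent coefficients. -/
noncomputable def cTil (H : Subgroup G) [Fintype H] (φ : H → ℂ) (u : G) : ℂ :=
  if h : u ∈ H then idemCoeff φ ⟨u, h⟩ else 0

lemma cTil_coe (φ : H → ℂ) (y : H) : cTil H φ y = idemCoeff φ y := by
  classical
  unfold cTil
  rw [dif_pos y.2]

lemma cTil_of_not_mem (φ : H → ℂ) {u : G} (h : u ∉ H) : cTil H φ u = 0 := by
  classical
  unfold cTil
  rw [dif_neg h]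

/-- The sum against the extension. -/
lemma sum_cTil (φ : H → ℂ) (E : G → ℂ) : ∑ u, cTil H φ u * E u = ∑ y : H, idemCoeff φ y * E y := by
  classical
  have h1 : ∑ y : H, idemCoeff φ y * E y = ∑ y : H, cTil H φ y * E y :=
    sum_congr rfl fun y _ => by rw [cTil_coe]
  rw [h1]
  rw [← Finset.sum_filter_add_sum_filter_not univ (fun u => u ∈ H)]
  have h2 : ∑ u ∈ univ.filter (fun u => u ∉ H), cTil H φ u * E u = 0 :=
    sum_eq_zero fun u hu => by rw [cTil_of_not_mem φ (mem_filter.1 hu).2, zero_mul]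
  rw [h2, add_zero]
  rw [Finset.sum_subtype (p := fun u => u ∈ H) _ (by simp)]

include hL in
lemma cTil_conj {φ : H → ℂ} (hφ : IsClassFunction H φ) {c : G} (hc : c * x = x * c) (v : G) :
    cTil H φ (c * v * c⁻¹) = cTil H φ v := by
  classical
  have hcN := mem_normalizer_of_comm hL hc
  obtain ⟨hg, hg'⟩ := mem_TT_of_comm hL hφ hc
  by_cases hv : v ∈ H
  · have h1 : c * v * c⁻¹ ∈ H := hL.conj_mem_H hcN hv
    have h2 := cTil_coe φ ⟨_, h1⟩
    have h3 := cTil_coe φ ⟨_, hv⟩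
    simp only at h2 h3
    rw [h2, h3]
    unfold idemCoeff
    congr 2
    have h4 := hg' (⟨v, hv⟩ : H)⁻¹
    rw [← h4]
    congr 1
    apply Subtype.ext
    show (c * v * c⁻¹)⁻¹ = c * v⁻¹ * c⁻¹
    group
  · rw [cTil_of_not_mem φ hv, cTil_of_not_mem φ]
    intro h
    apply hv
    have h1 := hL.conj_mem_H (Subgroup.inv_mem _ hcN) h
    have h2 : c⁻¹ * (c * v * c⁻¹) * c⁻¹⁻¹ = v := by group
    rwa [h2] at h1

/-- The trace of the idempotent: coefficient function. -/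
noncomputable def zFun (x : G) (H : Subgroup G) [Fintype H] (φ : H → ℂ) (u : G) : ℂ :=
  (Nat.card (centralizer (zpowers x : Set G)) : ℂ)⁻¹ * ∑ g, cTil H φ (g⁻¹ * u * g)

lemma isClassFunction_zFun (φ : H → ℂ) : IsClassFunction G (zFun x H φ) := by
  intro u v
  unfold zFun
  congr 1
  rw [← Equiv.sum_comp (Equiv.mulLeft v)]
  refine sum_congr rfl fun g _ => ?_
  show cTil H φ ((v * g)⁻¹ * (v * u * v⁻¹) * (v * g)) = _
  congr 1
  group

variable {M : Ideal AlgInt} [hMp : M.IsPrime]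

lemma memLocalRing_cTil (hM : IsPModular p M) (hL : LocalData p x H) {φ : H → ℂ} (hφ : IsIrrCharacter H φ) (u : G) :
    MemLocalRing M (cTil H φ u) := by
  classical
  by_cases hu : u ∈ H
  · have := cTil_coe φ ⟨u, hu⟩
    simp only at this
    rw [this]
    exact memLocalRing_idemCoeff hM hL hφ _
  · rw [cTil_of_not_mem φ hu]
    exact memLocalRing_zero

/-- Local coefficients. -/
lemma memLocalRing_zFun (hM : IsPModular p M) (hL : LocalData p x H) {φ : H → ℂ} (hφ : IsIrrCharacter H φ) (u : G) :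
    MemLocalRing M (zFun x H φ u) := by
  classical
  have hφcl : IsClassFunction H φ := isClassFunction_of_irr hφ
  set C := centralizer (zpowers x : Set G) with hC
  letI : Fintype C := Fintype.ofFinite _
  have hCc : ∀ c : C, (c : G) * x = x * c := by
    intro c
    exact (Subgroup.mem_centralizer_iff.1 c.2 x (Subgroup.mem_zpowers x)).symm
  letI : MulAction C G :=
    { smul := fun c g => g * (c : G)⁻¹
      one_smul := fun g => by
        show g * ((1 : C) : G)⁻¹ = g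
        simp
      mul_smul := fun a b g => by
        show g * ((a * b : C) : G)⁻¹ = g * (b : G)⁻¹ * (a : G)⁻¹
        simp [mul_assoc] }
  have hsmul : ∀ (c : C) (g : G), c • g = g * (c : G)⁻¹ := fun _ _ => rfl
  have hfree : ∀ (c : C) (g : G), c • g = g → c = 1 := by
    intro c g h
    rw [hsmul] at h
    have h1 : (c : G)⁻¹ = 1 := by simpa using h
    exact Subtype.ext (by simpa using h1)
  let F : G → ℂ := fun g => cTil H φ (g⁻¹ * u * g)
  have hF : ∀ (c : C) g, F (c • g) = F g := by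
    intro c g
    simp only [F, hsmul]
    have h1 : (g * (c : G)⁻¹)⁻¹ * u * (g * (c : G)⁻¹) = (c : G) * (g⁻¹ * u * g) * (c : G)⁻¹ := by group
    rw [h1]
    exact cTil_conj hL hφcl (hCc c) _
  obtain ⟨Ω, hΩ⟩ := sum_eq_card_mul_of_free hfree F hF
  unfold zFun
  have hcne : (Nat.card C : ℂ) ≠ 0 := by exact_mod_cast Nat.card_pos.ne'
  have h2 : ∑ g, cTil H φ (g⁻¹ * u * g) = (Nat.card C : ℂ) * ∑ g ∈ Ω, F g := by
    rw [Nat.card_eq_fintype_card]
    exact hΩ
  rw [h2, inv_mul_cancel_left₀ hcne]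
  exact memLocalRing_sum _ _ fun g _ => memLocalRing_cTil hM hL hφ _

lemma ofFun_zFun_mem (hM : IsPModular p M) (hL : LocalData p x H) {φ : H → ℂ} (hφ : IsIrrCharacter H φ) :
    ofFun (zFun x H φ) ∈ localCenter G M := by
  refine ⟨?_, fun g => ?_⟩
  · intro g h
    simp only [coeff_ofFun]
    exact isClassFunction_zFun φ g h
  · simp only [coeff_ofFun]
    exact memLocalRing_zFun hM hL hφ g

/-- The sum of `zFun` against any function. -/
lemma sum_zFun_mul (φ : H → ℂ) (E : G → ℂ) :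
    ∑ u, zFun x H φ u * E u =
      (Nat.card (centralizer (zpowers x : Set G)) : ℂ)⁻¹ * ∑ g, ∑ y : H, idemCoeff φ y * E (g * y * g⁻¹) := by
  unfold zFun
  have h0 : ∀ u : G, (Nat.card (centralizer (zpowers x : Set G)) : ℂ)⁻¹ * (∑ g, cTil H φ (g⁻¹ * u * g)) * E u =
      (Nat.card (centralizer (zpowers x : Set G)) : ℂ)⁻¹ * ∑ g, cTil H φ (g⁻¹ * u * g) * E u := by
    intro u
    rw [mul_assoc, sum_mul]
  simp_rw [h0]
  rw [← mul_sum]
  congr 1
  rw [sum_comm]
  refine sum_congr rfl fun g _ => ?_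
  rw [← sum_cTil φ (fun v => E (g * v * g⁻¹))]
  rw [← Equiv.sum_comp (MulAut.conj g).toEquiv]
  refine sum_congr rfl fun v _ => ?_
  have h1 : (MulAut.conj g).toEquiv v = g * v * g⁻¹ := rfl
  rw [h1]
  congr 2
  group

/-- The central character of the trace. -/
theorem omega_zFun (hL : LocalData p x H) {χ : G → ℂ} (hχ : IsIrrCharacter G χ) (φ : H → ℂ) :
    χ 1 * omega χ (ofFun (zFun x H φ)) = ((centralizer (zpowers x : Set G)).index : ℂ) * SS H χ φ 1 := by
  have h0 := Cfsg.Agent.Lib.Char.Ortho.irr_apply_one_ne_zero hχ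
  have hcl := isClassFunction_of_irr hχ
  rw [omega_ofFun, mul_div_cancel₀ _ h0, sum_zFun_mul]
  have h1 : ∀ g : G, ∑ y : H, idemCoeff φ y * χ (g * y * g⁻¹) = SS H χ φ 1 := by
    intro g
    unfold SS
    refine sum_congr rfl fun y _ => ?_
    rw [hcl, one_mul]
  simp_rw [h1]
  rw [sum_const, card_univ, nsmul_eq_mul, ← Nat.card_eq_fintype_card]
  have hCcard := (centralizer (zpowers x : Set G)).card_mul_index
  have hcne : (Nat.card (centralizer (zpowers x : Set G)) : ℂ) ≠ 0 := by exact_mod_cast Nat.card_pos.ne'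
  rw [← hCcard, Nat.cast_mul]
  field_simp

/-- The double sum for two characters of `H`. -/
noncomputable def DD (H : Subgroup G) [Fintype H] (χ : G → ℂ) (φ₁ φ₂ : H → ℂ) (g : G) : ℂ :=
  ∑ y : H, ∑ w : H, idemCoeff φ₁ y * idemCoeff φ₂ w * χ (g * y * g⁻¹ * w)

lemma sum_zFun_SS (φ₁ φ₂ : H → ℂ) (χ : G → ℂ) :
    ∑ u, zFun x H φ₁ u * SS H χ φ₂ u =
      (Nat.card (centralizer (zpowers x : Set G)) : ℂ)⁻¹ * ∑ g, DD H χ φ₁ φ₂ g := by
  rw [sum_zFun_mul]
  congr 1
  refine sum_congr rfl fun g _ => ?_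
  unfold DD SS
  refine sum_congr rfl fun y _ => ?_
  rw [mul_sum]
  refine sum_congr rfl fun w _ => ?_
  ring

include hL in
lemma DD_left {χ : G → ℂ} (hχ : IsClassFunction G χ) (φ₁ φ₂ : H → ℂ) (k : ZMod p) (g : G) :
    DD H χ φ₁ φ₂ (XX x k * g) = DD H χ φ₁ φ₂ g := by
  unfold DD
  refine sum_congr rfl fun y _ => sum_congr rfl fun w _ => ?_
  congr 1
  have h1 : Commute (XX x k) (w : G) := (hL.comm_XX w.2 k).symm
  have h2 : XX x k * g * y * (XX x k * g)⁻¹ * w = XX x k * (g * y * g⁻¹ * w) * (XX x k)⁻¹ := by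
    have h3 : (XX x k)⁻¹ * (w : G) = w * (XX x k)⁻¹ := (h1.inv_left).eq
    calc XX x k * g * y * (XX x k * g)⁻¹ * w = XX x k * (g * y * g⁻¹) * ((XX x k)⁻¹ * w) := by group
      _ = XX x k * (g * y * g⁻¹) * (w * (XX x k)⁻¹) := by rw [h3]
      _ = _ := by group
  rw [h2, hχ]

include hL in
lemma DD_right {φ₁ : H → ℂ} (hφ₁ : IsClassFunction H φ₁) (χ : G → ℂ) (φ₂ : H → ℂ) (g c : G) (hc : c * x = x * c) :
    DD H χ φ₁ φ₂ (g * c) = DD H χ φ₁ φ₂ g := by
  unfold DD
  have hcN : c ∈ normalizer (zpowers x : Set G) := mem_normalizer_of_comm hL hc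
  obtain ⟨hg, hg'⟩ := mem_TT_of_comm hL hφ₁ hc
  let e : H ≃* H := conjH hL c hcN
  have he : ∀ y : H, idemCoeff φ₁ (e y) = idemCoeff φ₁ y := by
    intro y
    unfold idemCoeff
    rw [← map_inv]
    rw [hg' y⁻¹]
  have h1 : ∀ (y w : H), (g * c) * y * (g * c)⁻¹ * w = g * (e y : H) * g⁻¹ * w := by
    intro y w
    have h2 : ((e y : H) : G) = c * y * c⁻¹ := rfl
    rw [h2]
    group
  have h2 : ∑ y : H, ∑ w : H, idemCoeff φ₁ y * idemCoeff φ₂ w * χ ((g * c) * y * (g * c)⁻¹ * w) =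
      ∑ y : H, ∑ w : H, idemCoeff φ₁ (e y) * idemCoeff φ₂ w * χ (g * (e y : H) * g⁻¹ * w) := by
    refine sum_congr rfl fun y _ => sum_congr rfl fun w _ => ?_
    rw [h1, he]
  rw [h2]
  exact Equiv.sum_comp e.toEquiv (fun y : H => ∑ w : H, idemCoeff φ₁ y * idemCoeff φ₂ w * χ (g * y * g⁻¹ * w))

lemma memLocalRing_DD (hM : IsPModular p M) (hL : LocalData p x H) {χ : G → ℂ} (hχ : IsIrrCharacter G χ)
    {φ₁ φ₂ : H → ℂ} (hφ₁ : IsIrrCharacter H φ₁) (hφ₂ : IsIrrCharacter H φ₂) (g : G) :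
    MemLocalRing M (DD H χ φ₁ φ₂ g) := by
  unfold DD
  refine memLocalRing_sum _ _ fun y _ => memLocalRing_sum _ _ fun w _ => memLocalRing_mul (memLocalRing_mul ?_ ?_) ?_
  · exact memLocalRing_idemCoeff hM hL hφ₁ y
  · exact memLocalRing_idemCoeff hM hL hφ₂ w
  · exact memLocalRing_of_isIntegral (isIntegral_irr hχ _)

open scoped Classical in
/-- The sum over the complement of the normalizer. -/
theorem sum_DD_compl (hM : IsPModular p M) (hL : LocalData p x H) {χ : G → ℂ} (hχ : IsIrrCharacter G χ)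
    {φ₁ φ₂ : H → ℂ} (hφ₁ : IsIrrCharacter H φ₁) (hφ₂ : IsIrrCharacter H φ₂) :
    ∃ W, MemLocalRing M W ∧ ∑ g ∈ univ.filter (fun g => g ∉ normalizer (zpowers x : Set G)), DD H χ φ₁ φ₂ g =
      (p * Nat.card (centralizer (zpowers x : Set G)) : ℕ) * W := by
  classical
  have hφcl : IsClassFunction H φ₁ := isClassFunction_of_irr hφ₁
  have hχcl : IsClassFunction G χ := isClassFunction_of_irr hχ
  set N := normalizer (zpowers x : Set G) with hN
  set C := centralizer (zpowers x : Set G) with hC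
  letI : Fintype (zpowers x) := Fintype.ofFinite _
  letI : Fintype C := Fintype.ofFinite _
  have hCc : ∀ c : C, (c : G) * x = x * c := by
    intro c
    exact (Subgroup.mem_centralizer_iff.1 c.2 x (Subgroup.mem_zpowers x)).symm
  have hCN : ∀ c : C, (c : G) ∈ N := fun c => mem_normalizer_of_comm hL (hCc c)
  have hPN : ∀ v : zpowers x, (v : G) ∈ N := by
    intro v
    obtain ⟨k, hk⟩ := exists_XX_of_mem hL.ord v.2
    rw [hk]
    refine mem_normalizer_of_comm hL ?_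
    have : Commute (XX x k) x := by
      unfold XX
      exact (Commute.refl x).pow_left _
    exact this.eq
  let X := {g : G // g ∉ N}
  let Γ := (zpowers x) × C
  letI : MulAction Γ X :=
    { smul := fun γ g => ⟨(γ.1 : G) * g * (γ.2 : G)⁻¹, fun h => g.2 (by
        have h1 : (γ.1 : G)⁻¹ * ((γ.1 : G) * g * (γ.2 : G)⁻¹) * γ.2 ∈ N :=
          N.mul_mem (N.mul_mem (N.inv_mem (hPN γ.1)) h) (hCN γ.2)
        have h2 : (γ.1 : G)⁻¹ * ((γ.1 : G) * g * (γ.2 : G)⁻¹) * γ.2 = g := by group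
        rwa [h2] at h1)⟩
      one_smul := fun g => Subtype.ext (by
        show (1 : G) * g * (1 : G)⁻¹ = g
        simp)
      mul_smul := fun a b g => Subtype.ext (by
        show ((a.1 : G) * (b.1 : G)) * g * ((a.2 : G) * (b.2 : G))⁻¹ = (a.1 : G) * ((b.1 : G) * g * (b.2 : G)⁻¹) * (a.2 : G)⁻¹
        group) }
  have hsmul : ∀ (γ : Γ) (g : X), ((γ • g : X) : G) = (γ.1 : G) * g * (γ.2 : G)⁻¹ := fun _ _ => rfl
  have hfree : ∀ (γ : Γ) (z : X), γ • z = z → γ = 1 := by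
    intro γ z h
    have h1 := congrArg Subtype.val h
    rw [hsmul] at h1
    obtain ⟨k, hk⟩ := exists_XX_of_mem hL.ord γ.1.2
    rw [hk] at h1
    obtain ⟨h2, h3⟩ := free_of_not_mem hL z.2 (hCc γ.2) h1
    subst h2
    rw [XX_zero] at hk
    exact Prod.ext (Subtype.ext hk) (Subtype.ext h3)
  let F : X → ℂ := fun g => DD H χ φ₁ φ₂ g
  have hF : ∀ (γ : Γ) z, F (γ • z) = F z := by
    intro γ z
    show DD H χ φ₁ φ₂ ((γ • z : X) : G) = DD H χ φ₁ φ₂ z
    rw [hsmul]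
    obtain ⟨k, hk⟩ := exists_XX_of_mem hL.ord γ.1.2
    rw [hk, mul_assoc, DD_left hL hχcl]
    exact DD_right hL hφcl χ _ _ _ (by
      have h1 := hCc γ.2
      have : Commute (γ.2 : G) x := h1
      exact (this.inv_left).eq)
  obtain ⟨Ω, hΩ⟩ := sum_eq_card_mul_of_free hfree F hF
  refine ⟨∑ z ∈ Ω, F z, memLocalRing_sum _ _ fun z _ => memLocalRing_DD hM hL hχ hφ₁ hφ₂ _, ?_⟩
  have h1 : ∑ g ∈ univ.filter (fun g => g ∉ N), DD H χ φ₁ φ₂ g = ∑ z : X, F z := by
    rw [Finset.sum_subtype (p := fun g => g ∉ N) _ (by simp)]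
  rw [h1, hΩ]
  congr 1
  have h2 : Fintype.card Γ = p * Nat.card C := by
    rw [Fintype.card_prod, ← Nat.card_eq_fintype_card, ← Nat.card_eq_fintype_card, Nat.card_zpowers, hL.ord]
  rw [h2]

/-- `φ₁` and `φ₂` are conjugate under the normalizer of `⟨x⟩`. -/
def RelN (hL : LocalData p x H) (φ₁ φ₂ : H → ℂ) : Prop :=
  ∃ (g : G) (hg : g ∈ normalizer (zpowers x : Set G)), ∀ y : H, φ₂ (conjH hL g hg y) = φ₁ y

/-- On the normalizer, the double sum vanishes unless `g` conjugates `φ₁` to `φ₂`. -/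
lemma DD_of_not_rel (hL : LocalData p x H) {φ₁ φ₂ : H → ℂ} (hφ₁ : IsIrrCharacter H φ₁) (hφ₂ : IsIrrCharacter H φ₂)
    (χ : G → ℂ) {g : G} (hg : g ∈ normalizer (zpowers x : Set G)) (h : ¬ ∀ y : H, φ₂ (conjH hL g hg y) = φ₁ y) :
    DD H χ φ₁ φ₂ g = 0 := by
  classical
  let e : H ≃* H := conjH hL g hg
  let φ' : H → ℂ := φ₁ ∘ e.symm
  have hφ' : IsIrrCharacter H φ' :=
    Cfsg.Agent.Lib.Char.Basic.isIrrCharacter_comp_surjective hφ₁ e.symm.toMonoidHom e.symm.surjective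
  have hne : (⟨φ', hφ'⟩ : IrrCharacter H) ≠ ⟨φ₂, hφ₂⟩ := by
    intro h0
    have h1 : φ' = φ₂ := congrArg Subtype.val h0
    apply h
    intro y
    rw [← h1]
    show φ₁ (e.symm (e y)) = φ₁ y
    rw [MulEquiv.symm_apply_apply]
  have he : ∀ y : H, idemCoeff φ₁ y = idemCoeff φ' (e y) := by
    intro y
    unfold idemCoeff
    simp only [φ', Function.comp_apply, map_one, map_inv, MulEquiv.symm_apply_apply]
  unfold DD
  have h1 : ∀ y w : H, g * y * g⁻¹ * w = ((e y * w : H) : G) := fun y w => rfl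
  have hstep : ∑ y : H, ∑ w : H, idemCoeff φ₁ y * idemCoeff φ₂ w * χ (g * y * g⁻¹ * w) =
      ∑ y : H, ∑ w : H, idemCoeff φ' (e y) * idemCoeff φ₂ w * χ ((e y * w : H) : G) := by
    refine sum_congr rfl fun y _ => sum_congr rfl fun w _ => ?_
    rw [h1, he]
  have hstep2 : ∑ y : H, ∑ w : H, idemCoeff φ' (e y) * idemCoeff φ₂ w * χ ((e y * w : H) : G) =
      ∑ y : H, ∑ w : H, idemCoeff φ' y * idemCoeff φ₂ w * χ ((y * w : H) : G) :=
    Equiv.sum_comp e.toEquiv (fun y : H => ∑ w : H, idemCoeff φ' y * idemCoeff φ₂ w * χ ((y * w : H) : G))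
  rw [hstep, hstep2]
  have h2 : ∀ y : H, ∑ w : H, idemCoeff φ' y * idemCoeff φ₂ w * χ ((y * w : H) : G) =
      ∑ w : H, idemCoeff φ' y * idemCoeff φ₂ (y⁻¹ * w) * χ w := by
    intro y
    rw [← Equiv.sum_comp (Equiv.mulLeft y) (fun w : H => idemCoeff φ' y * idemCoeff φ₂ (y⁻¹ * w) * χ w)]
    refine sum_congr rfl fun z _ => ?_
    simp
  rw [sum_congr rfl fun y _ => h2 y, sum_comm]
  refine sum_eq_zero fun w _ => ?_
  rw [← sum_mul]
  have h3 := sum_idemCoeff_mul (⟨φ', hφ'⟩ : IrrCharacter H) ⟨φ₂, hφ₂⟩ w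
  rw [if_neg hne] at h3
  have h4 : (∑ y : H, idemCoeff φ' y * idemCoeff φ₂ (y⁻¹ * w)) = 0 := h3
  rw [h4, zero_mul]

/-- If `φ₁` and `φ₂` are not conjugate, the product of the central characters is divisible by `p`. -/
theorem omega_mul_SS_of_not_rel (hM : IsPModular p M) (hL : LocalData p x H) {χ : G → ℂ} (hχ : IsIrrCharacter G χ)
    {φ₁ φ₂ : H → ℂ} (hφ₁ : IsIrrCharacter H φ₁) (hφ₂ : IsIrrCharacter H φ₂) (hrel : ¬ RelN hL φ₁ φ₂) :
    MemLocalIdeal M (omega χ (ofFun (zFun x H φ₁)) * SS H χ φ₂ 1) := by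
  classical
  rw [omega_SS hχ (isClassFunction_zFun φ₁), sum_zFun_SS]
  obtain ⟨W, hW, hWeq⟩ := sum_DD_compl hM hL hχ hφ₁ hφ₂
  rw [← sum_filter_add_sum_filter_not univ (fun g => g ∈ normalizer (zpowers x : Set G)), hWeq]
  have h1 : ∑ g ∈ univ.filter (fun g => g ∈ normalizer (zpowers x : Set G)), DD H χ φ₁ φ₂ g = 0 := by
    refine sum_eq_zero fun g hg => ?_
    have hgN := (mem_filter.1 hg).2
    refine DD_of_not_rel hL hφ₁ hφ₂ χ hgN ?_
    intro h
    exact hrel ⟨g, hgN, h⟩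
  have hcne : (Nat.card (centralizer (zpowers x : Set G)) : ℂ) ≠ 0 := by exact_mod_cast Nat.card_pos.ne'
  rw [h1, zero_add]
  have h2 : (Nat.card (centralizer (zpowers x : Set G)) : ℂ)⁻¹ *
      (((p * Nat.card (centralizer (zpowers x : Set G)) : ℕ) : ℂ) * W) = (p : ℂ) * W := by
    rw [Nat.cast_mul]
    field_simp
  rw [h2]
  exact memLocalIdeal_mul_right (memLocalIdeal_natCast_self hM) hW

end Main

end Cfsg.Agent.Lib.DefectOne
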