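import Mathlib
import Cfsg.Agent.Lib.DefectOne.BlockB
import Cfsg.Agent.Lib.Blocks.HeightZero

/-!
# The set of characters with a non-trivial row is a block
-/

set_option autoImplicit false
set_option linter.unusedSectionVars false

namespace Cfsg.Agent.Lib.DefectOne

open Cfsg Subgroup Finset Cfsg.Agent.Lib.Blocks.Local Cfsg.Agent.Lib.Blocks.Central
open scoped ComplexConjugate

universe u

section Main

variable {G : Type u} [Group G] [Fintype G] {p : ℕ} [hp : Fact p.Prime] {x : G} {H : Subgroup G}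
  [Fintype H] (hL : LocalData p x H)

/-- The inertia data. -/
structure InertiaData (hL : LocalData p x H) (φ : H → ℂ) (A : Finset (ZMod p)) (e t : ℕ) : Prop where
  epos : 0 < e
  het : p - 1 = e * t
  Acard : A.card = e
  hA : ∀ α, α ∈ A ↔ α ^ e = 1
  idx : (centralizer (zpowers x : Set G)).relIndex (TT hL φ) = e
  T1 : ∀ g ∈ TT hL φ, alphaG hL g ∈ A
  T2 : ∀ α ∈ A, ∃ g ∈ TT hL φ, alphaG hL g = α
  fib : ∀ f : ZMod p → ℂ, ∑ g ∈ (open scoped Classical in univ.filter (fun g => g ∈ TT hL φ)), f (alphaG hL g) =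
        (Nat.card (centralizer (zpowers x : Set G)) : ℂ) * ∑ α ∈ A, f α

include hL in
lemma exists_inertiaData {φ : H → ℂ} (hφ : IsClassFunction H φ) : ∃ A e t, InertiaData hL φ A e t := by
  classical
  obtain ⟨A, e, t, h1, h2, h3, h4, h5, h6, h7, h8⟩ := exists_inertia hL (TT hL φ) (TT_le hL φ)
    (fun c hc => mem_TT_of_comm hL hφ hc)
  refine ⟨A, e, t, h1, h2, h3, h4, h5, h6, h7, ?_⟩
  intro f
  convert h8 f

omit [Fintype H] in
include hL in
lemma not_dvd_index : ¬ p ∣ (centralizer (zpowers x : Set G)).index := by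
  have hCcard := (centralizer (zpowers x : Set G)).card_mul_index
  have hpC : p ∣ Nat.card (centralizer (zpowers x : Set G)) := by
    have h1 : x ∈ centralizer (zpowers x : Set G) := by
      rw [Subgroup.mem_centralizer_iff]
      intro h hh
      obtain ⟨k, rfl⟩ := Subgroup.mem_zpowers_iff.1 hh
      exact ((Commute.refl x).zpow_left k).eq
    have h2 := Subgroup.orderOf_dvd_natCard (centralizer (zpowers x : Set G)) h1
    rwa [hL.ord] at h2
  intro h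
  apply hL.syl
  rw [← hCcard, pow_two]
  exact Nat.mul_dvd_mul hpC h

include hL in
lemma not_dvd_degree {φ : H → ℂ} (hφ : IsIrrCharacter H φ) {d : ℕ} (hd : φ 1 = d) : ¬ p ∣ d := by
  obtain ⟨d', hd', -, hdvd⟩ := Cfsg.Agent.Lib.Char.GlaubOver.exists_degree_dvd hφ
  have hdeq : d' = d := by
    have : (d' : ℂ) = d := by rw [← hd', hd]
    exact_mod_cast this
  subst hdeq
  exact fun h => hL.cop (h.trans hdvd)

/-- The sum of a row. -/
noncomputable def Rsum (x : G) (H : Subgroup G) [Fintype H] (φ : H → ℂ) (ζ : ℂ) (χ : G → ℂ) : ℤ :=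
  ∑ a : ZMod p, rr x H φ ζ χ a

lemma mTot_eq (φ : H → ℂ) (ζ : ℂ) (χ : G → ℂ) :
    (mTot (p := p) x H χ φ ζ : ℤ) = p * (mval x H χ φ ζ (0 : ZMod p) : ℤ) + Rsum (p := p) x H φ ζ χ := by
  unfold mTot Rsum rr
  push_cast
  rw [sum_sub_distrib, sum_const, card_univ, ZMod.card, nsmul_eq_mul]
  ring

lemma mTot_cast (φ : H → ℂ) (ζ : ℂ) (χ : G → ℂ) :
    (mTot (p := p) x H χ φ ζ : ℂ) = p * (mval x H χ φ ζ (0 : ZMod p) : ℂ) + (Rsum (p := p) x H φ ζ χ : ℂ) := by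
  have h := mTot_eq (p := p) (x := x) φ ζ χ
  have h2 : ((mTot (p := p) x H χ φ ζ : ℤ) : ℂ) = ((p * (mval x H χ φ ζ (0 : ZMod p) : ℤ) + Rsum (p := p) x H φ ζ χ : ℤ) : ℂ) := by
    rw [h]
  push_cast at h2
  exact h2

/-- The congruence of degrees. -/
lemma degree_cong (χ : IrrCharacter G) {φ : H → ℂ} (hφ : IsIrrCharacter H φ) {ζ : ℂ} (hζ : IsPrimitiveRoot ζ p)
    {A : Finset (ZMod p)} {e t : ℕ} (hI : InertiaData hL φ A e t) (dχ dφ : ℕ) (hdχ : (χ : G → ℂ) 1 = dχ) (hdφ : φ 1 = dφ)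
    (hne : ∃ a : ZMod p, rr x H φ ζ (χ : G → ℂ) a ≠ 0) :
    ∃ k : ℤ, (((centralizer (zpowers x : Set G)).index * dφ : ℕ) : ℤ) * Rsum (p := p) x H φ ζ (χ : G → ℂ) = dχ * e + p * k := by
  rcases row_main hL χ hφ hζ hI.epos hI.het hI.Acard hI.hA hI.T1 hI.T2 hI.fib dχ dφ hdχ hdφ with h | ⟨ε, -, h, -⟩
  · obtain ⟨a, ha⟩ := hne
    exact absurd (h a) ha
  · have h1 : (((((centralizer (zpowers x : Set G)).index * dφ : ℕ) : ℤ) * Rsum (p := p) x H φ ζ (χ : G → ℂ) : ℤ) : ZMod p) =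
        (((dχ : ℤ) * (e : ℤ) : ℤ) : ZMod p) := by
      unfold Rsum rr
      push_cast
      push_cast at h
      exact h
    have h2 := (ZMod.intCast_eq_intCast_iff_dvd_sub _ _ p).1 h1
    obtain ⟨k, hk⟩ := h2
    refine ⟨-k, ?_⟩
    push_cast at hk ⊢
    linear_combination -hk

variable [Fintype (IrrCharacter G)]

lemma Rsum_of_X {φ : H → ℂ} {ζ : ℂ} {e t : ℕ} {X Y : Finset (IrrCharacter G)} {εX : IrrCharacter G → ℤ} {ε₀ : ℤ}
    {bY : IrrCharacter G → ZMod p} (hS : RowStructure x H φ ζ e t X Y εX ε₀ bY) {χ : IrrCharacter G} (hχ : χ ∈ X) :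
    Rsum (p := p) x H φ ζ (χ : G → ℂ) = εX χ * ((p : ℤ) - 1) := by
  classical
  unfold Rsum
  rw [← add_sum_erase univ _ (mem_univ (0 : ZMod p)), rr_zero, zero_add]
  have h1 : ∀ a ∈ univ.erase (0 : ZMod p), rr x H φ ζ (χ : G → ℂ) a = εX χ := fun a ha =>
    (hS.rowX χ hχ).2 a (mem_erase.1 ha).1
  rw [sum_congr rfl h1, sum_const, card_erase_of_mem (mem_univ _), card_univ, ZMod.card, nsmul_eq_mul]
  have := hp.out.pos
  rw [Nat.cast_sub (by omega)]
  push_cast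
  ring

lemma Rsum_of_Y {φ : H → ℂ} {ζ : ℂ} {e t : ℕ} {X Y : Finset (IrrCharacter G)} {εX : IrrCharacter G → ℤ} {ε₀ : ℤ}
    {bY : IrrCharacter G → ZMod p} (hS : RowStructure x H φ ζ e t X Y εX ε₀ bY) {A : Finset (ZMod p)}
    (hAcard : A.card = e) (hA : ∀ α, α ∈ A ↔ α ^ e = 1) {θ : IrrCharacter G} (hθ : θ ∈ Y) :
    Rsum (p := p) x H φ ζ (θ : G → ℂ) = ε₀ * e := by
  classical
  unfold Rsum
  rw [← add_sum_erase univ _ (mem_univ (0 : ZMod p)), rr_zero, zero_add]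
  have h1 : ∀ a ∈ univ.erase (0 : ZMod p), rr x H φ ζ (θ : G → ℂ) a = if a ^ e = bY θ then ε₀ else 0 := fun a ha =>
    hS.rowY θ hθ a (mem_erase.1 ha).1
  rw [sum_congr rfl h1, sum_ite, sum_const_zero, add_zero, sum_const, nsmul_eq_mul]
  obtain ⟨a, ha, hb⟩ := hS.exY θ hθ
  have h2 := card_fibre hAcard hA ha
  have h3 : ((univ.erase (0 : ZMod p)).filter (fun c => c ^ e = bY θ)).card = e := by
    refine Eq.trans ?_ h2
    congr 1
    ext c
    simp only [mem_filter, mem_erase, mem_univ, and_true, true_and, hb]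
  rw [h3]
  ring

lemma e_lt_p {A : Finset (ZMod p)} {e t : ℕ} {φ : H → ℂ} (hI : InertiaData hL φ A e t) : e < p := by
  have h1 := hI.het
  have h2 := hp.out.pos
  have h3 : e ∣ p - 1 := ⟨t, h1⟩
  have h4 := Nat.le_of_dvd (by have := hp.out.one_lt; omega) h3
  omega

/-- The row sum is prime to `p`. -/
lemma not_dvd_Rsum {φ : H → ℂ} {ζ : ℂ} {e t : ℕ} {X Y : Finset (IrrCharacter G)} {εX : IrrCharacter G → ℤ} {ε₀ : ℤ}
    {bY : IrrCharacter G → ZMod p} (hS : RowStructure x H φ ζ e t X Y εX ε₀ bY) {A : Finset (ZMod p)}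
    (hI : InertiaData hL φ A e t) {χ : IrrCharacter G} (hχ : χ ∈ X ∪ Y) :
    ¬ (p : ℤ) ∣ Rsum (p := p) x H φ ζ (χ : G → ℂ) := by
  have hp1 := hp.out.one_lt
  rcases mem_union.1 hχ with h | h
  · rw [Rsum_of_X hS h]
    have hs := (hS.rowX χ h).1
    intro hd
    have h2 : (p : ℤ) ∣ 1 := by
      rcases hs with h3 | h3 <;> rw [h3] at hd
      · have h4 : (p : ℤ) ∣ (p : ℤ) - (1 * ((p : ℤ) - 1)) := dvd_sub (dvd_refl _) hd
        have h5 : (p : ℤ) - (1 * ((p : ℤ) - 1)) = 1 := by ring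
        rwa [h5] at h4
      · have h4 : (p : ℤ) ∣ (p : ℤ) + (-1 * ((p : ℤ) - 1)) := dvd_add (dvd_refl _) hd
        have h5 : (p : ℤ) + (-1 * ((p : ℤ) - 1)) = 1 := by ring
        rwa [h5] at h4
    have h3 : p ∣ 1 := by exact_mod_cast h2
    exact hp.out.one_lt.ne' (Nat.dvd_one.1 h3)
  · rw [Rsum_of_Y hS hI.Acard hI.hA h]
    have hs := hS.sign₀
    intro hd
    have h2 : (p : ℤ) ∣ (e : ℤ) := by
      rcases hs with h3 | h3 <;> rw [h3] at hd
      · simpa using hd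
      · simpa using hd
    have h3 : p ∣ e := by exact_mod_cast h2
    have h4 := Nat.le_of_dvd hI.epos h3
    have h5 := e_lt_p hL hI
    omega

lemma not_dvd_mTot {φ : H → ℂ} {ζ : ℂ} {e t : ℕ} {X Y : Finset (IrrCharacter G)} {εX : IrrCharacter G → ℤ} {ε₀ : ℤ}
    {bY : IrrCharacter G → ZMod p} (hS : RowStructure x H φ ζ e t X Y εX ε₀ bY) {A : Finset (ZMod p)}
    (hI : InertiaData hL φ A e t) {χ : IrrCharacter G} (hχ : χ ∈ X ∪ Y) :
    ¬ p ∣ mTot (p := p) x H (χ : G → ℂ) φ ζ := by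
  intro h
  apply not_dvd_Rsum hL hS hI hχ
  have h1 : (p : ℤ) ∣ (mTot (p := p) x H (χ : G → ℂ) φ ζ : ℤ) := by exact_mod_cast h
  rw [mTot_eq] at h1
  exact (Int.dvd_add_right (dvd_mul_right _ _)).1 h1

/-- Members of `X ∪ Y` have degree prime to `p`. -/
lemma not_dvd_deg {φ : H → ℂ} (hφ : IsIrrCharacter H φ) {ζ : ℂ} (hζ : IsPrimitiveRoot ζ p) {e t : ℕ}
    {X Y : Finset (IrrCharacter G)} {εX : IrrCharacter G → ℤ} {ε₀ : ℤ}
    {bY : IrrCharacter G → ZMod p} (hS : RowStructure x H φ ζ e t X Y εX ε₀ bY) {A : Finset (ZMod p)}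
    (hI : InertiaData hL φ A e t) {χ : IrrCharacter G} (hχ : χ ∈ X ∪ Y) {dχ : ℕ} (hdχ : (χ : G → ℂ) 1 = dχ) :
    ¬ p ∣ dχ := by
  intro hd
  obtain ⟨dφ, -, hdφ⟩ := Cfsg.Agent.Lib.Char.Ortho.irr_degree_pos hφ
  obtain ⟨k, hk⟩ := degree_cong hL χ hφ hζ hI dχ dφ hdχ hdφ ((hS.supp χ).1 hχ)
  have h1 : (p : ℤ) ∣ (((centralizer (zpowers x : Set G)).index * dφ : ℕ) : ℤ) * Rsum (p := p) x H φ ζ (χ : G → ℂ) := by
    rw [hk]
    refine dvd_add (Dvd.dvd.mul_right ?_ _) (dvd_mul_right _ _)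
    exact_mod_cast hd
  have hpi : Prime (p : ℤ) := Nat.prime_iff_prime_int.1 hp.out
  rcases hpi.dvd_or_dvd h1 with h2 | h2
  · have h3 : p ∣ (centralizer (zpowers x : Set G)).index * dφ := by exact_mod_cast h2
    rcases (hp.out.dvd_mul).1 h3 with h4 | h4
    · exact not_dvd_index hL h4
    · exact not_dvd_degree hL hφ hdφ h4
  · exact not_dvd_Rsum hL hS hI hχ h2

variable {M : Ideal AlgInt} [hMp : M.IsPrime]

include hL in
/-- The central character of a character whose total multiplicity is prime to `p`. -/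
theorem centralChar_congr (hM : IsPModular p M) {χ : G → ℂ} (hχ : IsIrrCharacter G χ)
    {φ : H → ℂ} (hφ : IsIrrCharacter H φ) {ζ : ℂ} (hζ : IsPrimitiveRoot ζ p)
    (hm : ¬ p ∣ mTot (p := p) x H χ φ ζ) (g : G) :
    open scoped Classical in
    MemLocalIdeal M (φ 1 * centralChar χ g - ∑ i : ZMod p, ∑ y : H, (if IsConj g (XX x i * y) then 1 else 0) * φ y) := by
  classical
  let z : G → ℂ := fun u => if IsConj g u then 1 else 0
  have hz : IsClassFunction G z := by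
    intro u c
    simp only [z]
    have : IsConj g (c * u * c⁻¹) ↔ IsConj g u :=
      ⟨fun h1 => h1.trans (isConj_iff.mpr ⟨c⁻¹, by group⟩), fun h1 => h1.trans (isConj_iff.mpr ⟨c, rfl⟩)⟩
    simp only [this]
  have hzl : ∀ u, MemLocalRing M (z u) := by
    intro u
    simp only [z]
    split_ifs
    · exact memLocalRing_one
    · exact memLocalRing_zero
  have h1 := omega_congr hM hL hχ hφ hζ hz hzl
  have h2 : omega χ (ofFun z) = centralChar χ g := by
    rw [← omega_classSum (isClassFunction_of_irr hχ) g]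
    rfl
  rw [h2] at h1
  have hint : MemLocalRing M (φ 1 * centralChar χ g - ∑ i : ZMod p, ∑ y : H, (if IsConj g (XX x i * y) then 1 else 0) * φ y) := by
    refine memLocalRing_sub (memLocalRing_mul ?_ ?_) ?_
    · exact memLocalRing_of_isIntegral (isIntegral_irr hφ 1)
    · exact memLocalRing_of_isIntegral (isIntegral_centralChar hχ g)
    · refine memLocalRing_sum _ _ fun i _ => memLocalRing_sum _ _ fun y _ => memLocalRing_mul ?_ ?_
      · split_ifs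
        · exact memLocalRing_one
        · exact memLocalRing_zero
      · exact memLocalRing_of_isIntegral (isIntegral_irr hφ y)
  exact memLocalIdeal_of_mul_right hint (memLocalRing_natCast _) h1 ((memLocalIdeal_natCast_iff hM).not.2 hm)

include hL in
/-- All characters with total multiplicity prime to `p` are in one block. -/
theorem sameBlock_of_mTot (hM : IsPModular p M) {χ χ' : G → ℂ} (hχ : IsIrrCharacter G χ) (hχ' : IsIrrCharacter G χ')
    {φ : H → ℂ} (hφ : IsIrrCharacter H φ) {ζ : ℂ} (hζ : IsPrimitiveRoot ζ p)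
    (hm : ¬ p ∣ mTot (p := p) x H χ φ ζ) (hm' : ¬ p ∣ mTot (p := p) x H χ' φ ζ) : SameBlock M χ χ' := by
  classical
  intro g
  have h1 := centralChar_congr hL hM hχ hφ hζ hm g
  have h2 := centralChar_congr hL hM hχ' hφ hζ hm' g
  have h3 := memLocalIdeal_sub h1 h2
  have h4 : φ 1 * centralChar χ g - (∑ i : ZMod p, ∑ y : H, (if IsConj g (XX x i * y) then 1 else 0) * φ y) -
      (φ 1 * centralChar χ' g - ∑ i : ZMod p, ∑ y : H, (if IsConj g (XX x i * y) then 1 else 0) * φ y) =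
      (centralChar χ g - centralChar χ' g) * φ 1 := by ring
  rw [h4] at h3
  obtain ⟨dφ, -, hdφ⟩ := Cfsg.Agent.Lib.Char.Ortho.irr_degree_pos hφ
  refine memLocalIdeal_of_mul_right ?_ (memLocalRing_of_isIntegral (isIntegral_irr hφ 1)) h3 ?_
  · exact memLocalRing_sub (memLocalRing_of_isIntegral (isIntegral_centralChar hχ g))
      (memLocalRing_of_isIntegral (isIntegral_centralChar hχ' g))
  · rw [hdφ, memLocalIdeal_natCast_iff hM]
    exact not_dvd_degree hL hφ hdφ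

/-- `ω_χ(z_φ) ≡ e` if `χ` has a non-trivial row. -/
theorem omega_z_of_row (hM : IsPModular p M) (χ : IrrCharacter G) {φ : H → ℂ} (hφ : IsIrrCharacter H φ) {ζ : ℂ}
    (hζ : IsPrimitiveRoot ζ p) {A : Finset (ZMod p)} {e t : ℕ} (hI : InertiaData hL φ A e t)
    (hne : ∃ a : ZMod p, rr x H φ ζ (χ : G → ℂ) a ≠ 0) {dχ : ℕ} (hdχ : (χ : G → ℂ) 1 = dχ) (hp' : ¬ p ∣ dχ) :
    MemLocalIdeal M (omega (χ : G → ℂ) (ofFun (zFun x H φ)) - e) := by
  obtain ⟨dφ, -, hdφ⟩ := Cfsg.Agent.Lib.Char.Ortho.irr_degree_pos hφ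
  obtain ⟨k, hk⟩ := degree_cong hL χ hφ hζ hI dχ dφ hdχ hdφ hne
  have h1 := omega_zFun hL χ.2 φ
  rw [SS_one hL χ.2 hφ hζ, hdχ, hdφ, mTot_cast] at h1
  have hk' : ((centralizer (zpowers x : Set G)).index : ℂ) * dφ * (Rsum (p := p) x H φ ζ (χ : G → ℂ) : ℂ) = dχ * e + p * k := by
    have : ((((centralizer (zpowers x : Set G)).index * dφ : ℕ) : ℤ) * Rsum (p := p) x H φ ζ (χ : G → ℂ) : ℤ) = (((dχ : ℤ) * e + p * k : ℤ)) := hk
    have h3 := congrArg (Int.cast : ℤ → ℂ) this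
    rw [Int.cast_mul, Int.cast_add, Int.cast_mul, Int.cast_mul, Int.cast_natCast, Nat.cast_mul] at h3
    simpa using h3
  have h2 : (omega (χ : G → ℂ) (ofFun (zFun x H φ)) - e) * dχ =
      (p : ℂ) * (((centralizer (zpowers x : Set G)).index : ℂ) * dφ * (mval x H (χ : G → ℂ) φ ζ (0 : ZMod p) : ℂ) + k) := by
    linear_combination h1 + hk'
  have hint : MemLocalRing M (omega (χ : G → ℂ) (ofFun (zFun x H φ))) := by
    rw [omega_eq_sum_centralChar (isClassFunction_of_irr χ.2) (ofFun_zFun_mem hM hL hφ).1]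
    refine memLocalRing_sum _ _ fun K _ => memLocalRing_mul ?_ ?_
    · exact (ofFun_zFun_mem hM hL hφ).2 _
    · exact memLocalRing_of_isIntegral (isIntegral_centralChar χ.2 _)
  refine memLocalIdeal_of_mul_right (memLocalRing_sub hint (memLocalRing_natCast _)) (memLocalRing_natCast dχ) ?_
    ((memLocalIdeal_natCast_iff hM).not.2 hp')
  rw [h2]
  refine memLocalIdeal_mul_right (memLocalIdeal_natCast_self hM) ?_
  refine memLocalRing_add (memLocalRing_mul (memLocalRing_mul ?_ ?_) ?_) ?_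
  · exact memLocalRing_natCast _
  · exact memLocalRing_natCast _
  · exact memLocalRing_natCast _
  · exact memLocalRing_intCast _

include hL in
/-- `ω_χ(z_φ) ≡ 0` if `χ` has no row over `φ` and degree prime to `p`. -/
theorem omega_z_of_no_row (hM : IsPModular p M) (χ : IrrCharacter G) {φ : H → ℂ} (hφ : IsIrrCharacter H φ) {ζ : ℂ}
    (hζ : IsPrimitiveRoot ζ p) (hne : ∀ a : ZMod p, rr x H φ ζ (χ : G → ℂ) a = 0)
    {dχ : ℕ} (hdχ : (χ : G → ℂ) 1 = dχ) (hp' : ¬ p ∣ dχ) :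
    MemLocalIdeal M (omega (χ : G → ℂ) (ofFun (zFun x H φ))) := by
  obtain ⟨dφ, -, hdφ⟩ := Cfsg.Agent.Lib.Char.Ortho.irr_degree_pos hφ
  have h1 := omega_zFun hL χ.2 φ
  have hR : Rsum (p := p) x H φ ζ (χ : G → ℂ) = 0 := by
    unfold Rsum
    exact sum_eq_zero fun a _ => hne a
  rw [SS_one hL χ.2 hφ hζ, hdχ, hdφ, mTot_cast, hR] at h1
  have h2 : omega (χ : G → ℂ) (ofFun (zFun x H φ)) * dχ =
      (p : ℂ) * (((centralizer (zpowers x : Set G)).index : ℂ) * dφ * (mval x H (χ : G → ℂ) φ ζ (0 : ZMod p) : ℂ)) := by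
    rw [Int.cast_zero] at h1
    linear_combination h1
  have hint : MemLocalRing M (omega (χ : G → ℂ) (ofFun (zFun x H φ))) := by
    rw [omega_eq_sum_centralChar (isClassFunction_of_irr χ.2) (ofFun_zFun_mem hM hL hφ).1]
    refine memLocalRing_sum _ _ fun K _ => memLocalRing_mul ?_ ?_
    · exact (ofFun_zFun_mem hM hL hφ).2 _
    · exact memLocalRing_of_isIntegral (isIntegral_centralChar χ.2 _)
  refine memLocalIdeal_of_mul_right hint (memLocalRing_natCast dχ) ?_ ((memLocalIdeal_natCast_iff hM).not.2 hp')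
  rw [h2]
  refine memLocalIdeal_mul_right (memLocalIdeal_natCast_self hM) ?_
  exact memLocalRing_mul (memLocalRing_mul (memLocalRing_natCast _) (memLocalRing_natCast _)) (memLocalRing_natCast _)

/-- A character in the block of a character with non-trivial row, of degree prime to `p`, has a non-trivial row. -/
theorem row_of_sameBlock (hM : IsPModular p M) {χ χ' : IrrCharacter G} {φ : H → ℂ} (hφ : IsIrrCharacter H φ) {ζ : ℂ}
    (hζ : IsPrimitiveRoot ζ p) {A : Finset (ZMod p)} {e t : ℕ} (hI : InertiaData hL φ A e t)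
    (hne : ∃ a : ZMod p, rr x H φ ζ (χ : G → ℂ) a ≠ 0) {dχ dχ' : ℕ} (hdχ : (χ : G → ℂ) 1 = dχ) (hp' : ¬ p ∣ dχ)
    (hdχ' : (χ' : G → ℂ) 1 = dχ') (hp'' : ¬ p ∣ dχ') (hsame : SameBlock M (χ : G → ℂ) (χ' : G → ℂ)) :
    ∃ a : ZMod p, rr x H φ ζ (χ' : G → ℂ) a ≠ 0 := by
  by_contra hno
  push Not at hno
  have h1 := omega_z_of_row hL hM χ hφ hζ hI hne hdχ hp'
  have h2 := omega_z_of_no_row hL hM χ' hφ hζ hno hdχ' hp''
  have h3 := memLocalIdeal_omega_sub χ.2 χ'.2 hsame (ofFun_zFun_mem hM hL hφ)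
  have h4 := memLocalIdeal_sub (memLocalIdeal_add h3 h2) h1
  have h5 : (omega (χ : G → ℂ) (ofFun (zFun x H φ)) - omega (χ' : G → ℂ) (ofFun (zFun x H φ))) +
      omega (χ' : G → ℂ) (ofFun (zFun x H φ)) - (omega (χ : G → ℂ) (ofFun (zFun x H φ)) - e) = (e : ℂ) := by ring
  rw [h5, memLocalIdeal_natCast_iff hM] at h4
  have h6 := Nat.le_of_dvd hI.epos h4
  have h7 := e_lt_p hL hI
  omega

/-- Two characters of `H` on which `χ` has non-trivial rows are conjugate. -/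
theorem rel_of_rows (hM : IsPModular p M) (χ : IrrCharacter G) {φ₁ φ₂ : H → ℂ} (hφ₁ : IsIrrCharacter H φ₁)
    (hφ₂ : IsIrrCharacter H φ₂) {ζ : ℂ} (hζ : IsPrimitiveRoot ζ p) {A : Finset (ZMod p)} {e t : ℕ}
    (hI : InertiaData hL φ₁ A e t) (hne : ∃ a : ZMod p, rr x H φ₁ ζ (χ : G → ℂ) a ≠ 0) {dχ : ℕ}
    (hdχ : (χ : G → ℂ) 1 = dχ) (hp' : ¬ p ∣ dχ) (hm₂ : ¬ p ∣ mTot (p := p) x H (χ : G → ℂ) φ₂ ζ) :
    RelN hL φ₁ φ₂ := by
  by_contra hrel
  have h1 := omega_mul_SS_of_not_rel hM hL χ.2 hφ₁ hφ₂ hrel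
  rw [SS_one hL χ.2 hφ₂ hζ] at h1
  obtain ⟨d₂, -, hd₂⟩ := Cfsg.Agent.Lib.Char.Ortho.irr_degree_pos hφ₂
  rw [hd₂, ← Nat.cast_mul] at h1
  have hint : MemLocalRing M (omega (χ : G → ℂ) (ofFun (zFun x H φ₁))) := by
    rw [omega_eq_sum_centralChar (isClassFunction_of_irr χ.2) (ofFun_zFun_mem hM hL hφ₁).1]
    refine memLocalRing_sum _ _ fun K _ => memLocalRing_mul ?_ ?_
    · exact (ofFun_zFun_mem hM hL hφ₁).2 _
    · exact memLocalRing_of_isIntegral (isIntegral_centralChar χ.2 _)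
  have h2 : ¬ MemLocalIdeal M ((d₂ * mTot (p := p) x H (χ : G → ℂ) φ₂ ζ : ℕ) : ℂ) := by
    rw [memLocalIdeal_natCast_iff hM, hp.out.dvd_mul]
    rintro (h | h)
    · exact not_dvd_degree hL hφ₂ hd₂ h
    · exact hm₂ h
  have h3 := memLocalIdeal_of_mul_right hint (memLocalRing_natCast _) h1 h2
  have h4 := omega_z_of_row hL hM χ hφ₁ hζ hI hne hdχ hp'
  have h5 := memLocalIdeal_sub h3 h4
  have h6 : omega (χ : G → ℂ) (ofFun (zFun x H φ₁)) - (omega (χ : G → ℂ) (ofFun (zFun x H φ₁)) - e) = (e : ℂ) := by ring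
  rw [h6, memLocalIdeal_natCast_iff hM] at h5
  have h7 := Nat.le_of_dvd hI.epos h5
  have h8 := e_lt_p hL hI
  omega

/-- The block of a member of `X ∪ Y` when all degrees are prime to `p`. -/
theorem block_eq_rows (hM : IsPModular p M) {φ : H → ℂ} (hφ : IsIrrCharacter H φ) {ζ : ℂ} (hζ : IsPrimitiveRoot ζ p)
    {e t : ℕ} {X Y : Finset (IrrCharacter G)} {εX : IrrCharacter G → ℤ} {ε₀ : ℤ}
    {bY : IrrCharacter G → ZMod p} (hS : RowStructure x H φ ζ e t X Y εX ε₀ bY) {A : Finset (ZMod p)}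
    (hI : InertiaData hL φ A e t) {χ₀ : IrrCharacter G} (hχ₀ : χ₀ ∈ X ∪ Y)
    (hdeg : ∀ χ ∈ blockOf M (χ₀ : G → ℂ), ¬ p ∣ charDegree (χ : G → ℂ)) :
    blockOf M (χ₀ : G → ℂ) = ((X ∪ Y : Finset (IrrCharacter G)) : Set (IrrCharacter G)) := by
  classical
  have hdc : ∀ χ : IrrCharacter G, (χ : G → ℂ) 1 = (charDegree (χ : G → ℂ) : ℂ) := fun χ =>
    (Cfsg.Agent.Lib.Char.Values.IsCharacter.charDegree_cast
      (Cfsg.Agent.Lib.Char.Basic.isCharacter_of_isIrrCharacter χ.2)).symm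
  ext χ
  rw [Finset.mem_coe]
  constructor
  · intro hχ
    have hpχ₀ : ¬ p ∣ charDegree (χ₀ : G → ℂ) := not_dvd_deg hL hφ hζ hS hI hχ₀ (hdc χ₀)
    have hsame : SameBlock M (χ₀ : G → ℂ) (χ : G → ℂ) := hχ
    exact (hS.supp χ).2 (row_of_sameBlock hL hM hφ hζ hI ((hS.supp χ₀).1 hχ₀) (hdc χ₀) hpχ₀ (hdc χ) (hdeg χ hχ) hsame)
  · intro hχ
    exact sameBlock_of_mTot hL hM χ₀.2 χ.2 hφ hζ (not_dvd_mTot hL hS hI hχ₀) (not_dvd_mTot hL hS hI hχ)

end Main

section Defect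

variable {G : Type u} [Group G] [Fintype G] {p : ℕ} [hp : Fact p.Prime] {M : Ideal AlgInt} [hMp : M.IsPrime]

/-- If `p ∣ χ(1)` and `p² ∤ |G|`, then `χ` is alone in its block. -/
lemma blockOf_singleton_of_dvd (hM : IsPModular p M) (hsq : ¬ p ^ 2 ∣ Nat.card G) {χ : IrrCharacter G}
    (h : p ∣ charDegree (χ : G → ℂ)) : blockOf M (χ : G → ℂ) = {χ} := by
  apply Cfsg.Agent.Lib.Blocks.Pairs.blockOf_eq_singleton hM
  have hdvd := Cfsg.Agent.Lib.Blocks.HeightZero.charDegree_dvd_card χ.2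
  have hG0 : Nat.card G ≠ 0 := Nat.card_pos.ne'
  have hd0 : charDegree (χ : G → ℂ) ≠ 0 := fun h0 => hG0 (by
    rw [h0] at hdvd
    exact zero_dvd_iff.1 hdvd)
  have h1 : 1 ≤ (charDegree (χ : G → ℂ)).factorization p := hp.out.factorization_pos_of_dvd hd0 h
  have h2 : (charDegree (χ : G → ℂ)).factorization p ≤ (Nat.card G).factorization p :=
    (Nat.factorization_le_iff_dvd hd0 hG0).2 hdvd p
  have h3 : (Nat.card G).factorization p < 2 := by
    by_contra h4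
    apply hsq
    exact (hp.out.pow_dvd_iff_le_factorization hG0).2 (by omega)
  omega

/-- All members of a block containing a character of degree prime to `p` have degree prime to `p`. -/
lemma not_dvd_of_mem_block (hM : IsPModular p M) (hsq : ¬ p ^ 2 ∣ Nat.card G) {χ₀ χ : IrrCharacter G}
    (h0 : ¬ p ∣ charDegree (χ₀ : G → ℂ)) (hχ : χ ∈ blockOf M (χ₀ : G → ℂ)) : ¬ p ∣ charDegree (χ : G → ℂ) := by
  intro h
  have h1 := blockOf_singleton_of_dvd hM hsq h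
  have h2 : blockOf M (χ₀ : G → ℂ) = blockOf M (χ : G → ℂ) := (Cfsg.Agent.Lib.Blocks.Osima.blockOf_eq_of_mem hχ).symm
  have h3 : χ₀ ∈ blockOf M (χ₀ : G → ℂ) := Cfsg.Agent.Lib.Blocks.Osima.mem_blockOf_self χ₀
  rw [h2, h1] at h3
  have h4 : χ₀ = χ := h3
  exact h0 (h4 ▸ h)

end Defect

end Cfsg.Agent.Lib.DefectOne
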