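import Mathlib
import Cfsg.Agent.Lib.DefectOne.BlockC
import Cfsg.Agent.Lib.Blocks.Principal

/-!
# The local data for a Sylow subgroup of prime order; values on `p`-singular elements
-/

set_option autoImplicit false
set_option linter.unusedSectionVars false

namespace Cfsg.Agent.Lib.DefectOne

open Cfsg Subgroup Finset Cfsg.Agent.Lib.Blocks.Local Cfsg.Agent.Lib.Blocks.Central
open scoped ComplexConjugate

universe u

section Exist

variable {G : Type u} [Group G] {p : ℕ} [hp : Fact p.Prime]

/-- The local data exist. -/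
theorem exists_localData [Finite G] (P : Sylow p G) (hP : Nat.card P = p) {x : G} (hx : x ∈ (P : Subgroup G)) (hx1 : x ≠ 1) :
    (zpowers x = (P : Subgroup G)) ∧ ∃ H : Subgroup G, LocalData p x H := by
  classical
  have hord : orderOf x = p := by
    have h1 := Subgroup.orderOf_dvd_natCard (P : Subgroup G) hx
    rw [hP] at h1
    rcases (Nat.dvd_prime hp.out).1 h1 with h2 | h2
    · exact absurd (orderOf_eq_one_iff.1 h2) hx1
    · exact h2
  have hz : zpowers x = (P : Subgroup G) := by
    apply Subgroup.eq_of_le_of_card_ge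
    · rw [Subgroup.zpowers_le]
      exact hx
    · rw [Nat.card_zpowers, hord, hP]
  refine ⟨hz, ?_⟩
  have hsyl : ¬ p ^ 2 ∣ Nat.card G := by
    intro h
    have h1 := P.pow_dvd_card_of_pow_dvd_card h
    rw [hP] at h1
    have h2 := Nat.le_of_dvd hp.out.pos h1
    have h3 := hp.out.two_le
    nlinarith
  set C := centralizer (zpowers x : Set G) with hC
  have hCmem : ∀ c : G, c ∈ C ↔ c * x = x * c := by
    intro c
    constructor
    · intro hc
      exact (Subgroup.mem_centralizer_iff.1 hc x (Subgroup.mem_zpowers x)).symm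
    · intro hc
      rw [hC, Subgroup.mem_centralizer_iff]
      intro h hh
      obtain ⟨k, rfl⟩ := Subgroup.mem_zpowers_iff.1 hh
      have : Commute c x := hc
      exact (this.zpow_right k).eq.symm
  have hxC : x ∈ C := (hCmem x).2 rfl
  let x' : C := ⟨x, hxC⟩
  let N₀ : Subgroup C := zpowers x'
  have hcomm : ∀ c : C, c * x' = x' * c := by
    intro c
    exact Subtype.ext ((hCmem c).1 c.2)
  haveI hN₀ : N₀.Normal := by
    constructor
    intro n hn c
    obtain ⟨k, rfl⟩ := Subgroup.mem_zpowers_iff.1 hn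
    have h1 : Commute c (x' ^ k) := (show Commute c x' from hcomm c).zpow_right k
    have h2 : c * x' ^ k * c⁻¹ = x' ^ k := by
      rw [h1.eq]
      group
    rw [h2]
    exact hn
  have hordx' : orderOf x' = p := by
    rw [← hord, ← Subgroup.orderOf_coe]
  have hcardN : Nat.card N₀ = p := by
    simp only [N₀]
    rw [Nat.card_zpowers, hordx']
  have hmul : Nat.card N₀ * N₀.index = Nat.card C := N₀.card_mul_index
  have hCdvd : Nat.card C ∣ Nat.card G := Subgroup.card_subgroup_dvd_card C
  have hidx : ¬ p ∣ N₀.index := by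
    intro h
    apply hsyl
    refine dvd_trans ?_ hCdvd
    rw [← hmul, hcardN, pow_two]
    exact mul_dvd_mul_left p h
  have hcop : Nat.Coprime (Nat.card N₀) N₀.index := by
    rw [hcardN]
    exact (Nat.Prime.coprime_iff_not_dvd hp.out).2 hidx
  obtain ⟨H₀, hH₀⟩ := Subgroup.exists_right_complement'_of_coprime hcop
  refine ⟨H₀.map C.subtype, hord, hsyl, ?_, ?_, ?_⟩
  · rintro y ⟨c, -, rfl⟩
    exact (hCmem c).1 c.2
  · have h1 : Nat.card (H₀.map C.subtype) = Nat.card H₀ :=
      Nat.card_congr (H₀.equivMapOfInjective C.subtype C.subtype_injective).symm.toEquiv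
    rw [h1]
    have h2 := hH₀.card_mul_card
    intro h3
    apply hidx
    have h4 : Nat.card N₀ * Nat.card H₀ = Nat.card N₀ * N₀.index := by rw [h2, hmul]
    have h5 := Nat.eq_of_mul_eq_mul_left (by rw [hcardN]; exact hp.out.pos) h4
    rw [← h5]
    exact h3
  · intro c hc
    have hcC : c ∈ C := (hCmem c).2 hc
    obtain ⟨⟨n, h⟩, hq⟩ := hH₀.2 (⟨c, hcC⟩ : C)
    obtain ⟨k, hk⟩ := (mem_powers_iff_mem_zpowers.2 n.2 : (n : C) ∈ Submonoid.powers x')
    refine ⟨k, (h : C), ⟨h, h.2, rfl⟩, ?_⟩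
    have h2 : ((n : C) * (h : C) : C) = ⟨c, hcC⟩ := hq
    have h3 := congrArg (Subtype.val) h2
    simp only [Subgroup.coe_mul] at h3
    rw [← hk] at h3
    simp only [Subgroup.coe_pow] at h3
    exact h3.symm

/-- The index of the centralizer modulo `p`. -/
lemma index_centralizer_modEq [Finite G] (P : Sylow p G) :
    (centralizer ((P : Subgroup G) : Set G)).index ≡ (centralizer ((P : Subgroup G) : Set G)).relIndex (normalizer ((P : Subgroup G) : Set G)) [MOD p] := by
  have hle : centralizer ((P : Subgroup G) : Set G) ≤ normalizer ((P : Subgroup G) : Set G) := by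
    intro c hc
    rw [Subgroup.mem_normalizer_iff]
    intro u
    have h1 : ∀ v ∈ (P : Subgroup G), c * v * c⁻¹ = v := by
      intro v hv
      have := Subgroup.mem_centralizer_iff.1 hc v hv
      rw [← this]
      group
    constructor
    · intro hu
      rw [h1 u hu]
      exact hu
    · intro hu
      have h2 : c⁻¹ * (c * u * c⁻¹) * c = u := by group
      have h3 := Subgroup.mem_centralizer_iff.1 (inv_mem hc) _ hu
      rw [← h2]
      have h4 : c⁻¹ * (c * u * c⁻¹) * c⁻¹⁻¹ = (c * u * c⁻¹) := by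
        rw [← h3]
        group
      rw [inv_inv] at h4
      rw [h4]
      exact hu
  have h1 := Subgroup.relIndex_mul_index hle
  have h2 : (normalizer ((P : Subgroup G) : Set G)).index ≡ 1 [MOD p] := by
    have h3 := card_sylow_modEq_one p G
    rwa [P.card_eq_index_normalizer] at h3
  rw [← h1]
  simpa using (Nat.ModEq.refl _).mul h2

end Exist

section Main

variable {G : Type u} [Group G] [Fintype G] {p : ℕ} [hp : Fact p.Prime] {x : G} {H : Subgroup G}
  [Fintype H] (hL : LocalData p x H)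

/-- The idempotents of `H` add up to one. -/
lemma sum_SS [Fintype (IrrCharacter H)] (χ : G → ℂ) (u : G) : ∑ φ : IrrCharacter H, SS H χ (φ : H → ℂ) u = χ u := by
  classical
  unfold SS
  rw [sum_comm]
  simp_rw [← sum_mul, sum_idemCoeff]
  rw [Finset.sum_eq_single (1 : H)]
  · simp
  · intro y _ hy
    rw [if_neg hy, zero_mul]
  · simp

/-- The value of `SS` in terms of the row, away from the trivial element. -/
lemma SS_row (hL : LocalData p x H) {χ : G → ℂ} (hχ : IsIrrCharacter G χ) {φ : H → ℂ} (hφ : IsIrrCharacter H φ)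
    {ζ : ℂ} (hζ : IsPrimitiveRoot ζ p) {i : ZMod p} (hi : i ≠ 0) (y0 : H) :
    SS H χ φ (XX x i * y0) = φ y0 * ∑ a : ZMod p, (rr x H φ ζ χ a : ℂ) * ζ ^ (a * i).val := by
  rw [SS_mul hL hχ hφ hζ]
  congr 1
  unfold rr
  push_cast
  simp_rw [sub_mul]
  rw [sum_sub_distrib, ← mul_sum, sum_zeta hζ, if_neg hi, mul_zero, sub_zero]

/-- Every character of degree prime to `p` has a non-trivial row. -/
theorem exists_row (hL : LocalData p x H) (χ : IrrCharacter G) {ζ : ℂ} (hζ : IsPrimitiveRoot ζ p)
    (hd : ¬ p ∣ charDegree (χ : G → ℂ)) :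
    ∃ φ : IrrCharacter H, ∃ a : ZMod p, rr x H (φ : H → ℂ) ζ (χ : G → ℂ) a ≠ 0 := by
  classical
  letI : Fintype (IrrCharacter H) := Fintype.ofFinite _
  by_contra hno
  push Not at hno
  apply hd
  have h1 := sum_SS (H := H) (χ : G → ℂ) 1
  have hdc : (charDegree (χ : G → ℂ) : ℂ) = (χ : G → ℂ) 1 :=
    Cfsg.Agent.Lib.Char.Values.IsCharacter.charDegree_cast
      (Cfsg.Agent.Lib.Char.Basic.isCharacter_of_isIrrCharacter χ.2)
  have h2 : ∀ φ : IrrCharacter H, SS H (χ : G → ℂ) (φ : H → ℂ) 1 =
      ((charDegree (φ : H → ℂ) * (p * mval x H (χ : G → ℂ) (φ : H → ℂ) ζ (0 : ZMod p)) : ℕ) : ℂ) := by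
    intro φ
    rw [SS_one hL χ.2 φ.2 hζ, mTot_cast]
    have hR : Rsum (p := p) x H (φ : H → ℂ) ζ (χ : G → ℂ) = 0 := by
      unfold Rsum
      exact sum_eq_zero fun a _ => hno φ a
    rw [hR, ← Cfsg.Agent.Lib.Char.Values.IsCharacter.charDegree_cast
      (Cfsg.Agent.Lib.Char.Basic.isCharacter_of_isIrrCharacter φ.2)]
    push_cast
    ring
  simp_rw [h2] at h1
  rw [← hdc, ← Nat.cast_sum] at h1
  have h3 : ∑ φ : IrrCharacter H, charDegree (φ : H → ℂ) * (p * mval x H (χ : G → ℂ) (φ : H → ℂ) ζ (0 : ZMod p)) =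
      charDegree (χ : G → ℂ) := by exact_mod_cast h1
  rw [← h3]
  exact dvd_sum fun φ _ => Dvd.dvd.mul_left (dvd_mul_right _ _) _

end Main

end Cfsg.Agent.Lib.DefectOne
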