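import Mathlib
import Cfsg.Agent.Lib.DefectOne.BlockD
import Cfsg.Agent.Lib.DefectOne.AutC

/-!
# The action of field automorphisms on the rows
-/

set_option autoImplicit false
set_option linter.unusedSectionVars false

namespace Cfsg.Agent.Lib.DefectOne

open Cfsg Subgroup Finset Cfsg.Agent.Lib.Blocks.Local Cfsg.Agent.Lib.Blocks.Central
open Cfsg.Agent.Lib.Char.Galois
open scoped ComplexConjugate

universe u

section Gen

variable {Γ : Type u} [Group Γ] [Fintype Γ]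

/-- A field automorphism carries irreducible characters to irreducible characters. -/
lemma isIrr_map (τ : ℂ ≃+* ℂ) {χ : Γ → ℂ} (hχ : IsIrrCharacter Γ χ) : IsIrrCharacter Γ (fun g => τ (χ g)) := by
  obtain ⟨m, ρ, hρ, rfl⟩ := hχ
  refine ⟨m, twist (τ : ℂ →+* ℂ) ρ, isIrreducible_twist (τ : ℂ →+* ℂ) ρ, ?_⟩
  funext g
  rw [character_twist]
  rfl

/-- Character values on elements of order dividing `n` are fixed. -/
lemma map_irr_of_pow (τ : ℂ ≃+* ℂ) {n : ℕ} (hn : 0 < n) (hτ : ∀ ε : ℂ, ε ^ n = 1 → τ ε = ε) {χ : Γ → ℂ}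
    (hχ : IsIrrCharacter Γ χ) {g : Γ} (hg : g ^ n = 1) : τ (χ g) = χ g := by
  obtain ⟨m, ρ, hρ, rfl⟩ := hχ
  have h := map_character (τ : ℂ →+* ℂ) (k := 1) hn (fun ε hε => by
    rw [pow_one]
    exact hτ ε hε) ρ g hg
  rw [pow_one] at h
  exact h

end Gen

section Main

variable {G : Type u} [Group G] [Fintype G] {p : ℕ} [hp : Fact p.Prime] {x : G} {H : Subgroup G}
  [Fintype H] (hL : LocalData p x H)

/-- A field automorphism on `SS`. -/
lemma map_SS (τ : ℂ ≃+* ℂ) {φ : H → ℂ} (hfix : ∀ y : H, τ (φ y) = φ y) (χ : G → ℂ) (u : G) :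
    τ (SS H χ φ u) = SS H (fun g => τ (χ g)) φ u := by
  unfold SS
  rw [map_sum]
  refine sum_congr rfl fun y _ => ?_
  rw [map_mul]
  congr 1
  unfold idemCoeff
  rw [map_div₀, map_mul, hfix, hfix, map_natCast]

/-- A field automorphism on the multiplicities. -/
lemma mval_map (hL : LocalData p x H) (τ : ℂ ≃+* ℂ) {χ : G → ℂ} (hχ : IsIrrCharacter G χ) {φ : H → ℂ}
    (hφ : IsIrrCharacter H φ) (hfix : ∀ y : H, τ (φ y) = φ y) {ζ : ℂ} (hζ : IsPrimitiveRoot ζ p) {s : ZMod p}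
    (hs : τ ζ = ζ ^ s.val) (a : ZMod p) :
    mval x H (fun g => τ (χ g)) φ ζ (s * a) = mval x H χ φ ζ a := by
  have h1 := mval_eq hL hχ hφ hζ a
  have h2 := mval_eq hL (isIrr_map τ hχ) hφ hζ (s * a)
  have h3 := congrArg τ h1
  rw [map_mul, map_natCast, hfix, map_mul, map_inv₀, map_natCast, map_sum] at h3
  have h4 : ∑ i : ZMod p, τ ((ζ ^ a.val)⁻¹ ^ i.val * SS H χ φ (XX x i)) =
      ∑ i : ZMod p, (ζ ^ (s * a).val)⁻¹ ^ i.val * SS H (fun g => τ (χ g)) φ (XX x i) := by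
    refine sum_congr rfl fun i _ => ?_
    rw [map_mul, map_SS τ hfix, map_pow, map_inv₀, map_pow, hs, zeta_pow_val_mul hζ]
  rw [h4, ← h2] at h3
  have h0 := Cfsg.Agent.Lib.Char.Ortho.irr_apply_one_ne_zero hφ
  have h5 := mul_left_cancel₀ h0 h3
  exact_mod_cast h5.symm

lemma rr_map (hL : LocalData p x H) (τ : ℂ ≃+* ℂ) {χ : G → ℂ} (hχ : IsIrrCharacter G χ) {φ : H → ℂ}
    (hφ : IsIrrCharacter H φ) (hfix : ∀ y : H, τ (φ y) = φ y) {ζ : ℂ} (hζ : IsPrimitiveRoot ζ p) {s : ZMod p}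
    (hs : τ ζ = ζ ^ s.val) (a : ZMod p) :
    rr x H φ ζ (fun g => τ (χ g)) (s * a) = rr x H φ ζ χ a := by
  unfold rr
  rw [mval_map hL τ hχ hφ hfix hζ hs a]
  have := mval_map hL τ hχ hφ hfix hζ hs (0 : ZMod p)
  rw [mul_zero] at this
  rw [this]

/-- Transport of `SS` under the normalizer. -/
lemma SS_transport {χ : G → ℂ} (hχ : IsClassFunction G χ) {φ₁ φ₂ : H → ℂ} {g : G} (hg : g ∈ normalizer (zpowers x : Set G))
    (h : ∀ y : H, φ₂ (conjH hL g hg y) = φ₁ y) (u : G) : SS H χ φ₂ (g * u * g⁻¹) = SS H χ φ₁ u := by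
  unfold SS
  let e : H ≃* H := conjH hL g hg
  rw [← Equiv.sum_comp e.toEquiv]
  refine sum_congr rfl fun y _ => ?_
  show idemCoeff φ₂ (e y) * χ (g * u * g⁻¹ * (e y : H)) = _
  have h1 : idemCoeff φ₂ (e y) = idemCoeff φ₁ y := by
    unfold idemCoeff
    have h2 := h 1
    rw [map_one] at h2
    rw [← map_inv, h2, h y⁻¹]
  have h3 : ((e y : H) : G) = g * y * g⁻¹ := rfl
  rw [h1, h3]
  congr 1
  have h4 : g * u * g⁻¹ * (g * y * g⁻¹) = g * (u * y) * g⁻¹ := by group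
  rw [h4, hχ]

/-- Transport of multiplicities under the normalizer. -/
lemma mval_transport {χ : G → ℂ} (hχ : IsIrrCharacter G χ) {φ₁ φ₂ : H → ℂ} (hφ₁ : IsIrrCharacter H φ₁)
    (hφ₂ : IsIrrCharacter H φ₂) {ζ : ℂ} (hζ : IsPrimitiveRoot ζ p) {g : G} (hg : g ∈ normalizer (zpowers x : Set G))
    (h : ∀ y : H, φ₂ (conjH hL g hg y) = φ₁ y) (b : ZMod p) :
    mval x H χ φ₂ ζ b = mval x H χ φ₁ ζ (b * alphaG hL g) := by
  have hcl := isClassFunction_of_irr hχ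
  have hα := alphaG_spec hL hg
  have hα0 := alphaG_ne_zero hL hg
  set α := alphaG hL g with hαdef
  have h1 := mval_eq hL hχ hφ₂ hζ b
  have h2 := mval_eq hL hχ hφ₁ hζ (b * α)
  have h3 : φ₂ 1 = φ₁ 1 := by
    have := h 1
    rwa [map_one] at this
  have h4 : ∑ i : ZMod p, (ζ ^ b.val)⁻¹ ^ i.val * SS H χ φ₂ (XX x i) =
      ∑ i : ZMod p, (ζ ^ (b * α).val)⁻¹ ^ i.val * SS H χ φ₁ (XX x i) := by
    rw [← Equiv.sum_comp (Equiv.mulLeft₀ α hα0)]
    refine sum_congr rfl fun i _ => ?_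
    show (ζ ^ b.val)⁻¹ ^ (α * i).val * SS H χ φ₂ (XX x (α * i)) = _
    rw [← hL.conj_XX hα, SS_transport hL hcl hg h]
    congr 1
    rw [inv_pow, inv_pow, ← zeta_pow_val_mul hζ, ← zeta_pow_val_mul hζ]
    congr 3
    ring
  rw [h4, ← h2, h3] at h1
  have h0 := Cfsg.Agent.Lib.Char.Ortho.irr_apply_one_ne_zero hφ₁
  have h5 := mul_left_cancel₀ h0 h1
  exact_mod_cast h5

lemma rr_transport {χ : G → ℂ} (hχ : IsIrrCharacter G χ) {φ₁ φ₂ : H → ℂ} (hφ₁ : IsIrrCharacter H φ₁)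
    (hφ₂ : IsIrrCharacter H φ₂) {ζ : ℂ} (hζ : IsPrimitiveRoot ζ p) {g : G} (hg : g ∈ normalizer (zpowers x : Set G))
    (h : ∀ y : H, φ₂ (conjH hL g hg y) = φ₁ y) (b : ZMod p) :
    rr x H φ₂ ζ χ b = rr x H φ₁ ζ χ (b * alphaG hL g) := by
  unfold rr
  rw [mval_transport hL hχ hφ₁ hφ₂ hζ hg h b, mval_transport hL hχ hφ₁ hφ₂ hζ hg h 0, zero_mul]

/-- Every `p`-singular element is conjugate to an element of `⟨x⟩^# × H`. -/
theorem exists_conj_decomp (hL : LocalData p x H) (P : Sylow p G) (hz : zpowers x = (P : Subgroup G)) {g : G}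
    (hg : p ∣ orderOf g) : ∃ (c : G) (i : ZMod p) (y : H), i ≠ 0 ∧ g = c * (XX x i * y) * c⁻¹ := by
  classical
  obtain ⟨k, hk⟩ := hg
  have hk0 : k ≠ 0 := by
    rintro rfl
    rw [mul_zero] at hk
    exact (orderOf_pos g).ne' hk
  have hu : orderOf (g ^ k) = p := by
    have h1 := orderOf_pow_orderOf_div (x := g) (n := p) (orderOf_pos g).ne' ⟨k, hk⟩
    have h2 : orderOf g / p = k := by
      rw [hk]
      exact Nat.mul_div_cancel_left _ hp.out.pos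
    rwa [h2] at h1
  have hP' : IsPGroup p (zpowers (g ^ k)) := by
    rw [IsPGroup.iff_card, Nat.card_zpowers, hu]
    exact ⟨1, (pow_one p).symm⟩
  obtain ⟨Q, hQ⟩ := hP'.exists_le_sylow
  obtain ⟨c, hc⟩ := MulAction.exists_smul_eq G P Q
  have huQ : g ^ k ∈ (Q : Subgroup G) := hQ (Subgroup.mem_zpowers _)
  rw [← hc, Sylow.coe_subgroup_smul, Subgroup.mem_smul_pointwise_iff_exists] at huQ
  obtain ⟨v, hv, hvu⟩ := huQ
  have hvu' : c * v * c⁻¹ = g ^ k := hvu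
  rw [← hz] at hv
  obtain ⟨j, rfl⟩ := exists_XX_of_mem hL.ord hv
  have hj : j ≠ 0 := by
    rintro rfl
    rw [XX_zero] at hvu'
    have h1 : g ^ k = 1 := by
      rw [← hvu']
      group
    rw [h1, orderOf_one] at hu
    exact hp.out.one_lt.ne hu
  have hg1 : (c⁻¹ * g * c) * XX x j = XX x j * (c⁻¹ * g * c) := by
    have h2 : XX x j = c⁻¹ * g ^ k * c := by
      rw [← hvu']
      group
    rw [h2]
    have h3 : Commute g (g ^ k) := (Commute.refl g).pow_right k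
    calc c⁻¹ * g * c * (c⁻¹ * g ^ k * c) = c⁻¹ * (g * g ^ k) * c := by group
      _ = c⁻¹ * (g ^ k * g) * c := by rw [h3.eq]
      _ = _ := by group
  have hg2 : (c⁻¹ * g * c) * x = x * (c⁻¹ * g * c) := by
    have h2 : x = XX x j ^ (j⁻¹).val := by
      rw [← XX_mul_val hL.ord, mul_comm, mul_inv_cancel₀ hj, XX_one hL.ord]
    have h3 : Commute (c⁻¹ * g * c) (XX x j ^ (j⁻¹).val) := (show Commute _ _ from hg1).pow_right _
    rw [← h2] at h3
    exact h3.eq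
  obtain ⟨i, y, hy, hiy⟩ := hL.exists_decomp hg2
  refine ⟨c, i, ⟨y, hy⟩, ?_, ?_⟩
  · rintro rfl
    rw [XX_zero, one_mul] at hiy
    have h4 : orderOf (c⁻¹ * g * c) = orderOf g := by
      have h5 : c⁻¹ * g * c = c⁻¹ * g * c⁻¹⁻¹ := by rw [inv_inv]
      rw [h5, ← MulAut.conj_apply]
      exact MulEquiv.orderOf_eq (MulAut.conj c⁻¹) g
    apply hL.orderOf_not_dvd hy
    rw [← hiy, h4, hk]
    exact dvd_mul_right _ _
  · show g = c * (XX x i * y) * c⁻¹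
    rw [← hiy]
    group

variable {M : Ideal AlgInt} [hMp : M.IsPrime] [Fintype (IrrCharacter G)]

/-- A character with a constant row is fixed by the automorphisms fixing the `p'`-roots of unity. -/
theorem map_eq_of_constant_row (hL : LocalData p x H) (hM : IsPModular p M) (P : Sylow p G) (hz : zpowers x = (P : Subgroup G))
    (τ : ℂ ≃+* ℂ) {n : ℕ} (hn : 0 < n) (hτ : ∀ ε : ℂ, ε ^ n = 1 → τ ε = ε) (hreg : ∀ g : G, ¬ p ∣ orderOf g → g ^ n = 1)
    (χ : IrrCharacter G) {φ : H → ℂ} (hφ : IsIrrCharacter H φ) {ζ : ℂ} (hζ : IsPrimitiveRoot ζ p)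
    {A : Finset (ZMod p)} {e t : ℕ} (hI : InertiaData hL φ A e t) {ε : ℤ} (hε : ε ≠ 0)
    (hrow : ∀ a : ZMod p, a ≠ 0 → rr x H φ ζ (χ : G → ℂ) a = ε) {dχ : ℕ} (hdχ : (χ : G → ℂ) 1 = dχ) (hp' : ¬ p ∣ dχ)
    (g : G) : τ ((χ : G → ℂ) g) = (χ : G → ℂ) g := by
  classical
  by_cases hg : p ∣ orderOf g
  · obtain ⟨c, i, y, hi, rfl⟩ := exists_conj_decomp hL P hz hg
    have hcl := isClassFunction_of_irr χ.2
    rw [hcl]
    letI : Fintype (IrrCharacter H) := Fintype.ofFinite _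
    rw [← sum_SS (H := H) (χ : G → ℂ) (XX x i * y), map_sum]
    refine sum_congr rfl fun φ' _ => ?_
    rw [SS_row hL χ.2 φ'.2 hζ hi, map_mul, map_irr_of_pow τ hn hτ φ'.2 (by
      have h1 := hreg y (hL.orderOf_not_dvd y.2)
      exact Subtype.ext (by simpa using h1))]
    congr 1
    by_cases hr : ∃ a : ZMod p, rr x H (φ' : H → ℂ) ζ (χ : G → ℂ) a ≠ 0
    · obtain ⟨A', e', t', hI'⟩ := exists_inertiaData hL (isClassFunction_of_irr φ'.2)
      obtain ⟨X', Y', εX', ε₀', bY', hS'⟩ := exists_rowStructure hL φ'.2 hζ hI'.epos hI'.het hI'.Acard hI'.hA hI'.T1 hI'.T2 hI'.fib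
      have h1 : χ ∈ X' ∪ Y' := (hS'.supp χ).2 hr
      have hne : ∃ a : ZMod p, rr x H φ ζ (χ : G → ℂ) a ≠ 0 := ⟨1, by
        rw [hrow 1 one_ne_zero]
        exact hε⟩
      obtain ⟨g₀, hg₀, hgy⟩ := rel_of_rows hL hM χ hφ φ'.2 hζ hI hne hdχ hp' (not_dvd_mTot hL hS' hI' h1)
      have hα0 := alphaG_ne_zero hL hg₀
      have h2 : ∑ a : ZMod p, (rr x H (φ' : H → ℂ) ζ (χ : G → ℂ) a : ℂ) * ζ ^ (a * i).val = ((-ε : ℤ) : ℂ) := by
        rw [← add_sum_erase univ _ (mem_univ (0 : ZMod p)), rr_zero, Int.cast_zero, zero_mul, zero_add]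
        have h3 : ∀ a ∈ univ.erase (0 : ZMod p), ((rr x H (φ' : H → ℂ) ζ (χ : G → ℂ) a : ℤ) : ℂ) * ζ ^ (a * i).val =
            (ε : ℂ) * ζ ^ (a * i).val := by
          intro a ha
          rw [rr_transport hL χ.2 hφ φ'.2 hζ hg₀ hgy a, hrow _ (mul_ne_zero (mem_erase.1 ha).1 hα0)]
        rw [sum_congr rfl h3, ← mul_sum]
        have h4 := sum_zeta hζ i
        rw [if_neg hi, ← add_sum_erase univ _ (mem_univ (0 : ZMod p))] at h4
        simp only [zero_mul, ZMod.val_zero, pow_zero] at h4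
        have h5 : ∑ a ∈ univ.erase (0 : ZMod p), ζ ^ (a * i).val = -1 := by
          linear_combination h4
        rw [h5]
        push_cast
        ring
      rw [h2, map_intCast]
    · push Not at hr
      simp [hr]
  · exact map_irr_of_pow τ hn hτ χ.2 (hreg g hg)

end Main

end Cfsg.Agent.Lib.DefectOne
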