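import Mathlib
import Cfsg.Agent.S1230
import Cfsg.Agent.Lib.Basic.ConjCount

/-!
# The Steiner design of the Sylow subgroups

A finite group with a self-centralizing Sylow subgroup of odd prime order, `t (p - e)` Sylow
subgroups and an involution in the normalizer with at least `t` fixed Sylow subgroups.
-/

set_option autoImplicit false
set_option linter.unusedSectionVars false

namespace Cfsg.Agent.Lib.DefectOne.SCDesign

open Subgroup Finset
open scoped Pointwise

universe u

variable {G : Type u} [Group G] [Fintype G] {p : ℕ} [hp : Fact p.Prime]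

/-- The hypotheses of the design theorem. -/
structure DesignHyp (p e t : ℕ) [Fact p.Prime] (P₀ : Sylow p G) (τ : G) : Prop where
  hodd : p ≠ 2
  card : ∀ Q : Sylow p G, Nat.card Q = p
  cen : ∀ Q : Sylow p G, centralizer ((Q : Subgroup G) : Set G) ≤ Q
  hN : Nat.card (normalizer ((P₀ : Subgroup G) : Set G)) = p * e
  het : p - 1 = e * t
  hM : Nat.card (Sylow p G) = t * (p - e)
  hτ2 : τ ^ 2 = 1
  hτ1 : τ ≠ 1
  hτP : τ • P₀ = P₀

noncomputable section

open scoped Classical

local instance : Fintype (Sylow p G) := Fintype.ofFinite _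

variable {e t : ℕ} {P₀ : Sylow p G} {τ : G} (hH : DesignHyp p e t P₀ τ)

include hH

lemma orderOf_mem {Q : Sylow p G} {z : G} (hz : z ∈ (Q : Subgroup G)) (hz1 : z ≠ 1) : orderOf z = p := by
  have h1 := Subgroup.orderOf_dvd_natCard (Q : Subgroup G) hz
  rw [hH.card Q] at h1
  rcases (Nat.dvd_prime hp.out).1 h1 with h | h
  · exact absurd (orderOf_eq_one_iff.1 h) hz1
  · exact h

lemma zpowers_eq {Q : Sylow p G} {z : G} (hz : z ∈ (Q : Subgroup G)) (hz1 : z ≠ 1) :
    zpowers z = (Q : Subgroup G) := by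
  refine Subgroup.eq_of_le_of_card_ge ((zpowers_le).2 hz) ?_
  rw [Nat.card_zpowers, orderOf_mem hH hz hz1, hH.card Q]

lemma comm_mem {Q : Sylow p G} {a b : G} (ha : a ∈ (Q : Subgroup G)) (hb : b ∈ (Q : Subgroup G)) :
    a * b = b * a := by
  by_cases ha1 : a = 1
  · simp [ha1]
  · have h1 := zpowers_eq hH ha ha1
    rw [← h1] at hb
    obtain ⟨k, rfl⟩ := mem_zpowers_iff.1 hb
    exact (Commute.zpow_right (Commute.refl a) k)

lemma eq_one_of_sq {Q : Sylow p G} {z : G} (hz : z ∈ (Q : Subgroup G)) (h2 : z ^ 2 = 1) : z = 1 := by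
  by_contra hz1
  have h1 := orderOf_mem hH hz hz1
  have h3 := orderOf_dvd_of_pow_eq_one h2
  rw [h1] at h3
  exact hH.hodd ((Nat.prime_dvd_prime_iff_eq hp.out Nat.prime_two).1 h3)

/-- An involution normalizing a Sylow subgroup inverts it. -/
lemma inverts {Q : Sylow p G} {u : G} (hu2 : u ^ 2 = 1) (hu1 : u ≠ 1) (huQ : u • Q = Q)
    {y : G} (hy : y ∈ (Q : Subgroup G)) : u * y * u⁻¹ = y⁻¹ := by
  have hn : u ∈ normalizer ((Q : Subgroup G) : Set G) := Sylow.smul_eq_iff_mem_normalizer.1 huQ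
  have hconj : ∀ w ∈ (Q : Subgroup G), u * w * u⁻¹ ∈ (Q : Subgroup G) := fun w hw =>
    (mem_normalizer_iff.1 hn w).1 hw
  have huinv : u⁻¹ = u := by
    rw [inv_eq_iff_mul_eq_one, ← pow_two, hu2]
  set y' := u * y * u⁻¹ with hy'
  have hy'Q : y' ∈ (Q : Subgroup G) := hconj y hy
  set z := y * y' with hz
  have hzQ : z ∈ (Q : Subgroup G) := mul_mem hy hy'Q
  have hzu : u * z * u⁻¹ = z := by
    have h1 : u * y' * u⁻¹ = y := by
      rw [hy', huinv]
      calc u * (u * y * u) * u = (u * u) * y * (u * u) := by group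
        _ = y := by rw [← pow_two, hu2]; simp
    calc u * z * u⁻¹ = (u * y * u⁻¹) * (u * y' * u⁻¹) := by rw [hz]; group
      _ = y' * y := by rw [h1]
      _ = z := comm_mem hH hy'Q hy
  have hz1 : z = 1 := by
    by_contra hz1
    have hcen : u ∈ centralizer ((Q : Subgroup G) : Set G) := by
      rw [mem_centralizer_iff]
      intro w hw
      have hw' : w ∈ zpowers z := by
        rw [zpowers_eq hH hzQ hz1]
        exact hw
      obtain ⟨k, rfl⟩ := mem_zpowers_iff.1 hw'
      have hc : Commute u z := by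
        show u * z = z * u
        calc u * z = u * z * u⁻¹ * u := by group
          _ = z * u := by rw [hzu]
      exact ((hc.zpow_right k).eq).symm
    have huQ' := hH.cen Q hcen
    have h1 := orderOf_mem hH huQ' hu1
    have h3 := orderOf_dvd_of_pow_eq_one hu2
    rw [h1] at h3
    exact hH.hodd ((Nat.prime_dvd_prime_iff_eq hp.out Nat.prime_two).1 h3)
  rw [hz] at hz1
  exact (eq_inv_of_mul_eq_one_right hz1)

/-- The product of two involutions normalizing a Sylow subgroup lies in it. -/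
lemma mul_mem_of_inv {Q : Sylow p G} {u v : G} (hu2 : u ^ 2 = 1) (hu1 : u ≠ 1) (huQ : u • Q = Q)
    (hv2 : v ^ 2 = 1) (hv1 : v ≠ 1) (hvQ : v • Q = Q) : u * v ∈ (Q : Subgroup G) := by
  apply hH.cen Q
  rw [mem_centralizer_iff]
  intro y hy
  have h1 := inverts hH hv2 hv1 hvQ hy
  have h2 := inverts hH hu2 hu1 huQ hy
  have h3 : u * v * y * (u * v)⁻¹ = y := by
    calc u * v * y * (u * v)⁻¹ = u * (v * y * v⁻¹) * u⁻¹ := by group
      _ = u * y⁻¹ * u⁻¹ := by rw [h1]
      _ = (u * y * u⁻¹)⁻¹ := by group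
      _ = y := by rw [h2, inv_inv]
  calc y * (u * v) = (u * v * y * (u * v)⁻¹) * (u * v) := by rw [h3]
    _ = u * v * y := by group

lemma eq_one_of_two_sylow {Q Q' : Sylow p G} (hQ : Q ≠ Q') {z : G} (hz : z ∈ (Q : Subgroup G))
    (hz' : z ∈ (Q' : Subgroup G)) : z = 1 := by
  by_contra hz1
  apply hQ
  apply Sylow.ext
  rw [← zpowers_eq hH hz hz1, zpowers_eq hH hz' hz1]

/-- Two involutions fixing two Sylow subgroups coincide. -/
lemma eq_of_two_fix {Q Q' : Sylow p G} (hQ : Q ≠ Q') {u v : G} (hu2 : u ^ 2 = 1) (hu1 : u ≠ 1)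
    (hv2 : v ^ 2 = 1) (hv1 : v ≠ 1) (huQ : u • Q = Q) (hvQ : v • Q = Q) (huQ' : u • Q' = Q')
    (hvQ' : v • Q' = Q') : u = v := by
  have h1 := eq_one_of_two_sylow hH hQ (mul_mem_of_inv hH hu2 hu1 huQ hv2 hv1 hvQ)
    (mul_mem_of_inv hH hu2 hu1 huQ' hv2 hv1 hvQ')
  have h2 : v⁻¹ = v := by rw [inv_eq_iff_mul_eq_one, ← pow_two, hv2]
  rw [← h2]
  exact eq_inv_of_mul_eq_one_left h1

omit hH in
/-- The conjugates of `τ`. -/
def TT (τ : G) : Finset G := univ.filter (fun g => IsConj τ g)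

omit hH in
/-- The fixed points. -/
def FF (u : G) : Finset (Sylow p G) := univ.filter (fun Q => u • Q = Q)

lemma TT_sq {u : G} (hu : u ∈ TT τ) : u ^ 2 = 1 := by
  unfold TT at hu
  obtain ⟨c, rfl⟩ := isConj_iff.1 (mem_filter.1 hu).2
  calc (c * τ * c⁻¹) ^ 2 = c * τ ^ 2 * c⁻¹ := by rw [pow_two, pow_two]; group
    _ = 1 := by rw [hH.hτ2]; group

lemma TT_ne {u : G} (hu : u ∈ TT τ) : u ≠ 1 := by
  unfold TT at hu
  intro h
  rw [h] at hu
  exact hH.hτ1 (isConj_one_right.1 (mem_filter.1 hu).2.symm)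

omit hH in
lemma self_mem_TT : τ ∈ TT τ := by
  unfold TT
  exact mem_filter.2 ⟨mem_univ _, IsConj.refl τ⟩

omit hH in
lemma conj_mem_TT {u : G} (hu : u ∈ TT τ) (c : G) : c * u * c⁻¹ ∈ TT τ := by
  unfold TT at hu ⊢
  refine mem_filter.2 ⟨mem_univ _, (mem_filter.1 hu).2.trans (isConj_iff.2 ⟨c, rfl⟩)⟩

lemma exists_TT (Q : Sylow p G) : ∃ v ∈ TT τ, v • Q = Q := by
  obtain ⟨g, rfl⟩ := MulAction.exists_smul_eq G P₀ Q
  refine ⟨g * τ * g⁻¹, conj_mem_TT self_mem_TT g, ?_⟩
  rw [smul_smul, inv_mul_cancel_right, mul_smul, hH.hτP]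

lemma card_FF_conj (c : G) : (FF (p := p) (c * τ * c⁻¹)).card = (FF (p := p) τ).card := by
  have h : FF (p := p) (c * τ * c⁻¹) = (FF (p := p) τ).image (fun Q => c • Q) := by
    ext Q
    unfold FF
    simp only [mem_filter, mem_univ, true_and, mem_image]
    constructor
    · intro h
      refine ⟨c⁻¹ • Q, ?_, ?_⟩
      · have h1 : τ • c⁻¹ • Q = c⁻¹ • ((c * τ * c⁻¹) • Q) := by
          simp only [smul_smul]
          congr 1
          group
        rw [h1, h]
      · rw [smul_smul, mul_inv_cancel, one_smul]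
    · rintro ⟨R, hR, rfl⟩
      rw [smul_smul, inv_mul_cancel_right, mul_smul, hR]
  rw [h, card_image_of_injective _ (MulAction.injective c)]

/-- Conjugates are counted by a Sylow subgroup. -/
lemma card_TT_fix (Q : Sylow p G) : ((TT τ).filter (fun u => u • Q = Q)).card = p := by
  obtain ⟨v, hv, hvQ⟩ := exists_TT hH Q
  have hv2 := TT_sq hH hv
  have hv1 := TT_ne hH hv
  have hvinv : v⁻¹ = v := by rw [inv_eq_iff_mul_eq_one, ← pow_two, hv2]
  have hodd : Odd p := hp.out.odd_of_ne_two hH.hodd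
  obtain ⟨k, hk⟩ := hodd
  have h : (TT τ).filter (fun u => u • Q = Q) =
      (univ.filter (fun w => w ∈ (Q : Subgroup G))).image (fun w => w * v) := by
    ext u
    simp only [mem_filter, mem_univ, true_and, mem_image]
    constructor
    · rintro ⟨hu, huQ⟩
      refine ⟨u * v, mul_mem_of_inv hH (TT_sq hH hu) (TT_ne hH hu) huQ hv2 hv1 hvQ, ?_⟩
      rw [mul_assoc, ← pow_two, hv2, mul_one]
    · rintro ⟨w, hw, rfl⟩
      constructor
      · have hwp : w ^ p = 1 := by
          have := Subgroup.orderOf_dvd_natCard (Q : Subgroup G) hw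
          rw [hH.card Q] at this
          exact orderOf_dvd_iff_pow_eq_one.1 this
        set y := w ^ (k + 1) with hy
        have hyQ : y ∈ (Q : Subgroup G) := pow_mem hw _
        have hyy : y * y = w := by
          rw [hy, ← pow_add]
          have : k + 1 + (k + 1) = p + 1 := by omega
          rw [this, pow_succ, hwp, one_mul]
        have h1 := inverts hH hv2 hv1 hvQ (inv_mem hyQ)
        have h2 : y * v * y⁻¹ = w * v := by
          have h3 : v * y⁻¹ * v⁻¹ = y := by rw [h1, inv_inv]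
          calc y * v * y⁻¹ = y * (v * y⁻¹ * v⁻¹) * v := by group
            _ = y * y * v := by rw [h3]
            _ = w * v := by rw [hyy]
        rw [← h2]
        exact conj_mem_TT hv y
      · have hwQ : w • Q = Q := by
          apply Sylow.smul_eq_iff_mem_normalizer.2
          exact le_normalizer hw
        rw [mul_smul, hvQ, hwQ]
  rw [h, card_image_of_injective _ (fun a b hab => mul_right_cancel hab)]
  rw [← Fintype.card_subtype, ← Nat.card_eq_fintype_card]
  exact hH.card Q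

/-- The first count. -/
lemma card_TT_mul_f : (TT τ).card * (FF (p := p) τ).card = Nat.card (Sylow p G) * p := by
  have h1 := sum_card_bipartiteAbove_eq_sum_card_bipartiteBelow (fun (u : G) (Q : Sylow p G) => u • Q = Q)
    (s := TT τ) (t := univ)
  have h2 : ∀ u ∈ TT τ, (bipartiteAbove (fun (u : G) (Q : Sylow p G) => u • Q = Q) univ u).card = (FF (p := p) τ).card := by
    intro u hu
    unfold TT at hu
    obtain ⟨c, rfl⟩ := isConj_iff.1 (mem_filter.1 hu).2
    exact card_FF_conj hH c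
  have h3 : ∀ Q ∈ (univ : Finset (Sylow p G)), (bipartiteBelow (fun (u : G) (Q : Sylow p G) => u • Q = Q) (TT τ) Q).card = p := by
    intro Q _
    exact card_TT_fix hH Q
  rw [sum_congr rfl h2, sum_congr rfl h3, sum_const, sum_const, smul_eq_mul, smul_eq_mul, card_univ] at h1
  rw [Nat.card_eq_fintype_card]
  exact h1

lemma mpos : 0 < Nat.card (Sylow p G) := Nat.card_pos

lemma epos : 0 < e := by
  have h1 := hH.het
  have h2 := hp.out.two_le
  rcases Nat.eq_zero_or_pos e with rfl | h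
  · rw [zero_mul] at h1
    omega
  · exact h

lemma tpos : 0 < t := by
  have h1 := hH.het
  have h2 := hp.out.two_le
  rcases Nat.eq_zero_or_pos t with rfl | h
  · rw [mul_zero] at h1
    omega
  · exact h

lemma elt : e < p := by
  have h1 := hH.het
  have h2 := hp.out.two_le
  have h3 := tpos hH
  have h4 : e ≤ e * t := Nat.le_mul_of_pos_right _ h3
  omega

lemma fpos : 0 < (FF (p := p) τ).card := by
  refine card_pos.2 ⟨P₀, ?_⟩
  unfold FF
  simp [hH.hτP]

/-- The arithmetic of `M`. -/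
lemma M_sub_one : Nat.card (Sylow p G) = (t - 1) * p + 1 := by
  have h1 := hH.het
  have h2 := hp.out.two_le
  have h3 := tpos hH
  have h4 := elt hH
  rw [hH.hM]
  obtain ⟨s, rfl⟩ : ∃ s, t = s + 1 := ⟨t - 1, by omega⟩
  obtain ⟨q, rfl⟩ : ∃ q, p = e + q := ⟨p - e, by omega⟩
  simp only [Nat.add_sub_cancel, Nat.add_sub_cancel_left]
  have h5 : e + q - 1 = e * (s + 1) := h1
  have h6 : e + q = e * (s + 1) + 1 := by omega
  have h7 : q = e * s + 1 := by
    have : e * (s + 1) = e * s + e := by ring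
    omega
  subst h7
  ring_nf

lemma f_le_t : (FF (p := p) τ).card ≤ t := by
  set f := (FF (p := p) τ).card with hf
  set M := Nat.card (Sylow p G) with hM
  have h1 := card_TT_mul_f hH
  have h2 : ((TT τ).biUnion (fun u => (FF (p := p) u).offDiag)).card = ∑ u ∈ TT τ, ((FF (p := p) u).offDiag).card := by
    apply card_biUnion
    intro u hu v hv huv
    refine Finset.disjoint_left.2 ?_
    rintro ⟨Q, Q'⟩ h3 h4
    rw [Finset.mem_offDiag] at h3 h4
    unfold FF at h3 h4
    simp only [mem_filter, mem_univ, true_and] at h3 h4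
    exact huv (eq_of_two_fix hH h3.2.2 (TT_sq hH hu) (TT_ne hH hu) (TT_sq hH hv) (TT_ne hH hv) h3.1 h4.1 h3.2.1 h4.2.1)
  have h3 : ∀ u ∈ TT τ, ((FF (p := p) u).offDiag).card = f * f - f := by
    intro u hu
    rw [offDiag_card]
    unfold TT at hu
    obtain ⟨c, rfl⟩ := isConj_iff.1 (mem_filter.1 hu).2
    rw [card_FF_conj hH c]
  rw [sum_congr rfl h3, sum_const, smul_eq_mul] at h2
  have h4 : ((TT τ).biUnion (fun u => (FF (p := p) u).offDiag)).card ≤ (univ : Finset (Sylow p G)).offDiag.card := by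
    apply card_le_card
    intro a ha
    rw [mem_biUnion] at ha
    obtain ⟨u, _, hu⟩ := ha
    rw [mem_offDiag] at hu ⊢
    exact ⟨mem_univ _, mem_univ _, hu.2.2⟩
  rw [h2, offDiag_card, card_univ, ← Nat.card_eq_fintype_card] at h4
  have hM' : M = (t - 1) * p + 1 := M_sub_one hH
  have hfpos := fpos hH
  have hmp : 0 < M := mpos hH
  have hp0 := hp.out.pos
  -- `|T| f (f - 1) ≤ M (M - 1)`
  obtain ⟨g, hg⟩ : ∃ g, f = g + 1 := ⟨f - 1, by omega⟩
  obtain ⟨s, hs⟩ : ∃ s, t = s + 1 := ⟨t - 1, by have := tpos hH; omega⟩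
  have h5 : f * f - f = f * g := by
    rw [hg]
    have : (g + 1) * (g + 1) = (g + 1) * g + (g + 1) := by ring
    omega
  have h6 : M * M - M = M * (s * p) := by
    have : M * M = M * (s * p) + M := by
      have h7 : M = s * p + 1 := by
        rw [hM', hs]
        simp
      nth_rewrite 2 [h7]
      ring
    omega
  rw [← hM, h5, h6] at h4
  have h7 : (TT τ).card * (f * g) = M * p * g := by
    rw [← mul_assoc, h1]
  rw [h7, mul_assoc] at h4
  have h8 : p * g ≤ s * p := Nat.le_of_mul_le_mul_left h4 hmp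
  have h9 : g ≤ s := by
    rw [mul_comm] at h8
    exact Nat.le_of_mul_le_mul_right h8 hp0
  omega

variable (hfix : t ≤ (FF (p := p) τ).card)

include hfix

lemma f_eq_t : (FF (p := p) τ).card = t := le_antisymm (f_le_t hH) hfix

lemma card_FF_of_mem {u : G} (hu : u ∈ TT τ) : (FF (p := p) u).card = t := by
  unfold TT at hu
  obtain ⟨c, rfl⟩ := isConj_iff.1 (mem_filter.1 hu).2
  rw [card_FF_conj hH c, f_eq_t hH hfix]

lemma card_TT : (TT τ).card = (p - e) * p := by
  have h1 := card_TT_mul_f hH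
  rw [f_eq_t hH hfix, hH.hM] at h1
  have h2 : (TT τ).card * t = ((p - e) * p) * t := by rw [h1]; ring
  exact Nat.eq_of_mul_eq_mul_right (tpos hH) h2

/-- Two Sylow subgroups lie on a line. -/
lemma exists_line {Q Q' : Sylow p G} (hQ : Q ≠ Q') : ∃ u ∈ TT τ, u • Q = Q ∧ u • Q' = Q' := by
  set M := Nat.card (Sylow p G) with hM
  have h2 : ((TT τ).biUnion (fun u => (FF (p := p) u).offDiag)).card = ∑ u ∈ TT τ, ((FF (p := p) u).offDiag).card := by
    apply card_biUnion
    intro u hu v hv huv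
    refine Finset.disjoint_left.2 ?_
    rintro ⟨Q, Q'⟩ h3 h4
    rw [Finset.mem_offDiag] at h3 h4
    unfold FF at h3 h4
    simp only [mem_filter, mem_univ, true_and] at h3 h4
    exact huv (eq_of_two_fix hH h3.2.2 (TT_sq hH hu) (TT_ne hH hu) (TT_sq hH hv) (TT_ne hH hv) h3.1 h4.1 h3.2.1 h4.2.1)
  have h3 : ∀ u ∈ TT τ, ((FF (p := p) u).offDiag).card = t * t - t := by
    intro u hu
    rw [offDiag_card, card_FF_of_mem hH hfix hu]
  rw [sum_congr rfl h3, sum_const, smul_eq_mul] at h2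
  have hsub : (TT τ).biUnion (fun u => (FF (p := p) u).offDiag) ⊆ (univ : Finset (Sylow p G)).offDiag := by
    intro a ha
    rw [mem_biUnion] at ha
    obtain ⟨u, _, hu⟩ := ha
    rw [mem_offDiag] at hu ⊢
    exact ⟨mem_univ _, mem_univ _, hu.2.2⟩
  have hM' : M = (t - 1) * p + 1 := M_sub_one hH
  obtain ⟨s, hs⟩ : ∃ s, t = s + 1 := ⟨t - 1, by have := tpos hH; omega⟩
  have h5 : t * t - t = t * s := by
    rw [hs]
    have : (s + 1) * (s + 1) = (s + 1) * s + (s + 1) := by ring
    omega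
  have h7 : M = s * p + 1 := by
    rw [hM', hs]
    simp
  have h6 : M * M - M = M * (s * p) := by
    have : M * M = M * (s * p) + M := by
      nth_rewrite 2 [h7]
      ring
    omega
  have h1 := card_TT_mul_f hH
  rw [f_eq_t hH hfix] at h1
  have heq : (TT τ).biUnion (fun u => (FF (p := p) u).offDiag) = (univ : Finset (Sylow p G)).offDiag := by
    apply eq_of_subset_of_card_le hsub
    have h9 : (TT τ).card * (t * s) = M * (s * p) := by
      rw [← mul_assoc, h1]
      ring
    rw [h2, offDiag_card, card_univ, ← Nat.card_eq_fintype_card, ← hM, h5, h6, h9]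
  have hmem : (Q, Q') ∈ (univ : Finset (Sylow p G)).offDiag := by
    rw [mem_offDiag]
    exact ⟨mem_univ _, mem_univ _, hQ⟩
  rw [← heq, mem_biUnion] at hmem
  obtain ⟨u, hu, h8⟩ := hmem
  rw [mem_offDiag] at h8
  unfold FF at h8
  simp only [mem_filter, mem_univ, true_and] at h8
  exact ⟨u, hu, h8.1, h8.2.1⟩

omit hH hfix in
/-- The involutions commuting with `τ` apart from `τ`. -/
def SS (τ : G) : Finset G := (TT τ).filter (fun u => u ≠ τ ∧ u * τ = τ * u)

lemma tau_inv : τ⁻¹ = τ := by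
  rw [inv_eq_iff_mul_eq_one, ← pow_two, hH.hτ2]

lemma SS_exists {Q : Sylow p G} (hQ : τ • Q ≠ Q) : ∃ u ∈ SS τ, u • Q = Q := by
  obtain ⟨u, hu, h1, h2⟩ := exists_line hH hfix (Q := Q) (Q' := τ • Q) hQ.symm
  have htt := tau_inv hH hfix
  have hττ : τ * τ = 1 := by rw [← pow_two, hH.hτ2]
  have hv := conj_mem_TT hu τ
  have h3 : (τ * u * τ⁻¹) • Q = Q := by
    rw [htt, mul_smul, mul_smul, h2, smul_smul, hττ, one_smul]
  have h4 : (τ * u * τ⁻¹) • (τ • Q) = τ • Q := by
    rw [htt, mul_smul, smul_smul τ τ Q, hττ, one_smul, mul_smul, h1]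
  have huv : u = τ * u * τ⁻¹ :=
    eq_of_two_fix hH hQ.symm (TT_sq hH hu) (TT_ne hH hu) (TT_sq hH hv) (TT_ne hH hv) h1 h3 h2 h4
  refine ⟨u, mem_filter.2 ⟨hu, ?_, ?_⟩, h1⟩
  · rintro rfl
    exact hQ h1
  · calc u * τ = (τ * u * τ⁻¹) * τ := by rw [← huv]
      _ = τ * u := by group

lemma SS_unique {u v : G} (hu : u ∈ SS τ) (hv : v ∈ SS τ) {Q : Sylow p G} (hQ : τ • Q ≠ Q)
    (huQ : u • Q = Q) (hvQ : v • Q = Q) : u = v := by
  unfold SS at hu hv
  rw [mem_filter] at hu hv
  have h1 : u • (τ • Q) = τ • Q := by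
    rw [smul_smul, hu.2.2, mul_smul, huQ]
  have h2 : v • (τ • Q) = τ • Q := by
    rw [smul_smul, hv.2.2, mul_smul, hvQ]
  exact eq_of_two_fix hH hQ.symm (TT_sq hH hu.1) (TT_ne hH hu.1) (TT_sq hH hv.1) (TT_ne hH hv.1) huQ hvQ h1 h2

lemma SS_eq_of_fix {u : G} (hu : u ∈ SS τ) {Q : Sylow p G} (huQ : u • Q = Q) (hQ : τ • Q = Q) : False := by
  unfold SS at hu
  rw [mem_filter] at hu
  have h1 := mul_mem_of_inv hH (TT_sq hH hu.1) (TT_ne hH hu.1) huQ hH.hτ2 hH.hτ1 hQ
  have h2 : (u * τ) ^ 2 = 1 := by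
    have h3 : (u * τ) * (u * τ) = (u * u) * (τ * τ) := by
      calc (u * τ) * (u * τ) = u * (τ * u) * τ := by group
        _ = u * (u * τ) * τ := by rw [hu.2.2]
        _ = (u * u) * (τ * τ) := by group
    rw [pow_two, h3, ← pow_two, ← pow_two, TT_sq hH hu.1, hH.hτ2, one_mul]
  have h3 := eq_one_of_sq hH h1 h2
  apply hu.2.1
  have h4 := eq_inv_of_mul_eq_one_left h3
  rw [h4, tau_inv hH hfix]

lemma card_SS : (SS τ).card = p - e - 1 := by
  have h1 : (SS τ).biUnion (fun u => FF (p := p) u) = univ.filter (fun Q : Sylow p G => τ • Q ≠ Q) := by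
    ext Q
    simp only [mem_biUnion, mem_filter, mem_univ, true_and]
    constructor
    · rintro ⟨u, hu, huQ⟩
      unfold FF at huQ
      simp only [mem_filter, mem_univ, true_and] at huQ
      exact fun hQ => SS_eq_of_fix hH hfix hu huQ hQ
    · intro hQ
      obtain ⟨u, hu, huQ⟩ := SS_exists hH hfix hQ
      refine ⟨u, hu, ?_⟩
      unfold FF
      simp only [mem_filter, mem_univ, true_and, huQ]
  have h2 : ((SS τ).biUnion (fun u => FF (p := p) u)).card = ∑ u ∈ SS τ, (FF (p := p) u).card := by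
    apply card_biUnion
    intro u hu v hv huv
    refine Finset.disjoint_left.2 ?_
    intro Q h3 h4
    unfold FF at h3 h4
    simp only [mem_filter, mem_univ, true_and] at h3 h4
    refine huv (SS_unique hH hfix hu hv ?_ h3 h4)
    exact fun hQ => SS_eq_of_fix hH hfix hu h3 hQ
  have h3 : ∀ u ∈ SS τ, (FF (p := p) u).card = t := by
    intro u hu
    unfold SS at hu
    exact card_FF_of_mem hH hfix (mem_filter.1 hu).1
  rw [sum_congr rfl h3, sum_const, smul_eq_mul, h1] at h2
  have h4 := card_filter_add_card_filter_not (s := (univ : Finset (Sylow p G))) (fun Q : Sylow p G => τ • Q = Q)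
  have h5 : (univ.filter (fun Q : Sylow p G => τ • Q = Q)).card = t := f_eq_t hH hfix
  rw [h5, h2, card_univ, ← Nat.card_eq_fintype_card, hH.hM] at h4
  have h6 := elt hH
  have h7 := tpos hH
  have h8 : (SS τ).card * t = (p - e - 1) * t := by
    have h9 : t * (p - e) = (p - e - 1) * t + t := by
      obtain ⟨q, hq⟩ : ∃ q, p - e = q + 1 := ⟨p - e - 1, by omega⟩
      rw [hq]
      simp only [Nat.add_sub_cancel]
      ring
    omega
  exact Nat.eq_of_mul_eq_mul_right h7 h8

omit hfix in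
lemma card_G : Nat.card G = p * e * (t * (p - e)) := by
  have h1 : (normalizer ((P₀ : Subgroup G) : Set G)).index = Nat.card (Sylow p G) :=
    (Sylow.card_eq_index_normalizer P₀).symm
  rw [← Subgroup.card_mul_index (normalizer ((P₀ : Subgroup G) : Set G)), hH.hN, h1, hH.hM]

lemma card_W : Nat.card (centralizer ({τ} : Set G)) = e * t := by
  have h1 := Cfsg.Agent.Lib.Basic.ConjCount.card_isConj_mul_card_centralizer τ
  have h2 : Nat.card {y : G // IsConj τ y} = (TT τ).card := by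
    rw [Nat.card_eq_fintype_card, Fintype.card_subtype]
    rfl
  rw [h2, card_TT hH hfix, card_G hH] at h1
  have h3 := elt hH
  have h4 : 0 < (p - e) * p := Nat.mul_pos (by omega) hp.out.pos
  have h5 : (p - e) * p * Nat.card (centralizer ({τ} : Set G)) = (p - e) * p * (e * t) := by
    rw [h1]
    ring
  exact Nat.eq_of_mul_eq_mul_left h4 h5

omit hH hfix in
/-- The stabilizer of `P₀` in the centralizer of `τ`. -/
def EE (P₀ : Sylow p G) (τ : G) : Subgroup G := centralizer ({τ} : Set G) ⊓ normalizer ((P₀ : Subgroup G) : Set G)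

omit hfix in
lemma exists_of_normalizer {y : G} (hy : y ∈ normalizer ((P₀ : Subgroup G) : Set G)) :
    ∃ z ∈ (P₀ : Subgroup G), z⁻¹ * y ∈ EE P₀ τ := by
  have hyP : y • P₀ = P₀ := Sylow.smul_eq_iff_mem_normalizer.2 hy
  have hu := conj_mem_TT (self_mem_TT (τ := τ)) y
  set u := y * τ * y⁻¹ with hudef
  have huP : u • P₀ = P₀ := by
    rw [hudef, mul_smul, mul_smul, ← hyP, smul_smul y⁻¹, inv_mul_cancel, one_smul, hH.hτP, hyP]
  have hw := mul_mem_of_inv hH (TT_sq hH hu) (TT_ne hH hu) huP hH.hτ2 hH.hτ1 hH.hτP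
  set w := u * τ with hwdef
  have hττ : τ * τ = 1 := by rw [← pow_two, hH.hτ2]
  obtain ⟨k, hk⟩ : Odd p := hp.out.odd_of_ne_two hH.hodd
  have hwp : w ^ p = 1 := by
    have := Subgroup.orderOf_dvd_natCard (P₀ : Subgroup G) hw
    rw [hH.card P₀] at this
    exact orderOf_dvd_iff_pow_eq_one.1 this
  set z := w ^ (k + 1) with hz
  have hzP : z ∈ (P₀ : Subgroup G) := pow_mem hw _
  have hzz : z * z = w := by
    rw [hz, ← pow_add]
    have : k + 1 + (k + 1) = p + 1 := by omega
    rw [this, pow_succ, hwp, one_mul]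
  have h1 := inverts hH hH.hτ2 hH.hτ1 hH.hτP (inv_mem hzP)
  have h2 : z * τ * z⁻¹ = u := by
    have h3 : τ * z⁻¹ * τ⁻¹ = z := by rw [h1, inv_inv]
    calc z * τ * z⁻¹ = z * (τ * z⁻¹ * τ⁻¹) * τ := by group
      _ = z * z * τ := by rw [h3]
      _ = u * τ * τ := by rw [hzz]
      _ = u := by rw [mul_assoc, hττ, mul_one]
  refine ⟨z, hzP, Subgroup.mem_inf.2 ⟨?_, ?_⟩⟩
  · rw [mem_centralizer_iff]
    intro h hh
    rw [Set.mem_singleton_iff] at hh
    subst hh
    have h3 : y * h * y⁻¹ = z * h * z⁻¹ := by rw [h2]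
    have h6 : y * h = z * h * z⁻¹ * y := by
      rw [← h3]
      group
    calc h * (z⁻¹ * y) = z⁻¹ * (z * h * z⁻¹ * y) := by group
      _ = z⁻¹ * (y * h) := by rw [h6]
      _ = z⁻¹ * y * h := by group
  · exact mul_mem (inv_mem (le_normalizer hzP)) hy

lemma card_E_ge : e ≤ Nat.card (EE P₀ τ) := by
  let φ : (↥(P₀ : Subgroup G)) × (↥(EE P₀ τ)) → normalizer ((P₀ : Subgroup G) : Set G) :=
    fun a => ⟨a.1 * a.2, mul_mem (le_normalizer a.1.2) a.2.2.2⟩
  have hφ : Function.Surjective φ := by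
    rintro ⟨y, hy⟩
    obtain ⟨z, hz, hzy⟩ := exists_of_normalizer hH hy
    refine ⟨(⟨z, hz⟩, ⟨_, hzy⟩), ?_⟩
    apply Subtype.ext
    simp [φ]
  have h1 := Nat.card_le_card_of_surjective φ hφ
  rw [hH.hN, Nat.card_prod, hH.card P₀] at h1
  exact Nat.le_of_mul_le_mul_left h1 hp.out.pos

lemma SS_subset : SS τ ⊆ (univ.filter (fun g => g ∈ centralizer ({τ} : Set G))) \ (univ.filter (fun g => g ∈ EE P₀ τ)) := by
  intro u hu
  rw [mem_sdiff]
  unfold SS at hu
  rw [mem_filter] at hu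
  simp only [mem_filter, mem_univ, true_and]
  refine ⟨?_, ?_⟩
  · rw [mem_centralizer_iff]
    intro h hh
    rw [Set.mem_singleton_iff] at hh
    subst hh
    exact hu.2.2.symm
  · intro hE
    have huP : u • P₀ = P₀ := Sylow.smul_eq_iff_mem_normalizer.2 hE.2
    exact SS_eq_of_fix hH hfix (mem_filter.2 hu) huP hH.hτP

lemma card_EE_eq_and : Nat.card (EE P₀ τ) = e ∧
    SS τ = (univ.filter (fun g => g ∈ centralizer ({τ} : Set G))) \ (univ.filter (fun g => g ∈ EE P₀ τ)) := by
  have hle : (univ.filter (fun g => g ∈ EE P₀ τ)) ⊆ (univ.filter (fun g => g ∈ centralizer ({τ} : Set G))) := by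
    intro g hg
    simp only [mem_filter, mem_univ, true_and] at hg ⊢
    exact hg.1
  have h1 : ((univ.filter (fun g => g ∈ centralizer ({τ} : Set G))) \ (univ.filter (fun g => g ∈ EE P₀ τ))).card =
      Nat.card (centralizer ({τ} : Set G)) - Nat.card (EE P₀ τ) := by
    rw [card_sdiff_of_subset hle, Nat.card_eq_fintype_card, Nat.card_eq_fintype_card, Fintype.card_subtype, Fintype.card_subtype]
  have h2 := card_E_ge hH
  have h3 := card_le_card (SS_subset (P₀ := P₀) hH hfix)
  rw [h1, card_SS hH hfix, card_W hH hfix] at h3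
  have h4 := hH.het
  have h5 := elt hH
  have hEW : Nat.card (EE P₀ τ) ≤ Nat.card (centralizer ({τ} : Set G)) := by
    rw [Nat.card_eq_fintype_card, Nat.card_eq_fintype_card, Fintype.card_subtype, Fintype.card_subtype] at *
    exact card_le_card hle
  rw [card_W hH hfix] at hEW
  have h6 : Nat.card (EE P₀ τ) = e := by omega
  refine ⟨h6, ?_⟩
  apply eq_of_subset_of_card_le (SS_subset hH hfix)
  rw [h1, card_SS hH hfix, card_W hH hfix, h6]
  omega

lemma mem_SS_of {g : G} (hg : g ∈ centralizer ({τ} : Set G)) (hgE : g ∉ EE P₀ τ) : g ∈ SS τ := by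
  rw [(card_EE_eq_and (P₀ := P₀) hH hfix).2]
  simp only [mem_sdiff, mem_filter, mem_univ, true_and]
  exact ⟨hg, hgE⟩

/-- Elements of the complement of `E` invert `E`. -/
lemma inverts_E {g y : G} (hg : g ∈ centralizer ({τ} : Set G)) (hgE : g ∉ EE P₀ τ) (hy : y ∈ EE P₀ τ) :
    g * y * g⁻¹ = y⁻¹ := by
  have h1 : g * y ∈ centralizer ({τ} : Set G) := mul_mem hg hy.1
  have h2 : g * y ∉ EE P₀ τ := fun h => hgE (by
    have := mul_mem h (inv_mem hy)
    simpa using this)
  have h3 := mem_SS_of hH hfix h1 h2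
  unfold SS at h3
  have h4 := TT_sq hH (mem_filter.1 h3).1
  have h5 := TT_sq hH (mem_filter.1 (mem_SS_of hH hfix hg hgE)).1
  have h6 : g⁻¹ = g := by rw [inv_eq_iff_mul_eq_one, ← pow_two, h5]
  rw [h6]
  rw [pow_two] at h4
  have h7 : g * y * g * y = 1 := by rw [← h4]; group
  exact eq_inv_of_mul_eq_one_left h7

lemma sq_of_three {y : G} (ht : 3 ≤ t) (hy : y ∈ EE P₀ τ) : y ^ 2 = 1 := by
  -- pick two elements
  have hWc := card_W hH hfix
  have hEc := (card_EE_eq_and (P₀ := P₀) hH hfix).1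
  have he := epos hH
  have hc1 : Nat.card (EE P₀ τ) < Nat.card (centralizer ({τ} : Set G)) := by
    rw [hWc, hEc]
    nlinarith
  obtain ⟨g, hg, hgE⟩ : ∃ g, g ∈ centralizer ({τ} : Set G) ∧ g ∉ EE P₀ τ := by
    by_contra hno
    push Not at hno
    have h1 : centralizer ({τ} : Set G) ≤ EE P₀ τ := hno
    have h2 := Subgroup.card_le_of_le h1
    omega
  obtain ⟨g', hg', hgE', hgg⟩ : ∃ g', g' ∈ centralizer ({τ} : Set G) ∧ g' ∉ EE P₀ τ ∧ g * g' ∉ EE P₀ τ := by
    by_contra hno
    push Not at hno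
    -- then `W ⊆ E ∪ g E`
    have h1 : (univ.filter (fun a => a ∈ centralizer ({τ} : Set G))) ⊆
        (univ.filter (fun a => a ∈ EE P₀ τ)) ∪ (univ.filter (fun a => a ∈ EE P₀ τ)).image (fun a => g⁻¹ * a) := by
      intro a ha
      simp only [mem_filter, mem_univ, true_and] at ha
      by_cases haE : a ∈ EE P₀ τ
      · exact mem_union_left _ (mem_filter.2 ⟨mem_univ _, haE⟩)
      · refine mem_union_right _ (mem_image.2 ⟨g * a, mem_filter.2 ⟨mem_univ _, hno a ha haE⟩, by group⟩)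
    have h2 := card_le_card h1
    have h3 := card_union_le (univ.filter (fun a => a ∈ EE P₀ τ)) ((univ.filter (fun a => a ∈ EE P₀ τ)).image (fun a => g⁻¹ * a))
    have h4 := card_image_le (s := univ.filter (fun a => a ∈ EE P₀ τ)) (f := fun a => g⁻¹ * a)
    have h5 : (univ.filter (fun a => a ∈ centralizer ({τ} : Set G))).card = e * t := by
      rw [← hWc, Nat.card_eq_fintype_card, Fintype.card_subtype]
    have h6 : (univ.filter (fun a => a ∈ EE P₀ τ)).card = e := by
      rw [← hEc, Nat.card_eq_fintype_card, Fintype.card_subtype]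
    rw [h5] at h2
    rw [h6] at h3 h4
    nlinarith
  have hgg' : g * g' ∈ centralizer ({τ} : Set G) := mul_mem hg hg'
  have h1 := inverts_E hH hfix hg hgE hy
  have h2 := inverts_E hH hfix hg' hgE' hy
  have h3 := inverts_E hH hfix hgg' hgg hy
  have h4 : g * y⁻¹ * g⁻¹ = y := by
    have : g * y⁻¹ * g⁻¹ = (g * y * g⁻¹)⁻¹ := by group
    rw [this, h1, inv_inv]
  have h5 : (g * g') * y * (g * g')⁻¹ = y := by
    calc (g * g') * y * (g * g')⁻¹ = g * (g' * y * g'⁻¹) * g⁻¹ := by group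
      _ = y := by rw [h2, h4]
  rw [h5] at h3
  rw [pow_two]
  nth_rewrite 1 [h3]
  group

lemma eq_tau_of_sq {y : G} (hy : y ∈ EE P₀ τ) (hy2 : y ^ 2 = 1) (hy1 : y ≠ 1) : y = τ := by
  have hyP : y • P₀ = P₀ := Sylow.smul_eq_iff_mem_normalizer.2 hy.2
  have h1 := mul_mem_of_inv hH hy2 hy1 hyP hH.hτ2 hH.hτ1 hH.hτP
  have hτE : τ ∈ centralizer ({τ} : Set G) := by
    rw [mem_centralizer_iff]
    intro h hh
    rw [Set.mem_singleton_iff] at hh
    rw [hh]
  have h2 : y * τ ∈ centralizer ({τ} : Set G) := mul_mem hy.1 hτE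
  have h3 : (y * τ) ^ 2 = 1 := by
    have hc : y * τ = τ * y := by
      have := mem_centralizer_iff.1 hy.1 τ rfl
      exact this.symm
    have h3 : (y * τ) * (y * τ) = (y * y) * (τ * τ) := by
      calc (y * τ) * (y * τ) = y * (τ * y) * τ := by group
        _ = y * (y * τ) * τ := by rw [hc]
        _ = (y * y) * (τ * τ) := by group
    rw [pow_two, h3, ← pow_two, ← pow_two, hy2, hH.hτ2, one_mul]
  have h4 := eq_one_of_sq hH h1 h3
  have h5 := eq_inv_of_mul_eq_one_left h4
  rw [h5, tau_inv hH hfix]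

lemma e_eq_two (hcase : e = 2 ∨ 3 ≤ t) : e = 2 := by
  rcases hcase with h | ht
  · exact h
  · have hEc := (card_EE_eq_and (P₀ := P₀) hH hfix).1
    have hτE : τ ∈ EE P₀ τ := by
      refine Subgroup.mem_inf.2 ⟨?_, Sylow.smul_eq_iff_mem_normalizer.1 hH.hτP⟩
      rw [mem_centralizer_iff]
      intro h hh
      rw [Set.mem_singleton_iff] at hh
      rw [hh]
    have h1 : (univ.filter (fun a => a ∈ EE P₀ τ)) = {1, τ} := by
      ext a
      simp only [mem_filter, mem_univ, true_and, mem_insert, mem_singleton]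
      constructor
      · intro ha
        by_cases ha1 : a = 1
        · exact Or.inl ha1
        · exact Or.inr (eq_tau_of_sq hH hfix ha (sq_of_three hH hfix ht ha) ha1)
      · rintro (rfl | rfl)
        · exact one_mem _
        · exact hτE
    rw [← hEc, Nat.card_eq_fintype_card, Fintype.card_subtype, h1, card_pair hH.hτ1.symm]

lemma W_sq (he : e = 2) {g : G} (hg : g ∈ centralizer ({τ} : Set G)) : g ^ 2 = 1 := by
  by_cases hgE : g ∈ EE P₀ τ
  · have hEc := (card_EE_eq_and (P₀ := P₀) hH hfix).1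
    have hτE : τ ∈ EE P₀ τ := by
      refine Subgroup.mem_inf.2 ⟨?_, Sylow.smul_eq_iff_mem_normalizer.1 hH.hτP⟩
      rw [mem_centralizer_iff]
      intro h hh
      rw [Set.mem_singleton_iff] at hh
      rw [hh]
    have hsub : ({1, τ} : Finset G) ⊆ univ.filter (fun a => a ∈ EE P₀ τ) := by
      intro a ha
      simp only [mem_insert, mem_singleton] at ha
      simp only [mem_filter, mem_univ, true_and]
      rcases ha with rfl | rfl
      · exact one_mem _
      · exact hτE
    have h1 : ({1, τ} : Finset G) = univ.filter (fun a => a ∈ EE P₀ τ) := by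
      apply eq_of_subset_of_card_le hsub
      rw [card_pair hH.hτ1.symm, ← he, ← hEc, Nat.card_eq_fintype_card, Fintype.card_subtype]
    have h2 : g ∈ ({1, τ} : Finset G) := by
      rw [h1]
      simp only [mem_filter, mem_univ, true_and]
      exact hgE
    simp only [mem_insert, mem_singleton] at h2
    rcases h2 with rfl | rfl
    · simp
    · exact hH.hτ2
  · have h1 := mem_SS_of hH hfix hg hgE
    unfold SS at h1
    exact TT_sq hH (mem_filter.1 h1).1

lemma mem_TT_of_mem_W (he : e = 2) {g : G} (hg : g ∈ centralizer ({τ} : Set G)) (hg1 : g ≠ 1) : g ∈ TT τ := by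
  by_cases hgE : g ∈ EE P₀ τ
  · have h2 := W_sq hH hfix he hg
    rw [eq_tau_of_sq hH hfix hgE h2 hg1]
    exact self_mem_TT
  · have h1 := mem_SS_of hH hfix hg hgE
    unfold SS at h1
    exact (mem_filter.1 h1).1

/-- **The design theorem.** -/
theorem main_design (hcase : e = 2 ∨ 3 ≤ t) (hM1 : 1 < Nat.card (Sylow p G)) :
    ∃ (m : ℕ) (F : Type) (_ : Field F) (_ : Fintype F), Fintype.card F = 2 ^ m ∧ p = 2 ^ m + 1 ∧ 3 < p ∧
      Nonempty (G ≃* Matrix.ProjectiveSpecialLinearGroup (Fin 2) F) := by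
  have he := e_eq_two hH hfix hcase
  subst he
  have hW2 : ∀ g ∈ centralizer ({τ} : Set G), g ^ 2 = 1 := fun g hg => W_sq hH hfix rfl hg
  have hWc := card_W hH hfix
  have hpg : IsPGroup 2 (centralizer ({τ} : Set G)) := by
    intro g
    refine ⟨1, ?_⟩
    apply Subtype.ext
    simpa using hW2 g g.2
  haveI : Fact (Nat.Prime 2) := ⟨Nat.prime_two⟩
  obtain ⟨n, hn⟩ := IsPGroup.iff_card.1 hpg
  have hpt := hH.het
  have hp2 := hp.out.two_le
  have hodd := hH.hodd
  have hM := hH.hM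
  have h21 : p = 2 ^ n + 1 := by
    rw [hWc] at hn
    omega
  have hp3 : p ≠ 3 := by
    intro h3
    subst h3
    have ht1 : t = 1 := by omega
    rw [ht1] at hM
    omega
  have hnpos : 2 ≤ n := by
    by_contra hlt
    have : n = 0 ∨ n = 1 := by omega
    rcases this with rfl | rfl
    · simp at h21
      omega
    · simp at h21
      omega
  have h4n : 4 ≤ 2 ^ n := by
    calc 4 = 2 ^ 2 := by norm_num
      _ ≤ 2 ^ n := Nat.pow_le_pow_right (by norm_num) hnpos
  have hGc := card_G hH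
  have hcop : Nat.Coprime 2 (p * (p - 2)) := by
    rw [Nat.coprime_mul_iff_right]
    constructor
    · exact (Nat.coprime_primes Nat.prime_two hp.out).2 (Ne.symm hodd)
    · rw [Nat.coprime_two_left]
      have : Odd p := hp.out.odd_of_ne_two hodd
      obtain ⟨k, hk⟩ := this
      exact ⟨k - 1, by omega⟩
  have hGc' : Nat.card G = 2 ^ n * (p * (p - 2)) := by
    rw [hGc, ← hn, hWc]
    ring
  obtain ⟨T₂, hT₂⟩ := hpg.exists_le_sylow
  have hTeq : centralizer ({τ} : Set G) = (T₂ : Subgroup G) := by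
    refine Subgroup.eq_of_le_of_card_ge hT₂ ?_
    obtain ⟨j, hj⟩ := IsPGroup.iff_card.1 T₂.isPGroup'
    rw [hn, hj]
    have h1 : 2 ^ j ∣ 2 ^ n * (p * (p - 2)) := by
      rw [← hj, ← hGc']
      exact Subgroup.card_subgroup_dvd_card _
    have h2 : 2 ^ j ∣ 2 ^ n := (Nat.Coprime.pow_left j hcop).dvd_of_dvd_mul_right h1
    exact Nat.le_of_dvd (by positivity) h2
  have hT₂sq : ∀ g ∈ (T₂ : Subgroup G), g ^ 2 = 1 := fun g hg => hW2 g (by rw [hTeq]; exact hg)
  have hcardT₂ : Nat.card T₂ = 2 ^ n := by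
    rw [← hn, hTeq]
  have hnc : ¬ IsCyclic (T₂ : Subgroup G) := by
    intro hc
    obtain ⟨g, hg⟩ := hc.exists_ofOrder_eq_natCard
    have h1 : g ^ 2 = 1 := by
      apply Subtype.ext
      simpa using hT₂sq g g.2
    have h2 := orderOf_dvd_of_pow_eq_one h1
    rw [hg, hcardT₂] at h2
    have := Nat.le_of_dvd (by norm_num) h2
    omega
  have hnn : ¬ (T₂ : Subgroup G).Normal := by
    intro hnorm
    have hτT : τ ∈ (T₂ : Subgroup G) := by
      rw [← hTeq, mem_centralizer_iff]
      intro h hh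
      rw [Set.mem_singleton_iff] at hh
      rw [hh]
    have h1 : TT τ ⊆ (univ.filter (fun g => g ∈ (T₂ : Subgroup G))).erase 1 := by
      intro u hu
      rw [mem_erase]
      refine ⟨TT_ne hH hu, mem_filter.2 ⟨mem_univ _, ?_⟩⟩
      unfold TT at hu
      obtain ⟨c, rfl⟩ := isConj_iff.1 (mem_filter.1 hu).2
      exact hnorm.conj_mem _ hτT c
    have h2 := card_le_card h1
    rw [card_TT hH hfix, card_erase_of_mem (mem_filter.2 ⟨mem_univ _, one_mem _⟩)] at h2
    have h3 : (univ.filter (fun g => g ∈ (T₂ : Subgroup G))).card = 2 ^ n := by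
      rw [← hcardT₂, Nat.card_eq_fintype_card, Fintype.card_subtype]
    rw [h3] at h2
    have h5 : 0 < p - 2 := by omega
    have h7 : 2 ^ n - 1 = p - 2 := by omega
    rw [h7] at h2
    have h8 : (p - 2) * 2 ≤ (p - 2) * p := Nat.mul_le_mul_left _ hp2
    omega
  have hC : ∀ s : G, orderOf s = 2 → IsMulCommutative (centralizer ({s} : Set G)) ∧
      ∀ c ∈ centralizer ({s} : Set G), c ^ 2 = 1 := by
    intro s hs
    have hs2 : s ^ 2 = 1 := by rw [← hs]; exact pow_orderOf_eq_one s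
    have hs1 : s ≠ 1 := by
      rintro rfl
      rw [orderOf_one] at hs
      omega
    have hpgs : IsPGroup 2 (zpowers s) := by
      apply IsPGroup.of_card (n := 1)
      rw [Nat.card_zpowers, hs, pow_one]
    obtain ⟨Q, hQ⟩ := hpgs.exists_le_sylow
    obtain ⟨g, hg⟩ := MulAction.exists_smul_eq G Q T₂
    have hsQ : s ∈ (Q : Subgroup G) := hQ (mem_zpowers s)
    have h1 : g * s * g⁻¹ ∈ (T₂ : Subgroup G) := by
      have h := Subgroup.smul_mem_pointwise_smul s (MulAut.conj g) (Q : Subgroup G) hsQ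
      have h' : ((g • Q : Sylow 2 G) : Subgroup G) = MulAut.conj g • (Q : Subgroup G) := Sylow.coe_subgroup_smul
      rw [← h', hg] at h
      simpa [MulAut.smul_def] using h
    have h2 : g * s * g⁻¹ ≠ 1 := by
      intro h
      apply hs1
      have : s = g⁻¹ * (g * s * g⁻¹) * g := by group
      rw [this, h]
      group
    have h3 := mem_TT_of_mem_W hH hfix rfl (by rw [hTeq]; exact h1) h2
    unfold TT at h3
    obtain ⟨c, hc⟩ := isConj_iff.1 (mem_filter.1 h3).2
    -- `s = (g⁻¹ c) τ (g⁻¹ c)⁻¹`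
    set d := g⁻¹ * c with hd
    have hsd : s = d * τ * d⁻¹ := by
      have h4 : s = g⁻¹ * (g * s * g⁻¹) * g := by group
      rw [h4, ← hc, hd]
      group
    have hall : ∀ a ∈ centralizer ({s} : Set G), a ^ 2 = 1 := by
      intro a ha
      have h5 : d⁻¹ * a * d ∈ centralizer ({τ} : Set G) := by
        rw [mem_centralizer_iff]
        intro h hh
        rw [Set.mem_singleton_iff] at hh
        subst hh
        have h6 := mem_centralizer_iff.1 ha s rfl
        rw [hsd] at h6
        calc h * (d⁻¹ * a * d) = d⁻¹ * ((d * h * d⁻¹) * a) * d := by group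
          _ = d⁻¹ * (a * (d * h * d⁻¹)) * d := by rw [h6]
          _ = d⁻¹ * a * d * h := by group
      have h7 := hW2 _ h5
      have h8 : a = d * (d⁻¹ * a * d) * d⁻¹ := by group
      rw [h8, pow_two]
      have h9 : (d * (d⁻¹ * a * d) * d⁻¹) * (d * (d⁻¹ * a * d) * d⁻¹) = d * ((d⁻¹ * a * d) ^ 2) * d⁻¹ := by
        rw [pow_two]
        group
      rw [h9, h7]
      group
    refine ⟨⟨⟨fun a b => ?_⟩⟩, hall⟩
    apply Subtype.ext
    have h1 := hall (a * b) (mul_mem a.2 b.2)
    have h2 := hall a a.2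
    have h3 := hall b b.2
    simp only [Subgroup.coe_mul]
    rw [pow_two] at h1 h2 h3
    have h1' : ((a : G) * b)⁻¹ = a * b := inv_eq_of_mul_eq_one_left h1
    have h6 : (b : G)⁻¹ = b := inv_eq_of_mul_eq_one_left h3
    have h7 : (a : G)⁻¹ = a := inv_eq_of_mul_eq_one_left h2
    calc (a : G) * b = ((a : G) * b)⁻¹ := h1'.symm
      _ = (b : G)⁻¹ * (a : G)⁻¹ := mul_inv_rev _ _
      _ = b * a := by rw [h6, h7]
  obtain ⟨F, i1, i2, hF, hiso⟩ := Cfsg.Agent.S1230.result T₂ hnc hnn hC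
  refine ⟨n, F, i1, i2, ?_, h21, ?_, hiso⟩
  · rw [hF, hcardT₂]
  · omega

end

end Cfsg.Agent.Lib.DefectOne.SCDesign
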