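import Mathlib
import Cfsg.Agent.Lib.DefectOne.BlockD

/-!
# The table of the principal block for a Sylow subgroup of prime order
-/

set_option autoImplicit false
set_option linter.unusedSectionVars false

namespace Cfsg.Agent.Lib.DefectOne

open Cfsg Subgroup Finset Cfsg.Agent.Lib.Blocks.Local Cfsg.Agent.Lib.Blocks.Central
open scoped ComplexConjugate

universe u

variable {G : Type u} [Group G] [Fintype G] {p : ℕ} [hp : Fact p.Prime] {x : G} {H : Subgroup G} [Fintype H]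

/-- The exponents of the exceptional values. -/
noncomputable def perF (e : ℕ) (b : ZMod p) : Finset (ZMod p) :=
  open scoped Classical in (univ.erase (0 : ZMod p)).filter (fun c => c ^ e = b)

/-- The Gaussian period. -/
noncomputable def perEta (ζ : ℂ) (e : ℕ) (b i : ZMod p) : ℂ :=
  ∑ a ∈ perF e b, ζ ^ (a * i).val

/-- The table of the principal block. -/
structure PTable (M : Ideal AlgInt) (x : G) (H : Subgroup G) [Fintype H] (ζ : ℂ) (e t : ℕ)
    (X Y : Finset (IrrCharacter G)) (δ : IrrCharacter G → ℤ) (ε : ℤ) (b : IrrCharacter G → ZMod p) : Prop where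
  epos : 0 < e
  het : p - 1 = e * t
  idx : (centralizer (zpowers x : Set G)).relIndex (normalizer (zpowers x : Set G)) = e
  disj : Disjoint X Y
  cardX : X.card = e
  cardY : Y.card = t
  block : principalBlock M G = ((X ∪ Y : Finset (IrrCharacter G)) : Set (IrrCharacter G))
  triv : 1 < t → Cfsg.Agent.Lib.Blocks.Principal.trivChar G ∈ X ∧ δ (Cfsg.Agent.Lib.Blocks.Principal.trivChar G) = 1
  signX : ∀ χ ∈ X, δ χ = 1 ∨ δ χ = -1
  sign : ε = 1 ∨ ε = -1
  valX : ∀ χ ∈ X, ∀ i : ZMod p, i ≠ 0 → ∀ y : H, (χ : G → ℂ) (XX x i * y) = (δ χ : ℂ)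
  valY : ∀ θ ∈ Y, ∀ i : ZMod p, i ≠ 0 → ∀ y : H, (θ : G → ℂ) (XX x i * y) = (ε : ℂ) * perEta ζ e (b θ) i
  cardF : ∀ θ ∈ Y, (perF (p := p) e (b θ)).card = e
  degX : ∀ χ ∈ X, (charDegree (χ : G → ℂ) : ℤ) ≡ δ χ [ZMOD p]
  degY : ∀ θ ∈ Y, (charDegree (θ : G → ℂ) : ℤ) ≡ ε * (e : ℤ) [ZMOD p]
  rel : ∀ g : G, ¬ p ∣ orderOf g → ∀ θ ∈ Y, (ε : ℂ) * (θ : G → ℂ) g = ∑ χ ∈ X, (δ χ : ℂ) * (χ : G → ℂ) g
  out : ∀ χ : IrrCharacter G, χ ∉ X ∪ Y → ∀ u : G, u ∈ zpowers x → u ≠ 1 → ∀ y : H,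
    SS H (χ : G → ℂ) (fun _ => 1) (u * y) = 0
  avgY : ∀ θ ∈ Y, ∃ m : ℕ, SS H (θ : G → ℂ) (fun _ => 1) 1 = (p : ℂ) * m + (ε : ℂ) * e ∧ (ε = -1 → 1 ≤ m)

section Sums

variable {ζ : ℂ} (hζ : IsPrimitiveRoot ζ p)

include hζ in
lemma sum_zeta_erase {c : ZMod p} (hc : c ≠ 0) :
    ∑ i ∈ univ.erase (0 : ZMod p), ζ ^ (c * i).val = -1 := by
  have h2 : ∑ i : ZMod p, ζ ^ (c * i).val = 0 := by
    have := sum_zeta hζ c
    rw [if_neg hc] at this
    rw [← this]
    exact sum_congr rfl fun i _ => by rw [mul_comm]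
  rw [← add_sum_erase univ _ (mem_univ (0 : ZMod p))] at h2
  simp only [mul_zero, ZMod.val_zero, pow_zero] at h2
  linear_combination h2

include hζ in
lemma sum_perEta {e : ℕ} {b : ZMod p} :
    ∑ i ∈ univ.erase (0 : ZMod p), perEta ζ e b i = -((perF (p := p) e b).card : ℂ) := by
  unfold perEta
  rw [sum_comm]
  have h1 : ∀ a ∈ perF (p := p) e b, ∑ i ∈ univ.erase (0 : ZMod p), ζ ^ (a * i).val = -1 := by
    intro a ha
    have ha0 : a ≠ 0 := by
      unfold perF at ha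
      exact (mem_erase.1 (mem_filter.1 ha).1).1
    exact sum_zeta_erase hζ ha0
  rw [sum_congr rfl h1]
  simp

include hζ in
lemma conj_zeta (n : ℕ) : conj (ζ ^ n) = (ζ ^ n)⁻¹ := by
  rw [← Complex.inv_eq_conj]
  have h0 : (ζ ^ n) ^ p = 1 := by
    rw [← pow_mul, mul_comm, pow_mul, hζ.pow_eq_one, one_pow]
  exact (Complex.norm_eq_one_of_pow_eq_one h0 hp.out.ne_zero)

include hζ in
lemma sum_perEta_normSq {e : ℕ} {b : ZMod p} :
    ∑ i ∈ univ.erase (0 : ZMod p), perEta ζ e b i * conj (perEta ζ e b i) =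
      ((perF (p := p) e b).card : ℂ) * ((p : ℂ) - ((perF (p := p) e b).card : ℂ)) := by
  classical
  unfold perEta
  have h0 : ∀ i : ZMod p, (∑ a ∈ perF (p := p) e b, ζ ^ (a * i).val) * conj (∑ a ∈ perF (p := p) e b, ζ ^ (a * i).val) =
      ∑ a ∈ perF (p := p) e b, ∑ c ∈ perF (p := p) e b, ζ ^ ((a - c) * i).val := by
    intro i
    rw [map_sum, sum_mul_sum]
    refine sum_congr rfl fun a _ => sum_congr rfl fun c _ => ?_
    rw [conj_zeta hζ, sub_mul, sub_eq_add_neg, zeta_val_add hζ, ← neg_mul, mul_comm (-c) i, mul_neg, zeta_val_neg hζ, mul_comm i c]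
  simp_rw [h0]
  rw [sum_comm]
  have h1 : ∀ a ∈ perF (p := p) e b, ∑ i ∈ univ.erase (0 : ZMod p), ∑ c ∈ perF (p := p) e b, ζ ^ ((a - c) * i).val =
      (p : ℂ) - ((perF (p := p) e b).card : ℂ) := by
    intro a ha
    rw [sum_comm]
    rw [← add_sum_erase _ _ ha]
    have h2 : ∑ i ∈ univ.erase (0 : ZMod p), ζ ^ ((a - a) * i).val = (p : ℂ) - 1 := by
      simp only [sub_self, zero_mul, ZMod.val_zero, pow_zero, sum_const, card_erase_of_mem (mem_univ _), card_univ, ZMod.card]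
      rw [nsmul_eq_mul, mul_one]
      have := hp.out.one_lt
      push_cast [Nat.cast_sub this.le]
      ring
    have h3 : ∀ c ∈ (perF (p := p) e b).erase a, ∑ i ∈ univ.erase (0 : ZMod p), ζ ^ ((a - c) * i).val = -1 := by
      intro c hc
      exact sum_zeta_erase hζ (sub_ne_zero.2 (ne_comm.1 (mem_erase.1 hc).1))
    rw [h2, sum_congr rfl h3, sum_const, card_erase_of_mem ha, nsmul_eq_mul]
    have h4 : 1 ≤ (perF (p := p) e b).card := card_pos.2 ⟨a, ha⟩
    push_cast [Nat.cast_sub h4]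
    ring
  rw [sum_congr rfl h1, sum_const, nsmul_eq_mul]

end Sums

section Exist

variable (hL : LocalData p x H)

include hL in
set_option maxHeartbeats 4000000 in
theorem exists_pTable {M : Ideal AlgInt} (hM : IsPModular p M) (P : Sylow p G) (hz : zpowers x = (P : Subgroup G))
    {ζ : ℂ} (hζ : IsPrimitiveRoot ζ p) :
    ∃ (e t : ℕ) (X Y : Finset (IrrCharacter G)) (δ : IrrCharacter G → ℤ) (ε : ℤ) (b : IrrCharacter G → ZMod p),
      PTable M x H ζ e t X Y δ ε b := by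
  classical
  have hp' := hp.out
  letI : Fintype (IrrCharacter G) := Fintype.ofFinite _
  haveI hMp : M.IsPrime := isPrime_of_isPModular hM
  have hcen : centralizer ((P : Subgroup G) : Set G) = centralizer (zpowers x : Set G) := by rw [hz]
  have hnor : normalizer ((P : Subgroup G) : Set G) = normalizer (zpowers x : Set G) := by rw [hz]
  let φ₁ : IrrCharacter H := Cfsg.Agent.Lib.Blocks.Principal.trivChar H
  have hφ₁ : (φ₁ : H → ℂ) = fun _ => 1 := rfl
  have hTT : ∀ g, g ∈ TT hL (φ₁ : H → ℂ) ↔ g ∈ normalizer (zpowers x : Set G) := by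
    intro g
    constructor
    · exact fun h => TT_le hL _ h
    · intro h
      exact ⟨h, fun y => by simp [hφ₁]⟩
  obtain ⟨A, e, t, hI⟩ := exists_inertiaData hL (isClassFunction_of_irr φ₁.2)
  have he : (centralizer (zpowers x : Set G)).relIndex (normalizer (zpowers x : Set G)) = e := by
    rw [← hI.idx]
    congr 1
    ext g
    exact (hTT g).symm
  obtain ⟨X, Y, εX, ε₀, bY, hS⟩ := exists_rowStructure hL φ₁.2 hζ hI.epos hI.het hI.Acard hI.hA hI.T1 hI.T2 hI.fib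
  let τ : IrrCharacter G := Cfsg.Agent.Lib.Blocks.Principal.trivChar G
  have hτ : (τ : G → ℂ) = fun _ => 1 := rfl
  have hHc : (Nat.card H : ℂ) ≠ 0 := by exact_mod_cast Nat.card_pos.ne'
  have hSSτ : SS H (τ : G → ℂ) (φ₁ : H → ℂ) 1 = 1 := by
    unfold SS idemCoeff
    simp only [hτ, hφ₁, mul_one, one_mul]
    rw [sum_const, card_univ, nsmul_eq_mul, ← Nat.card_eq_fintype_card]
    field_simp
  have hτm : mTot (p := p) x H (τ : G → ℂ) (φ₁ : H → ℂ) ζ = 1 := by
    have h1 := SS_one hL τ.2 φ₁.2 hζ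
    rw [hSSτ] at h1
    simp only [hφ₁, one_mul] at h1
    exact_mod_cast h1.symm
  have hτrow : ∃ a : ZMod p, rr x H (φ₁ : H → ℂ) ζ (τ : G → ℂ) a ≠ 0 := by
    by_contra hno
    push Not at hno
    have hR : Rsum (p := p) x H (φ₁ : H → ℂ) ζ (τ : G → ℂ) = 0 := sum_eq_zero fun a _ => hno a
    have h1 := mTot_eq (p := p) (x := x) (φ₁ : H → ℂ) ζ (τ : G → ℂ)
    rw [hR, hτm, add_zero] at h1
    have h2 : (p : ℤ) ∣ 1 := by
      rw [show (1 : ℤ) = ((1 : ℕ) : ℤ) from rfl, h1]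
      exact dvd_mul_right _ _
    have h3 : p ∣ 1 := by exact_mod_cast h2
    exact hp'.one_lt.ne' (Nat.dvd_one.1 h3)
  have hτmem : τ ∈ X ∪ Y := (hS.supp τ).2 hτrow
  have hτdeg : charDegree (τ : G → ℂ) = 1 := by
    unfold charDegree
    simp [hτ]
  have hdeg : ∀ χ ∈ blockOf M (τ : G → ℂ), ¬ p ∣ charDegree (χ : G → ℂ) := by
    intro χ hχ
    refine not_dvd_of_mem_block hM hL.syl ?_ hχ
    rw [hτdeg]
    exact fun h => hp'.one_lt.ne' (Nat.dvd_one.1 h)
  have hblock : principalBlock M G = ((X ∪ Y : Finset (IrrCharacter G)) : Set (IrrCharacter G)) :=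
    block_eq_rows hL hM φ₁.2 hζ hS hI hτmem hdeg
  have hdc : ∀ χ : IrrCharacter G, (χ : G → ℂ) 1 = (charDegree (χ : G → ℂ) : ℂ) := fun χ =>
    (Cfsg.Agent.Lib.Char.Values.IsCharacter.charDegree_cast
      (Cfsg.Agent.Lib.Char.Basic.isCharacter_of_isIrrCharacter χ.2)).symm
  have hφ1 : (φ₁ : H → ℂ) 1 = ((1 : ℕ) : ℂ) := by simp [hφ₁]
  have hepos := hI.epos
  have helt := e_lt_p hL hI
  have hpe : ¬ (p : ℤ) ∣ (e : ℤ) := by
    intro h
    have h1 : p ∣ e := by exact_mod_cast h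
    have h2 := Nat.le_of_dvd hepos h1
    omega
  have hpi : Prime (p : ℤ) := Nat.prime_iff_prime_int.1 hp'
  obtain ⟨u, hu⟩ : ∃ u : ℤ, ((centralizer (zpowers x : Set G)).index : ℤ) = e + p * u := by
    have h1 := index_centralizer_modEq P
    rw [hcen, hnor, he] at h1
    have h2 : ((e : ℤ)) ≡ ((centralizer (zpowers x : Set G)).index : ℤ) [ZMOD p] :=
      ((Int.natCast_modEq_iff).2 h1).symm
    obtain ⟨u, hu⟩ := Int.modEq_iff_dvd.1 h2
    exact ⟨u, by linear_combination hu⟩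
  have hvan : ∀ χ ∈ X ∪ Y, ∀ φ : IrrCharacter H, φ ≠ φ₁ → ∀ a : ZMod p, rr x H (φ : H → ℂ) ζ (χ : G → ℂ) a = 0 := by
    intro χ hχ φ hφ a
    by_contra ha
    apply hφ
    obtain ⟨A', e', t', hI'⟩ := exists_inertiaData hL (isClassFunction_of_irr φ.2)
    obtain ⟨X', Y', εX', ε₀', bY', hS'⟩ := exists_rowStructure hL φ.2 hζ hI'.epos hI'.het hI'.Acard hI'.hA hI'.T1 hI'.T2 hI'.fib
    have h1 : χ ∈ X' ∪ Y' := (hS'.supp χ).2 ⟨a, ha⟩
    obtain ⟨g, hg, hgy⟩ := rel_of_rows hL hM χ φ₁.2 φ.2 hζ hI ((hS.supp χ).1 hχ) (hdc χ)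
      (not_dvd_deg hL φ₁.2 hζ hS hI hχ (hdc χ)) (not_dvd_mTot hL hS' hI' h1)
    apply Subtype.ext
    funext y
    have h2 := hgy ((conjH hL g hg).symm y)
    rw [MulEquiv.apply_symm_apply] at h2
    rw [h2]
    rfl
  -- general value formula
  have hval0 : ∀ χ ∈ X ∪ Y, ∀ i : ZMod p, i ≠ 0 → ∀ y : H, (χ : G → ℂ) (XX x i * y) =
      ∑ a ∈ univ.erase (0 : ZMod p), ((rr x H (φ₁ : H → ℂ) ζ (χ : G → ℂ) a : ℤ) : ℂ) * ζ ^ (a * i).val := by
    intro χ hχ i hi y
    letI : Fintype (IrrCharacter H) := Fintype.ofFinite _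
    rw [← sum_SS (H := H) (χ : G → ℂ) (XX x i * y)]
    rw [Finset.sum_eq_single φ₁]
    · rw [SS_row hL χ.2 φ₁.2 hζ hi]
      have hφy : (φ₁ : H → ℂ) y = 1 := rfl
      rw [hφy, one_mul, ← add_sum_erase univ _ (mem_univ (0 : ZMod p)), rr_zero, Int.cast_zero, zero_mul, zero_add]
    · intro φ _ hφ
      rw [SS_row hL χ.2 φ.2 hζ hi]
      have h1 : ∀ a : ZMod p, rr x H (φ : H → ℂ) ζ (χ : G → ℂ) a = 0 := hvan χ hχ φ hφ
      simp [h1]
    · intro h
      exact absurd (mem_univ _) h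
  have hvalX : ∀ χ ∈ X, ∀ i : ZMod p, i ≠ 0 → ∀ y : H, (χ : G → ℂ) (XX x i * y) = ((-εX χ : ℤ) : ℂ) := by
    intro χ hχ i hi y
    rw [hval0 χ (mem_union_left _ hχ) i hi y]
    have h1 : ∀ a ∈ univ.erase (0 : ZMod p), ((rr x H (φ₁ : H → ℂ) ζ (χ : G → ℂ) a : ℤ) : ℂ) * ζ ^ (a * i).val =
        (εX χ : ℂ) * ζ ^ (a * i).val := by
      intro a ha
      rw [(hS.rowX χ hχ).2 a (mem_erase.1 ha).1]
    rw [sum_congr rfl h1, ← mul_sum]
    have h2 := sum_zeta hζ i
    rw [if_neg hi, ← add_sum_erase univ _ (mem_univ (0 : ZMod p))] at h2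
    simp only [zero_mul, ZMod.val_zero, pow_zero] at h2
    have h3 : ∑ a ∈ univ.erase (0 : ZMod p), ζ ^ (a * i).val = -1 := by
      linear_combination h2
    rw [h3]
    push_cast
    ring
  refine ⟨e, t, X, Y, fun χ => -εX χ, ε₀, bY, hepos, hI.het, he, hS.disj, hS.cardX, hS.cardY, hblock, ?_, ?_, hS.sign₀, hvalX, ?_, ?_, ?_, ?_, ?_, ?_, ?_⟩
  · -- the trivial character
    intro ht
    have hSSτ' : ∀ u : G, SS H (τ : G → ℂ) (φ₁ : H → ℂ) u = 1 := by
      intro u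
      unfold SS idemCoeff
      simp only [hτ, hφ₁, mul_one, one_mul]
      rw [sum_const, card_univ, nsmul_eq_mul, ← Nat.card_eq_fintype_card]
      field_simp
    have hm : ∀ a : ZMod p, (mval x H (τ : G → ℂ) (φ₁ : H → ℂ) ζ a : ℂ) = if (0 : ZMod p) = a then 1 else 0 := by
      intro a
      have h1 := mval_eq hL τ.2 φ₁.2 hζ a
      have hone : (φ₁ : H → ℂ) 1 = 1 := rfl
      rw [hone, one_mul] at h1
      simp only [hSSτ', mul_one] at h1
      rw [h1]
      have h2 : ∑ i : ZMod p, (ζ ^ a.val)⁻¹ ^ i.val = if (0 : ZMod p) = a then (p : ℂ) else 0 := by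
        rw [← sum_zeta_sub hζ 0 a]
        refine sum_congr rfl fun c _ => ?_
        simp only [mul_zero, ZMod.val_zero, pow_zero, one_mul]
        rw [inv_pow, inv_pow, ← pow_mul, ← pow_mul, mul_comm]
      rw [h2]
      have hp0 : (p : ℂ) ≠ 0 := by exact_mod_cast hp'.ne_zero
      split_ifs
      · field_simp
      · simp
    have hr : ∀ a : ZMod p, a ≠ 0 → rr x H (φ₁ : H → ℂ) ζ (τ : G → ℂ) a = -1 := by
      intro a ha
      have h1 := hm a
      have h2 := hm 0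
      rw [if_neg (Ne.symm ha)] at h1
      rw [if_pos rfl] at h2
      have h3 : mval x H (τ : G → ℂ) (φ₁ : H → ℂ) ζ a = 0 := by exact_mod_cast h1
      have h4 : mval x H (τ : G → ℂ) (φ₁ : H → ℂ) ζ (0 : ZMod p) = 1 := by exact_mod_cast h2
      unfold rr
      rw [h3, h4]
      rfl
    have hτX : τ ∈ X := by
      rcases mem_union.1 hτmem with h | h
      · exact h
      · exfalso
        have hall : ∀ a : ZMod p, a ≠ 0 → a ^ e = bY τ := by
          intro a ha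
          have h1 := hS.rowY τ h a ha
          rw [hr a ha] at h1
          by_contra hne
          rw [if_neg hne] at h1
          omega
        obtain ⟨a₀, ha₀, hb₀⟩ := hS.exY τ h
        have h2 := card_fibre hI.Acard hI.hA ha₀
        have h3 : univ.filter (fun c : ZMod p => c ≠ 0 ∧ c ^ e = a₀ ^ e) = univ.erase (0 : ZMod p) := by
          ext c
          simp only [mem_filter, mem_univ, true_and, mem_erase, and_true, and_iff_left_iff_imp]
          intro hc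
          rw [hb₀]
          exact hall c hc
        have h4 := hI.het
        have h5 : p - 1 = e := by
          rw [← h2, h3, card_erase_of_mem (mem_univ _), card_univ, ZMod.card]
        have h8 : e * t = e * 1 := by rw [← h4, h5, mul_one]
        have h9 := Nat.eq_of_mul_eq_mul_left hepos h8
        omega
    refine ⟨hτX, ?_⟩
    have h1 := (hS.rowX τ hτX).2 1 one_ne_zero
    rw [hr 1 one_ne_zero] at h1
    show -εX τ = 1
    omega
  · intro χ hχ
    rcases (hS.rowX χ hχ).1 with h | h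
    · right
      show -εX χ = -1
      rw [h]
    · left
      show -εX χ = 1
      rw [h]
      rfl
  · intro θ hθ i hi y
    rw [hval0 θ (mem_union_right _ hθ) i hi y]
    unfold perEta perF
    rw [mul_sum, sum_filter]
    refine sum_congr rfl fun a ha => ?_
    rw [hS.rowY θ hθ a (mem_erase.1 ha).1]
    split_ifs <;> simp
  · intro θ hθ
    obtain ⟨a, ha, hb⟩ := hS.exY θ hθ
    have h2 := card_fibre hI.Acard hI.hA ha
    refine Eq.trans ?_ h2
    unfold perF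
    congr 1
    ext c
    simp only [mem_filter, mem_erase, mem_univ, and_true, true_and, hb]
  · intro χ hχ
    obtain ⟨k, hk⟩ := degree_cong hL χ φ₁.2 hζ hI _ 1 (hdc χ) hφ1 ((hS.supp χ).1 (mem_union_left _ hχ))
    rw [Rsum_of_X hS hχ] at hk
    rw [Int.modEq_iff_dvd]
    have h1 : (p : ℤ) ∣ (e : ℤ) * (-εX χ - (charDegree (χ : G → ℂ) : ℤ)) := by
      refine ⟨k - e * εX χ - u * εX χ * (p - 1), ?_⟩
      rw [Nat.mul_one, hu] at hk
      linear_combination hk
    exact (hpi.dvd_or_dvd h1).resolve_left hpe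
  · intro θ hθ
    obtain ⟨k, hk⟩ := degree_cong hL θ φ₁.2 hζ hI _ 1 (hdc θ) hφ1 ((hS.supp θ).1 (mem_union_right _ hθ))
    rw [Rsum_of_Y hS hI.Acard hI.hA hθ] at hk
    rw [Int.modEq_iff_dvd]
    have h1 : (p : ℤ) ∣ (e : ℤ) * (ε₀ * (e : ℤ) - (charDegree (θ : G → ℂ) : ℤ)) := by
      refine ⟨k - u * ε₀ * e, ?_⟩
      rw [Nat.mul_one, hu] at hk
      linear_combination hk
    exact (hpi.dvd_or_dvd h1).resolve_left hpe
  · intro g hg θ hθ
    have h1 := hS.rel g hg θ hθ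
    have h2 : ∑ χ ∈ X, ((-εX χ : ℤ) : ℂ) * (χ : G → ℂ) g = - ∑ χ ∈ X, (εX χ : ℂ) * (χ : G → ℂ) g := by
      rw [← sum_neg_distrib]
      refine sum_congr rfl fun χ _ => ?_
      push_cast
      ring
    rw [h2]
    linear_combination h1
  · intro χ hχ u' hu' hu1 y
    obtain ⟨i, rfl⟩ := exists_XX_of_mem hL.ord hu'
    have hi : i ≠ 0 := by
      rintro rfl
      exact hu1 (XX_zero x)
    have h1 := SS_row hL χ.2 φ₁.2 hζ hi y
    have hno : ∀ a : ZMod p, rr x H (φ₁ : H → ℂ) ζ (χ : G → ℂ) a = 0 := by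
      intro a
      by_contra ha
      exact hχ ((hS.supp χ).2 ⟨a, ha⟩)
    simp only [hno] at h1
    simpa [hφ₁] using h1
  · intro θ hθ
    refine ⟨mval x H (θ : G → ℂ) (φ₁ : H → ℂ) ζ (0 : ZMod p), ?_, ?_⟩
    · have h1 := SS_one hL θ.2 φ₁.2 hζ
      rw [mTot_cast, Rsum_of_Y hS hI.Acard hI.hA hθ] at h1
      have hone : (φ₁ : H → ℂ) 1 = 1 := rfl
      rw [hone, one_mul] at h1
      rw [show (fun _ : H => (1 : ℂ)) = (φ₁ : H → ℂ) from rfl, h1]
      push_cast
      ring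
    · intro hε
      obtain ⟨a, ha, hb⟩ := hS.exY θ hθ
      have h1 := hS.rowY θ hθ a ha
      rw [if_pos hb, hε] at h1
      unfold rr at h1
      omega

end Exist

end Cfsg.Agent.Lib.DefectOne
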