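import Mathlib
import Cfsg.Agent.Lib.DefectOne.PTable
import Cfsg.Agent.Lib.Blocks.ClassIndep

/-!
# The table of a self-centralizing Sylow subgroup of prime order
-/

set_option autoImplicit false
set_option linter.unusedSectionVars false

namespace Cfsg.Agent.Lib.DefectOne

open Cfsg Subgroup Finset Cfsg.Agent.Lib.Blocks.Local Cfsg.Agent.Lib.Blocks.Central
open scoped ComplexConjugate

universe u

variable {G : Type u} [Group G] [Fintype G] {p : ℕ} [hp : Fact p.Prime] {x : G}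

/-- The table for a self-centralizing subgroup. -/
structure SCTable (x : G) (ζ : ℂ) (e t : ℕ)
    (X Y : Finset (IrrCharacter G)) (δ : IrrCharacter G → ℤ) (ε : ℤ) (b : IrrCharacter G → ZMod p) : Prop where
  epos : 0 < e
  het : p - 1 = e * t
  cardN : Nat.card (normalizer (zpowers x : Set G)) = p * e
  disj : Disjoint X Y
  cardX : X.card = e
  cardY : Y.card = t
  triv : 1 < t → Cfsg.Agent.Lib.Blocks.Principal.trivChar G ∈ X ∧ δ (Cfsg.Agent.Lib.Blocks.Principal.trivChar G) = 1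
  signX : ∀ χ ∈ X, δ χ = 1 ∨ δ χ = -1
  sign : ε = 1 ∨ ε = -1
  valX : ∀ χ ∈ X, ∀ i : ZMod p, i ≠ 0 → (χ : G → ℂ) (XX x i) = (δ χ : ℂ)
  valY : ∀ θ ∈ Y, ∀ i : ZMod p, i ≠ 0 → (θ : G → ℂ) (XX x i) = (ε : ℂ) * perEta ζ e (b θ) i
  cardF : ∀ θ ∈ Y, (perF (p := p) e (b θ)).card = e
  degX : ∀ χ ∈ X, (charDegree (χ : G → ℂ) : ℤ) ≡ δ χ [ZMOD p]
  degY : ∀ θ ∈ Y, ∃ m : ℕ, (charDegree (θ : G → ℂ) : ℤ) = p * m + ε * e ∧ (ε = -1 → 1 ≤ m)
  rel : ∀ g : G, ¬ p ∣ orderOf g → ∀ θ ∈ Y, (ε : ℂ) * (θ : G → ℂ) g = ∑ χ ∈ X, (δ χ : ℂ) * (χ : G → ℂ) g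
  out : ∀ χ : IrrCharacter G, χ ∉ X ∪ Y → ∀ i : ZMod p, i ≠ 0 → (χ : G → ℂ) (XX x i) = 0

/-- The local data in the self-centralizing case. -/
lemma localData_bot (hord : orderOf x = p) (hcen : ∀ c : G, c * x = x * c → c ∈ zpowers x)
    (hsyl : ¬ p ^ 2 ∣ Nat.card G) : LocalData p x (⊥ : Subgroup G) := by
  refine ⟨hord, hsyl, ?_, ?_, ?_⟩
  · intro y hy
    rw [Subgroup.mem_bot.1 hy]
    simp
  · rw [Subgroup.card_bot]
    exact fun h => hp.out.one_lt.ne' (Nat.dvd_one.1 h)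
  · intro c hc
    obtain ⟨k, rfl⟩ := Subgroup.mem_zpowers_iff.1 (hcen c hc)
    have hp0 : 0 < orderOf x := by rw [hord]; exact hp.out.pos
    refine ⟨(k % orderOf x).toNat, 1, one_mem _, ?_⟩
    rw [mul_one, ← zpow_natCast, Int.toNat_of_nonneg (Int.emod_nonneg _ (by exact_mod_cast hp0.ne')), zpow_mod_orderOf]

lemma SS_bot [Fintype (⊥ : Subgroup G)] (χ : G → ℂ) (u : G) : SS (⊥ : Subgroup G) χ (fun _ => 1) u = χ u := by
  unfold SS
  rw [Fintype.sum_unique]
  have h1 : ((default : (⊥ : Subgroup G)) : G) = 1 := Subgroup.mem_bot.1 (default : (⊥ : Subgroup G)).2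
  rw [h1, mul_one]
  unfold idemCoeff
  simp

theorem exists_scTable (hord : orderOf x = p) (hcen : ∀ c : G, c * x = x * c → c ∈ zpowers x)
    (P : Sylow p G) (hz : zpowers x = (P : Subgroup G)) {ζ : ℂ} (hζ : IsPrimitiveRoot ζ p) :
    ∃ (e t : ℕ) (X Y : Finset (IrrCharacter G)) (δ : IrrCharacter G → ℤ) (ε : ℤ) (b : IrrCharacter G → ZMod p),
      SCTable x ζ e t X Y δ ε b := by
  classical
  have hP : Nat.card P = p := by
    have h1 : Nat.card (P : Subgroup G) = Nat.card (zpowers x) := by rw [hz]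
    rw [Nat.card_zpowers, hord] at h1
    exact h1
  have hsyl : ¬ p ^ 2 ∣ Nat.card G := by
    intro h
    have h1 := P.pow_dvd_card_of_pow_dvd_card h
    rw [hP] at h1
    have h2 := Nat.le_of_dvd hp.out.pos h1
    have h3 := hp.out.two_le
    nlinarith
  have hL := localData_bot hord hcen hsyl
  obtain ⟨M, hM⟩ := Cfsg.Agent.Lib.Blocks.ClassIndep.exists_modular p hp.out
  letI : Fintype (⊥ : Subgroup G) := Fintype.ofFinite _
  obtain ⟨e, t, X, Y, δ, ε, b, hT⟩ := exists_pTable hL hM P hz hζ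
  have hb : ∀ (y : (⊥ : Subgroup G)), (y : G) = 1 := fun y => Subgroup.mem_bot.1 y.2
  refine ⟨e, t, X, Y, δ, ε, b, hT.epos, hT.het, ?_, hT.disj, hT.cardX, hT.cardY, hT.triv, hT.signX, hT.sign, ?_, ?_,
    hT.cardF, hT.degX, ?_, hT.rel, ?_⟩
  · have h1 := hT.idx
    have hle : centralizer (zpowers x : Set G) = zpowers x := by
      apply le_antisymm
      · intro c hc
        exact hcen c (Subgroup.mem_centralizer_iff.1 hc x (Subgroup.mem_zpowers x)).symm
      · intro c hc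
        rw [Subgroup.mem_centralizer_iff]
        intro h hh
        obtain ⟨k, rfl⟩ := Subgroup.mem_zpowers_iff.1 hc
        obtain ⟨l, rfl⟩ := Subgroup.mem_zpowers_iff.1 hh
        exact ((Commute.refl x).zpow_zpow _ _).symm
    rw [hle] at h1
    have hle2 : zpowers x ≤ normalizer (zpowers x : Set G) := le_normalizer
    have h2 := Subgroup.card_mul_index ((zpowers x).subgroupOf (normalizer (zpowers x : Set G)))
    have h3 : Nat.card ((zpowers x).subgroupOf (normalizer (zpowers x : Set G))) = Nat.card (zpowers x) :=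
      Nat.card_congr (Subgroup.subgroupOfEquivOfLe hle2).toEquiv
    have h4 : ((zpowers x).subgroupOf (normalizer (zpowers x : Set G))).index = e := h1
    rw [h3, h4, Nat.card_zpowers, hord] at h2
    exact h2.symm
  · intro χ hχ i hi
    have := hT.valX χ hχ i hi 1
    simpa using this
  · intro θ hθ i hi
    have := hT.valY θ hθ i hi 1
    simpa using this
  · intro θ hθ
    obtain ⟨m, hm, hm1⟩ := hT.avgY θ hθ
    refine ⟨m, ?_, hm1⟩
    rw [SS_bot] at hm
    have h1 := Cfsg.Agent.Lib.Char.Values.IsCharacter.charDegree_cast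
      (Cfsg.Agent.Lib.Char.Basic.isCharacter_of_isIrrCharacter θ.2)
    rw [← h1] at hm
    exact_mod_cast hm
  · intro χ hχ i hi
    have := hT.out χ hχ (XX x i) (XX_mem_zpowers i) (by
      intro h
      apply hi
      have h2 : XX x i = XX x (0 : ZMod p) := by rw [h, XX_zero]
      exact XX_inj hord h2) 1
    rw [SS_bot] at this
    simpa using this

end Cfsg.Agent.Lib.DefectOne
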