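import Mathlib
import Cfsg.Agent.Lib.DefectOne.SelfCent
import Cfsg.Agent.Lib.DefectOne.SCDesign
import Cfsg.Agent.Lib.DefectOne.GaloisAct
import Cfsg.Agent.Lib.Char.IndRep
import Cfsg.Agent.Lib.Char.Induced
import Cfsg.Agent.Lib.Char.LinearChars
import Cfsg.Agent.Lib.Char.Complete
import Cfsg.Agent.Lib.Char.CompleteCor

/-!
# From the character table to the design

A self-centralizing Sylow subgroup of prime order with sign `-1` and exceptional characters of
degree `p - e`, when the number of Sylow subgroups is `t (p - e)`.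
-/

set_option autoImplicit false
set_option linter.unusedSectionVars false

namespace Cfsg.Agent.Lib.DefectOne

open Cfsg Subgroup Finset
open scoped ComplexConjugate Pointwise

universe u

section Avg

variable {Γ : Type*} [Group Γ] {p : ℕ} [hp : Fact p.Prime] {x' : Γ}

lemma exists_matrix_of_isCharacter {χ : Γ → ℂ} (hχ : IsCharacter Γ χ) :
    ∃ (n : ℕ) (R : Γ →* Matrix (Fin n) (Fin n) ℂ), ∀ g, (R g).trace = χ g := by
  obtain ⟨d, ρ, rfl⟩ := hχ
  let Ψ : (Module.End ℂ (Fin d → ℂ)) ≃ₐ[ℂ] Matrix (Fin d) (Fin d) ℂ := LinearMap.toMatrixAlgEquiv'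
  refine ⟨d, (Ψ : _ →* _).comp ρ, fun g => ?_⟩
  show (LinearMap.toMatrix' (ρ g)).trace = LinearMap.trace ℂ _ (ρ g)
  rw [LinearMap.trace_eq_matrix_trace ℂ (Pi.basisFun ℂ (Fin d))]
  rfl

/-- Averaging a character over a normal subgroup of prime order. -/
theorem isCharacter_avg (hord : orderOf x' = p) (hnorm : ∀ g : Γ, g * x' * g⁻¹ ∈ zpowers x') {χ : Γ → ℂ}
    (hχ : IsCharacter Γ χ) : IsCharacter Γ (fun y => (p : ℂ)⁻¹ * ∑ i : ZMod p, χ (y * XX x' i)) := by
  classical
  obtain ⟨n, R, hR⟩ := exists_matrix_of_isCharacter hχ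
  set S : Matrix (Fin n) (Fin n) ℂ := ∑ i : ZMod p, R (XX x' i) with hS
  set Q : Matrix (Fin n) (Fin n) ℂ := (p : ℂ)⁻¹ • S with hQ
  have hp0 : (p : ℂ) ≠ 0 := by exact_mod_cast hp.out.ne_zero
  have h1 : ∀ j : ZMod p, R (XX x' j) * S = S := by
    intro j
    rw [hS, Finset.mul_sum]
    refine Fintype.sum_equiv (Equiv.addLeft j) _ _ fun i => ?_
    rw [← map_mul, ← XX_add hord]
    rfl
  have hSS : S * S = (p : ℂ) • S := by
    conv_lhs => rw [hS]
    rw [Finset.sum_mul, Finset.sum_congr rfl (fun j _ => h1 j), Finset.sum_const, Finset.card_univ, ZMod.card,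
      Nat.cast_smul_eq_nsmul]
  have hQQ : Q * Q = Q := by
    rw [hQ, Matrix.smul_mul, Matrix.mul_smul, hSS, smul_smul, smul_smul]
    congr 1
    field_simp
  have hmem : ∀ (g : Γ) (i : ZMod p), g * XX x' i * g⁻¹ ∈ zpowers x' := by
    intro g i
    unfold XX
    rw [← conj_pow]
    exact pow_mem (hnorm g) _
  have hc : ∀ g : Γ, R g * Q = Q * R g := by
    intro g
    choose c hc using fun i => exists_XX_of_mem hord (hmem g i)
    have hinj : Function.Injective c := by
      intro i j hij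
      apply XX_inj hord
      have h2 : g * XX x' i * g⁻¹ = g * XX x' j * g⁻¹ := by rw [hc i, hc j, hij]
      exact mul_left_cancel (mul_right_cancel h2)
    let E : ZMod p ≃ ZMod p := Equiv.ofBijective c (Finite.injective_iff_bijective.1 hinj)
    have h3 : R g * S = S * R g := by
      rw [hS, Finset.mul_sum, Finset.sum_mul]
      refine Fintype.sum_equiv E _ _ fun i => ?_
      show R g * R (XX x' i) = R (XX x' (c i)) * R g
      rw [← hc i, ← map_mul, ← map_mul]
      congr 1
      group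
    rw [hQ, Matrix.mul_smul, Matrix.smul_mul, h3]
  have h4 := isCharacter_trace_idem R Q hQQ hc
  have h5 : (fun y => (p : ℂ)⁻¹ * ∑ i : ZMod p, χ (y * XX x' i)) = fun g => (R g * Q).trace := by
    funext y
    rw [hQ, Matrix.mul_smul, Matrix.trace_smul, smul_eq_mul, hS]
    congr 1
    rw [Finset.mul_sum, Matrix.trace_sum]
    refine Finset.sum_congr rfl fun i _ => ?_
    rw [← map_mul, hR]
  rw [h5]
  exact h4

end Avg

variable {G : Type u} [Group G] [Fintype G] {p : ℕ} [hp : Fact p.Prime] {x : G}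

section Frob

variable (hord : orderOf x = p) (hcen : ∀ c : G, c * x = x * c → c ∈ zpowers x)

include hord in
lemma mem_zpowers_of_ne {v : G} (hv : v ∈ zpowers x) (hv1 : v ≠ 1) : x ∈ zpowers v := by
  have h1 := Subgroup.orderOf_dvd_natCard (zpowers x) hv
  rw [Nat.card_zpowers, hord] at h1
  have h2 : orderOf v = p := by
    rcases (Nat.dvd_prime hp.out).1 h1 with h | h
    · exact absurd (orderOf_eq_one_iff.1 h) hv1
    · exact h
  have h3 : zpowers v = zpowers x := by
    refine Subgroup.eq_of_le_of_card_ge ((zpowers_le).2 hv) ?_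
    rw [Nat.card_zpowers, Nat.card_zpowers, h2, hord]
  rw [h3]
  exact mem_zpowers x

include hord hcen in
lemma mem_of_comm_of_ne {y v : G} (hv : v ∈ zpowers x) (hv1 : v ≠ 1) (hc : y * v = v * y) : y ∈ zpowers x := by
  apply hcen
  obtain ⟨k, hk⟩ := Subgroup.mem_zpowers_iff.1 (mem_zpowers_of_ne hord hv hv1)
  rw [← hk]
  exact (Commute.zpow_right hc k).eq

include hord hcen in
/-- Translation by an element of `⟨x⟩` is conjugation. -/
lemma exists_conj_eq {y : G} (hy : y ∈ normalizer (zpowers x : Set G)) (hyP : y ∉ zpowers x) {u : G} (hu : u ∈ zpowers x) :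
    ∃ w ∈ zpowers x, w * y * w⁻¹ = y * u := by
  have hcomm : ∀ a ∈ zpowers x, ∀ b ∈ zpowers x, a * b = b * a := by
    intro a ha b hb
    obtain ⟨k, rfl⟩ := Subgroup.mem_zpowers_iff.1 ha
    obtain ⟨l, rfl⟩ := Subgroup.mem_zpowers_iff.1 hb
    exact (Commute.refl x).zpow_zpow _ _
  have hyi : y⁻¹ ∈ normalizer (zpowers x : Set G) := inv_mem hy
  have hc : ∀ w ∈ zpowers x, y⁻¹ * w * y ∈ zpowers x := by
    intro w hw
    have := (mem_normalizer_iff.1 hyi w).1 hw
    rwa [inv_inv] at this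
  let φ : zpowers x → zpowers x := fun w => ⟨y⁻¹ * w * y * (w : G)⁻¹, mul_mem (hc w w.2) (inv_mem w.2)⟩
  have hφ : Function.Injective φ := by
    intro a b hab
    have h1 : y⁻¹ * (a : G) * y * (a : G)⁻¹ = y⁻¹ * (b : G) * y * (b : G)⁻¹ := congrArg Subtype.val hab
    set v : G := (b : G)⁻¹ * a with hv
    have hvm : v ∈ zpowers x := mul_mem (inv_mem b.2) a.2
    have h2 : y⁻¹ * v * y = v := by
      have h3 : y⁻¹ * (a : G) * y = y⁻¹ * (b : G) * y * ((b : G)⁻¹ * a) := by
        calc y⁻¹ * (a : G) * y = (y⁻¹ * (a : G) * y * (a : G)⁻¹) * a := by group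
          _ = (y⁻¹ * (b : G) * y * (b : G)⁻¹) * a := by rw [h1]
          _ = y⁻¹ * (b : G) * y * ((b : G)⁻¹ * a) := by group
      calc y⁻¹ * v * y = (y⁻¹ * (b : G) * y)⁻¹ * (y⁻¹ * (a : G) * y) := by rw [hv]; group
        _ = v := by rw [h3, hv]; group
    by_cases hv1 : v = 1
    · apply Subtype.ext
      have h4 : (b : G)⁻¹ * a = 1 := hv1
      exact (inv_mul_eq_one.1 h4).symm
    · exfalso
      apply hyP
      refine mem_of_comm_of_ne hord hcen hvm hv1 ?_
      calc y * v = y * (y⁻¹ * v * y) := by rw [h2]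
        _ = v * y := by group
  obtain ⟨w, hw⟩ := (Finite.injective_iff_surjective.1 hφ) ⟨u, hu⟩
  refine ⟨w, w.2, ?_⟩
  have h1 : y⁻¹ * (w : G) * y * (w : G)⁻¹ = u := congrArg Subtype.val hw
  rw [← h1]
  group

include hord hcen in
/-- Elements of the normalizer outside `⟨x⟩` are `p`-regular. -/
lemma not_dvd_orderOf (hL : LocalData p x (⊥ : Subgroup G)) {y : G} (hy : y ∈ normalizer (zpowers x : Set G))
    (hyP : y ∉ zpowers x) : ¬ p ∣ orderOf y := by
  intro hd
  have hk : orderOf y ≠ 0 := (orderOf_pos y).ne'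
  set z := y ^ (orderOf y / p) with hz
  have hzo : orderOf z = p := orderOf_pow_orderOf_div hk hd
  have hzN : z ∈ normalizer (zpowers x : Set G) := pow_mem hy _
  have hzp : z ^ p = 1 := by rw [← hzo]; exact pow_orderOf_eq_one z
  have hzP := mem_zpowers_of_normalizer hL hzN hzp
  have hz1 : z ≠ 1 := by
    intro h
    rw [h, orderOf_one] at hzo
    exact hp.out.one_lt.ne hzo
  refine hyP (mem_of_comm_of_ne hord hcen hzP hz1 ?_)
  exact (Commute.pow_right (Commute.refl y) _).eq

end Frob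

section Main

variable {ζ : ℂ} {e t : ℕ} {X Y : Finset (IrrCharacter G)} {δ : IrrCharacter G → ℤ} {ε : ℤ} {b : IrrCharacter G → ZMod p}

/-- The sums of `θ` over `⟨x⟩`, without the identity. -/
lemma SCTable.sum_Y (hζ : IsPrimitiveRoot ζ p) (hT : SCTable x ζ e t X Y δ ε b) {θ : IrrCharacter G} (hθ : θ ∈ Y) :
    ∑ i ∈ univ.erase (0 : ZMod p), (θ : G → ℂ) (XX x i) = -((ε : ℂ) * e) := by
  have h1 : ∀ i ∈ univ.erase (0 : ZMod p), (θ : G → ℂ) (XX x i) = (ε : ℂ) * perEta ζ e (b θ) i :=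
    fun i hi => hT.valY θ hθ i (mem_erase.1 hi).1
  rw [sum_congr rfl h1, ← mul_sum, sum_perEta hζ, hT.cardF θ hθ]
  ring

/-- The reindexing of the sum over `⟨x⟩` in the normalizer. -/
lemma sum_N_of_zero [Fintype (normalizer (zpowers x : Set G))] (hord : orderOf x = p) (F : normalizer (zpowers x : Set G) → ℂ)
    (hF : ∀ y : normalizer (zpowers x : Set G), (y : G) ∉ zpowers x → F y = 0) :
    ∑ y, F y = ∑ i : ZMod p, F ⟨XX x i, le_normalizer (XX_mem_zpowers i)⟩ := by
  classical
  set c : ZMod p → normalizer (zpowers x : Set G) := fun i => ⟨XX x i, le_normalizer (XX_mem_zpowers i)⟩ with hc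
  have hinj : Function.Injective c := by
    intro i j hij
    exact XX_inj hord (congrArg Subtype.val hij)
  rw [← sum_image (s := univ) (g := c) (f := F) (fun a _ b _ h => hinj h)]
  symm
  apply sum_subset (subset_univ _)
  intro y _ hy
  apply hF
  intro hyP
  obtain ⟨i, hi⟩ := exists_XX_of_mem hord hyP
  apply hy
  exact mem_image.2 ⟨i, mem_univ _, Subtype.ext hi.symm⟩

/-- The linear character attached to a character with one `⟨x⟩`-invariant. -/
theorem exists_linear_of_sum (hord : orderOf x = p) (hcen : ∀ c : G, c * x = x * c → c ∈ zpowers x)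
    {θ : G → ℂ} (hθ : IsCharacter G θ) (hsum : ∑ i : ZMod p, θ (XX x i) = p) :
    ∃ φ : normalizer (zpowers x : Set G) →* ℂˣ,
      (∀ y : normalizer (zpowers x : Set G), (y : G) ∈ zpowers x → φ y = 1) ∧
      (∀ y : normalizer (zpowers x : Set G), (y : G) ∉ zpowers x → ((φ y : ℂˣ) : ℂ) = θ y) := by
  classical
  set N := normalizer (zpowers x : Set G) with hN
  set x' : N := ⟨x, le_normalizer (mem_zpowers x)⟩ with hx'
  have hord' : orderOf x' = p := by
    rw [← hord]
    exact Subgroup.orderOf_mk _ _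
  have hXX : ∀ i : ZMod p, ((XX x' i : N) : G) = XX x i := fun i => by
    unfold XX
    simp [hx']
  have hnorm : ∀ g : N, g * x' * g⁻¹ ∈ zpowers x' := by
    intro g
    have h1 : (g : G) * x * (g : G)⁻¹ ∈ zpowers x := (mem_normalizer_iff.1 g.2 x).1 (mem_zpowers x)
    obtain ⟨i, hi⟩ := exists_XX_of_mem hord h1
    refine Subgroup.mem_zpowers_iff.2 ?_
    obtain ⟨k, hk⟩ := Subgroup.mem_zpowers_iff.1 h1
    refine ⟨k, Subtype.ext ?_⟩
    simp only [Subgroup.coe_mul, InvMemClass.coe_inv, Subgroup.coe_zpow, hx']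
    exact hk
  have hc : IsCharacter N (fun y : N => θ y) :=
    Cfsg.Agent.Lib.Char.Basic.isCharacter_restrict hθ N
  have h1 := isCharacter_avg hord' hnorm hc
  set f : N → ℂ := fun y => (p : ℂ)⁻¹ * ∑ i : ZMod p, θ (((y * XX x' i : N)) : G) with hf
  have hp0 : (p : ℂ) ≠ 0 := by exact_mod_cast hp.out.ne_zero
  have hf1 : f 1 = 1 := by
    simp only [hf, one_mul, hXX, hsum]
    field_simp
  obtain ⟨φ, hφ⟩ := Cfsg.Agent.Lib.Char.LinearChars.exists_hom_of_isCharacter_one h1 hf1
  refine ⟨φ, ?_, ?_⟩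
  · intro y hy
    apply Units.ext
    rw [Units.val_one]
    have h2 := congrFun hφ y
    rw [← h2]
    obtain ⟨j, hj⟩ := exists_XX_of_mem hord hy
    have h3 : ∑ i : ZMod p, θ (((y * XX x' i : N)) : G) = ∑ i : ZMod p, θ (XX x i) := by
      refine Fintype.sum_equiv (Equiv.addLeft j) _ _ fun i => ?_
      simp only [Subgroup.coe_mul, hXX, hj, Equiv.coe_addLeft, XX_add hord]
    show (p : ℂ)⁻¹ * ∑ i : ZMod p, θ (((y * XX x' i : N)) : G) = 1
    rw [h3, hsum]
    field_simp
  · intro y hy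
    have h2 := congrFun hφ y
    rw [← h2]
    have hcl := Cfsg.Agent.Lib.Char.Basic.isClassFunction_of_isCharacter hθ
    have h3 : ∀ i : ZMod p, θ (((y * XX x' i : N)) : G) = θ y := by
      intro i
      obtain ⟨w, hw, hwy⟩ := exists_conj_eq hord hcen y.2 hy (XX_mem_zpowers i)
      have h4 : (((y * XX x' i : N)) : G) = w * y * w⁻¹ := by
        rw [hwy, Subgroup.coe_mul, hXX]
      rw [h4]
      exact hcl _ _
    show (p : ℂ)⁻¹ * ∑ i : ZMod p, θ (((y * XX x' i : N)) : G) = θ y
    simp_rw [h3]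
    rw [sum_const, card_univ, ZMod.card, nsmul_eq_mul]
    field_simp

/-- The norm of an induced function of absolute value one. -/
lemma norm_indFun_le (N : Subgroup G) (f : N → ℂ) (hf : ∀ y, ‖f y‖ = 1) (g : G) :
    ‖indFun N f g‖ ≤ ‖indFun N (fun _ => 1) g‖ := by
  classical
  unfold indFun
  rw [norm_mul, norm_mul]
  refine mul_le_mul_of_nonneg_left ?_ (norm_nonneg _)
  have h1 : ∑ a : G, extendByZero N (fun _ => (1 : ℂ)) (a⁻¹ * g * a) =
      ((univ.filter (fun a : G => a⁻¹ * g * a ∈ N)).card : ℂ) := by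
    rw [card_filter]
    push_cast
    refine sum_congr rfl fun a _ => ?_
    split_ifs with h
    · rw [Cfsg.Agent.Lib.Char.Induced.extendByZero_of_mem N _ h]
    · rw [Cfsg.Agent.Lib.Char.Induced.extendByZero_of_notMem N _ h]
  rw [h1, Complex.norm_natCast]
  refine (norm_sum_le _ _).trans ?_
  rw [card_filter]
  push_cast
  refine sum_le_sum fun a _ => ?_
  split_ifs with h
  · rw [Cfsg.Agent.Lib.Char.Induced.extendByZero_of_mem N _ h, hf]
  · rw [Cfsg.Agent.Lib.Char.Induced.extendByZero_of_notMem N _ h, norm_zero]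

/-- The inner product of the induced character with `θ`. -/
lemma classInner_ind [Fintype (normalizer (zpowers x : Set G))] (hord : orderOf x = p)
    (φ : normalizer (zpowers x : Set G) →* ℂˣ) {θ : G → ℂ} (hθc : IsClassFunction G θ)
    (hsum : ∑ i : ZMod p, θ (XX x i) = p)
    (h1 : ∀ y : normalizer (zpowers x : Set G), (y : G) ∈ zpowers x → φ y = 1)
    (h2 : ∀ y : normalizer (zpowers x : Set G), (y : G) ∉ zpowers x → ((φ y : ℂˣ) : ℂ) = θ y) :
    classInner (indFun (normalizer (zpowers x : Set G)) (fun y => ((φ y : ℂˣ) : ℂ))) θ = 1 := by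
  classical
  rw [Cfsg.Agent.Lib.Char.Induced.frobenius_reciprocity _ _ _ hθc, Cfsg.Agent.Lib.Char.Induced.classInner_def]
  have hnorm : ∀ y : normalizer (zpowers x : Set G), ((φ y : ℂˣ) : ℂ) * conj ((φ y : ℂˣ) : ℂ) = 1 := by
    intro y
    have h3 : ((φ y : ℂˣ) : ℂ) ^ Nat.card (normalizer (zpowers x : Set G)) = 1 := by
      rw [← Units.val_pow_eq_pow_val, ← map_pow, pow_card_eq_one', map_one, Units.val_one]
    have h4 := Complex.norm_eq_one_of_pow_eq_one h3 Nat.card_pos.ne'
    rw [← Complex.inv_eq_conj h4]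
    exact mul_inv_cancel₀ (Units.ne_zero _)
  have h3 : ∑ y : normalizer (zpowers x : Set G), (((φ y : ℂˣ) : ℂ) * conj (θ y) - 1) = 0 := by
    rw [sum_N_of_zero hord]
    · have h4 : ∀ i : ZMod p, ((φ ⟨XX x i, le_normalizer (XX_mem_zpowers i)⟩ : ℂˣ) : ℂ) *
          conj (θ (XX x i)) - 1 = conj (θ (XX x i)) - 1 := by
        intro i
        rw [h1 _ (XX_mem_zpowers i), Units.val_one, one_mul]
      simp_rw [h4]
      rw [sum_sub_distrib, ← map_sum, hsum, map_natCast]
      simp
    · intro y hy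
      rw [← h2 y hy, hnorm, sub_self]
  rw [sum_sub_distrib, sum_const, card_univ, ← Nat.card_eq_fintype_card, sub_eq_zero, nsmul_eq_mul, mul_one] at h3
  have hN0 : (Nat.card (normalizer (zpowers x : Set G)) : ℂ) ≠ 0 := by
    exact_mod_cast Nat.card_pos.ne'
  rw [h3]
  field_simp

/-- **The involution.** -/
theorem exists_involution_of_table (hζ : IsPrimitiveRoot ζ p) (hodd : p ≠ 2) (hT : SCTable x ζ e t X Y δ ε b)
    (hε : ε = -1) (hord : orderOf x = p) (hcen : ∀ c : G, c * x = x * c → c ∈ zpowers x)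
    (P : Sylow p G) (hz : zpowers x = (P : Subgroup G)) {d : ℕ} (hde : d + e = p)
    (hd : ∀ θ ∈ Y, (θ : G → ℂ) 1 = d) (hM : (normalizer (zpowers x : Set G)).index = t * d) (ht : 1 < t) :
    ∃ τ : G, τ ^ 2 = 1 ∧ τ ≠ 1 ∧ τ ∈ normalizer (zpowers x : Set G) ∧
      t ≤ Nat.card (MulAction.fixedBy (Sylow p G) τ) := by
  classical
  letI : Fintype (normalizer (zpowers x : Set G)) := Fintype.ofFinite _
  haveI : Finite (IrrCharacter G) := Cfsg.Agent.Lib.Char.Complete.finite_irr
  letI : Fintype (IrrCharacter G) := Fintype.ofFinite _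
  have hP : Nat.card P = p := by
    have h1 : Nat.card (P : Subgroup G) = Nat.card (zpowers x) := by rw [hz]
    rw [Nat.card_zpowers, hord] at h1
    exact h1
  have hsyl : ¬ p ^ 2 ∣ Nat.card G := by
    intro h
    have h1 := P.pow_dvd_card_of_pow_dvd_card h
    rw [hP] at h1
    have h2 := Nat.le_of_dvd hp.out.pos h1
    have h3 := hp.out.two_le
    nlinarith
  have hL := localData_bot hord hcen hsyl
  have hYne : Y.Nonempty := card_pos.1 (by rw [hT.cardY]; omega)
  obtain ⟨θ₀, hθ₀⟩ := hYne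
  have hsumE : ∀ θ ∈ Y, ∑ i ∈ univ.erase (0 : ZMod p), (θ : G → ℂ) (XX x i) = e := by
    intro θ hθ
    rw [hT.sum_Y hζ hθ, hε]
    push_cast
    ring
  have hsumY : ∀ θ ∈ Y, ∑ i : ZMod p, (θ : G → ℂ) (XX x i) = p := by
    intro θ hθ
    rw [← add_sum_erase univ _ (mem_univ (0 : ZMod p)), XX_zero, hd θ hθ, hsumE θ hθ, ← hde]
    push_cast
    ring
  have hirrc : ∀ χ : IrrCharacter G, IsCharacter G (χ : G → ℂ) := fun χ =>
    Cfsg.Agent.Lib.Char.Basic.isCharacter_of_isIrrCharacter χ.2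
  have hcl : ∀ χ : IrrCharacter G, IsClassFunction G (χ : G → ℂ) := fun χ =>
    Cfsg.Agent.Lib.Char.Basic.isClassFunction_of_isCharacter (hirrc χ)
  obtain ⟨φ, hφ1, hφ2⟩ := exists_linear_of_sum hord hcen (hirrc θ₀) (hsumY θ₀ hθ₀)
  have hreg : ∀ y : normalizer (zpowers x : Set G), (y : G) ∉ zpowers x → ¬ p ∣ orderOf (y : G) :=
    fun y hy => not_dvd_orderOf hord hcen hL y.2 hy
  have hε0 : (ε : ℂ) ≠ 0 := by
    rw [hε]
    norm_num
  have hsame : ∀ θ ∈ Y, ∀ y : normalizer (zpowers x : Set G), (y : G) ∉ zpowers x →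
      (θ : G → ℂ) y = ((φ y : ℂˣ) : ℂ) := by
    intro θ hθ y hy
    have h1 := hT.rel y (hreg y hy) θ hθ
    have h2 := hT.rel y (hreg y hy) θ₀ hθ₀
    rw [← h2] at h1
    have h3 := mul_left_cancel₀ hε0 h1
    rw [h3, hφ2 y hy]
  set φf : normalizer (zpowers x : Set G) → ℂ := fun y => ((φ y : ℂˣ) : ℂ) with hφf
  have hφc : IsCharacter (normalizer (zpowers x : Set G)) φf :=
    Cfsg.Agent.Lib.Char.Basic.isCharacter_of_isIrrCharacter (Cfsg.Agent.Lib.Char.LinearChars.isIrr_of_hom φ)
  set π := indFun (normalizer (zpowers x : Set G)) φf with hπ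
  have hπc : IsCharacter G π := Cfsg.Agent.Lib.Char.IndRep.isCharacter_indFun _ hφc
  have hπcl : IsClassFunction G π := Cfsg.Agent.Lib.Char.Basic.isClassFunction_of_isCharacter hπc
  have hnorm1 : ∀ y, ‖φf y‖ = 1 := by
    intro y
    have h3 : φf y ^ Nat.card (normalizer (zpowers x : Set G)) = 1 := by
      rw [hφf]
      simp only
      rw [← Units.val_pow_eq_pow_val, ← map_pow, pow_card_eq_one', map_one, Units.val_one]
    exact Complex.norm_eq_one_of_pow_eq_one h3 Nat.card_pos.ne'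
  have hinner : ∀ θ ∈ Y, classInner π (θ : G → ℂ) = 1 := by
    intro θ hθ
    refine classInner_ind hord φ (hcl θ) (hsumY θ hθ) hφ1 ?_
    intro y hy
    exact (hsame θ hθ y hy).symm
  choose m hm using fun χ : IrrCharacter G =>
    Cfsg.Agent.Lib.Char.Ortho.exists_nat_classInner_of_isCharacter hπc (hirrc χ)
  choose D hDpos hD using fun χ : IrrCharacter G => Cfsg.Agent.Lib.Char.Ortho.irr_degree_pos χ.2
  have hval : ∀ g, π g = ∑ χ : IrrCharacter G, (m χ : ℂ) * (χ : G → ℂ) g := by
    intro g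
    have h1 := congrFun (Cfsg.Agent.Lib.Char.Complete.eq_sum_classInner π hπcl) g
    rw [h1, Finset.sum_apply]
    refine sum_congr rfl fun χ _ => ?_
    rw [Pi.smul_apply, hm χ, smul_eq_mul]
  have hmY : ∀ θ ∈ Y, m θ = 1 := by
    intro θ hθ
    have h1 := hinner θ hθ
    rw [hm θ] at h1
    exact_mod_cast h1
  have hDY : ∀ θ ∈ Y, D θ = d := by
    intro θ hθ
    have h1 := hd θ hθ
    rw [hD θ] at h1
    exact_mod_cast h1
  have hone : π 1 = ((t * d : ℕ) : ℂ) := by
    rw [hπ, Cfsg.Agent.Lib.Char.Induced.indFun_one, hM]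
    simp [hφf]
  have hsumD : ∑ χ : IrrCharacter G, m χ * D χ = t * d := by
    have h1 := hval 1
    rw [hone] at h1
    simp_rw [hD] at h1
    exact_mod_cast h1.symm
  have hzero : ∀ χ : IrrCharacter G, χ ∉ Y → m χ = 0 := by
    intro χ hχ
    have h1 := sum_add_sum_compl Y (fun χ => m χ * D χ)
    have h2 : ∑ χ ∈ Y, m χ * D χ = t * d := by
      rw [sum_congr rfl (fun θ hθ => by rw [hmY θ hθ, hDY θ hθ, one_mul]), sum_const, hT.cardY, smul_eq_mul]
    rw [hsumD, h2] at h1
    have h3 : ∑ χ ∈ Yᶜ, m χ * D χ = 0 := by omega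
    have h4 := (sum_eq_zero_iff.1 h3) χ (mem_compl.2 hχ)
    rcases Nat.mul_eq_zero.1 h4 with h5 | h5
    · exact h5
    · exact absurd h5 (hDpos χ).ne'
  have hπY : ∀ g, π g = ∑ θ ∈ Y, (θ : G → ℂ) g := by
    intro g
    rw [hval g, ← sum_add_sum_compl Y]
    have h1 : ∑ χ ∈ Yᶜ, (m χ : ℂ) * (χ : G → ℂ) g = 0 := by
      refine sum_eq_zero fun χ hχ => ?_
      rw [hzero χ (mem_compl.1 hχ)]
      simp
    rw [h1, add_zero]
    refine sum_congr rfl fun θ hθ => ?_
    rw [hmY θ hθ]
    simp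
  -- `φ` is nontrivial
  have hnontriv : ∃ y, φ y ≠ 1 := by
    by_contra hno
    push Not at hno
    set τ₁ := Cfsg.Agent.Lib.Blocks.Principal.trivChar G with hτ₁
    have h1 := hT.triv ht
    have h2 : τ₁ ∉ Y := fun h => (Finset.disjoint_left.1 hT.disj h1.1) h
    have h3 := hzero τ₁ h2
    have h4 := hm τ₁
    rw [h3] at h4
    rw [hπ, Cfsg.Agent.Lib.Char.Induced.frobenius_reciprocity _ _ _ (hcl τ₁),
      Cfsg.Agent.Lib.Char.Induced.classInner_def] at h4
    have h5 : ∀ y : normalizer (zpowers x : Set G), φf y * conj ((τ₁ : G → ℂ) y) = 1 := by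
      intro y
      have h6 : φf y = 1 := by simp [hφf, hno y]
      have h7 : (τ₁ : G → ℂ) y = 1 := rfl
      rw [h6, h7]
      simp
    simp_rw [h5] at h4
    rw [sum_const, card_univ, ← Nat.card_eq_fintype_card, nsmul_eq_mul, mul_one] at h4
    have hN0 : (Nat.card (normalizer (zpowers x : Set G)) : ℂ) ≠ 0 := by
      exact_mod_cast Nat.card_pos.ne'
    rw [inv_mul_cancel₀ hN0] at h4
    simp at h4
  -- the conjugate of `θ₀`
  let θbar : IrrCharacter G := ⟨fun g => conj ((θ₀ : G → ℂ) g),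
    Cfsg.Agent.Lib.DefectOne.isIrr_map starRingAut θ₀.2⟩
  have hbarval : ∀ g, (θbar : G → ℂ) g = conj ((θ₀ : G → ℂ) g) := fun g => rfl
  have hbar : θbar ∈ Y := by
    by_contra hno
    have hep : (e : ℂ) ≠ 0 := by exact_mod_cast hT.epos.ne'
    by_cases hbX : θbar ∈ X
    · have h1 : ∀ i ∈ univ.erase (0 : ZMod p), (θ₀ : G → ℂ) (XX x i) = (δ θbar : ℂ) := by
        intro i hi
        have h2 := hT.valX θbar hbX i (mem_erase.1 hi).1
        rw [hbarval] at h2
        have h3 := congrArg (starRingEnd ℂ) h2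
        rw [Complex.conj_conj] at h3
        rw [h3]
        simp
      have h2 := hsumE θ₀ hθ₀
      rw [sum_congr rfl h1, sum_const, card_erase_of_mem (mem_univ _), card_univ, ZMod.card, nsmul_eq_mul] at h2
      have h3 : (((p - 1 : ℕ) : ℤ)) * δ θbar = e := by exact_mod_cast h2
      have hepos := hT.epos
      have hhet := hT.het
      have h5 : ((p - 1 : ℕ) : ℤ) = (e : ℤ) * t := by exact_mod_cast hhet
      rcases hT.signX θbar hbX with h4 | h4
      · rw [h4, mul_one, h5] at h3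
        have h6 : (e : ℤ) * t = e * 1 := by rw [h3, mul_one]
        have h7 : (t : ℤ) = 1 := mul_left_cancel₀ (by exact_mod_cast hepos.ne') h6
        omega
      · rw [h4, h5] at h3
        have h6 : (0 : ℤ) < e := by exact_mod_cast hepos
        have h7 : (0 : ℤ) < t := by omega
        nlinarith [mul_pos h6 h7]
    · have hb2 : θbar ∉ X ∪ Y := by
        simp only [mem_union, not_or]
        exact ⟨hbX, hno⟩
      have h1 : ∀ i ∈ univ.erase (0 : ZMod p), (θ₀ : G → ℂ) (XX x i) = 0 := by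
        intro i hi
        have h2 := hT.out θbar hb2 i (mem_erase.1 hi).1
        rw [hbarval] at h2
        exact (map_eq_zero (starRingEnd ℂ)).1 h2
      have h2 := hsumE θ₀ hθ₀
      rw [sum_eq_zero h1] at h2
      exact hep h2.symm
  have hreal : ∀ y : normalizer (zpowers x : Set G), (y : G) ∉ zpowers x → conj (φf y) = φf y := by
    intro y hy
    have h1 := hsame θbar hbar y hy
    have h2 := hsame θ₀ hθ₀ y hy
    rw [hbarval, h2] at h1
    exact h1
  have hsq : ∀ y, φf y ^ 2 = 1 := by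
    intro y
    by_cases hy : (y : G) ∈ zpowers x
    · have h1 : φf y = 1 := by simp [hφf, hφ1 y hy]
      rw [h1, one_pow]
    · have h1 := hreal y hy
      have h2 := hnorm1 y
      have h3 : φf y * conj (φf y) = 1 := by
        rw [← Complex.inv_eq_conj h2]
        exact mul_inv_cancel₀ (Units.ne_zero _)
      rw [h1] at h3
      rw [pow_two, h3]
  obtain ⟨y₀, hy₀⟩ := hnontriv
  have hy₀' : φf y₀ ≠ 1 := by
    intro h
    apply hy₀
    exact Units.ext h
  have heven : 2 ∣ orderOf y₀ := by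
    by_contra hne
    have h1 : Odd (orderOf y₀) := by
      rcases Nat.even_or_odd (orderOf y₀) with h | h
      · exact absurd h.two_dvd hne
      · exact h
    obtain ⟨l, hl⟩ := h1
    have h2 : φf y₀ ^ orderOf y₀ = 1 := by
      rw [hφf]
      simp only
      rw [← Units.val_pow_eq_pow_val, ← map_pow, pow_orderOf_eq_one, map_one, Units.val_one]
    rw [hl, pow_succ, pow_mul, hsq, one_pow, one_mul] at h2
    exact hy₀' h2
  set τ₀ := y₀ ^ (orderOf y₀ / 2) with hτ₀
  have hτo : orderOf τ₀ = 2 := orderOf_pow_orderOf_div (orderOf_pos y₀).ne' heven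
  have hτG : orderOf ((τ₀ : normalizer (zpowers x : Set G)) : G) = 2 := by
    rw [← hτo]
    exact Subgroup.orderOf_coe τ₀
  refine ⟨τ₀, ?_, ?_, τ₀.2, ?_⟩
  · rw [← hτG]
    exact pow_orderOf_eq_one _
  · intro h
    rw [h, orderOf_one] at hτG
    omega
  · have hτP : ((τ₀ : normalizer (zpowers x : Set G)) : G) ∉ zpowers x := by
      intro h
      have h1 := Subgroup.orderOf_dvd_natCard (zpowers x) h
      rw [Nat.card_zpowers, hτG, hord] at h1
      exact hodd ((Nat.prime_dvd_prime_iff_eq Nat.prime_two hp.out).1 h1).symm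
    have h1 : π τ₀ = (t : ℂ) * φf τ₀ := by
      rw [hπY, sum_congr rfl (fun θ hθ => hsame θ hθ τ₀ hτP), sum_const, hT.cardY, nsmul_eq_mul]
    have h2 : ‖π τ₀‖ = t := by
      rw [h1, norm_mul, hnorm1, mul_one, Complex.norm_natCast]
    have h3 := norm_indFun_le (normalizer (zpowers x : Set G)) φf hnorm1 τ₀
    have h4 := Cfsg.Agent.Lib.Char.Induced.natCard_fixedBy_eq_indFun (G := G) (Sylow p G) P
    have h5 : MulAction.stabilizer G P = normalizer (zpowers x : Set G) := by
      rw [Sylow.stabilizer_eq_normalizer, hz]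
      rfl
    rw [h5] at h4
    have h6 := congrFun h4 ((τ₀ : normalizer (zpowers x : Set G)) : G)
    rw [← h6, Complex.norm_natCast, ← hπ, h2] at h3
    exact_mod_cast h3

/-- **Theorem CD.** -/
theorem psl_of_table (hζ : IsPrimitiveRoot ζ p) (hodd : p ≠ 2) (hT : SCTable x ζ e t X Y δ ε b)
    (hε : ε = -1) (hord : orderOf x = p) (hcen : ∀ c : G, c * x = x * c → c ∈ zpowers x)
    (P : Sylow p G) (hz : zpowers x = (P : Subgroup G)) {d : ℕ} (hde : d + e = p)
    (hd : ∀ θ ∈ Y, (θ : G → ℂ) 1 = d) (hM : (normalizer (zpowers x : Set G)).index = t * d) (ht : 1 < t)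
    (hcase : e = 2 ∨ 3 ≤ t) :
    ∃ (m : ℕ) (F : Type) (_ : Field F) (_ : Fintype F), Fintype.card F = 2 ^ m ∧ p = 2 ^ m + 1 ∧ 3 < p ∧
      Nonempty (G ≃* Matrix.ProjectiveSpecialLinearGroup (Fin 2) F) := by
  classical
  obtain ⟨τ, hτ2, hτ1, hτN, hfix⟩ := exists_involution_of_table hζ hodd hT hε hord hcen P hz hde hd hM ht
  have hPc : Nat.card P = p := by
    have h1 : Nat.card (P : Subgroup G) = Nat.card (zpowers x) := by rw [hz]
    rw [Nat.card_zpowers, hord] at h1
    exact h1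
  have hcardQ : ∀ Q : Sylow p G, Nat.card Q = p := by
    intro Q
    exact (Nat.card_congr (Q.equiv P).toEquiv).trans hPc
  have hcenQ : ∀ Q : Sylow p G, centralizer ((Q : Subgroup G) : Set G) ≤ Q := by
    intro Q c hc
    obtain ⟨g, rfl⟩ := MulAction.exists_smul_eq G P Q
    have hQ : ((g • P : Sylow p G) : Subgroup G) = MulAut.conj g • (P : Subgroup G) := Sylow.coe_subgroup_smul
    have hxm : g * x * g⁻¹ ∈ ((g • P : Sylow p G) : Subgroup G) := by
      rw [hQ]
      have hxP : x ∈ (P : Subgroup G) := by rw [← hz]; exact mem_zpowers x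
      have := Subgroup.smul_mem_pointwise_smul x (MulAut.conj g) (P : Subgroup G) hxP
      simpa [MulAut.smul_def] using this
    have h1 := Subgroup.mem_centralizer_iff.1 hc _ hxm
    have h2 : (g⁻¹ * c * g) * x = x * (g⁻¹ * c * g) := by
      have h3 : g⁻¹ * c * g * x = g⁻¹ * (c * (g * x * g⁻¹)) * g := by group
      have h4 : x * (g⁻¹ * c * g) = g⁻¹ * ((g * x * g⁻¹) * c) * g := by group
      rw [h3, h4, h1]
    have h3 := hcen _ h2
    rw [hz] at h3
    rw [hQ]
    have h4 := Subgroup.smul_mem_pointwise_smul _ (MulAut.conj g) (P : Subgroup G) h3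
    have h5 : MulAut.conj g • (g⁻¹ * c * g) = c := by
      simp [MulAut.smul_def]
      group
    rwa [h5] at h4
  have hN : Nat.card (normalizer ((P : Subgroup G) : Set G)) = p * e := by
    rw [← hz]
    exact hT.cardN
  have hpe : p - e = d := by omega
  have hMM : Nat.card (Sylow p G) = t * (p - e) := by
    have h1 := Sylow.card_eq_index_normalizer P
    have h2 : (normalizer ((P : Subgroup G) : Set G)).index = t * d := by
      rw [← hz]
      exact hM
    rw [hpe]
    exact h1.trans h2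
  have hτP : τ • P = P := by
    apply Sylow.smul_eq_iff_mem_normalizer.2
    have : τ ∈ normalizer ((P : Subgroup G) : Set G) := by
      rw [← hz]
      exact hτN
    exact this
  have hH : SCDesign.DesignHyp p e t P τ :=
    ⟨hodd, hcardQ, hcenQ, hN, hT.het, hMM, hτ2, hτ1, hτP⟩
  have hfix' : t ≤ (SCDesign.FF (p := p) τ).card := by
    have h1 : Nat.card (MulAction.fixedBy (Sylow p G) τ) = (SCDesign.FF (p := p) τ).card := by
      rw [Nat.card_eq_fintype_card]
      refine Fintype.card_of_subtype _ (fun Q => ?_)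
      unfold SCDesign.FF
      simp only [mem_filter, mem_univ, true_and, MulAction.mem_fixedBy]
    rw [← h1]
    exact hfix
  have hM1 : 1 < Nat.card (Sylow p G) := by
    rw [hMM, hpe]
    have h0 : 0 < d := by
      have hhet := hT.het
      have h1 : 0 < t := by omega
      have h2 := hT.epos
      have h3 : e ≤ e * t := Nat.le_mul_of_pos_right _ h1
      have h4 := hp.out.two_le
      omega
    nlinarith
  exact SCDesign.main_design hH hfix' hcase hM1

end Main

end Cfsg.Agent.Lib.DefectOne
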