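import Mathlib
import Cfsg.Agent.S0732
import Cfsg.Agent.S0144
import Cfsg.Agent.Lib.Perm.PrimeDegReg

/-!
# Perfect groups with `p + 1` Sylow `p`-subgroups of order `p`
-/

set_option autoImplicit false
set_option linter.unusedSectionVars false

namespace Cfsg.Agent.Lib.DefectOne.PerfectN1

open Subgroup MulAction
open scoped MatrixGroups

universe u

section Basic

variable {G : Type*} [Group G]

lemma hom_trivial {A : Type*} [Group A] (hA : ∀ a b : A, a * b = b * a) (h : commutator G = ⊤) (f : G →* A) (g : G) :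
    f g = 1 := by
  have h1 : commutator G ≤ f.ker := by
    rw [commutator_def, Subgroup.commutator_le]
    intro a _ b _
    rw [MonoidHom.mem_ker, commutatorElement_def]
    simp only [map_mul, map_inv]
    rw [hA (f a) (f b)]
    group
  have h2 : g ∈ commutator G := by
    rw [h]
    exact mem_top g
  exact h1 h2

lemma perfect_of_surjective {H : Type*} [Group H] {f : G →* H} (hf : Function.Surjective f) (h : commutator G = ⊤) :
    commutator H = ⊤ := by
  have h1 : (commutator G).map f = commutator H := by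
    rw [commutator_def, commutator_def, Subgroup.map_commutator, ← MonoidHom.range_eq_map, MonoidHom.range_eq_top.2 hf]
  rw [← h1, h, ← MonoidHom.range_eq_map, MonoidHom.range_eq_top.2 hf]

lemma perfect_of_mulEquiv {H : Type*} [Group H] (e : G ≃* H) (h : commutator G = ⊤) : commutator H = ⊤ :=
  perfect_of_surjective (f := e.toMonoidHom) e.surjective h

/-- A perfect solvable group is trivial. -/
lemma subsingleton_of_perfect_solvable [Group.IsSolvable G] (h : commutator G = ⊤) : Subsingleton G := by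
  have h1 : ∀ n : ℕ, derivedSeries G n = ⊤ := by
    intro n
    induction n with
    | zero => rfl
    | succ n ih =>
      rw [derivedSeries_succ, ih]
      exact h
  obtain ⟨n, hn⟩ := Group.IsSolvable.solvable (G := G)
  rw [h1 n] at hn
  refine ⟨fun a b => ?_⟩
  have ha : a ∈ (⊥ : Subgroup G) := by rw [← hn]; exact mem_top a
  have hb : b ∈ (⊥ : Subgroup G) := by rw [← hn]; exact mem_top b
  rw [Subgroup.mem_bot.1 ha, Subgroup.mem_bot.1 hb]

end Basic

section PGL

variable {p : ℕ} [hp : Fact p.Prime]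

/-- `PGL(2, p)` is not perfect for odd `p`. -/
theorem pgl_not_perfect (hp2 : p ≠ 2) : commutator (Matrix.ProjGenLinGroup (Fin 2) (ZMod p)) ≠ ⊤ := by
  intro h
  let g : GL (Fin 2) (ZMod p) →* (ZMod p)ˣ := (powMonoidHom (p / 2)).comp Matrix.GeneralLinearGroup.det
  have hc : Subgroup.center (GL (Fin 2) (ZMod p)) ≤ g.ker := by
    intro z hz
    rw [Matrix.GeneralLinearGroup.mem_center_iff_val_mem_range_scalar] at hz
    obtain ⟨a, ha⟩ := hz
    rw [MonoidHom.mem_ker]
    apply Units.ext
    have h1 : ((Matrix.GeneralLinearGroup.det z : (ZMod p)ˣ) : ZMod p) = a ^ 2 := by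
      rw [Matrix.GeneralLinearGroup.val_det_apply, ← ha, Matrix.det_fin_two]
      simp [Matrix.scalar_apply]
      ring
    have ha0 : a ≠ 0 := by
      rintro rfl
      rw [pow_two, zero_mul] at h1
      exact (Matrix.GeneralLinearGroup.det z).ne_zero h1
    show ((Matrix.GeneralLinearGroup.det z : (ZMod p)ˣ) : ZMod p) ^ (p / 2) = 1
    rw [h1, ← pow_mul]
    have h2 : 2 * (p / 2) = p - 1 := by
      have := hp.out.eq_two_or_odd
      omega
    rw [h2]
    exact ZMod.pow_card_sub_one_eq_one ha0
  let f : Matrix.ProjGenLinGroup (Fin 2) (ZMod p) →* (ZMod p)ˣ := QuotientGroup.lift _ g hc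
  have hchar : ringChar (ZMod p) ≠ 2 := by
    rw [ZMod.ringChar_zmod_n]
    exact hp2
  obtain ⟨a, ha⟩ := FiniteField.exists_nonsquare hchar
  have ha0 : a ≠ 0 := by
    rintro rfl
    exact ha (IsSquare.zero)
  have hd : (Matrix.diagonal ![a, 1] : Matrix (Fin 2) (Fin 2) (ZMod p)).det ≠ 0 := by
    rw [Matrix.det_diagonal]
    simp [ha0]
  let z : GL (Fin 2) (ZMod p) := Matrix.GeneralLinearGroup.mkOfDetNeZero _ hd
  have h1 := hom_trivial (fun a b => mul_comm a b) h f (QuotientGroup.mk z)
  have h2 : f (QuotientGroup.mk z) = g z := rfl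
  rw [h2] at h1
  have h3 : ((g z : (ZMod p)ˣ) : ZMod p) = 1 := by rw [h1]; rfl
  have h4 : ((g z : (ZMod p)ˣ) : ZMod p) = a ^ (p / 2) := by
    show ((Matrix.GeneralLinearGroup.det z : (ZMod p)ˣ) : ZMod p) ^ (p / 2) = _
    congr 1
    rw [Matrix.GeneralLinearGroup.val_det_apply]
    show (Matrix.diagonal ![a, 1] : Matrix (Fin 2) (Fin 2) (ZMod p)).det = a
    rw [Matrix.det_diagonal]
    simp
  rw [h4] at h3
  exact ha ((ZMod.euler_criterion p ha0).2 h3)

end PGL

section Semi

variable {Γ : Type*} [Group Γ] {F : Type*} [Field F]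

lemma semi_unique {a a' : Fˣ} {b b' : F} {φ φ' : F ≃+* F}
    (h : ∀ x, (a : F) * φ x + b = (a' : F) * φ' x + b') : a = a' ∧ b = b' ∧ φ = φ' := by
  have h0 := h 0
  simp only [map_zero, mul_zero, zero_add] at h0
  have h1 := h 1
  simp only [map_one, mul_one, h0, add_left_inj] at h1
  have h2 : a = a' := Units.ext h1
  refine ⟨h2, h0, ?_⟩
  ext x
  have h3 := h x
  rw [h0, add_left_inj, h1] at h3
  exact mul_left_cancel₀ (Units.ne_zero a') h3

/-- A perfect group of semi-affine permutations is trivial. -/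
theorem semiaffine_perfect (hcomm : ∀ φ ψ : RingAut F, φ * ψ = ψ * φ) (ι : Γ →* Equiv.Perm F)
    (hι : Function.Injective ι) (hmem : ∀ g, ι g ∈ Cfsg.semiaffineGroup F) (hperf : commutator Γ = ⊤) :
    Subsingleton Γ := by
  classical
  choose a b φ hφ using hmem
  have hmul : ∀ g h x, (a (g * h) : F) * φ (g * h) x + b (g * h) =
      ((a g * Units.map ((φ g : F ≃+* F) : F →* F) (a h) : Fˣ) : F) * ((φ g) * (φ h) : RingAut F) x + ((a g : F) * φ g (b h) + b g) := by
    intro g h x
    rw [← hφ (g * h) x, map_mul, Equiv.Perm.mul_apply, hφ g, hφ h]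
    simp only [Units.val_mul, Units.coe_map, MonoidHom.coe_coe, map_add, map_mul, RingAut.mul_apply, mul_add, mul_assoc, add_assoc]
  have hone : ∀ x, (a 1 : F) * φ 1 x + b 1 = ((1 : Fˣ) : F) * (1 : RingAut F) x + 0 := by
    intro x
    rw [← hφ 1 x, map_one]
    simp
  let Ψ : Γ →* RingAut F :=
    { toFun := φ
      map_one' := (semi_unique hone).2.2
      map_mul' := fun g h => (semi_unique (hmul g h)).2.2 }
  have hφ1 : ∀ g, φ g = 1 := fun g => hom_trivial hcomm hperf Ψ g
  have hmul2 : ∀ g h, a (g * h) = a g * a h := by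
    intro g h
    have h1 := (semi_unique (hmul g h)).1
    rw [h1, hφ1 g]
    congr 1
  let Λ : Γ →* Fˣ :=
    { toFun := a
      map_one' := (semi_unique hone).1
      map_mul' := hmul2 }
  have ha1 : ∀ g, a g = 1 := fun g => hom_trivial (fun u v => mul_comm u v) hperf Λ g
  have hval : ∀ g x, ι g x = x + b g := by
    intro g x
    rw [hφ g x, ha1 g, hφ1 g]
    simp
  have hab : ∀ g h : Γ, g * h = h * g := by
    intro g h
    apply hι
    ext x
    rw [map_mul, map_mul, Equiv.Perm.mul_apply, Equiv.Perm.mul_apply, hval, hval, hval, hval]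
    ring
  refine ⟨fun g h => ?_⟩
  have h1 : commutator Γ = ⊥ := by
    rw [commutator_def, eq_bot_iff, Subgroup.commutator_le]
    intro u _ v _
    rw [Subgroup.mem_bot, commutatorElement_def, hab u v]
    group
  rw [hperf] at h1
  have hg : g ∈ (⊥ : Subgroup Γ) := by rw [← h1]; exact mem_top g
  have hh : h ∈ (⊥ : Subgroup Γ) := by rw [← h1]; exact mem_top h
  rw [Subgroup.mem_bot.1 hg, Subgroup.mem_bot.1 hh]

end Semi

section Main

variable {G : Type u} [Group G] [Finite G] {p : ℕ} [hp : Fact p.Prime]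

/-- Perfect groups with `p + 1` Sylow `p`-subgroups map onto `PSL(2, p)`. -/
theorem surj_of_card (hperf : commutator G = ⊤) (P : Sylow p G) (hP : Nat.card P = p)
    (hM : Nat.card (Sylow p G) = p + 1) (hbig : Nat.card G < p ^ 3) :
    3 < p ∧ ∃ f : G →* PSL(2, ZMod p), Function.Surjective f := by
  classical
  letI : Fintype (Sylow p G) := Fintype.ofFinite _
  have hα : Fintype.card (Sylow p G) = p + 1 := by rw [← Nat.card_eq_fintype_card, hM]
  let φ : G →* Equiv.Perm (Sylow p G) := MulAction.toPermHom G (Sylow p G)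
  let G' : Subgroup (Equiv.Perm (Sylow p G)) := φ.range
  have hsurj : Function.Surjective φ.rangeRestrict := φ.rangeRestrict_surjective
  have hperf' : commutator G' = ⊤ := perfect_of_surjective hsurj hperf
  haveI htr : IsPretransitive G' (Sylow p G) := by
    refine ⟨fun y z => ?_⟩
    obtain ⟨g, hg⟩ := MulAction.exists_smul_eq G y z
    exact ⟨φ.rangeRestrict g, hg⟩
  have hp' := hp.out
  -- two Sylow subgroups
  obtain ⟨Q, hQ⟩ : ∃ Q : Sylow p G, Q ≠ P := by
    by_contra hno
    push Not at hno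
    have h1 : Nat.card (Sylow p G) = 1 := Nat.card_eq_one_iff_unique.2 ⟨⟨fun a b => by rw [hno a, hno b]⟩, ⟨P⟩⟩
    have := hp'.pos
    omega
  obtain ⟨x, hxP, hx1⟩ : ∃ x ∈ (P : Subgroup G), x ≠ 1 := by
    by_contra hno
    push Not at hno
    have h1 : (P : Subgroup G) = ⊥ := (Subgroup.eq_bot_iff_forall _).2 hno
    have h2 : Nat.card (P : Subgroup G) = 1 := by rw [h1, Subgroup.card_bot]
    have h3 := hp'.one_lt
    rw [show Nat.card (P : Subgroup G) = p from hP] at h2
    omega
  have hxo : orderOf x = p := by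
    have h1 := Subgroup.orderOf_dvd_natCard (P : Subgroup G) hxP
    rw [show Nat.card (P : Subgroup G) = p from hP] at h1
    rcases (Nat.dvd_prime hp').1 h1 with h2 | h2
    · exact absurd (orderOf_eq_one_iff.1 h2) hx1
    · exact h2
  have hzP : zpowers x = (P : Subgroup G) := by
    refine Subgroup.eq_of_le_of_card_ge ((zpowers_le).2 hxP) ?_
    rw [Nat.card_zpowers, hxo]
    exact hP.le
  have hφx : φ x ≠ 1 := by
    intro h
    have h1 : x • Q = Q := by
      have := congrArg (fun σ : Equiv.Perm (Sylow p G) => σ Q) h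
      exact this
    have h2 : x ∈ normalizer ((Q : Subgroup G) : Set G) := Sylow.smul_eq_iff_mem_normalizer.1 h1
    have h3 := P.isPGroup'.inf_normalizer_sylow Q
    have h4 : x ∈ (P : Subgroup G) ⊓ normalizer ((Q : Subgroup G) : Set G) := ⟨hxP, h2⟩
    have h5 : x ∈ (P : Subgroup G) ⊓ (Q : Subgroup G) := by
      have h6 : (P : Subgroup G) ⊓ normalizer ((Q : Subgroup G) : Set G) = (P : Subgroup G) ⊓ (Q : Subgroup G) := h3
      rw [← h6]
      exact h4
    have h6 : zpowers x ≤ (Q : Subgroup G) := (zpowers_le).2 h5.2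
    have h7 : zpowers x = (Q : Subgroup G) := by
      refine Subgroup.eq_of_le_of_card_ge h6 ?_
      rw [Nat.card_zpowers, hxo, show Nat.card (Q : Subgroup G) = Nat.card (P : Subgroup G) from
        Nat.card_congr (Q.equiv P).toEquiv, show Nat.card (P : Subgroup G) = p from hP]
    apply hQ
    apply Sylow.ext
    rw [← h7, hzP]
  have hpG' : p ∣ Nat.card G' := by
    have h1 : (φ x) ^ p = 1 := by
      have hxp : x ^ p = 1 := by
        have := pow_orderOf_eq_one x
        rwa [hxo] at this
      rw [← map_pow, hxp, map_one]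
    have h2 : orderOf (φ x) = p := orderOf_eq_prime h1 hφx
    have h3 := Subgroup.orderOf_dvd_natCard G' (MonoidHom.mem_range.2 ⟨x, rfl⟩ : φ x ∈ G')
    rwa [h2] at h3
  have hp1G' : p + 1 ∣ Nat.card G' := by
    have h1 := Cfsg.Agent.Lib.Perm.PrimeDeg.natCard_orbit_mul G' P
    rw [MulAction.orbit_eq_univ, Nat.card_coe_set_eq, Set.ncard_univ, hM] at h1
    exact Dvd.intro _ h1
  have hcop : Nat.Coprime (p + 1) p := by
    simp
  obtain ⟨d, hd⟩ := hcop.mul_dvd_of_dvd_of_dvd hp1G' hpG'
  have hle : Nat.card G' ≤ Nat.card G := by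
    have := Subgroup.card_range_dvd φ
    exact Nat.le_of_dvd Nat.card_pos this
  have hdp : d < p := by
    by_contra hge
    push Not at hge
    have h1 : (p + 1) * p * p ≤ (p + 1) * p * d := Nat.mul_le_mul_left _ hge
    have h2 : p ^ 3 ≤ (p + 1) * p * p := by nlinarith
    omega
  have hnt : ¬ Subsingleton G' := by
    intro hs
    have h1 := Nat.card_of_subsingleton (1 : G')
    rw [h1] at hpG'
    exact hp'.one_lt.ne' (Nat.dvd_one.1 hpG')
  have hd0 : 0 < d := by
    rcases Nat.eq_zero_or_pos d with h | h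
    · rw [h, mul_zero] at hd
      exact absurd hd Nat.card_pos.ne'
    · exact h
  have hp5 : 3 < p := by
    by_contra hle3
    have h3 : p = 2 ∨ p = 3 := by
      have := hp'.two_le
      have h4 : p ≠ 0 := hp'.ne_zero
      omega
    have hsol : Group.IsSolvable G' := by
      rcases h3 with rfl | rfl
      · have hd1 : d = 1 := by omega
        have := Cfsg.Agent.S0144.result (G := G') 2 3 1 1 Nat.prime_two Nat.prime_three (by rw [hd, hd1]; norm_num)
        exact this
      · have hd1 : d = 1 ∨ d = 2 := by omega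
        rcases hd1 with rfl | rfl
        · exact Cfsg.Agent.S0144.result (G := G') 2 3 2 1 Nat.prime_two Nat.prime_three (by rw [hd]; norm_num)
        · exact Cfsg.Agent.S0144.result (G := G') 2 3 3 1 Nat.prime_two Nat.prime_three (by rw [hd]; norm_num)
    exact hnt (subsingleton_of_perfect_solvable hperf')
  refine ⟨hp5, ?_⟩
  have hp2 : p ≠ 2 := by omega
  rcases Cfsg.Agent.S0732.result hp' hα G' hd hdp with ⟨-, ⟨ψ⟩⟩ | ⟨-, ⟨ψ⟩⟩ | ⟨q, hq, -, -, e, he⟩
  · exact absurd (perfect_of_mulEquiv ψ hperf') (pgl_not_perfect hp2)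
  · exact ⟨ψ.toMonoidHom.comp φ.rangeRestrict, ψ.surjective.comp hsurj⟩
  · exfalso
    apply hnt
    have hcomm : ∀ a b : RingAut (GaloisField 2 q), a * b = b * a := by
      have h1 := Cfsg.Agent.Lib.Perm.PrimeDegReg.card_ringAut_galois hq.ne_zero
      haveI : Fact q.Prime := ⟨hq⟩
      haveI : IsCyclic (RingAut (GaloisField 2 q)) := isCyclic_of_prime_card h1
      exact fun a b => IsCyclic.commutative.is_comm.comm a b
    let ι : G' →* Equiv.Perm (GaloisField 2 q) := e.permCongrHom.toMonoidHom.comp G'.subtype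
    refine semiaffine_perfect hcomm ι ?_ ?_ hperf'
    · intro g h hgh
      apply Subtype.ext
      exact e.permCongrHom.injective hgh
    · intro g
      exact he g

end Main

end Cfsg.Agent.Lib.DefectOne.PerfectN1
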