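import Mathlib
import Cfsg.Agent.Lib.DefectOne.CharDesign
import Cfsg.Agent.Lib.DefectOne.PerfectN1
import Cfsg.Agent.Lib.Blocks.HeightZero

/-!
# Perfect groups of order less than `p³` with a self-centralizing Sylow `p`-subgroup
-/

set_option autoImplicit false
set_option linter.unusedSectionVars false

namespace Cfsg.Agent.Lib.DefectOne

open Cfsg Subgroup Finset
open scoped ComplexConjugate Pointwise MatrixGroups

universe u

/-- The two possible quotients. -/
def PSLQuot (G : Type u) [Group G] (p : ℕ) [Fact p.Prime] : Prop :=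
  (3 < p ∧ ∃ f : G →* PSL(2, ZMod p), Function.Surjective f) ∨
  ∃ (m : ℕ) (F : Type) (_ : Field F) (_ : Fintype F), Fintype.card F = 2 ^ m ∧ p = 2 ^ m + 1 ∧ 3 < p ∧
    ∃ f : G →* PSL(2, F), Function.Surjective f

section Num

lemma num_minus {p e n s c : ℤ} (hs : 1 ≤ s) (hc : 1 ≤ c) (he : 2 ≤ e) (h2e : 2 * e < p) (hen : e * n < p)
    (hprod : (p * s - e) * (c * p - 1) = e * (1 + n * p)) : s = 1 ∧ c = 1 ∧ p - 1 - e = e * n := by
  have hp0 : 0 < p := by omega
  have h1 : s * c * p - s - e * c = e * n := by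
    have h2 : p * (s * c * p - s - e * c) = p * (e * n) := by linear_combination hprod
    exact mul_left_cancel₀ hp0.ne' h2
  have hcp : 0 ≤ c * p - 1 := by nlinarith
  have hc1 : c = 1 := by
    by_contra hne
    have hc2 : 2 ≤ c := by omega
    have h3 : (c * p - 1) ≤ s * (c * p - 1) := by nlinarith
    have h4 : 2 * (p - e) ≤ c * (p - e) := by nlinarith
    have h5 : s * c * p - s - e * c = s * (c * p - 1) - e * c := by ring
    have h6 : (c * p - 1) - e * c = c * (p - e) - 1 := by ring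
    omega
  subst hc1
  have hs1 : s = 1 := by
    by_contra hne
    have hs2 : 2 ≤ s := by omega
    have h3 : 2 * (p - 1) ≤ s * (p - 1) := by nlinarith
    have h5 : s * 1 * p - s - e * 1 = s * (p - 1) - e := by ring
    omega
  subst hs1
  refine ⟨rfl, rfl, ?_⟩
  linear_combination h1

lemma num_plus {p e n s c : ℤ} (hs : 0 ≤ s) (hc : 0 ≤ c) (he : 1 ≤ e) (hen : e * n < p) (hp0 : 0 < p)
    (hprod : (p * s + e) * (c * p + 1) = e * (1 + n * p)) : s = 0 ∨ c = 0 := by
  by_contra hne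
  push Not at hne
  have hs1 : 1 ≤ s := by omega
  have hc1 : 1 ≤ c := by omega
  have h1 : s * c * p + s + e * c = e * n := by
    have h2 : p * (s * c * p + s + e * c) = p * (e * n) := by linear_combination hprod
    exact mul_left_cancel₀ hp0.ne' h2
  have h3 : 1 ≤ s * c := by nlinarith
  have h4 : p ≤ s * c * p := by nlinarith
  have h5 : 0 ≤ e * c := by nlinarith
  omega

lemma num_X {p e n a b : ℤ} (ha : 0 ≤ a) (hb : 0 ≤ b) (he : 1 ≤ e) (hen : e * n < p) (hp0 : 0 < p)
    (hprod : (a * p + 1) * (b * p + e) = e * (1 + n * p)) : a = 0 ∨ b = 0 := by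
  by_contra hne
  push Not at hne
  have ha1 : 1 ≤ a := by omega
  have hb1 : 1 ≤ b := by omega
  have h1 : a * b * p + a * e + b = e * n := by
    have h2 : p * (a * b * p + a * e + b) = p * (e * n) := by linear_combination hprod
    exact mul_left_cancel₀ hp0.ne' h2
  have h3 : 1 ≤ a * b := by nlinarith
  have h4 : p ≤ a * b * p := by nlinarith
  have h5 : 0 ≤ a * e := by nlinarith
  omega

/-- The final arithmetic of the case of sign `+`. -/
lemma num_final {p e t M S : ℕ} (he : 2 ≤ e) (ht : 2 ≤ t) (het : p - 1 = e * t) (h2e : 2 * e < p)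
    (hM : 2 * p + 1 ≤ M) (h1 : 1 + M * S ≤ e * e) (h2 : p - e ≤ t * (1 + S)) : False := by
  have hp : p = e * t + 1 := by
    have : 1 ≤ p := by omega
    omega
  have h3 : (e : ℤ) * t + 1 - e ≤ t * (1 + S) := by
    have h4 : (p : ℤ) - e ≤ (t * (1 + S) : ℕ) := by omega
    rw [hp] at h4
    push_cast at h4 ⊢
    linarith
  have h4 : ((e : ℤ) - 1) * (t - 1) ≤ t * S := by nlinarith
  have h5 : (1 : ℤ) + M * S ≤ e * e := by exact_mod_cast h1
  have h6 : (M : ℤ) * S ≤ (e - 1) * (e + 1) := by nlinarith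
  have hMt : (0 : ℤ) ≤ M := by positivity
  have ht' : (2 : ℤ) ≤ t := by exact_mod_cast ht
  have he' : (2 : ℤ) ≤ e := by exact_mod_cast he
  have h7 : (M : ℤ) * (((e : ℤ) - 1) * (t - 1)) ≤ M * (t * S) := mul_le_mul_of_nonneg_left h4 hMt
  have h8 : (t : ℤ) * ((M : ℤ) * S) ≤ t * (((e : ℤ) - 1) * (e + 1)) :=
    mul_le_mul_of_nonneg_left h6 (by omega)
  have h9 : ((e : ℤ) - 1) * ((M : ℤ) * (t - 1)) ≤ ((e : ℤ) - 1) * (t * (e + 1)) := by nlinarith
  have h10 : (M : ℤ) * (t - 1) ≤ t * (e + 1) := le_of_mul_le_mul_left h9 (by omega)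
  have h11 : (M : ℤ) * t ≤ 2 * ((M : ℤ) * (t - 1)) := by nlinarith
  have h12 : (M : ℤ) * t ≤ t * (2 * e + 2) := by nlinarith
  have h13 : (M : ℤ) ≤ 2 * e + 2 := by
    have h14 : (t : ℤ) * M ≤ t * (2 * e + 2) := by linarith
    exact le_of_mul_le_mul_left h14 (by omega)
  have h15 : (2 * (p : ℤ) + 1) ≤ M := by exact_mod_cast hM
  have h16 : 2 * (e : ℤ) < p := by exact_mod_cast h2e
  omega

end Num

variable {G : Type u} [Group G] {p : ℕ} [hp : Fact p.Prime]

/-- In a perfect group a Sylow subgroup of nontrivial order is not central in its normalizer. -/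
lemma not_normalizer_le_of_perfect [Finite G] (hperf : commutator G = ⊤) (P : Sylow p G) (hd : p ∣ Nat.card G) :
    ¬ normalizer ((P : Subgroup G) : Set G) ≤ centralizer ((P : Subgroup G) : Set G) := by
  intro hle
  have h1 := MonoidHom.not_dvd_card_ker_transferSylow P hle
  have hcomm : ∀ a b : (P : Subgroup G), a * b = b * a := fun a b =>
    Subtype.ext (hle (le_normalizer b.2) a a.2)
  have h2 : (MonoidHom.transferSylow P hle).ker = ⊤ := by
    rw [eq_top_iff]
    intro g _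
    rw [MonoidHom.mem_ker]
    exact PerfectN1.hom_trivial hcomm hperf _ g
  rw [h2, Subgroup.card_top] at h1
  exact h1 hd

variable [Fintype G] {x : G}

section Sum

variable {ζ : ℂ} {e t : ℕ} {X Y : Finset (IrrCharacter G)} {δ : IrrCharacter G → ℤ} {ε : ℤ} {b : IrrCharacter G → ZMod p}

lemma SCTable.sum_X (hT : SCTable x ζ e t X Y δ ε b) {χ : IrrCharacter G} (hχ : χ ∈ X) :
    ∑ i ∈ univ.erase (0 : ZMod p), (χ : G → ℂ) (XX x i) = ((p : ℂ) - 1) * δ χ := by
  have h1 : ∀ i ∈ univ.erase (0 : ZMod p), (χ : G → ℂ) (XX x i) = (δ χ : ℂ) :=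
    fun i hi => hT.valX χ hχ i (mem_erase.1 hi).1
  rw [sum_congr rfl h1, sum_const, card_erase_of_mem (mem_univ _), card_univ, ZMod.card, nsmul_eq_mul]
  have := hp.out.one_lt
  push_cast [Nat.cast_sub this.le]
  ring

lemma SCTable.sum_char [Fintype (IrrCharacter G)] (hζ : IsPrimitiveRoot ζ p) (hT : SCTable x ζ e t X Y δ ε b)
    (c : IrrCharacter G → ℂ) :
    ∑ i ∈ univ.erase (0 : ZMod p), ∑ χ : IrrCharacter G, c χ * (χ : G → ℂ) (XX x i) =
      ((p : ℂ) - 1) * ∑ χ ∈ X, c χ * δ χ - (ε : ℂ) * e * ∑ θ ∈ Y, c θ := by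
  classical
  rw [sum_comm]
  simp_rw [← mul_sum]
  rw [← sum_add_sum_compl (X ∪ Y), sum_union hT.disj]
  have h1 : ∑ χ ∈ (X ∪ Y)ᶜ, c χ * ∑ i ∈ univ.erase (0 : ZMod p), (χ : G → ℂ) (XX x i) = 0 := by
    refine sum_eq_zero fun χ hχ => ?_
    rw [sum_eq_zero (fun i hi => hT.out χ (mem_compl.1 hχ) i (mem_erase.1 hi).1), mul_zero]
  rw [h1, add_zero]
  have h2 : ∀ χ ∈ X, c χ * ∑ i ∈ univ.erase (0 : ZMod p), (χ : G → ℂ) (XX x i) = ((p : ℂ) - 1) * (c χ * δ χ) := by
    intro χ hχ
    rw [hT.sum_X hχ]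
    ring
  have h3 : ∀ θ ∈ Y, c θ * ∑ i ∈ univ.erase (0 : ZMod p), (θ : G → ℂ) (XX x i) = -((ε : ℂ) * e) * c θ := by
    intro θ hθ
    rw [hT.sum_Y hζ hθ]
    ring
  rw [sum_congr rfl h2, sum_congr rfl h3, ← mul_sum, ← mul_sum]
  ring

lemma SCTable.sum_normSq (hζ : IsPrimitiveRoot ζ p) (hT : SCTable x ζ e t X Y δ ε b) {θ : IrrCharacter G} (hθ : θ ∈ Y) :
    ∑ i ∈ univ.erase (0 : ZMod p), (θ : G → ℂ) (XX x i) * conj ((θ : G → ℂ) (XX x i)) = (e : ℂ) * ((p : ℂ) - e) := by
  have hε2 : (ε : ℂ) * conj (ε : ℂ) = 1 := by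
    rcases hT.sign with h | h <;> rw [h] <;> simp
  have h1 : ∀ i ∈ univ.erase (0 : ZMod p), (θ : G → ℂ) (XX x i) * conj ((θ : G → ℂ) (XX x i)) =
      perEta ζ e (b θ) i * conj (perEta ζ e (b θ) i) := by
    intro i hi
    rw [hT.valY θ hθ i (mem_erase.1 hi).1, map_mul]
    calc (ε : ℂ) * perEta ζ e (b θ) i * (conj (ε : ℂ) * conj (perEta ζ e (b θ) i)) =
        ((ε : ℂ) * conj (ε : ℂ)) * (perEta ζ e (b θ) i * conj (perEta ζ e (b θ) i)) := by ring
      _ = _ := by rw [hε2, one_mul]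
  rw [sum_congr rfl h1, sum_perEta_normSq hζ, hT.cardF θ hθ]

end Sum

section Main

variable {ζ : ℂ} {e t : ℕ} {X Y : Finset (IrrCharacter G)} {δ : IrrCharacter G → ℤ} {ε : ℤ} {b : IrrCharacter G → ZMod p}

/-- A degree prime to `p` divides `e M`. -/
lemma exists_cofactor {M : ℕ} (hG : Nat.card G = p * e * M) {χ : G → ℂ} (hχ : IsIrrCharacter G χ)
    (hn : ¬ p ∣ charDegree χ) : ∃ k : ℕ, e * M = charDegree χ * k := by
  have h1 := Cfsg.Agent.Lib.Blocks.HeightZero.charDegree_dvd_card hχ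
  rw [hG, mul_assoc] at h1
  have h2 : Nat.Coprime (charDegree χ) p := ((Nat.Prime.coprime_iff_not_dvd hp.out).2 hn).symm
  exact h2.dvd_of_dvd_mul_left h1

set_option maxHeartbeats 4000000 in
/-- The case of sign `+` does not occur. -/
theorem plus_false (hperf : commutator G = ⊤) (hζ : IsPrimitiveRoot ζ p) (hT : SCTable x ζ e t X Y δ ε b)
    (hε : ε = 1) {n M : ℕ} (hG : Nat.card G = p * e * M) (hM : M = 1 + n * p) (hn : 2 ≤ n) (he2 : 2 ≤ e)
    (hen : e * n < p) (ht : 2 ≤ t) : False := by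
  classical
  haveI : Finite (IrrCharacter G) := Cfsg.Agent.Lib.Char.Complete.finite_irr
  letI : Fintype (IrrCharacter G) := Fintype.ofFinite _
  have hp' := hp.out
  have h2e : 2 * e < p := by nlinarith
  have hpZ : (0 : ℤ) < p := by exact_mod_cast hp'.pos
  have hpr : Prime (p : ℤ) := Nat.prime_iff_prime_int.1 hp'
  have hpe : ¬ (p : ℤ) ∣ (e : ℤ) := by
    intro h
    have h1 : p ∣ e := by exact_mod_cast h
    have h2 := Nat.le_of_dvd hT.epos h1
    omega
  have hMZ : (M : ℤ) = 1 + n * p := by rw [hM]; push_cast; ring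
  have hirrc : ∀ χ : IrrCharacter G, IsCharacter G (χ : G → ℂ) := fun χ =>
    Cfsg.Agent.Lib.Char.Basic.isCharacter_of_isIrrCharacter χ.2
  have hdc : ∀ χ : IrrCharacter G, (χ : G → ℂ) 1 = (charDegree (χ : G → ℂ) : ℂ) := fun χ =>
    (Cfsg.Agent.Lib.Char.Values.IsCharacter.charDegree_cast (hirrc χ)).symm
  have hdpos : ∀ χ : IrrCharacter G, 0 < charDegree (χ : G → ℂ) := by
    intro χ
    obtain ⟨m, hm, h1⟩ := Cfsg.Agent.Lib.Char.Ortho.irr_degree_pos χ.2
    have h2 := hdc χ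
    rw [h1] at h2
    have h3 : m = charDegree (χ : G → ℂ) := by exact_mod_cast h2
    omega
  -- a character in `Y`
  obtain ⟨θ₀, hθ₀⟩ : Y.Nonempty := card_pos.1 (by rw [hT.cardY]; omega)
  obtain ⟨m₀, hm₀, -⟩ := hT.degY θ₀ hθ₀
  rw [hε, one_mul] at hm₀
  have hnd : ¬ p ∣ charDegree (θ₀ : G → ℂ) := by
    intro h
    have h1 : (p : ℤ) ∣ (charDegree (θ₀ : G → ℂ) : ℤ) := by exact_mod_cast h
    rw [hm₀] at h1
    exact hpe ((dvd_add_right (dvd_mul_right _ _)).1 h1)
  obtain ⟨k, hk⟩ := exists_cofactor hG θ₀.2 hnd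
  have hk0 : 1 ≤ k := by
    rcases Nat.eq_zero_or_pos k with h | h
    · rw [h, mul_zero] at hk
      have : 0 < e * M := Nat.mul_pos hT.epos (by omega)
      omega
    · exact h
  have hkZ : (e : ℤ) * (1 + n * p) = (p * m₀ + e) * k := by
    have h1 : (e : ℤ) * M = (charDegree (θ₀ : G → ℂ) : ℤ) * k := by exact_mod_cast hk
    rw [hMZ, hm₀] at h1
    exact h1
  have hk1 : (p : ℤ) ∣ (k : ℤ) - 1 := by
    have h1 : (p : ℤ) ∣ (e : ℤ) * ((k : ℤ) - 1) := ⟨e * n - m₀ * k, by linear_combination -hkZ⟩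
    exact (hpr.dvd_or_dvd h1).resolve_left hpe
  obtain ⟨c, hc⟩ := hk1
  have hc0 : 0 ≤ c := by
    by_contra hneg
    push Not at hneg
    have h1 : (k : ℤ) ≥ 1 := by exact_mod_cast hk0
    nlinarith
  have hplus := num_plus (p := p) (e := e) (n := n) (s := m₀) (c := c) (by positivity) hc0 (by exact_mod_cast hT.epos)
    (by exact_mod_cast hen) hpZ (by
      have hk2 : (k : ℤ) = c * p + 1 := by linear_combination hc
      rw [← hk2]
      linear_combination -hkZ)
  have hd₀ : charDegree (θ₀ : G → ℂ) = e := by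
    rcases hplus with h | h
    · have h1 : (m₀ : ℤ) = 0 := h
      rw [h1] at hm₀
      have h2 : (charDegree (θ₀ : G → ℂ) : ℤ) = e := by rw [hm₀]; ring
      exact_mod_cast h2
    · exfalso
      have h1 : (k : ℤ) = 1 := by rw [h] at hc; linear_combination hc
      have h2 : k = 1 := by exact_mod_cast h1
      rw [h2, mul_one] at hk
      -- the degree is too large
      have h3 := Cfsg.Agent.Lib.Char.CompleteCor.sum_sq_degrees (G := G)
      have h4 : ∑ χ : IrrCharacter G, charDegree (χ : G → ℂ) ^ 2 = Nat.card G := by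
        have h5 : ∑ χ : IrrCharacter G, ((charDegree (χ : G → ℂ) : ℂ)) ^ 2 = (Nat.card G : ℂ) := by
          rw [← h3]
          exact sum_congr rfl fun χ _ => by rw [hdc χ]
        exact_mod_cast h5
      have h5 := single_le_sum (f := fun χ : IrrCharacter G => charDegree (χ : G → ℂ) ^ 2)
        (fun χ _ => Nat.zero_le _) (mem_univ θ₀)
      rw [h4, ← hk, hG] at h5
      have hMp : 2 * p + 1 ≤ M := by rw [hM]; nlinarith
      have hep : 0 < e := hT.epos
      have h6 : e * M * (e * M) ≤ p * (e * M) := by nlinarith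
      have h7 : e * M ≤ p := Nat.le_of_mul_le_mul_right h6 (Nat.mul_pos hep (by omega))
      nlinarith
  -- the character `W`
  have hθc := hirrc θ₀
  have hW : IsCharacter G (fun g => (θ₀ : G → ℂ) g * conj ((θ₀ : G → ℂ) g)) :=
    Cfsg.Agent.Lib.Char.Basic.isCharacter_mul hθc (Cfsg.Agent.Lib.Char.Ortho.isCharacter_conj hθc)
  set W : G → ℂ := fun g => (θ₀ : G → ℂ) g * conj ((θ₀ : G → ℂ) g) with hWdef
  have hWcl : IsClassFunction G W := Cfsg.Agent.Lib.Char.Basic.isClassFunction_of_isCharacter hW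
  choose c' hc' using fun χ : IrrCharacter G =>
    Cfsg.Agent.Lib.Char.Ortho.exists_nat_classInner_of_isCharacter hW (hirrc χ)
  have hval : ∀ g, W g = ∑ χ : IrrCharacter G, (c' χ : ℂ) * (χ : G → ℂ) g := by
    intro g
    have h1 := congrFun (Cfsg.Agent.Lib.Char.Complete.eq_sum_classInner W hWcl) g
    rw [h1, Finset.sum_apply]
    refine sum_congr rfl fun χ _ => ?_
    rw [Pi.smul_apply, hc' χ, smul_eq_mul]
  set triv := Cfsg.Agent.Lib.Blocks.Principal.trivChar G with htriv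
  have htr1 : (triv : G → ℂ) = fun _ => 1 := rfl
  obtain ⟨htX, htδ⟩ := hT.triv (by omega)
  have hctriv : c' triv = 1 := by
    have h1 := hc' triv
    have h2 : classInner W (triv : G → ℂ) = classInner (θ₀ : G → ℂ) (θ₀ : G → ℂ) := by
      rw [Cfsg.Agent.Lib.Char.Induced.classInner_def, Cfsg.Agent.Lib.Char.Induced.classInner_def]
      congr 1
      refine sum_congr rfl fun g _ => ?_
      rw [htr1]
      simp [hWdef]
    rw [h2, Cfsg.Agent.Lib.Char.Ortho.classInner_irr_self θ₀.2] at h1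
    exact_mod_cast h1.symm
  -- the degree equation
  have hdeg : ∑ χ : IrrCharacter G, c' χ * charDegree (χ : G → ℂ) = e * e := by
    have h1 := hval 1
    have h2 : W 1 = ((e * e : ℕ) : ℂ) := by
      simp only [hWdef]
      rw [hdc θ₀, hd₀]
      simp
    rw [h2] at h1
    simp_rw [hdc] at h1
    exact_mod_cast h1.symm
  -- the sum over the elements of `⟨x⟩`
  have hsumZ : (((p : ℤ) - 1) * ∑ χ ∈ X, (c' χ : ℤ) * δ χ - e * ∑ θ ∈ Y, (c' θ : ℤ)) = e * ((p : ℤ) - e) := by
    have h1 := hT.sum_char hζ (fun χ => (c' χ : ℂ))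
    have h2 : ∑ i ∈ univ.erase (0 : ZMod p), ∑ χ : IrrCharacter G, (c' χ : ℂ) * (χ : G → ℂ) (XX x i) =
        (e : ℂ) * ((p : ℂ) - e) := by
      rw [← hT.sum_normSq hζ hθ₀]
      exact sum_congr rfl fun i _ => (hval _).symm
    rw [h2, hε] at h1
    have h3 : ((e : ℤ) * ((p : ℤ) - e) : ℤ) = (((p : ℤ) - 1) * ∑ χ ∈ X, (c' χ : ℤ) * δ χ - ((1 : ℤ) * e) * ∑ θ ∈ Y, (c' θ : ℤ)) := by
      have h4 : (((e : ℤ) * ((p : ℤ) - e) : ℤ) : ℂ) = ((((p : ℤ) - 1) * ∑ χ ∈ X, (c' χ : ℤ) * δ χ - ((1 : ℤ) * e) * ∑ θ ∈ Y, (c' θ : ℤ) : ℤ) : ℂ) := by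
        push_cast
        push_cast at h1
        exact h1
      exact_mod_cast h4
    rw [h3]
    ring
  -- the characters in `X` with sign `+`
  set X₁ := X.filter (fun χ => δ χ = 1) with hX₁
  have htX₁ : triv ∈ X₁ := mem_filter.2 ⟨htX, htδ⟩
  have hdeg_X : ∀ χ ∈ X₁.erase triv, charDegree (χ : G → ℂ) = M := by
    intro χ hχ
    obtain ⟨hχ1, hχ2⟩ := mem_erase.1 hχ
    obtain ⟨hχX, hχδ⟩ := mem_filter.1 hχ2
    have hcong := hT.degX χ hχX
    rw [hχδ] at hcong
    have hp1 : (p : ℤ) ∣ (charDegree (χ : G → ℂ) : ℤ) - 1 := (Int.modEq_iff_dvd.1 hcong.symm)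
    obtain ⟨a, ha⟩ := hp1
    have hdposχ := hdpos χ
    have ha0 : 0 ≤ a := by
      by_contra hneg
      push Not at hneg
      have h1 : (charDegree (χ : G → ℂ) : ℤ) ≥ 1 := by exact_mod_cast hdposχ
      nlinarith
    have hdZ : (charDegree (χ : G → ℂ) : ℤ) = a * p + 1 := by linear_combination ha
    have hndχ : ¬ p ∣ charDegree (χ : G → ℂ) := by
      intro h
      have h1 : (p : ℤ) ∣ (charDegree (χ : G → ℂ) : ℤ) := by exact_mod_cast h
      have h2 : (p : ℤ) ∣ 1 := by
        rw [hdZ] at h1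
        have h3 : (p : ℤ) ∣ a * p := dvd_mul_left _ _
        exact (dvd_add_right h3).1 h1
      have h3 : p ∣ 1 := by exact_mod_cast h2
      exact hp'.one_lt.ne' (Nat.dvd_one.1 h3)
    obtain ⟨k', hk'⟩ := exists_cofactor hG χ.2 hndχ
    have hk'Z : (e : ℤ) * (1 + n * p) = (a * p + 1) * k' := by
      have h1 : (e : ℤ) * M = (charDegree (χ : G → ℂ) : ℤ) * k' := by exact_mod_cast hk'
      rw [hMZ, hdZ] at h1
      exact h1
    have hk'0 : 1 ≤ k' := by
      rcases Nat.eq_zero_or_pos k' with h | h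
      · rw [h, mul_zero] at hk'
        have : 0 < e * M := Nat.mul_pos hT.epos (by omega)
        omega
      · exact h
    obtain ⟨b', hb'⟩ : (p : ℤ) ∣ (k' : ℤ) - e := ⟨e * n - a * k', by linear_combination -hk'Z⟩
    have hb'0 : 0 ≤ b' := by
      by_contra hneg
      push Not at hneg
      have h1 : (k' : ℤ) ≥ 1 := by exact_mod_cast hk'0
      have h2 : (e : ℤ) < p := by
        have : e < p := by omega
        exact_mod_cast this
      nlinarith
    have hk'2 : (k' : ℤ) = b' * p + e := by linear_combination hb'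
    rcases num_X (p := p) (e := e) (n := n) (a := a) (b := b') ha0 hb'0 (by exact_mod_cast hT.epos)
      (by exact_mod_cast hen) hpZ (by rw [← hk'2]; linear_combination -hk'Z) with h | h
    · exfalso
      apply hχ1
      have hd1 : (χ : G → ℂ) 1 = 1 := by
        rw [hdc χ]
        have h1 : (charDegree (χ : G → ℂ) : ℤ) = 1 := by rw [hdZ, h]; ring
        have h2 : charDegree (χ : G → ℂ) = 1 := by exact_mod_cast h1
        rw [h2]
        simp
      obtain ⟨ψ, hψ⟩ := Cfsg.Agent.Lib.Char.LinearChars.exists_hom_of_isCharacter_one (hirrc χ) hd1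
      apply Subtype.ext
      rw [hψ, htr1]
      funext g
      rw [PerfectN1.hom_trivial (fun u v => mul_comm u v) hperf ψ g]
      rfl
    · have h1 : (k' : ℤ) = e := by rw [hk'2, h]; ring
      have h2 : k' = e := by exact_mod_cast h1
      rw [h2, mul_comm] at hk'
      exact (Nat.eq_of_mul_eq_mul_right hT.epos hk').symm
  -- the arithmetic
  set S' := ∑ χ ∈ X₁.erase triv, c' χ with hS'
  have hSp : ∑ χ ∈ X₁, c' χ = 1 + S' := by
    rw [← add_sum_erase _ _ htX₁, hctriv]
  have h1 : 1 + M * S' ≤ e * e := by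
    rw [← hdeg]
    have h2 : ∑ χ ∈ X₁, c' χ * charDegree (χ : G → ℂ) ≤ ∑ χ : IrrCharacter G, c' χ * charDegree (χ : G → ℂ) :=
      sum_le_sum_of_subset (subset_univ _)
    refine le_trans ?_ h2
    rw [← add_sum_erase _ _ htX₁, hctriv, one_mul, htriv, Cfsg.Agent.Lib.Blocks.Principal.charDegree_trivChar, ← htriv]
    have h3 : ∑ χ ∈ X₁.erase triv, c' χ * charDegree (χ : G → ℂ) = M * S' := by
      rw [hS', mul_sum]
      refine sum_congr rfl fun χ hχ => ?_
      rw [hdeg_X χ hχ, mul_comm]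
    rw [h3]
  have hS_le : ∑ χ ∈ X, (c' χ : ℤ) * δ χ ≤ ((1 + S' : ℕ) : ℤ) := by
    rw [← hSp, hX₁, sum_filter]
    push_cast
    refine sum_le_sum fun χ hχ => ?_
    rcases hT.signX χ hχ with h | h
    · rw [if_pos h, h, mul_one]
    · rw [if_neg (by rw [h]; norm_num), h]
      have : (0 : ℤ) ≤ c' χ := by positivity
      linarith
  have hCY : (0 : ℤ) ≤ ∑ θ ∈ Y, (c' θ : ℤ) := sum_nonneg fun θ _ => by positivity
  have hhet := hT.het
  have hpZ1 : ((p : ℤ) - 1) = e * t := by
    have h3 : 1 ≤ p := hp'.pos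
    have : ((p - 1 : ℕ) : ℤ) = (e * t : ℕ) := by rw [hhet]
    push_cast [Nat.cast_sub h3] at this
    exact this
  have h2 : p - e ≤ t * (1 + S') := by
    have h3 : (e : ℤ) * ((p : ℤ) - e) ≤ e * (t * ((1 + S' : ℕ) : ℤ)) := by
      have h4 : (e : ℤ) * ((p : ℤ) - e) ≤ ((p : ℤ) - 1) * ∑ χ ∈ X, (c' χ : ℤ) * δ χ := by
        have h5 : (0 : ℤ) ≤ e := by positivity
        nlinarith
      have h5 : ((p : ℤ) - 1) * ∑ χ ∈ X, (c' χ : ℤ) * δ χ ≤ ((p : ℤ) - 1) * ((1 + S' : ℕ) : ℤ) :=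
        mul_le_mul_of_nonneg_left hS_le (by rw [hpZ1]; positivity)
      rw [hpZ1] at h5 h4
      nlinarith
    have h4 : (p : ℤ) - e ≤ t * ((1 + S' : ℕ) : ℤ) :=
      le_of_mul_le_mul_left h3 (by exact_mod_cast hT.epos)
    have h5 : ((p - e : ℕ) : ℤ) ≤ ((t * (1 + S') : ℕ) : ℤ) := by
      have h6 : e ≤ p := by omega
      push_cast [Nat.cast_sub h6]
      push_cast at h4
      exact h4
    exact_mod_cast h5
  have hMp : 2 * p + 1 ≤ M := by rw [hM]; nlinarith
  exact num_final he2 ht hhet h2e hMp h1 h2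

set_option maxHeartbeats 2000000 in
/-- **Theorem C′**. -/
theorem thmCPrime (hperf : commutator G = ⊤) (hord : orderOf x = p) (hcen : ∀ c : G, c * x = x * c → c ∈ zpowers x)
    (P : Sylow p G) (hz : zpowers x = (P : Subgroup G)) (hbig : Nat.card G < p ^ 3) : PSLQuot G p := by
  classical
  have hp' := hp.out
  have hPc : Nat.card P = p := by
    have h1 : Nat.card (P : Subgroup G) = Nat.card (zpowers x) := by rw [hz]
    rw [Nat.card_zpowers, hord] at h1
    exact h1
  have hdvdG : p ∣ Nat.card G := by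
    have h1 := Subgroup.card_subgroup_dvd_card (P : Subgroup G)
    rwa [show Nat.card (P : Subgroup G) = p from hPc] at h1
  have hnot := not_normalizer_le_of_perfect hperf P hdvdG
  have hsyl : ¬ p ^ 2 ∣ Nat.card G := by
    intro h
    have h1 := P.pow_dvd_card_of_pow_dvd_card h
    rw [hPc] at h1
    have h2 := Nat.le_of_dvd hp'.pos h1
    have h3 := hp'.two_le
    nlinarith
  have hL := localData_bot hord hcen hsyl
  have hζ : IsPrimitiveRoot (Complex.exp (2 * Real.pi * Complex.I / p)) p := Complex.isPrimitiveRoot_exp p hp'.ne_zero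
  obtain ⟨e, t, X, Y, δ, ε, b, hT⟩ := exists_scTable hord hcen P hz hζ
  have hN : normalizer ((P : Subgroup G) : Set G) = normalizer (zpowers x : Set G) := by rw [hz]
  have hCc : centralizer ((P : Subgroup G) : Set G) = centralizer (zpowers x : Set G) := by rw [hz]
  -- `e ≥ 2`
  have he2 : 2 ≤ e := by
    by_contra hlt
    have he1 : e = 1 := by
      have := hT.epos
      omega
    apply hnot
    rw [hN, hCc]
    have h1 : normalizer (zpowers x : Set G) = zpowers x := by
      symm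
      refine Subgroup.eq_of_le_of_card_ge le_normalizer ?_
      rw [hT.cardN, he1, Nat.card_zpowers, hord, mul_one]
    rw [h1]
    intro c hc
    rw [Subgroup.mem_centralizer_iff]
    intro y hy
    obtain ⟨k, rfl⟩ := Subgroup.mem_zpowers_iff.1 hc
    obtain ⟨l, rfl⟩ := Subgroup.mem_zpowers_iff.1 hy
    exact (Commute.refl x).zpow_zpow _ _
  have hhet := hT.het
  have hodd : p ≠ 2 := by
    rintro rfl
    have h1 : e * t = 1 := hhet.symm
    have h2 := Nat.eq_one_of_mul_eq_one_right h1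
    omega
  have hM1 : (normalizer (zpowers x : Set G)).index = Nat.card (Sylow p G) := by
    rw [← hN]
    exact (Sylow.card_eq_index_normalizer P).symm
  set M := Nat.card (Sylow p G) with hMdef
  have hGc : Nat.card G = p * e * M := by
    rw [← Subgroup.card_mul_index (normalizer (zpowers x : Set G)), hT.cardN, hM1]
  obtain ⟨n, hn⟩ : ∃ n, M = 1 + n * p := by
    have h1 := card_sylow_modEq_one p G
    have h2 : 1 ≤ M := Nat.card_pos
    have h3 : p ∣ M - 1 := (Nat.modEq_iff_dvd' h2).1 h1.symm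
    obtain ⟨n, hn⟩ := h3
    exact ⟨n, by rw [mul_comm, ← hn]; omega⟩
  have hn0 : n ≠ 0 := by
    rintro rfl
    have hM : M = 1 := by rw [hn]; ring
    rw [hM] at hM1
    have htop : normalizer (zpowers x : Set G) = ⊤ := Subgroup.index_eq_one.1 hM1
    apply hnot
    rw [hN, hCc]
    intro g hg
    have hg' : ∀ h : G, h ∈ normalizer (zpowers x : Set G) := fun h => by rw [htop]; exact mem_top h
    let f : G →* (ZMod p)ˣ := (alphaHom hL).comp ((MonoidHom.id G).codRestrict _ hg')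
    have h1 := PerfectN1.hom_trivial (fun u v => mul_comm u v) hperf f g
    have h2 := (alphaHom_eq_one_iff hL ⟨g, hg' g⟩).1 h1
    rw [Subgroup.mem_centralizer_iff]
    intro y hy
    obtain ⟨k, rfl⟩ := Subgroup.mem_zpowers_iff.1 hy
    have hc : Commute x g := h2.symm
    exact (hc.zpow_left k).eq
  by_cases hn1 : n = 1
  · left
    apply PerfectN1.surj_of_card hperf P hPc
    · rw [← hMdef, hn, hn1]
      ring
    · exact hbig
  have hn2 : 2 ≤ n := by omega
  have hen : e * n < p := by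
    rw [hGc, hn] at hbig
    have h1 : p * (e * (1 + n * p)) < p * (p * p) := by
      calc p * (e * (1 + n * p)) = p * e * (1 + n * p) := by ring
        _ < p ^ 3 := hbig
        _ = p * (p * p) := by ring
    have h2 := Nat.lt_of_mul_lt_mul_left h1
    have h3 : p * (e * n) < p * p := by nlinarith
    exact Nat.lt_of_mul_lt_mul_left h3
  have h2e : 2 * e < p := by nlinarith
  have ht0 : 0 < t := by
    rcases Nat.eq_zero_or_pos t with h | h
    · rw [h, mul_zero] at hhet
      have := hp'.two_le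
      omega
    · exact h
  have ht2 : 2 ≤ t := by
    by_contra hlt
    have h1 : t = 1 := by omega
    rw [h1, mul_one] at hhet
    omega
  rcases hT.sign with hε | hε
  · exact (plus_false hperf hζ hT hε hGc hn hn2 he2 hen ht2).elim
  -- the sign `-`
  right
  have hpZ : (0 : ℤ) < p := by exact_mod_cast hp'.pos
  have hpr : Prime (p : ℤ) := Nat.prime_iff_prime_int.1 hp'
  have hpe : ¬ (p : ℤ) ∣ (e : ℤ) := by
    intro h
    have h1 : p ∣ e := by exact_mod_cast h
    have h2 := Nat.le_of_dvd hT.epos h1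
    omega
  have hMZ : (M : ℤ) = 1 + n * p := by rw [hn]; push_cast; ring
  have hkey : ∀ θ ∈ Y, (charDegree (θ : G → ℂ) : ℤ) = p - e ∧ (p : ℤ) - 1 - e = e * n := by
    intro θ hθ
    obtain ⟨s, hs, hs1⟩ := hT.degY θ hθ
    have hs1' := hs1 hε
    rw [hε] at hs
    have hnd : ¬ p ∣ charDegree (θ : G → ℂ) := by
      intro h
      have h1 : (p : ℤ) ∣ (charDegree (θ : G → ℂ) : ℤ) := by exact_mod_cast h
      rw [hs] at h1
      have h2 := (dvd_add_right (dvd_mul_right _ _)).1 h1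
      rw [neg_one_mul, dvd_neg] at h2
      exact hpe h2
    obtain ⟨k, hk⟩ := exists_cofactor hGc θ.2 hnd
    have hk0 : 1 ≤ k := by
      rcases Nat.eq_zero_or_pos k with h | h
      · rw [h, mul_zero] at hk
        have : 0 < e * M := Nat.mul_pos hT.epos (by omega)
        omega
      · exact h
    have hkZ : (e : ℤ) * (1 + n * p) = (p * s + (-1) * e) * k := by
      have h1 : (e : ℤ) * M = (charDegree (θ : G → ℂ) : ℤ) * k := by exact_mod_cast hk
      rw [hMZ, hs] at h1
      exact h1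
    have hk1 : (p : ℤ) ∣ (k : ℤ) + 1 := by
      have h1 : (p : ℤ) ∣ (e : ℤ) * ((k : ℤ) + 1) := ⟨s * k - e * n, by linear_combination hkZ⟩
      exact (hpr.dvd_or_dvd h1).resolve_left hpe
    obtain ⟨c, hc⟩ := hk1
    have hc1 : 1 ≤ c := by
      by_contra hneg
      push Not at hneg
      have h1 : (k : ℤ) ≥ 1 := by exact_mod_cast hk0
      have h2 : c ≤ 0 := by omega
      nlinarith
    have hk2 : (k : ℤ) = c * p - 1 := by linear_combination hc
    obtain ⟨h1, h2, h3⟩ := num_minus (p := p) (e := e) (n := n) (s := s) (c := c) (by exact_mod_cast hs1') hc1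
      (by exact_mod_cast he2) (by exact_mod_cast h2e) (by exact_mod_cast hen) (by
        rw [← hk2]
        linear_combination -hkZ)
    refine ⟨?_, h3⟩
    rw [hs, h1]
    ring
  obtain ⟨θ₀, hθ₀⟩ : Y.Nonempty := card_pos.1 (by rw [hT.cardY]; omega)
  have hpn : (p : ℤ) - 1 - e = e * n := (hkey θ₀ hθ₀).2
  have hpZ1 : ((p : ℤ) - 1) = e * t := by
    have h3 : 1 ≤ p := hp'.pos
    have : ((p - 1 : ℕ) : ℤ) = (e * t : ℕ) := by rw [hhet]
    push_cast [Nat.cast_sub h3] at this
    exact this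
  have htn : t = n + 1 := by
    have h1 : (e : ℤ) * t = e * (n + 1) := by linear_combination -hpZ1 + hpn
    have h2 : (t : ℤ) = n + 1 := mul_left_cancel₀ (by exact_mod_cast hT.epos.ne') h1
    exact_mod_cast h2
  have hde : (p - e) + e = p := by omega
  have hd : ∀ θ ∈ Y, (θ : G → ℂ) 1 = ((p - e : ℕ) : ℂ) := by
    intro θ hθ
    have h1 := (Cfsg.Agent.Lib.Char.Values.IsCharacter.charDegree_cast
      (Cfsg.Agent.Lib.Char.Basic.isCharacter_of_isIrrCharacter θ.2)).symm
    rw [h1]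
    have h2 : ((p - e : ℕ) : ℤ) = (p : ℤ) - e := by
      push_cast [Nat.cast_sub (show e ≤ p by omega)]
      rfl
    have h3 : charDegree (θ : G → ℂ) = p - e := by
      have h4 := (hkey θ hθ).1
      rw [← h2] at h4
      exact_mod_cast h4
    rw [h3]
  have hMt : (normalizer (zpowers x : Set G)).index = t * (p - e) := by
    rw [hM1]
    have h2 : ((p - e : ℕ) : ℤ) = (p : ℤ) - e := by
      push_cast [Nat.cast_sub (show e ≤ p by omega)]
      rfl
    have h3 : (M : ℤ) = ((t * (p - e) : ℕ) : ℤ) := by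
      push_cast
      rw [h2, hMZ, htn]
      push_cast
      linear_combination -hpn
    exact_mod_cast h3
  obtain ⟨m, F, i1, i2, hF, h21, h3, ⟨ψ⟩⟩ := psl_of_table hζ hodd hT hε hord hcen P hz hde hd hMt (by omega) (Or.inr (by omega))
  exact ⟨m, F, i1, i2, hF, h21, h3, ψ.toMonoidHom, ψ.surjective⟩

end Main

end Cfsg.Agent.Lib.DefectOne
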