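import Mathlib
import Cfsg.Agent.Lib.DefectOne.ThmCPrime
import Cfsg.Agent.Lib.Blocks.Kernel

/-!
# Perfect groups of order less than `p³`: the reduction to a self-centralizing Sylow subgroup
-/

set_option autoImplicit false
set_option linter.unusedSectionVars false

namespace Cfsg.Agent.Lib.DefectOne

open Cfsg Subgroup Finset
open scoped ComplexConjugate Pointwise MatrixGroups

universe u

variable {G : Type u} [Group G] {p : ℕ} [hp : Fact p.Prime]

section Num

lemma num_plusR {p e h n s c : ℤ} (hs : 0 ≤ s) (hc : 0 ≤ c) (he : 1 ≤ e) (hh : 1 ≤ h) (hen : h * e * n < p) (hp0 : 0 < p)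
    (hprod : (p * s + e) * (c * p + h) = h * e * (1 + n * p)) : s = 0 ∨ c = 0 := by
  by_contra hne
  push Not at hne
  have hs1 : 1 ≤ s := by omega
  have hc1 : 1 ≤ c := by omega
  have h1 : s * c * p + s * h + e * c = h * e * n := by
    have h2 : p * (s * c * p + s * h + e * c) = p * (h * e * n) := by linear_combination hprod
    exact mul_left_cancel₀ hp0.ne' h2
  have h3 : 1 ≤ s * c := by nlinarith
  have h4 : p ≤ s * c * p := by nlinarith
  have h5 : 0 ≤ e * c := by nlinarith
  have h6 : 0 ≤ s * h := by nlinarith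
  omega

lemma num_minusR {p e h n s c : ℤ} (hs : 1 ≤ s) (hc : 1 ≤ c) (h2e : 2 * e < p) (h4h : 4 * h < p) (hh : 1 ≤ h) (hen : h * e * n < p)
    (hprod : (p * s - e) * (c * p - h) = h * e * (1 + n * p)) : s = 1 := by
  have hp0 : 0 < p := by omega
  have h1 : s * c * p - s * h - e * c = h * e * n := by
    have h2 : p * (s * c * p - s * h - e * c) = p * (h * e * n) := by linear_combination hprod
    exact mul_left_cancel₀ hp0.ne' h2
  by_contra hne
  have hs2 : 2 ≤ s := by omega
  have hcp : 0 ≤ c * p - h := by nlinarith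
  have h3 : 2 * (c * p - h) ≤ s * (c * p - h) := mul_le_mul_of_nonneg_right hs2 hcp
  have h4 : (2 * p - e) ≤ c * (2 * p - e) := by nlinarith
  have h5 : s * c * p - s * h - e * c = s * (c * p - h) - e * c := by ring
  have h6 : 2 * (c * p - h) - e * c = c * (2 * p - e) - 2 * h := by ring
  omega

end Num

/-- The averages over `H`. -/
lemma eq_of_avg {H : Subgroup G} [Fintype G] [Fintype H] {θ : G → ℂ} (hθ : IsCharacter G θ) {d : ℕ} (hd : θ 1 = d)
    (h : (Nat.card H : ℂ)⁻¹ * ∑ y : H, θ y = d) (y : H) : θ y = d := by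
  classical
  have hHc : (Nat.card H : ℂ) ≠ 0 := by exact_mod_cast Nat.card_pos.ne'
  have h1 : ∑ y : H, θ y = ∑ _y : H, (d : ℂ) := by
    rw [sum_const, card_univ, ← Nat.card_eq_fintype_card, nsmul_eq_mul]
    field_simp at h
    linear_combination h
  have hle : ∀ y : H, ‖θ y‖ ≤ d := by
    intro y
    have h2 := Cfsg.Agent.Lib.Char.Values.IsCharacter.norm_le hθ (y : G)
    rw [hd, Complex.norm_natCast] at h2
    exact h2
  have hre : ∀ y : H, (θ y).re ≤ d := fun y => (Complex.re_le_norm _).trans (hle y)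
  have h2 : ∑ y : H, ((d : ℝ) - (θ y).re) = 0 := by
    have h3 := congrArg Complex.re h1
    simp only [Complex.re_sum, Complex.natCast_re] at h3
    rw [sum_sub_distrib, h3, sub_self]
  have h3 := (sum_eq_zero_iff_of_nonneg (fun y _ => sub_nonneg.2 (hre y))).1 h2 y (mem_univ y)
  have h4 : (θ y).re = d := by linarith
  have h5 : (θ y).im = 0 := by
    have h6 := hle y
    have h7 := Complex.sq_norm (θ y)
    rw [Complex.normSq_apply, h4] at h7
    have hd0 : (0 : ℝ) ≤ d := by positivity
    have h8 : ‖θ y‖ ^ 2 ≤ (d : ℝ) ^ 2 := by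
      exact pow_le_pow_left₀ (norm_nonneg _) h6 2
    nlinarith [mul_self_nonneg (θ y).im]
  apply Complex.ext
  · simpa using h4
  · simpa using h5

section Quotient

variable [Finite G] {x : G} {H : Subgroup G}

/-- The image of a self-centralizing element modulo a normal subgroup containing `H`. -/
lemma quotient_selfCent (hL : LocalData p x H) (P : Sylow p G) (hz : zpowers x = (P : Subgroup G))
    (K : Subgroup G) [K.Normal] (hHK : H ≤ K) (hxK : x ∉ K) (c : G ⧸ K)
    (hc : c * (x : G ⧸ K) = (x : G ⧸ K) * c) : c ∈ zpowers (x : G ⧸ K) := by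
  classical
  letI : Fintype G := Fintype.ofFinite _
  obtain ⟨g, rfl⟩ := QuotientGroup.mk_surjective c
  have hxP : x ∈ (P : Subgroup G) := by rw [← hz]; exact mem_zpowers x
  -- `K ∩ P = 1`
  have hKP : ∀ u ∈ zpowers x, u ∈ K → u = 1 := by
    intro u hu huK
    by_contra hu1
    apply hxK
    obtain ⟨k, hk⟩ := Subgroup.mem_zpowers_iff.1 (mem_zpowers_of_ne hL.ord hu hu1)
    rw [← hk]
    exact zpow_mem huK k
  set L : Subgroup G := K ⊔ (P : Subgroup G) with hL'
  have hPL : (P : Subgroup G) ≤ L := le_sup_right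
  have hgx : x⁻¹ * (g * x * g⁻¹) ∈ K := by
    rw [← QuotientGroup.eq_one_iff]
    simp only [QuotientGroup.mk_mul, QuotientGroup.mk_inv]
    calc (x : G ⧸ K)⁻¹ * ((g : G ⧸ K) * (x : G ⧸ K) * (g : G ⧸ K)⁻¹) =
        (x : G ⧸ K)⁻¹ * (((g : G ⧸ K) * (x : G ⧸ K)) * (g : G ⧸ K)⁻¹) := rfl
      _ = (x : G ⧸ K)⁻¹ * (((x : G ⧸ K) * (g : G ⧸ K)) * (g : G ⧸ K)⁻¹) := by
        have : (g : G ⧸ K) * (x : G ⧸ K) = (x : G ⧸ K) * (g : G ⧸ K) := hc
        rw [this]
      _ = 1 := by group
  have hgxL : g * x * g⁻¹ ∈ L := by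
    have h1 : g * x * g⁻¹ = x * (x⁻¹ * (g * x * g⁻¹)) := by group
    rw [h1]
    exact mul_mem (hPL hxP) ((le_sup_left : K ≤ L) hgx)
  have hQL : ((g • P : Sylow p G) : Subgroup G) ≤ L := by
    intro h hh
    have h1 : ((g • P : Sylow p G) : Subgroup G) = MulAut.conj g • (P : Subgroup G) := Sylow.coe_subgroup_smul
    rw [h1, Subgroup.mem_pointwise_smul_iff_inv_smul_mem] at hh
    rw [← hz] at hh
    obtain ⟨k, hk⟩ := Subgroup.mem_zpowers_iff.1 hh
    have h2 : h = (g * x * g⁻¹) ^ k := by
      rw [conj_zpow, hk]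
      simp [MulAut.smul_def]
      group
    rw [h2]
    exact zpow_mem hgxL k
  obtain ⟨l, hl⟩ := MulAction.exists_smul_eq L (P.subtype hPL) ((g • P).subtype hQL)
  have hlx : (l : G) * x * (l : G)⁻¹ ∈ ((g • P : Sylow p G) : Subgroup G) := by
    have h1 : ((l • (P.subtype hPL) : Sylow p L) : Subgroup L) = MulAut.conj l • ((P.subtype hPL : Sylow p L) : Subgroup L) :=
      Sylow.coe_subgroup_smul
    have h2 : (⟨x, hPL hxP⟩ : L) ∈ ((P.subtype hPL : Sylow p L) : Subgroup L) := by
      rw [Sylow.coe_subtype, Subgroup.mem_subgroupOf]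
      exact hxP
    have h3 := Subgroup.smul_mem_pointwise_smul _ (MulAut.conj l) _ h2
    rw [← h1, hl, Sylow.coe_subtype, Subgroup.mem_subgroupOf] at h3
    simpa [MulAut.smul_def] using h3
  have hg₂ : g⁻¹ * (l : G) * x * (g⁻¹ * (l : G))⁻¹ ∈ (P : Subgroup G) := by
    have h1 : ((g • P : Sylow p G) : Subgroup G) = MulAut.conj g • (P : Subgroup G) := Sylow.coe_subgroup_smul
    rw [h1, Subgroup.mem_pointwise_smul_iff_inv_smul_mem] at hlx
    have h2 : (MulAut.conj g)⁻¹ • ((l : G) * x * (l : G)⁻¹) = g⁻¹ * (l : G) * x * (g⁻¹ * (l : G))⁻¹ := by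
      simp [MulAut.smul_def]
      group
    rwa [h2] at hlx
  -- decompose `l`
  obtain ⟨k₁, hk₁, u, hu, hlu⟩ := Subgroup.mem_sup_of_normal_left.1 l.2
  have hlq : ((l : G) : G ⧸ K) = (u : G ⧸ K) := by
    rw [← hlu, QuotientGroup.mk_mul, (QuotientGroup.eq_one_iff k₁).2 hk₁, one_mul]
  have hu' : u ∈ zpowers x := by rw [hz]; exact hu
  obtain ⟨ku, hku⟩ := Subgroup.mem_zpowers_iff.1 hu'
  have huq : (u : G ⧸ K) = (x : G ⧸ K) ^ ku := by
    rw [← hku, QuotientGroup.mk_zpow]
  set g₂ := g⁻¹ * (l : G) with hg₂def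
  have hg₂q : ((g₂ : G) : G ⧸ K) = (g : G ⧸ K)⁻¹ * (x : G ⧸ K) ^ ku := by
    rw [hg₂def, QuotientGroup.mk_mul, QuotientGroup.mk_inv, hlq, huq]
  have hcomm₂ : ((g₂ : G) : G ⧸ K) * (x : G ⧸ K) = (x : G ⧸ K) * ((g₂ : G) : G ⧸ K) := by
    rw [hg₂q]
    have hc1 : Commute (g : G ⧸ K) (x : G ⧸ K) := hc
    have hc2 : Commute ((g : G ⧸ K)⁻¹) (x : G ⧸ K) := hc1.inv_left
    have hc3 : Commute ((x : G ⧸ K) ^ ku) (x : G ⧸ K) := (Commute.refl _).zpow_left ku
    exact (hc2.mul_left hc3).eq
  have hmem : (g₂ * x * g₂⁻¹) * x⁻¹ ∈ K := by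
    rw [← QuotientGroup.eq_one_iff]
    simp only [QuotientGroup.mk_mul, QuotientGroup.mk_inv]
    rw [hcomm₂]
    group
  have hmem2 : (g₂ * x * g₂⁻¹) * x⁻¹ ∈ zpowers x := by
    rw [hz]
    exact mul_mem hg₂ (inv_mem hxP)
  have h1 := hKP _ hmem2 hmem
  have hg₂c : g₂ * x = x * g₂ := by
    have h2 : g₂ * x * g₂⁻¹ = x := by
      rw [mul_inv_eq_one] at h1
      exact h1
    calc g₂ * x = (g₂ * x * g₂⁻¹) * g₂ := by group
      _ = x * g₂ := by rw [h2]
  obtain ⟨i, y, hy, hg₂i⟩ := hL.decomp g₂ hg₂c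
  have hg₂q2 : ((g₂ : G) : G ⧸ K) = (x : G ⧸ K) ^ i := by
    rw [hg₂i, QuotientGroup.mk_mul, QuotientGroup.mk_pow, (QuotientGroup.eq_one_iff y).2 (hHK hy), mul_one]
  have hfinal : (g : G ⧸ K) = (x : G ⧸ K) ^ ku * ((x : G ⧸ K) ^ i)⁻¹ := by
    rw [← hg₂q2, hg₂q]
    group
  rw [hfinal]
  exact mul_mem (zpow_mem (mem_zpowers _) _) (inv_mem (pow_mem (mem_zpowers _) _))

end Quotient

section Main

variable [Fintype G]

set_option maxHeartbeats 4000000 in
/-- **The reduction.** -/
theorem thmR (hperf : commutator G = ⊤) (P : Sylow p G) (hPn : ¬ (P : Subgroup G).Normal) (hdvd : p ∣ Nat.card G)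
    (hbig : Nat.card G < p ^ 3) : PSLQuot G p := by
  classical
  haveI : Finite (IrrCharacter G) := Cfsg.Agent.Lib.Char.Complete.finite_irr
  letI : Fintype (IrrCharacter G) := Fintype.ofFinite _
  have hp' := hp.out
  set M := Nat.card (Sylow p G) with hMdef
  have hM1 : M ≠ 1 := by
    intro h
    apply hPn
    haveI : Subsingleton (Sylow p G) := by
      obtain ⟨h1, -⟩ := Nat.card_eq_one_iff_unique.1 h
      exact h1
    exact Sylow.normal_of_subsingleton P
  obtain ⟨n, hn⟩ : ∃ n, M = 1 + n * p := by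
    have h1 := card_sylow_modEq_one p G
    have h2 : 1 ≤ M := Nat.card_pos
    have h3 : p ∣ M - 1 := (Nat.modEq_iff_dvd' h2).1 h1.symm
    obtain ⟨n, hn⟩ := h3
    exact ⟨n, by rw [mul_comm, ← hn]; omega⟩
  have hn0 : 1 ≤ n := by
    rcases Nat.eq_zero_or_pos n with h | h
    · rw [h] at hn
      omega
    · exact h
  have hNidx : (normalizer ((P : Subgroup G) : Set G)).index = M := (Sylow.card_eq_index_normalizer P).symm
  have hGN : Nat.card G = Nat.card (normalizer ((P : Subgroup G) : Set G)) * M := by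
    rw [← Subgroup.card_mul_index (normalizer ((P : Subgroup G) : Set G)), hNidx]
  have hMp : p + 1 ≤ M := by
    rw [hn]
    nlinarith
  -- the order of `P`
  have hPc : Nat.card P = p := by
    obtain ⟨k, hk⟩ := IsPGroup.iff_card.1 P.isPGroup'
    have hk0 : k ≠ 0 := by
      rintro rfl
      rw [pow_zero] at hk
      have h1 : (P : Subgroup G) = ⊥ := Subgroup.eq_bot_of_card_eq _ hk
      exact P.ne_bot_of_dvd_card hdvd h1
    have hk1 : k = 1 := by
      by_contra hne
      have hk2 : 2 ≤ k := by omega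
      have h1 : Nat.card (P : Subgroup G) ≤ Nat.card (normalizer ((P : Subgroup G) : Set G)) :=
        Subgroup.card_le_of_le le_normalizer
      have h2 : p ^ 2 ≤ p ^ k := Nat.pow_le_pow_right hp'.pos hk2
      have h3 : p ^ 2 * (p + 1) ≤ Nat.card G := by
        rw [hGN]
        exact Nat.mul_le_mul (h2.trans (hk ▸ h1)) hMp
      have h4 : p ^ 3 ≤ p ^ 2 * (p + 1) := by nlinarith [sq_nonneg p]
      omega
    rw [hk1, pow_one] at hk
    exact hk
  obtain ⟨x, hxP, hx1⟩ : ∃ x ∈ (P : Subgroup G), x ≠ 1 := by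
    by_contra hno
    push Not at hno
    exact P.ne_bot_of_dvd_card hdvd ((Subgroup.eq_bot_iff_forall _).2 hno)
  obtain ⟨hz, H, hL⟩ := exists_localData P hPc hxP hx1
  by_cases hn1 : n = 1
  · left
    exact PerfectN1.surj_of_card hperf P hPc (by rw [← hMdef, hn, hn1]; ring) hbig
  have hn2 : 2 ≤ n := by omega
  letI : Fintype H := Fintype.ofFinite _
  obtain ⟨A, hA⟩ := Cfsg.Agent.Lib.Blocks.ClassIndep.exists_modular p hp'
  have hζ : IsPrimitiveRoot (Complex.exp (2 * Real.pi * Complex.I / p)) p := Complex.isPrimitiveRoot_exp p hp'.ne_zero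
  obtain ⟨e, t, X, Y, δ, ε, b, hT⟩ := exists_pTable hL hA P hz hζ
  set h := Nat.card H with hh
  have hh0 : 1 ≤ h := Nat.card_pos
  have hCcard : Nat.card (centralizer (zpowers x : Set G)) = p * h := card_centralizer hL
  have hCN : centralizer (zpowers x : Set G) ≤ normalizer (zpowers x : Set G) := by
    intro c hc
    rw [mem_normalizer_iff]
    intro u
    have hcu : ∀ v ∈ zpowers x, c * v * c⁻¹ = v := by
      intro v hv
      have := Subgroup.mem_centralizer_iff.1 hc v hv
      rw [← this]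
      group
    constructor
    · intro hu
      rw [hcu u hu]
      exact hu
    · intro hu
      have h1 : u = c⁻¹ * (c * u * c⁻¹) * c := by group
      have h2 : c⁻¹ ∈ centralizer (zpowers x : Set G) := inv_mem hc
      have h3 : c⁻¹ * (c * u * c⁻¹) * c = c * u * c⁻¹ := by
        have := Subgroup.mem_centralizer_iff.1 hc _ hu
        calc c⁻¹ * (c * u * c⁻¹) * c = c⁻¹ * ((c * u * c⁻¹) * c) := by group
          _ = c⁻¹ * (c * (c * u * c⁻¹)) := by rw [this]
          _ = c * u * c⁻¹ := by group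
      rw [h1, h3]
      exact hu
  have hNcard : Nat.card (normalizer (zpowers x : Set G)) = p * h * e := by
    have h1 := Subgroup.card_mul_index ((centralizer (zpowers x : Set G)).subgroupOf (normalizer (zpowers x : Set G)))
    have h3 : Nat.card ((centralizer (zpowers x : Set G)).subgroupOf (normalizer (zpowers x : Set G))) =
        Nat.card (centralizer (zpowers x : Set G)) := Nat.card_congr (Subgroup.subgroupOfEquivOfLe hCN).toEquiv
    have h4 : ((centralizer (zpowers x : Set G)).subgroupOf (normalizer (zpowers x : Set G))).index = e := hT.idx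
    rw [h3, h4, hCcard] at h1
    exact h1.symm
  have hNz : normalizer ((P : Subgroup G) : Set G) = normalizer (zpowers x : Set G) := by rw [hz]
  have hCz : centralizer ((P : Subgroup G) : Set G) = centralizer (zpowers x : Set G) := by rw [hz]
  have hG : Nat.card G = p * h * e * M := by
    rw [hGN, hNz, hNcard]
  have hG' : Nat.card G = p * (h * e) * M := by
    rw [hG]
    ring
  have hnot := not_normalizer_le_of_perfect hperf P hdvd
  have he2 : 2 ≤ e := by
    by_contra hlt
    have he1 : e = 1 := by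
      have := hT.epos
      omega
    apply hnot
    rw [hNz, hCz]
    have h1 : (centralizer (zpowers x : Set G)).relIndex (normalizer (zpowers x : Set G)) = 1 := by
      rw [hT.idx, he1]
    exact Subgroup.relIndex_eq_one.1 h1
  have hhet := hT.het
  have hodd : p ≠ 2 := by
    rintro rfl
    have h1 : e * t = 1 := hhet.symm
    have h2 := Nat.eq_one_of_mul_eq_one_right h1
    omega
  have hen : h * e * n < p := by
    rw [hG, hn] at hbig
    have h1 : p * (h * e * (1 + n * p)) < p * (p * p) := by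
      calc p * (h * e * (1 + n * p)) = p * h * e * (1 + n * p) := by ring
        _ < p ^ 3 := hbig
        _ = p * (p * p) := by ring
    have h2 := Nat.lt_of_mul_lt_mul_left h1
    have h3 : p * (h * e * n) < p * p := by nlinarith
    exact Nat.lt_of_mul_lt_mul_left h3
  have h2e : 2 * e < p := by
    have h1 : 1 * e * 2 ≤ h * e * n := Nat.mul_le_mul (Nat.mul_le_mul_right _ hh0) hn2
    omega
  have h4h : 4 * h < p := by
    have h1 : h * 2 * 2 ≤ h * e * n := Nat.mul_le_mul (Nat.mul_le_mul_left _ he2) hn2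
    omega
  have ht0 : 0 < t := by
    rcases Nat.eq_zero_or_pos t with h0 | h0
    · rw [h0, mul_zero] at hhet
      have := hp'.two_le
      omega
    · exact h0
  have hpZ : (0 : ℤ) < p := by exact_mod_cast hp'.pos
  have hpr : Prime (p : ℤ) := Nat.prime_iff_prime_int.1 hp'
  have helt : e < p := by omega
  have hpe : ¬ (p : ℤ) ∣ (e : ℤ) := by
    intro h0
    have h1 : p ∣ e := by exact_mod_cast h0
    have h2 := Nat.le_of_dvd hT.epos h1
    omega
  have hMZ : (M : ℤ) = 1 + n * p := by rw [hn]; push_cast; ring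
  have hirrc : ∀ χ : IrrCharacter G, IsCharacter G (χ : G → ℂ) := fun χ =>
    Cfsg.Agent.Lib.Char.Basic.isCharacter_of_isIrrCharacter χ.2
  have hdc : ∀ χ : IrrCharacter G, (χ : G → ℂ) 1 = (charDegree (χ : G → ℂ) : ℂ) := fun χ =>
    (Cfsg.Agent.Lib.Char.Values.IsCharacter.charDegree_cast (hirrc χ)).symm
  have hHc : (Nat.card H : ℂ) ≠ 0 := by exact_mod_cast Nat.card_pos.ne'
  -- the average
  have hSS : ∀ θ : G → ℂ, SS H θ (fun _ => 1) 1 = (Nat.card H : ℂ)⁻¹ * ∑ y : H, θ y := by
    intro θ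
    unfold SS idemCoeff
    rw [mul_sum]
    refine sum_congr rfl fun y _ => ?_
    simp
  have hSSnorm : ∀ θ : IrrCharacter G, ‖SS H (θ : G → ℂ) (fun _ => 1) 1‖ ≤ (charDegree (θ : G → ℂ) : ℝ) := by
    intro θ
    rw [hSS, norm_mul, norm_inv, Complex.norm_natCast]
    have h1 : ‖∑ y : H, (θ : G → ℂ) y‖ ≤ ∑ _y : H, (charDegree (θ : G → ℂ) : ℝ) := by
      refine (norm_sum_le _ _).trans (sum_le_sum fun y _ => ?_)
      have h2 := Cfsg.Agent.Lib.Char.Values.IsCharacter.norm_le (hirrc θ) (y : G)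
      rw [hdc θ, Complex.norm_natCast] at h2
      exact h2
    rw [sum_const, card_univ, ← Nat.card_eq_fintype_card, nsmul_eq_mul] at h1
    have hpos : (0 : ℝ) < Nat.card H := by exact_mod_cast Nat.card_pos
    calc (Nat.card H : ℝ)⁻¹ * ‖∑ y : H, (θ : G → ℂ) y‖ ≤ (Nat.card H : ℝ)⁻¹ * ((Nat.card H : ℝ) * (charDegree (θ : G → ℂ) : ℝ)) :=
          mul_le_mul_of_nonneg_left h1 (by positivity)
      _ = _ := by field_simp
  have hex : ∃ θ ∈ Y, SS H (θ : G → ℂ) (fun _ => 1) 1 = (charDegree (θ : G → ℂ) : ℂ) := by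
    rcases hT.sign with hε | hε
    · -- the sign `+`
      by_contra hno
      push Not at hno
      have hall : ∀ θ ∈ Y, charDegree (θ : G → ℂ) = e * M := by
        intro θ hθ
        obtain ⟨m, hm, -⟩ := hT.avgY θ hθ
        rw [hε] at hm
        have hcong := hT.degY θ hθ
        rw [hε, one_mul] at hcong
        obtain ⟨s, hs⟩ : (p : ℤ) ∣ (charDegree (θ : G → ℂ) : ℤ) - e := Int.modEq_iff_dvd.1 hcong.symm
        have hs2 : (charDegree (θ : G → ℂ) : ℤ) = p * s + e := by linear_combination hs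
        have hs0 : 0 ≤ s := by
          by_contra hneg
          push Not at hneg
          have h1 : (0 : ℤ) ≤ charDegree (θ : G → ℂ) := by positivity
          have h2 : (e : ℤ) < p := by exact_mod_cast helt
          nlinarith
        have hnd : ¬ p ∣ charDegree (θ : G → ℂ) := by
          intro h0
          have h1 : (p : ℤ) ∣ (charDegree (θ : G → ℂ) : ℤ) := by exact_mod_cast h0
          rw [hs2] at h1
          exact hpe ((dvd_add_right (dvd_mul_right _ _)).1 h1)
        obtain ⟨k, hk⟩ := exists_cofactor hG' θ.2 hnd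
        have hk0 : 1 ≤ k := by
          rcases Nat.eq_zero_or_pos k with h0 | h0
          · rw [h0, mul_zero] at hk
            have : 0 < h * e * M := Nat.mul_pos (Nat.mul_pos hh0 hT.epos) (by omega)
            omega
          · exact h0
        have hkZ : ((h : ℤ) * e) * (1 + n * p) = (p * s + e) * k := by
          have h1 : ((h : ℤ) * e) * M = (charDegree (θ : G → ℂ) : ℤ) * k := by exact_mod_cast hk
          rw [hMZ, hs2] at h1
          exact h1
        have hk1 : (p : ℤ) ∣ (k : ℤ) - h := by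
          have h1 : (p : ℤ) ∣ (e : ℤ) * ((k : ℤ) - h) := ⟨h * e * n - s * k, by linear_combination -hkZ⟩
          exact (hpr.dvd_or_dvd h1).resolve_left hpe
        obtain ⟨c, hc⟩ := hk1
        have hc0 : 0 ≤ c := by
          by_contra hneg
          push Not at hneg
          have h1 : (k : ℤ) ≥ 1 := by exact_mod_cast hk0
          have h2 : (h : ℤ) < p := by
            have : h < p := by omega
            exact_mod_cast this
          nlinarith
        have hk2 : (k : ℤ) = c * p + h := by linear_combination hc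
        rcases num_plusR (p := p) (e := e) (h := h) (n := n) (s := s) (c := c) hs0 hc0 (by exact_mod_cast hT.epos)
          (by exact_mod_cast hh0) (by exact_mod_cast hen) hpZ (by rw [← hk2]; linear_combination -hkZ) with h0 | h0
        · -- `s = 0`: contradiction with `hno`
          exfalso
          apply hno θ hθ
          have hd : (charDegree (θ : G → ℂ) : ℤ) = e := by rw [hs2, h0]; ring
          have hm' : SS H (θ : G → ℂ) (fun _ => 1) 1 = (p : ℂ) * m + e := by
            rw [hm]
            simp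
          have hnormm := hSSnorm θ
          rw [hm'] at hnormm
          have hm0 : m = 0 := by
            by_contra hmne
            have h1 : (1 : ℝ) ≤ m := by exact_mod_cast Nat.one_le_iff_ne_zero.2 hmne
            have h2 : ‖(p : ℂ) * m + e‖ = (p : ℝ) * m + e := by
              have h3 : (p : ℂ) * m + e = (((p * m + e : ℕ)) : ℂ) := by push_cast; ring
              rw [h3, Complex.norm_natCast]
              push_cast
              ring
            rw [h2] at hnormm
            have h3 : (charDegree (θ : G → ℂ) : ℝ) = e := by exact_mod_cast hd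
            rw [h3] at hnormm
            have h4 : (0 : ℝ) < p := by exact_mod_cast hp'.pos
            nlinarith
          rw [hm', hm0]
          have h5 : charDegree (θ : G → ℂ) = e := by exact_mod_cast hd
          rw [h5]
          simp
        · have h1 : (k : ℤ) = h := by rw [hk2, h0]; ring
          have h2 : k = h := by exact_mod_cast h1
          rw [h2] at hk
          have h3 : h * (e * M) = h * charDegree (θ : G → ℂ) := by
            rw [← mul_assoc, hk, mul_comm]
          exact (Nat.eq_of_mul_eq_mul_left hh0 h3).symm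
      -- the sum of squares
      have h3 := Cfsg.Agent.Lib.Char.CompleteCor.sum_sq_degrees (G := G)
      have h4 : ∑ χ : IrrCharacter G, charDegree (χ : G → ℂ) ^ 2 = Nat.card G := by
        have h5 : ∑ χ : IrrCharacter G, ((charDegree (χ : G → ℂ) : ℂ)) ^ 2 = (Nat.card G : ℂ) := by
          rw [← h3]
          exact sum_congr rfl fun χ _ => by rw [hdc χ]
        exact_mod_cast h5
      have h5 : ∑ χ ∈ Y, charDegree (χ : G → ℂ) ^ 2 ≤ ∑ χ : IrrCharacter G, charDegree (χ : G → ℂ) ^ 2 :=
        sum_le_sum_of_subset (subset_univ _)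
      rw [h4, hG, sum_congr rfl (fun θ hθ => by rw [hall θ hθ]), sum_const, hT.cardY, smul_eq_mul] at h5
      have hMp2 : 2 * p + 1 ≤ M := by rw [hn]; nlinarith
      have hMpos : 0 < M := by omega
      have hep : 0 < e := hT.epos
      have h6 : (e * M) * (t * (e * M)) ≤ (e * M) * (p * h) := by
        calc (e * M) * (t * (e * M)) = t * (e * M) ^ 2 := by ring
          _ ≤ p * h * e * M := h5
          _ = (e * M) * (p * h) := by ring
      have h7 : t * (e * M) ≤ p * h := Nat.le_of_mul_le_mul_left h6 (Nat.mul_pos hep hMpos)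
      have h8 : (p - 1) * M ≤ p * h := by
        rw [hhet]
        calc e * t * M = t * (e * M) := by ring
          _ ≤ p * h := h7
      obtain ⟨q, hq⟩ : ∃ q, p = q + 1 := ⟨p - 1, by have := hp'.pos; omega⟩
      rw [hq] at h8 hMp2 h4h
      simp only [Nat.add_sub_cancel] at h8
      nlinarith
    · -- the sign `-`
      obtain ⟨θ, hθ⟩ : Y.Nonempty := card_pos.1 (by rw [hT.cardY]; omega)
      refine ⟨θ, hθ, ?_⟩
      obtain ⟨m, hm, hm1⟩ := hT.avgY θ hθ
      have hm1' := hm1 hε
      rw [hε] at hm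
      have hcong := hT.degY θ hθ
      rw [hε] at hcong
      obtain ⟨s, hs⟩ : (p : ℤ) ∣ (charDegree (θ : G → ℂ) : ℤ) - ((-1) * e) := Int.modEq_iff_dvd.1 hcong.symm
      have hs2 : (charDegree (θ : G → ℂ) : ℤ) = p * s - e := by linear_combination hs
      have hdpos : 0 < charDegree (θ : G → ℂ) := by
        obtain ⟨d', hd', h1⟩ := Cfsg.Agent.Lib.Char.Ortho.irr_degree_pos θ.2
        have h2 := hdc θ
        rw [h1] at h2
        have h3 : d' = charDegree (θ : G → ℂ) := by exact_mod_cast h2
        omega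
      have hs1 : 1 ≤ s := by
        by_contra hneg
        have h2 : s ≤ 0 := by omega
        have h3 : (1 : ℤ) ≤ charDegree (θ : G → ℂ) := by exact_mod_cast hdpos
        have h4 : (0 : ℤ) < e := by exact_mod_cast hT.epos
        nlinarith
      have hnd : ¬ p ∣ charDegree (θ : G → ℂ) := by
        intro h0
        have h1 : (p : ℤ) ∣ (charDegree (θ : G → ℂ) : ℤ) := by exact_mod_cast h0
        apply hpe
        have h2 : (e : ℤ) = p * s - (charDegree (θ : G → ℂ) : ℤ) := by linear_combination hs2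
        rw [h2]
        exact dvd_sub (dvd_mul_right _ _) h1
      obtain ⟨k, hk⟩ := exists_cofactor hG' θ.2 hnd
      have hk0 : 1 ≤ k := by
        rcases Nat.eq_zero_or_pos k with h0 | h0
        · rw [h0, mul_zero] at hk
          have : 0 < h * e * M := Nat.mul_pos (Nat.mul_pos hh0 hT.epos) (by omega)
          omega
        · exact h0
      have hkZ : ((h : ℤ) * e) * (1 + n * p) = (p * s - e) * k := by
        have h1 : ((h : ℤ) * e) * M = (charDegree (θ : G → ℂ) : ℤ) * k := by exact_mod_cast hk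
        rw [hMZ, hs2] at h1
        exact h1
      have hk1 : (p : ℤ) ∣ (k : ℤ) + h := by
        have h1 : (p : ℤ) ∣ (e : ℤ) * ((k : ℤ) + h) := ⟨s * k - h * e * n, by linear_combination hkZ⟩
        exact (hpr.dvd_or_dvd h1).resolve_left hpe
      obtain ⟨c, hc⟩ := hk1
      have hc1 : 1 ≤ c := by
        by_contra hneg
        have h2 : c ≤ 0 := by omega
        have h1 : (k : ℤ) ≥ 1 := by exact_mod_cast hk0
        have h3 : (0 : ℤ) ≤ h := by positivity
        nlinarith
      have hk2 : (k : ℤ) = c * p - h := by linear_combination hc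
      have hs_one := num_minusR (p := p) (e := e) (h := h) (n := n) (s := s) (c := c) hs1 hc1 (by exact_mod_cast h2e)
        (by exact_mod_cast h4h) (by exact_mod_cast hh0) (by exact_mod_cast hen) (by rw [← hk2]; linear_combination -hkZ)
      have hd : (charDegree (θ : G → ℂ) : ℤ) = p - e := by rw [hs2, hs_one]; ring
      have hnormm := hSSnorm θ
      rw [hm] at hnormm
      have hm_one : m = 1 := by
        by_contra hmne
        have hm2 : 2 ≤ m := by omega
        have h2 : ‖(p : ℂ) * m + (((-1 : ℤ) : ℂ)) * e‖ = (p : ℝ) * m - e := by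
          have h3 : e ≤ p * m := by nlinarith
          have h4 : (p : ℂ) * m + (((-1 : ℤ) : ℂ)) * e = (((p * m - e : ℕ)) : ℂ) := by
            push_cast [Nat.cast_sub h3]
            ring
          rw [h4, Complex.norm_natCast]
          push_cast [Nat.cast_sub h3]
          ring
        rw [h2] at hnormm
        have h3 : (charDegree (θ : G → ℂ) : ℝ) = (p : ℝ) - e := by exact_mod_cast hd
        rw [h3] at hnormm
        have h4 : (0 : ℝ) < p := by exact_mod_cast hp'.pos
        have h5 : (2 : ℝ) ≤ m := by exact_mod_cast hm2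
        nlinarith
      rw [hm, hm_one]
      have h5 : ((charDegree (θ : G → ℂ) : ℤ) : ℂ) = ((p : ℤ) - (e : ℤ) : ℤ) := by rw [hd]
      push_cast at h5
      rw [h5]
      push_cast
      ring
  obtain ⟨θ₀, hθ₀, hθSS⟩ := hex
  set d := charDegree (θ₀ : G → ℂ) with hd
  have hyd : ∀ y : H, (θ₀ : G → ℂ) y = d := by
    intro y
    refine eq_of_avg (hirrc θ₀) (hdc θ₀) ?_ y
    rw [← hSS]
    exact hθSS
  obtain ⟨K₁, hK₁n, hK₁⟩ := Cfsg.Agent.Lib.Blocks.Kernel.exists_ker_of_irr θ₀.2
  haveI := hK₁n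
  have hHK : H ≤ K₁ := by
    intro y hy
    rw [hK₁, hdc θ₀]
    exact hyd ⟨y, hy⟩
  have hxK : x ∉ K₁ := by
    intro hxK
    have hval : ∀ i ∈ univ.erase (0 : ZMod p), (θ₀ : G → ℂ) (XX x i) = d := by
      intro i _
      have h1 : XX x i ∈ K₁ := pow_mem hxK _
      rw [(hK₁ _).1 h1, hdc θ₀]
    have h1 : ∀ i ∈ univ.erase (0 : ZMod p), (θ₀ : G → ℂ) (XX x i) = (ε : ℂ) * perEta (Complex.exp (2 * Real.pi * Complex.I / p)) e (b θ₀) i := by
      intro i hi
      have h2 := hT.valY θ₀ hθ₀ i (mem_erase.1 hi).1 1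
      simpa using h2
    have h2 : ∑ i ∈ univ.erase (0 : ZMod p), (θ₀ : G → ℂ) (XX x i) = -((ε : ℂ) * e) := by
      rw [sum_congr rfl h1, ← mul_sum, sum_perEta hζ, hT.cardF θ₀ hθ₀]
      ring
    rw [sum_congr rfl hval, sum_const, card_erase_of_mem (mem_univ _), card_univ, ZMod.card, nsmul_eq_mul] at h2
    have h3 : ((p - 1 : ℕ) : ℤ) * d = -(ε * e) := by exact_mod_cast h2
    have hd0 : 1 ≤ d := by
      obtain ⟨d', hd', h4⟩ := Cfsg.Agent.Lib.Char.Ortho.irr_degree_pos θ₀.2
      have h5 := hdc θ₀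
      rw [h4] at h5
      have h6 : d' = d := by exact_mod_cast h5
      omega
    have h4 : (p - 1) * 1 ≤ (p - 1) * d := Nat.mul_le_mul_left _ hd0
    rcases hT.sign with hε | hε
    · rw [hε] at h3
      have h5 : (0 : ℤ) ≤ ((p - 1 : ℕ) : ℤ) * d := by positivity
      have h6 : (0 : ℤ) < e := by exact_mod_cast hT.epos
      nlinarith
    · rw [hε] at h3
      have h5 : (p - 1) * d = e := by
        have h6 : ((p - 1 : ℕ) : ℤ) * d = e := by rw [h3]; ring
        exact_mod_cast h6
      omega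
  -- the quotient
  letI : Fintype (G ⧸ K₁) := Fintype.ofFinite _
  let π : G →* G ⧸ K₁ := QuotientGroup.mk' K₁
  have hπ : Function.Surjective π := QuotientGroup.mk'_surjective K₁
  have hperf₁ : commutator (G ⧸ K₁) = ⊤ := PerfectN1.perfect_of_surjective hπ hperf
  have hord₁ : orderOf (x : G ⧸ K₁) = p := by
    refine orderOf_eq_prime ?_ ?_
    · have hxp : x ^ p = 1 := by
        have := pow_orderOf_eq_one x
        rwa [hL.ord] at this
      rw [← QuotientGroup.mk_pow, hxp]
      rfl
    · intro h0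
      exact hxK ((QuotientGroup.eq_one_iff x).1 h0)
  have hz₁ : zpowers (x : G ⧸ K₁) = ((P.mapSurjective hπ : Sylow p (G ⧸ K₁)) : Subgroup (G ⧸ K₁)) := by
    rw [Sylow.coe_mapSurjective, ← hz, MonoidHom.map_zpowers]
    rfl
  have hbig₁ : Nat.card (G ⧸ K₁) < p ^ 3 :=
    lt_of_le_of_lt (Nat.card_le_card_of_surjective π hπ) hbig
  have hres := thmCPrime hperf₁ hord₁ (fun c hc => quotient_selfCent hL P hz K₁ hHK hxK c hc) (P.mapSurjective hπ) hz₁ hbig₁
  rcases hres with ⟨h3, f, hf⟩ | ⟨m, F, i1, i2, hF, h21, h3, f, hf⟩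
  · exact Or.inl ⟨h3, f.comp π, hf.comp hπ⟩
  · exact Or.inr ⟨m, F, i1, i2, hF, h21, h3, f.comp π, hf.comp hπ⟩

end Main

end Cfsg.Agent.Lib.DefectOne
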