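import Mathlib
import Cfsg.Agent.Lib.DefectOne.ThmR
import Cfsg.Agent.Lib.PSL2.DicksonCor

/-!
# From the surjections onto `PSL(2, F)` to isomorphisms
-/

set_option autoImplicit false
set_option linter.unusedSectionVars false

namespace Cfsg.Agent.Lib.DefectOne

open Cfsg Subgroup Finset
open scoped MatrixGroups

universe u

section Char2

variable (F : Type) [Field F] [Fintype F]

/-- In characteristic two `SL(2, F)` and `PSL(2, F)` agree. -/
theorem sl_equiv_psl {m : ℕ} (hm : 1 ≤ m) (hF : Fintype.card F = 2 ^ m) : Nonempty (SL(2, F) ≃* PSL(2, F)) := by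
  have h1 : Nat.card (Subgroup.center SL(2, F)) = 1 := by
    rw [Cfsg.Agent.Lib.PSL2.DicksonCor.dd_eq_card_center]
    unfold Cfsg.Agent.Lib.PSL2.DicksonCor.dd
    rw [hF]
    obtain ⟨k, rfl⟩ : ∃ k, m = k + 1 := ⟨m - 1, by omega⟩
    have h2 : 2 ^ (k + 1) - 1 = 2 * (2 ^ k - 1) + 1 := by
      have : 1 ≤ 2 ^ k := Nat.one_le_two_pow
      rw [pow_succ]
      omega
    rw [h2]
    simp
  have h2 : Subgroup.center SL(2, F) = ⊥ := Subgroup.eq_bot_of_card_eq _ h1
  have e1 : PSL(2, F) ≃* (SL(2, F) ⧸ (⊥ : Subgroup SL(2, F))) := QuotientGroup.quotientMulEquivOfEq h2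
  exact ⟨(e1.trans QuotientGroup.quotientBot).symm⟩

end Char2

variable {G : Type u} [Group G] [Finite G] {p : ℕ} [hp : Fact p.Prime]

/-- A surjection with trivial kernel. -/
lemma equiv_of_surj {F : Type} [Field F] {f : G →* PSL(2, F)} (hf : Function.Surjective f) (hk : f.ker = ⊥) :
    Nonempty (G ≃* PSL(2, F)) :=
  ⟨MulEquiv.ofBijective f ⟨(MonoidHom.ker_eq_bot_iff f).1 hk, hf⟩⟩

/-- The order of `PSL(2, F)` in the two cases. -/
lemma card_psl_zmod (h3 : 3 < p) : Nat.card PSL(2, ZMod p) * 2 = p * (p ^ 2 - 1) := by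
  have h1 := Cfsg.Agent.Lib.PSL2.DicksonCor.card_PSL2_mul_dd (ZMod p)
  rw [ZMod.card] at h1
  have h2 : Cfsg.Agent.Lib.PSL2.DicksonCor.dd (ZMod p) = 2 := by
    unfold Cfsg.Agent.Lib.PSL2.DicksonCor.dd
    rw [ZMod.card]
    apply Nat.gcd_eq_left
    have := hp.out.eq_two_or_odd
    omega
  rwa [h2] at h1

lemma card_psl_two {F : Type} [Field F] [Fintype F] {m : ℕ} (hm : 1 ≤ m) (hF : Fintype.card F = 2 ^ m) :
    Nat.card PSL(2, F) = 2 ^ m * ((2 ^ m) ^ 2 - 1) := by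
  have h1 := Cfsg.Agent.Lib.PSL2.DicksonCor.card_PSL2_mul_dd F
  have h2 : Cfsg.Agent.Lib.PSL2.DicksonCor.dd F = 1 := by
    unfold Cfsg.Agent.Lib.PSL2.DicksonCor.dd
    rw [hF]
    obtain ⟨k, rfl⟩ : ∃ k, m = k + 1 := ⟨m - 1, by omega⟩
    have h2 : 2 ^ (k + 1) - 1 = 2 * (2 ^ k - 1) + 1 := by
      have : 1 ≤ 2 ^ k := Nat.one_le_two_pow
      rw [pow_succ]
      omega
    rw [h2]
    simp
  rw [h2, mul_one, hF] at h1
  exact h1

/-- The kernel has order at most two. -/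
lemma card_ker_le {H : Type*} [Group H] [Finite H] {f : G →* H} (hf : Function.Surjective f) :
    Nat.card f.ker * Nat.card H = Nat.card G := by
  have h1 := Subgroup.card_mul_index f.ker
  rw [Subgroup.index_ker, MonoidHom.range_eq_top.2 hf, Subgroup.card_top] at h1
  exact h1

end Cfsg.Agent.Lib.DefectOne
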