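import Mathlib
import Cfsg.Agent.Lib.DefectOne.ThmCPrime
import Cfsg.Agent.Lib.DefectOne.CharDesign

/-!
# The class product count, and the third moment for a faithful exceptional character of degree `p - 2`
-/

set_option autoImplicit false
set_option linter.unusedSectionVars false

namespace Cfsg.Agent.Lib.DefectOne

open Cfsg Subgroup Finset Cfsg.Agent.Lib.Blocks.Local Cfsg.Agent.Lib.Blocks.Central
open scoped ComplexConjugate

universe u

section Count

variable {G : Type u} [Group G] [Fintype G]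

/-- The double average over conjugates. -/
lemma sum_two_conj (χ : IrrCharacter G) (u v g : G) :
    (χ : G → ℂ) 1 ^ 2 * ∑ a : G, ∑ b : G, (χ : G → ℂ) (a * u * a⁻¹ * (b * v * b⁻¹) * g) =
      (Nat.card G : ℂ) ^ 2 * ((χ : G → ℂ) u * (χ : G → ℂ) v * (χ : G → ℂ) g) := by
  have hcl := Cfsg.Agent.Lib.Char.CompleteCor.isIrr_classFunction χ.2
  have hcyc : ∀ A B : G, (χ : G → ℂ) (A * B) = (χ : G → ℂ) (B * A) := by
    intro A B
    have h1 := hcl (B * A) A
    rw [show A * (B * A) * A⁻¹ = A * B by group] at h1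
    exact h1
  have h1 : ∀ a : G, (χ : G → ℂ) 1 * ∑ b : G, (χ : G → ℂ) (a * u * a⁻¹ * (b * v * b⁻¹) * g) =
      (Nat.card G : ℂ) * ((χ : G → ℂ) v * (χ : G → ℂ) (a * u * a⁻¹ * g)) := by
    intro a
    have h2 := Cfsg.Agent.Lib.Char.ClassMul.irr_one_mul_sum χ v (g * (a * u * a⁻¹))
    have h3 : ∀ b : G, (χ : G → ℂ) (a * u * a⁻¹ * (b * v * b⁻¹) * g) = (χ : G → ℂ) (b * v * b⁻¹ * (g * (a * u * a⁻¹))) := by
      intro b
      rw [hcyc (a * u * a⁻¹ * (b * v * b⁻¹)) g, ← mul_assoc g, hcyc (g * (a * u * a⁻¹)) (b * v * b⁻¹)]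
    simp_rw [h3]
    rw [h2, hcyc g]
  have h2 := Cfsg.Agent.Lib.Char.ClassMul.irr_one_mul_sum χ u g
  calc (χ : G → ℂ) 1 ^ 2 * ∑ a : G, ∑ b : G, (χ : G → ℂ) (a * u * a⁻¹ * (b * v * b⁻¹) * g)
      = (χ : G → ℂ) 1 * ∑ a : G, ((χ : G → ℂ) 1 * ∑ b : G, (χ : G → ℂ) (a * u * a⁻¹ * (b * v * b⁻¹) * g)) := by
        rw [← mul_sum, pow_two, mul_assoc]
    _ = (Nat.card G : ℂ) * (χ : G → ℂ) v * ((χ : G → ℂ) 1 * ∑ a : G, (χ : G → ℂ) (a * u * a⁻¹ * g)) := by
        simp_rw [h1]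
        rw [← mul_sum, ← mul_sum]
        ring
    _ = _ := by
        rw [h2]
        ring

variable [Fintype (IrrCharacter G)] [DecidableEq G]

/-- **The class product count.** -/
theorem count_formula (u v g : G) :
    ((univ.filter (fun ab : G × G => ab.1 * u * ab.1⁻¹ * (ab.2 * v * ab.2⁻¹) * g = 1)).card : ℂ) =
      (Nat.card G : ℂ) * ∑ χ : IrrCharacter G, (χ : G → ℂ) u * (χ : G → ℂ) v * (χ : G → ℂ) g / (χ : G → ℂ) 1 := by
  have hG : (Nat.card G : ℂ) ≠ 0 := by exact_mod_cast Nat.card_pos.ne'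
  have hreg : ∀ w : G, (if w = 1 then (Nat.card G : ℂ) else 0) = ∑ χ : IrrCharacter G, (χ : G → ℂ) 1 * (χ : G → ℂ) w := by
    intro w
    rw [← Cfsg.Agent.Lib.Char.CompleteCor.regular_character w, Cfsg.Agent.Lib.Char.CompleteCor.regular_character_eq_sum]
    simp [Finset.sum_apply]
  have h1 : (Nat.card G : ℂ) * ((univ.filter (fun ab : G × G => ab.1 * u * ab.1⁻¹ * (ab.2 * v * ab.2⁻¹) * g = 1)).card : ℂ) =
      ∑ a : G, ∑ b : G, ∑ χ : IrrCharacter G, (χ : G → ℂ) 1 * (χ : G → ℂ) (a * u * a⁻¹ * (b * v * b⁻¹) * g) := by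
    simp_rw [← hreg]
    rw [← Finset.sum_product', card_filter]
    push_cast
    rw [mul_sum]
    refine sum_congr rfl fun ab _ => ?_
    split_ifs <;> simp
  have h2 : ∀ χ : IrrCharacter G, (χ : G → ℂ) 1 * ∑ a : G, ∑ b : G, (χ : G → ℂ) (a * u * a⁻¹ * (b * v * b⁻¹) * g) =
      (Nat.card G : ℂ) ^ 2 * ((χ : G → ℂ) u * (χ : G → ℂ) v * (χ : G → ℂ) g / (χ : G → ℂ) 1) := by
    intro χ
    have h0 := Cfsg.Agent.Lib.Char.Ortho.irr_apply_one_ne_zero χ.2
    have h3 := sum_two_conj χ u v g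
    field_simp
    linear_combination h3
  apply mul_left_cancel₀ hG
  rw [h1]
  have h3 : ∑ a : G, ∑ b : G, ∑ χ : IrrCharacter G, (χ : G → ℂ) 1 * (χ : G → ℂ) (a * u * a⁻¹ * (b * v * b⁻¹) * g) =
      ∑ χ : IrrCharacter G, (χ : G → ℂ) 1 * ∑ a : G, ∑ b : G, (χ : G → ℂ) (a * u * a⁻¹ * (b * v * b⁻¹) * g) := by
    simp_rw [mul_sum]
    calc ∑ a : G, ∑ b : G, ∑ χ : IrrCharacter G, (χ : G → ℂ) 1 * (χ : G → ℂ) (a * u * a⁻¹ * (b * v * b⁻¹) * g)
        = ∑ a : G, ∑ χ : IrrCharacter G, ∑ b : G, (χ : G → ℂ) 1 * (χ : G → ℂ) (a * u * a⁻¹ * (b * v * b⁻¹) * g) :=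
          sum_congr rfl fun a _ => sum_comm
      _ = _ := sum_comm
  rw [h3, sum_congr rfl (fun χ _ => h2 χ), ← mul_sum]
  ring

end Count

section Sing

variable {G : Type u} [Group G] [Fintype G] {p : ℕ} [hp : Fact p.Prime] {x : G}

/-- The sum of a class function over the `p`-singular elements, if the Sylow subgroup is of order `p`
and self-centralizing. -/
theorem sum_singular (hord : orderOf x = p) (hcen : ∀ c : G, c * x = x * c → c ∈ zpowers x)
    (P : Sylow p G) (hz : zpowers x = (P : Subgroup G)) {f : G → ℂ} (hf : IsClassFunction G f) :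
    ∑ g ∈ (univ.filter (fun g : G => p ∣ orderOf g)), f g =
      (Nat.card (Sylow p G) : ℂ) * ∑ i ∈ univ.erase (0 : ZMod p), f (XX x i) := by
  classical
  have hp' := hp.out
  letI : Fintype (Sylow p G) := Fintype.ofFinite _
  have hPc : Nat.card P = p := by
    have h1 : Nat.card (P : Subgroup G) = Nat.card (zpowers x) := by rw [hz]
    rw [Nat.card_zpowers, hord] at h1
    exact h1
  let S : Sylow p G → Finset G := fun Q => univ.filter (fun g => g ∈ (Q : Subgroup G) ∧ g ≠ 1)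
  have hQcard : ∀ Q : Sylow p G, Nat.card Q = p := fun Q => (Nat.card_congr (Q.equiv P).toEquiv).trans hPc
  have hordQ : ∀ Q : Sylow p G, ∀ g ∈ (Q : Subgroup G), g ≠ 1 → orderOf g = p := by
    intro Q g hg hg1
    have h1 := Subgroup.orderOf_dvd_natCard (Q : Subgroup G) hg
    rw [show Nat.card (Q : Subgroup G) = p from hQcard Q] at h1
    rcases (Nat.dvd_prime hp').1 h1 with h2 | h2
    · exact absurd (orderOf_eq_one_iff.1 h2) hg1
    · exact h2
  have hconj : ∀ Q : Sylow p G, ∃ c : G, ∀ w : G, w ∈ (Q : Subgroup G) ↔ c⁻¹ * w * c ∈ zpowers x := by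
    intro Q
    obtain ⟨c, hc⟩ := MulAction.exists_smul_eq G P Q
    refine ⟨c, fun w => ?_⟩
    rw [hz, ← hc, Sylow.coe_subgroup_smul, Subgroup.mem_pointwise_smul_iff_inv_smul_mem]
    rw [MulAut.smul_def, MulAut.conj_inv_apply]
  have hdisj : ((univ : Finset (Sylow p G)) : Set (Sylow p G)).PairwiseDisjoint S := by
    intro Q _ Q' _ hne
    refine Finset.disjoint_left.2 ?_
    intro g hg hg'
    simp only [S, mem_filter, mem_univ, true_and] at hg hg'
    apply hne
    apply Sylow.ext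
    have h1 : zpowers g = (Q : Subgroup G) := by
      refine Subgroup.eq_of_le_of_card_ge ((zpowers_le).2 hg.1) ?_
      rw [Nat.card_zpowers, hordQ Q g hg.1 hg.2]
      exact (hQcard Q).le
    have h2 : zpowers g = (Q' : Subgroup G) := by
      refine Subgroup.eq_of_le_of_card_ge ((zpowers_le).2 hg'.1) ?_
      rw [Nat.card_zpowers, hordQ Q g hg.1 hg.2]
      exact (hQcard Q').le
    rw [← h1, h2]
  have hU : univ.filter (fun g : G => p ∣ orderOf g) = univ.biUnion S := by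
    ext g
    simp only [mem_filter, mem_univ, true_and, mem_biUnion, S]
    constructor
    · intro hd
      obtain ⟨m, hm⟩ := hd
      have hopos : 0 < orderOf g := orderOf_pos g
      have hm0 : 0 < m := by
        rcases Nat.eq_zero_or_pos m with h | h
        · rw [h, mul_zero] at hm
          omega
        · exact h
      set w := g ^ m with hw
      have hword : orderOf w = p := by
        rw [hw, orderOf_pow_of_dvd hm0.ne' ⟨p, by rw [hm, mul_comm]⟩, hm]
        exact Nat.mul_div_cancel _ hm0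
      have hwp : IsPGroup p (zpowers w) := by
        apply IsPGroup.of_card (n := 1)
        rw [Nat.card_zpowers, hword, pow_one]
      obtain ⟨Q, hQ⟩ := hwp.exists_le_sylow
      have hwQ : w ∈ (Q : Subgroup G) := hQ (mem_zpowers w)
      have hw1 : w ≠ 1 := by
        intro h
        rw [h, orderOf_one] at hword
        exact hp'.one_lt.ne hword
      refine ⟨Q, ?_, ?_⟩
      · obtain ⟨c, hc⟩ := hconj Q
        rw [hc]
        have h2 := (hc w).1 hwQ
        have h3 : c⁻¹ * w * c ≠ 1 := by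
          intro h
          apply hw1
          have h4 : w = c * (c⁻¹ * w * c) * c⁻¹ := by group
          rw [h4, h, mul_one, mul_inv_cancel]
        refine mem_of_comm_of_ne hord hcen h2 h3 ?_
        have h5 : g * w = w * g := by
          rw [hw, ← pow_succ', pow_succ]
        calc c⁻¹ * g * c * (c⁻¹ * w * c) = c⁻¹ * (g * w) * c := by group
          _ = c⁻¹ * (w * g) * c := by rw [h5]
          _ = _ := by group
      · rintro rfl
        rw [orderOf_one] at hm
        have := Nat.eq_one_of_mul_eq_one_right hm.symm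
        exact hp'.one_lt.ne' this
    · rintro ⟨Q, hQ, hg1⟩
      rw [hordQ Q g hQ hg1]
  have hin : ∀ Q : Sylow p G, ∑ g ∈ S Q, f g = ∑ i ∈ univ.erase (0 : ZMod p), f (XX x i) := by
    intro Q
    obtain ⟨c, hc⟩ := hconj Q
    symm
    refine sum_bij (fun i _ => c * XX x i * c⁻¹) ?_ ?_ ?_ ?_
    · intro i hi
      simp only [S, mem_filter, mem_univ, true_and]
      constructor
      · rw [hc]
        have : c⁻¹ * (c * XX x i * c⁻¹) * c = XX x i := by group
        rw [this]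
        exact XX_mem_zpowers i
      · intro h
        have h2 : XX x i = 1 := by
          have h3 : XX x i = c⁻¹ * (c * XX x i * c⁻¹) * c := by group
          rw [h3, h]
          group
        apply (mem_erase.1 hi).1
        apply XX_inj hord
        rw [h2, XX_zero]
    · intro i _ j _ hij
      apply XX_inj hord
      exact mul_left_cancel (mul_right_cancel hij)
    · intro g hg
      simp only [S, mem_filter, mem_univ, true_and] at hg
      obtain ⟨i, hi⟩ := exists_XX_of_mem hord ((hc g).1 hg.1)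
      refine ⟨i, mem_erase.2 ⟨?_, mem_univ _⟩, ?_⟩
      · rintro rfl
        rw [XX_zero] at hi
        apply hg.2
        calc g = c * (c⁻¹ * g * c) * c⁻¹ := by group
          _ = 1 := by rw [hi]; group
      · rw [← hi]
        group
    · intro i _
      exact (hf _ _).symm
  rw [hU, sum_biUnion hdisj, sum_congr rfl (fun Q _ => hin Q), sum_const, card_univ, nsmul_eq_mul, Nat.card_eq_fintype_card]

end Sing

section Third

variable {G : Type u} [Group G] [Fintype G] {p : ℕ} [hp : Fact p.Prime] {x : G}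
  {ζ : ℂ} {t : ℕ} {X Y : Finset (IrrCharacter G)} {δ : IrrCharacter G → ℤ} {b : IrrCharacter G → ZMod p}

/-- A rational value of a character is an integer. -/
lemma int_of_rat_value {θ : G → ℂ} (hθ : IsCharacter G θ) (g : G) {q : ℚ} (hq : θ g = (q : ℂ)) : ∃ n : ℤ, θ g = n := by
  have hint := Cfsg.Agent.Lib.Char.Values.IsCharacter.isIntegral hθ g
  rw [hq] at hint
  have h4 : IsIntegral ℤ q := by
    have := (isIntegral_algebraMap_iff (A := ℚ) (B := ℂ) (R := ℤ) (x := q)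
      (algebraMap ℚ ℂ).injective).1 (by simpa using hint)
    exact this
  obtain ⟨n, hn⟩ := IsIntegrallyClosed.isIntegral_iff.1 h4
  refine ⟨n, ?_⟩
  rw [hq, ← hn]
  simp

set_option maxHeartbeats 4000000 in
/-- **The third moment.**  A faithful exceptional character of degree `p - 2` in a table with `e = 2`
determines the number of Sylow subgroups. -/
theorem index_of_faithful_table (hζ : IsPrimitiveRoot ζ p) (hT : SCTable x ζ 2 t X Y δ (-1) b)
    (hord : orderOf x = p) (hcen : ∀ c : G, c * x = x * c → c ∈ zpowers x)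
    (P : Sylow p G) (hz : zpowers x = (P : Subgroup G)) (ht : 1 < t)
    {θ : IrrCharacter G} (hθ : θ ∈ Y) (hd : (θ : G → ℂ) 1 = (((p - 2 : ℕ) : ℂ)))
    (hfaith : ∀ g : G, (θ : G → ℂ) g = (θ : G → ℂ) 1 → g = 1) :
    (normalizer (zpowers x : Set G)).index = t * (p - 2) := by
  classical
  letI : Fintype (IrrCharacter G) := Fintype.ofFinite _
  have hp' := hp.out
  have hhet := hT.het
  have hp5 : 5 ≤ p := by
    have := hp'.two_le
    omega
  have hdc : (((p - 2 : ℕ) : ℂ)) = (p : ℂ) - 2 := by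
    push_cast [Nat.cast_sub (show 2 ≤ p by omega)]
    ring
  have hp1c : (((p - 1 : ℕ) : ℂ)) = (p : ℂ) - 1 := by
    push_cast [Nat.cast_sub (show 1 ≤ p by omega)]
    ring
  have hpc : (p : ℂ) ≠ 0 := by exact_mod_cast hp'.ne_zero
  have hp1ne : (p : ℂ) - 1 ≠ 0 := by
    rw [← hp1c]
    have : p - 1 ≠ 0 := by omega
    exact_mod_cast this
  have hp2ne : (p : ℂ) - 2 ≠ 0 := by
    rw [← hdc]
    have : p - 2 ≠ 0 := by omega
    exact_mod_cast this
  have hGc : (Nat.card G : ℂ) ≠ 0 := by exact_mod_cast Nat.card_pos.ne'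
  -- the two non-exceptional characters
  obtain ⟨hτX, hτδ⟩ := hT.triv ht
  set τ₀ : IrrCharacter G := Cfsg.Agent.Lib.Blocks.Principal.trivChar G with hτ₀
  have hτval : ∀ g : G, (τ₀ : G → ℂ) g = 1 := fun g => rfl
  obtain ⟨χ, hχe⟩ : ∃ χ, X.erase τ₀ = {χ} := by
    apply card_eq_one.1
    rw [card_erase_of_mem hτX, hT.cardX]
  have hχX : χ ∈ X := by
    have : χ ∈ X.erase τ₀ := by rw [hχe]; exact mem_singleton_self χ
    exact (mem_erase.1 this).2
  have hχne : χ ≠ τ₀ := by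
    have : χ ∈ X.erase τ₀ := by rw [hχe]; exact mem_singleton_self χ
    exact (mem_erase.1 this).1
  have hsumX : ∀ f : IrrCharacter G → ℂ, ∑ ψ ∈ X, f ψ = f τ₀ + f χ := by
    intro f
    rw [← add_sum_erase X f hτX, hχe, sum_singleton]
  have hrel : ∀ g : G, ¬ p ∣ orderOf g → ∀ θ' ∈ Y, -((θ' : G → ℂ) g) = 1 + (δ χ : ℂ) * (χ : G → ℂ) g := by
    intro g hg θ' hθ'
    have h1 := hT.rel g hg θ' hθ'
    rw [hsumX, hτδ, hτval] at h1
    push_cast at h1
    linear_combination h1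
  have h1reg : ¬ p ∣ orderOf (1 : G) := by
    rw [orderOf_one]
    exact fun h => hp'.one_lt.ne' (Nat.dvd_one.1 h)
  obtain ⟨dχ, -, hdχ⟩ := Cfsg.Agent.Lib.Char.Ortho.irr_degree_pos χ.2
  have hδχ : δ χ = -1 := by
    rcases hT.signX χ hχX with h | h
    · exfalso
      have h1 := hrel 1 h1reg θ hθ
      rw [hd, hdc, h, hdχ] at h1
      push_cast at h1
      have h2 : ((p : ℝ) - 2) = -(1 + (dχ : ℝ)) := by
        have : (-((p : ℂ) - 2)) = 1 + dχ := by simpa using h1
        have h3 : ((-((p : ℝ) - 2) : ℝ) : ℂ) = ((1 + (dχ : ℝ) : ℝ) : ℂ) := by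
          push_cast
          exact this
        have h4 := Complex.ofReal_injective h3
        linarith
      have h5 : (0 : ℝ) ≤ dχ := Nat.cast_nonneg _
      have h6 : (5 : ℝ) ≤ p := by exact_mod_cast hp5
      linarith
    · exact h
  have hχreg : ∀ g : G, ¬ p ∣ orderOf g → ∀ θ' ∈ Y, (χ : G → ℂ) g = 1 + (θ' : G → ℂ) g := by
    intro g hg θ' hθ'
    have h1 := hrel g hg θ' hθ'
    rw [hδχ] at h1
    push_cast at h1
    linear_combination h1
  have hχ1 : (χ : G → ℂ) 1 = (p : ℂ) - 1 := by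
    rw [hχreg 1 h1reg θ hθ, hd, hdc]
    ring
  have hYeq : ∀ θ' ∈ Y, ∀ g : G, ¬ p ∣ orderOf g → (θ' : G → ℂ) g = (θ : G → ℂ) g := by
    intro θ' hθ' g hg
    have h1 := hχreg g hg θ' hθ'
    have h2 := hχreg g hg θ hθ
    rw [h1] at h2
    linear_combination h2
  have hval1 : ∀ ψ ∈ X, (ψ : G → ℂ) x = (δ ψ : ℂ) := by
    intro ψ hψ
    have h1 := hT.valX ψ hψ 1 one_ne_zero
    rwa [XX_one hord] at h1
  have hout : ∀ ψ : IrrCharacter G, ψ ∉ X ∪ Y → (ψ : G → ℂ) x = 0 := by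
    intro ψ hψ
    have h1 := hT.out ψ hψ 1 one_ne_zero
    rwa [XX_one hord] at h1
  -- the sum of the squares of the exceptional values
  have hCx : Nat.card (centralizer ({x} : Set G)) = p := by
    have h1 : centralizer ({x} : Set G) = zpowers x := by
      apply le_antisymm
      · intro c hc
        exact hcen c ((Subgroup.mem_centralizer_singleton_iff.1 hc))
      · intro c hc
        rw [Subgroup.mem_centralizer_singleton_iff]
        obtain ⟨k, rfl⟩ := Subgroup.mem_zpowers_iff.1 hc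
        exact ((Commute.refl x).zpow_left k).eq
    rw [h1, Nat.card_zpowers, hord]
  have hδsq : ∀ ψ ∈ X, (δ ψ : ℂ) * conj (δ ψ : ℂ) = 1 := by
    intro ψ hψ
    rcases hT.signX ψ hψ with h | h <;> rw [h] <;> simp
  have hsplit : ∀ f : IrrCharacter G → ℂ, (∀ ψ, ψ ∉ X ∪ Y → f ψ = 0) →
      ∑ ψ, f ψ = f τ₀ + f χ + ∑ ψ ∈ Y, f ψ := by
    intro f hf
    rw [← sum_add_sum_compl (X ∪ Y), sum_union hT.disj, hsumX]
    rw [sum_eq_zero (s := (X ∪ Y)ᶜ) (fun ψ hψ => hf ψ (mem_compl.1 hψ)), add_zero]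
  have hY2 : ∑ ψ ∈ Y, (ψ : G → ℂ) x * conj ((ψ : G → ℂ) x) = (p : ℂ) - 2 := by
    have h1 := Cfsg.Agent.Lib.Char.CompleteCor.column_orth_conj (IsConj.refl x)
    rw [hCx, hsplit _ (fun ψ hψ => by rw [hout ψ hψ, zero_mul]), hval1 τ₀ hτX, hval1 χ hχX, hδsq τ₀ hτX, hδsq χ hχX] at h1
    linear_combination h1
  -- the count
  have hinv : ∀ (ψ : IrrCharacter G) (g : G), (ψ : G → ℂ) g⁻¹ = conj ((ψ : G → ℂ) g) := fun ψ g =>
    Cfsg.Agent.Lib.Char.Ortho.character_inv_of_isCharacter (Cfsg.Agent.Lib.Char.Basic.isCharacter_of_isIrrCharacter ψ.2) g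
  have hcount : ∀ g : G, ¬ p ∣ orderOf g → ∃ c : ℕ, (c : ℂ) = (Nat.card G : ℂ) * ((1 + (θ : G → ℂ) g) * ((p : ℂ) / ((p : ℂ) - 1))) := by
    intro g hg
    refine ⟨(univ.filter (fun ab : G × G => ab.1 * x * ab.1⁻¹ * (ab.2 * x⁻¹ * ab.2⁻¹) * g = 1)).card, ?_⟩
    rw [count_formula x x⁻¹ g]
    congr 1
    rw [hsplit _ (fun ψ hψ => by rw [hout ψ hψ, zero_mul, zero_mul, zero_div])]
    have hYs : ∀ ψ ∈ Y, (ψ : G → ℂ) x * (ψ : G → ℂ) x⁻¹ * (ψ : G → ℂ) g / (ψ : G → ℂ) 1 =
        ((ψ : G → ℂ) x * conj ((ψ : G → ℂ) x)) * ((θ : G → ℂ) g / ((p : ℂ) - 2)) := by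
      intro ψ hψ
      rw [hinv, hYeq ψ hψ g hg, hYeq ψ hψ 1 h1reg, hd, hdc]
      ring
    rw [sum_congr rfl hYs, ← sum_mul, hY2, hinv, hinv, hval1 τ₀ hτX, hval1 χ hχX, hδχ, hτδ, hτval, hτval, hχ1, hχreg g hg θ hθ]
    simp only [Int.cast_one, Int.cast_neg, map_one, map_neg]
    field_simp
    ring
  have hval : ∀ g : G, ¬ p ∣ orderOf g → ∃ n : ℤ, (θ : G → ℂ) g = n ∧ -1 ≤ n ∧ n ≤ (p : ℤ) - 2 ∧ (n = (p : ℤ) - 2 → g = 1) := by
    intro g hg
    obtain ⟨c, hc⟩ := hcount g hg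
    have hq : (θ : G → ℂ) g = (((c : ℚ) * (((p : ℚ) - 1) / ((Nat.card G : ℚ) * p)) - 1 : ℚ) : ℂ) := by
      push_cast
      rw [hc]
      field_simp
      ring
    have hθch := Cfsg.Agent.Lib.Char.Basic.isCharacter_of_isIrrCharacter θ.2
    obtain ⟨n, hn⟩ := int_of_rat_value hθch g hq
    refine ⟨n, hn, ?_, ?_, ?_⟩
    · have h1 : ((n : ℚ) : ℂ) = (((c : ℚ) * (((p : ℚ) - 1) / ((Nat.card G : ℚ) * p)) - 1 : ℚ) : ℂ) := by
        rw [← hq, hn]
        simp
      have h2 : (n : ℚ) = (c : ℚ) * (((p : ℚ) - 1) / ((Nat.card G : ℚ) * p)) - 1 := by exact_mod_cast h1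
      have h3 : (0 : ℚ) ≤ (c : ℚ) * (((p : ℚ) - 1) / ((Nat.card G : ℚ) * p)) := by
        have h4 : (1 : ℚ) ≤ p := by exact_mod_cast hp'.one_lt.le
        have h5 : (0 : ℚ) ≤ (p : ℚ) - 1 := by linarith
        positivity
      have h6 : (-1 : ℚ) ≤ n := by linarith
      exact_mod_cast h6
    · have h1 := Cfsg.Agent.Lib.Char.Values.IsCharacter.norm_le hθch g
      rw [hn, hd] at h1
      have h2 : ‖((n : ℤ) : ℂ)‖ = |(n : ℝ)| := by simp
      have h3 : ‖(((p - 2 : ℕ) : ℂ))‖ = ((p - 2 : ℕ) : ℝ) := by simp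
      rw [h2, h3] at h1
      have h4 := (le_abs_self (n : ℝ)).trans h1
      have h5 : ((n : ℤ) : ℝ) ≤ ((((p - 2 : ℕ) : ℤ)) : ℝ) := by exact_mod_cast h4
      have h6 : n ≤ ((p - 2 : ℕ) : ℤ) := by exact_mod_cast h5
      push_cast [Nat.cast_sub (show 2 ≤ p by omega)] at h6
      linarith
    · intro h
      apply hfaith
      rw [hn, hd, hdc, h]
      push_cast
      ring
  choose! U hU using hval
  -- the two class functions
  have hθch := Cfsg.Agent.Lib.Char.Basic.isCharacter_of_isIrrCharacter θ.2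
  have hχch := Cfsg.Agent.Lib.Char.Basic.isCharacter_of_isIrrCharacter χ.2
  have hclθ := Cfsg.Agent.Lib.Char.CompleteCor.isIrr_classFunction θ.2
  have hclχ := Cfsg.Agent.Lib.Char.CompleteCor.isIrr_classFunction χ.2
  let A : G → ℂ := fun g => (θ : G → ℂ) g * conj ((θ : G → ℂ) g) * conj ((χ : G → ℂ) g)
  let B : G → ℂ := fun g => (θ : G → ℂ) g * conj ((χ : G → ℂ) g)
  have hAcl : IsClassFunction G A := by
    intro g c
    simp only [A]
    rw [hclθ g c, hclχ g c]
  have hBcl : IsClassFunction G B := by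
    intro g c
    simp only [B]
    rw [hclθ g c, hclχ g c]
  obtain ⟨n₀, hn₀⟩ : ∃ n₀ : ℕ, classInner (fun g => (θ : G → ℂ) g * conj ((θ : G → ℂ) g)) (χ : G → ℂ) = n₀ := by
    refine Cfsg.Agent.Lib.Char.Ortho.exists_nat_classInner_of_isCharacter ?_ hχch
    exact Cfsg.Agent.Lib.Char.Basic.isCharacter_mul hθch (Cfsg.Agent.Lib.Char.Ortho.isCharacter_conj hθch)
  have hθχ : θ ≠ χ := by
    intro h
    have h1 := Finset.disjoint_left.1 hT.disj hχX
    rw [h] at hθ
    exact h1 hθ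
  have hinner : classInner (θ : G → ℂ) (χ : G → ℂ) = 0 :=
    Cfsg.Agent.Lib.Char.Ortho.classInner_irr_of_ne θ.2 χ.2 (fun h => hθχ (Subtype.ext h))
  have hAsum : ∑ g, A g = (Nat.card G : ℂ) * n₀ := by
    rw [← hn₀]
    unfold classInner
    field_simp
    rfl
  have hBsum : ∑ g, B g = 0 := by
    have h1 : classInner (θ : G → ℂ) (χ : G → ℂ) = (Nat.card G : ℂ)⁻¹ * ∑ g, B g := rfl
    rw [hinner] at h1
    have h2 := mul_eq_zero.1 h1.symm
    rcases h2 with h2 | h2
    · exact absurd (inv_eq_zero.1 h2) hGc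
    · exact h2
  set M : ℕ := Nat.card (Sylow p G) with hMdef
  have hχsing : ∀ i ∈ univ.erase (0 : ZMod p), conj ((χ : G → ℂ) (XX x i)) = -1 := by
    intro i hi
    rw [hT.valX χ hχX i (mem_erase.1 hi).1, hδχ]
    simp
  have hAs : ∑ g ∈ univ.filter (fun g : G => p ∣ orderOf g), A g = (M : ℂ) * (-(2 * ((p : ℂ) - 2))) := by
    rw [sum_singular hord hcen P hz hAcl]
    congr 1
    have h1 := hT.sum_normSq hζ hθ
    have h2 : ∑ i ∈ univ.erase (0 : ZMod p), A (XX x i) =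
        ∑ i ∈ univ.erase (0 : ZMod p), -((θ : G → ℂ) (XX x i) * conj ((θ : G → ℂ) (XX x i))) :=
      sum_congr rfl fun i hi => by simp only [A]; rw [hχsing i hi]; ring
    rw [h2, sum_neg_distrib, h1]
    push_cast
    ring
  have hBs : ∑ g ∈ univ.filter (fun g : G => p ∣ orderOf g), B g = (M : ℂ) * (-2) := by
    rw [sum_singular hord hcen P hz hBcl]
    congr 1
    have h1 := hT.sum_Y hζ hθ
    have h2 : ∑ i ∈ univ.erase (0 : ZMod p), B (XX x i) =
        ∑ i ∈ univ.erase (0 : ZMod p), -((θ : G → ℂ) (XX x i)) :=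
      sum_congr rfl fun i hi => by simp only [B]; rw [hχsing i hi]; ring
    rw [h2, sum_neg_distrib, h1]
    push_cast
    ring
  have hAreg : ∑ g ∈ univ.filter (fun g : G => ¬ p ∣ orderOf g), A g = (Nat.card G : ℂ) * n₀ + (M : ℂ) * (2 * ((p : ℂ) - 2)) := by
    have h1 := sum_filter_add_sum_filter_not univ (fun g : G => p ∣ orderOf g) A
    rw [hAs, hAsum] at h1
    linear_combination h1
  have hBreg : ∑ g ∈ univ.filter (fun g : G => ¬ p ∣ orderOf g), B g = (M : ℂ) * 2 := by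
    have h1 := sum_filter_add_sum_filter_not univ (fun g : G => p ∣ orderOf g) B
    rw [hBs, hBsum] at h1
    linear_combination h1
  have hAval : ∀ g ∈ univ.filter (fun g : G => ¬ p ∣ orderOf g), A g = ((U g ^ 2 * (U g + 1) : ℤ) : ℂ) := by
    intro g hg
    have hg' := (mem_filter.1 hg).2
    simp only [A]
    rw [hχreg g hg' θ hθ, (hU g hg').1]
    simp only [map_add, map_one, map_intCast]
    push_cast
    ring
  have hBval : ∀ g ∈ univ.filter (fun g : G => ¬ p ∣ orderOf g), B g = ((U g * (U g + 1) : ℤ) : ℂ) := by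
    intro g hg
    have hg' := (mem_filter.1 hg).2
    simp only [B]
    rw [hχreg g hg' θ hθ, (hU g hg').1]
    simp only [map_add, map_one, map_intCast]
    push_cast
    ring
  rw [sum_congr rfl hAval] at hAreg
  rw [sum_congr rfl hBval] at hBreg
  have hAZ : ∑ g ∈ univ.filter (fun g : G => ¬ p ∣ orderOf g), (U g ^ 2 * (U g + 1)) =
      (Nat.card G : ℤ) * n₀ + M * (2 * ((p : ℤ) - 2)) := by
    have : ((∑ g ∈ univ.filter (fun g : G => ¬ p ∣ orderOf g), (U g ^ 2 * (U g + 1)) : ℤ) : ℂ) =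
        (((Nat.card G : ℤ) * n₀ + M * (2 * ((p : ℤ) - 2)) : ℤ) : ℂ) := by
      push_cast
      push_cast at hAreg
      exact hAreg
    exact_mod_cast this
  have hBZ : ∑ g ∈ univ.filter (fun g : G => ¬ p ∣ orderOf g), (U g * (U g + 1)) = M * 2 := by
    have : ((∑ g ∈ univ.filter (fun g : G => ¬ p ∣ orderOf g), (U g * (U g + 1)) : ℤ) : ℂ) =
        ((M * 2 : ℤ) : ℂ) := by
      push_cast
      push_cast at hBreg
      exact hBreg
    exact_mod_cast this
  -- the polynomial identity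
  have hQ : ∑ g ∈ univ.filter (fun g : G => ¬ p ∣ orderOf g), (U g * (U g + 1) * (U g - ((p : ℤ) - 2))) = (Nat.card G : ℤ) * n₀ := by
    have h1 : ∀ g ∈ univ.filter (fun g : G => ¬ p ∣ orderOf g), U g * (U g + 1) * (U g - ((p : ℤ) - 2)) =
        U g ^ 2 * (U g + 1) - ((p : ℤ) - 2) * (U g * (U g + 1)) := fun g _ => by ring
    rw [sum_congr rfl h1, sum_sub_distrib, ← mul_sum, hAZ, hBZ]
    ring
  have hQnp : ∀ g ∈ univ.filter (fun g : G => ¬ p ∣ orderOf g), U g * (U g + 1) * (U g - ((p : ℤ) - 2)) ≤ 0 := by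
    intro g hg
    have hg' := (mem_filter.1 hg).2
    obtain ⟨-, h1, h2, -⟩ := hU g hg'
    have h3 : 0 ≤ U g * (U g + 1) := by
      rcases eq_or_lt_of_le h1 with h | h
      · rw [← h]
        norm_num
      · have : 0 ≤ U g := by omega
        positivity
    nlinarith
  have hQ0 : ∑ g ∈ univ.filter (fun g : G => ¬ p ∣ orderOf g), (U g * (U g + 1) * (U g - ((p : ℤ) - 2))) = 0 := by
    apply le_antisymm (sum_nonpos hQnp)
    rw [hQ]
    positivity
  have hQz := (sum_eq_zero_iff_of_nonpos hQnp).1 hQ0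
  have hU1 : U 1 = (p : ℤ) - 2 := by
    have h1 := (hU 1 h1reg).1
    rw [hd, hdc] at h1
    have h2 : ((U 1 : ℤ) : ℂ) = (((p : ℤ) - 2 : ℤ) : ℂ) := by
      rw [← h1]
      push_cast
      ring
    exact_mod_cast h2
  have hU0 : ∀ g ∈ univ.filter (fun g : G => ¬ p ∣ orderOf g), g ≠ 1 → U g * (U g + 1) = 0 := by
    intro g hg hg1
    have hg' := (mem_filter.1 hg).2
    have h1 := hQz g hg
    rcases mul_eq_zero.1 h1 with h | h
    · exact h
    · exact absurd ((hU g hg').2.2.2 (by linarith)) hg1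
  have hBfinal : ∑ g ∈ univ.filter (fun g : G => ¬ p ∣ orderOf g), (U g * (U g + 1)) = ((p : ℤ) - 2) * ((p : ℤ) - 1) := by
    rw [sum_eq_single_of_mem (1 : G) (mem_filter.2 ⟨mem_univ _, h1reg⟩) (fun g hg hg1 => hU0 g hg hg1), hU1]
    ring
  have hM2 : (M : ℤ) * 2 = ((p : ℤ) - 2) * ((p : ℤ) - 1) := by rw [← hBZ, hBfinal]
  have hMidx : (normalizer (zpowers x : Set G)).index = M := by
    rw [hz]
    exact (Sylow.card_eq_index_normalizer P).symm
  rw [hMidx]
  have hhetZ : (p : ℤ) - 1 = 2 * t := by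
    have h1 : ((p - 1 : ℕ) : ℤ) = ((2 * t : ℕ) : ℤ) := by rw [hhet]
    push_cast [Nat.cast_sub (show 1 ≤ p by omega)] at h1
    exact h1
  have h3 : (M : ℤ) = (t : ℤ) * ((p : ℤ) - 2) := by
    rw [hhetZ] at hM2
    linarith
  have h4 : ((M : ℕ) : ℤ) = ((t * (p - 2) : ℕ) : ℤ) := by
    push_cast [Nat.cast_sub (show 2 ≤ p by omega)]
    exact h3
  exact_mod_cast h4

end Third

end Cfsg.Agent.Lib.DefectOne
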