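import Mathlib
import Cfsg.Agent.Lib.DefectOne.MomentTwo

/-!
# The rows of a faithful character of degree `p - 2`
-/

set_option autoImplicit false
set_option linter.unusedSectionVars false

namespace Cfsg.Agent.Lib.DefectOne

open Cfsg Subgroup Finset Cfsg.Agent.Lib.Blocks.Local Cfsg.Agent.Lib.Blocks.Central
open scoped ComplexConjugate

universe u

section General

variable {G : Type u} [Group G] [Finite G]

/-- A faithful character whose value has maximal norm at `y`: then `y` is central. -/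
lemma central_of_norm {χ : G → ℂ} (hχ : IsIrrCharacter G χ) (hfaith : ∀ g, χ g = χ 1 → g = 1) {y : G}
    (hy : ‖χ y‖ = ‖χ 1‖) (g : G) : y * g = g * y := by
  obtain ⟨n, ρ, hρ, rfl⟩ := hχ
  have h1 : ‖ρ.character 1‖ = (Module.finrank ℂ (Fin n → ℂ) : ℝ) := by
    rw [Representation.char_one]
    simp
  rw [h1, Cfsg.Agent.Lib.Char.Values.norm_character_eq_iff] at hy
  obtain ⟨ω, hω⟩ := hy
  have h2 : ρ (y * g * (g * y)⁻¹) = 1 := by
    have h3 : ρ (y * g) = ρ (g * y) := by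
      rw [map_mul, map_mul, hω]
      ext v
      simp
    rw [map_mul, h3, ← map_mul, mul_inv_cancel, map_one]
  have h4 : ρ.character (y * g * (g * y)⁻¹) = ρ.character 1 :=
    congrArg (LinearMap.trace ℂ _) (h2.trans (map_one ρ).symm)
  have h5 := hfaith _ h4
  have h6 : y * g = g * y := by
    have h7 := mul_inv_eq_one.1 h5
    exact h7
  exact h6

end General

section Field

variable {p : ℕ} [hp : Fact p.Prime]

/-- A sum of algebraic integers, constant on the fibres of `i ↦ i ^ e`, is divisible by `e`. -/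
lemma dvd_sum_of_invariant {e : ℕ} (he : 0 < e) {A : Finset (ZMod p)} (hAcard : A.card = e)
    (hA : ∀ α, α ∈ A ↔ α ^ e = 1) (F : ZMod p → ℂ) (hint : ∀ i, IsIntegral ℤ (F i))
    (hinv : ∀ i j : ZMod p, i ≠ 0 → j ≠ 0 → i ^ e = j ^ e → F i = F j) {n : ℤ}
    (hsum : ∑ i ∈ univ.erase (0 : ZMod p), F i = n) : (e : ℤ) ∣ n := by
  classical
  set B := (univ.erase (0 : ZMod p)).image (fun a => a ^ e) with hB
  have hmaps : ∀ a ∈ univ.erase (0 : ZMod p), a ^ e ∈ B := fun a ha => mem_image_of_mem _ ha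
  have h1 := sum_fiberwise_of_maps_to hmaps F
  have hrep : ∀ c ∈ B, ∃ a : ZMod p, a ≠ 0 ∧ a ^ e = c := by
    intro c hc
    obtain ⟨a, ha, rfl⟩ := mem_image.1 hc
    exact ⟨a, (mem_erase.1 ha).1, rfl⟩
  choose! r hr0 hrc using hrep
  have h2 : ∀ c ∈ B, ∑ i ∈ (univ.erase (0 : ZMod p)).filter (fun a => a ^ e = c), F i = (e : ℂ) * F (r c) := by
    intro c hc
    have h3 : ∀ i ∈ (univ.erase (0 : ZMod p)).filter (fun a => a ^ e = c), F i = F (r c) := by
      intro i hi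
      obtain ⟨hi1, hi2⟩ := mem_filter.1 hi
      exact hinv i (r c) (mem_erase.1 hi1).1 (hr0 c hc) (hi2.trans (hrc c hc).symm)
    have h4 := card_fibre hAcard hA (hr0 c hc)
    rw [hrc c hc] at h4
    have h5 : ((univ.erase (0 : ZMod p)).filter (fun a => a ^ e = c)).card = e := by
      refine Eq.trans ?_ h4
      congr 1
      ext a
      simp only [mem_filter, mem_erase, mem_univ, and_true, true_and]
    rw [sum_congr rfl h3, sum_const, nsmul_eq_mul, h5]
  rw [sum_congr rfl h2, ← mul_sum, hsum] at h1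
  set S := ∑ c ∈ B, F (r c) with hS
  have hSint : IsIntegral ℤ S := IsIntegral.sum _ fun c _ => hint _
  have heC : (e : ℂ) ≠ 0 := by exact_mod_cast he.ne'
  have hSq : S = (((n : ℚ) / e : ℚ) : ℂ) := by
    push_cast
    rw [← h1]
    field_simp
  rw [hSq] at hSint
  have h4 : IsIntegral ℤ ((n : ℚ) / e : ℚ) := by
    have := (isIntegral_algebraMap_iff (A := ℚ) (B := ℂ) (R := ℤ) (x := ((n : ℚ) / e : ℚ))
      (algebraMap ℚ ℂ).injective).1 (by simpa using hSint)
    exact this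
  obtain ⟨k, hk⟩ := IsIntegrallyClosed.isIntegral_iff.1 h4
  refine ⟨k, ?_⟩
  have h5 : ((k : ℚ)) = (n : ℚ) / e := by simpa using hk
  have heQ : (e : ℚ) ≠ 0 := by exact_mod_cast he.ne'
  have h6 : (n : ℚ) = e * k := by
    rw [h5]
    field_simp
  exact_mod_cast h6

end Field

section Rows

variable {G : Type u} [Group G] [Fintype G] {p : ℕ} [hp : Fact p.Prime] {x : G} {H : Subgroup G}
  [Fintype H] (hL : LocalData p x H)

include hL in
/-- The degree in terms of the rows. -/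
lemma sum_deg_mTot [Fintype (IrrCharacter H)] (χ : IrrCharacter G) {ζ : ℂ} (hζ : IsPrimitiveRoot ζ p) :
    ∑ φ : IrrCharacter H, charDegree (φ : H → ℂ) * mTot (p := p) x H (χ : G → ℂ) (φ : H → ℂ) ζ = charDegree (χ : G → ℂ) := by
  have h1 := sum_SS (H := H) (χ : G → ℂ) 1
  have hdc : (charDegree (χ : G → ℂ) : ℂ) = (χ : G → ℂ) 1 :=
    Cfsg.Agent.Lib.Char.Values.IsCharacter.charDegree_cast
      (Cfsg.Agent.Lib.Char.Basic.isCharacter_of_isIrrCharacter χ.2)
  have h2 : ∀ φ : IrrCharacter H, SS H (χ : G → ℂ) (φ : H → ℂ) 1 =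
      ((charDegree (φ : H → ℂ) * mTot (p := p) x H (χ : G → ℂ) (φ : H → ℂ) ζ : ℕ) : ℂ) := by
    intro φ
    rw [SS_one hL χ.2 φ.2 hζ, ← Cfsg.Agent.Lib.Char.Values.IsCharacter.charDegree_cast
      (Cfsg.Agent.Lib.Char.Basic.isCharacter_of_isIrrCharacter φ.2)]
    push_cast
    ring
  simp_rw [h2] at h1
  rw [← hdc, ← Nat.cast_sum] at h1
  exact_mod_cast h1

/-- The row sums of conjugate characters agree. -/
lemma mTot_transport {χ : G → ℂ} (hχ : IsIrrCharacter G χ) {φ₁ φ₂ : H → ℂ} (hφ₁ : IsIrrCharacter H φ₁)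
    (hφ₂ : IsIrrCharacter H φ₂) {ζ : ℂ} (hζ : IsPrimitiveRoot ζ p) {g : G} (hg : g ∈ normalizer (zpowers x : Set G))
    (h : ∀ y : H, φ₂ (conjH hL g hg y) = φ₁ y) :
    mTot (p := p) x H χ φ₂ ζ = mTot (p := p) x H χ φ₁ ζ := by
  classical
  unfold mTot
  have hα := alphaG_ne_zero hL hg
  simp_rw [mval_transport hL hχ hφ₁ hφ₂ hζ hg h]
  exact Fintype.sum_equiv (Equiv.mulRight₀ _ hα) _ _ fun b => rfl

variable [Fintype (IrrCharacter G)]

/-- The shape of a row when the multiplicities are small. -/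
lemma row_cases (χ : IrrCharacter G) {φ : H → ℂ} {ζ : ℂ} {e t : ℕ} {X Y : Finset (IrrCharacter G)}
    {εX : IrrCharacter G → ℤ} {ε₀ : ℤ} {bY : IrrCharacter G → ZMod p}
    (hS : RowStructure x H φ ζ e t X Y εX ε₀ bY) {A : Finset (ZMod p)} (hI : InertiaData hL φ A e t)
    (hT : mTot (p := p) x H (χ : G → ℂ) φ ζ + 1 < p) :
    (∀ a : ZMod p, mval x H (χ : G → ℂ) φ ζ a = 0) ∨
    (mval x H (χ : G → ℂ) φ ζ (0 : ZMod p) = 1 ∧ ∀ a : ZMod p, a ≠ 0 → mval x H (χ : G → ℂ) φ ζ a = 0) ∨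
    (χ ∈ Y ∧ ε₀ = 1 ∧ mval x H (χ : G → ℂ) φ ζ (0 : ZMod p) = 0 ∧
      ∀ a : ZMod p, a ≠ 0 → mval x H (χ : G → ℂ) φ ζ a = if a ^ e = bY χ then 1 else 0) ∨
    (χ ∈ Y ∧ ε₀ = -1 ∧ mval x H (χ : G → ℂ) φ ζ (0 : ZMod p) = 1 ∧
      ∀ a : ZMod p, a ≠ 0 → mval x H (χ : G → ℂ) φ ζ a = if a ^ e = bY χ then 0 else 1) := by
  classical
  have hp' := hp.out
  have h1 := mTot_eq (p := p) (x := x) φ ζ (χ : G → ℂ)
  have hTZ : (mTot (p := p) x H (χ : G → ℂ) φ ζ : ℤ) + 1 < p := by exact_mod_cast hT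
  set T := mTot (p := p) x H (χ : G → ℂ) φ ζ with hTdef
  set m₀ := mval x H (χ : G → ℂ) φ ζ (0 : ZMod p) with hm₀
  have hrr : ∀ a : ZMod p, rr x H φ ζ (χ : G → ℂ) a = (mval x H (χ : G → ℂ) φ ζ a : ℤ) - m₀ := fun a => rfl
  have hT0 : (0 : ℤ) ≤ T := by positivity
  have hp0 : (0 : ℤ) < p := by exact_mod_cast hp'.pos
  by_cases hmem : χ ∈ X ∪ Y
  · rcases mem_union.1 hmem with hX | hY
    · obtain ⟨hs, hrow⟩ := hS.rowX χ hX
      rw [Rsum_of_X hS hX] at h1
      rcases hs with hs | hs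
      · exfalso
        rw [hs] at h1
        have h2 : (0 : ℤ) ≤ m₀ := by positivity
        nlinarith
      · right
        left
        rw [hs] at h1
        have h3 : m₀ = 1 := by
          have h5 : ((m₀ : ℕ) : ℤ) = 1 := by
            have h6 := hrow 1 one_ne_zero
            rw [hs, hrr] at h6
            have h7 : (0 : ℤ) ≤ (mval x H (χ : G → ℂ) φ ζ (1 : ZMod p) : ℤ) := by positivity
            have h8 : 1 ≤ (m₀ : ℤ) := by omega
            by_contra hne
            have h9 : 2 ≤ (m₀ : ℤ) := by omega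
            nlinarith
          exact_mod_cast h5
        refine ⟨h3, fun a ha => ?_⟩
        have h6 := hrow a ha
        rw [hs, hrr, h3] at h6
        have h7 : (mval x H (χ : G → ℂ) φ ζ a : ℤ) = 0 := by
          push_cast at h6
          omega
        exact_mod_cast h7
    · rw [Rsum_of_Y hS hI.Acard hI.hA hY] at h1
      have hel := e_lt_p hL hI
      have helZ : (e : ℤ) < p := by exact_mod_cast hel
      have hepos : (0 : ℤ) < e := by exact_mod_cast hI.epos
      rcases hS.sign₀ with hs | hs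
      · right
        right
        left
        rw [hs] at h1
        have h3 : m₀ = 0 := by
          have h5 : ((m₀ : ℕ) : ℤ) = 0 := by
            by_contra hne
            have h9 : 1 ≤ (m₀ : ℤ) := by
              have : (0 : ℤ) ≤ m₀ := by positivity
              omega
            nlinarith
          exact_mod_cast h5
        refine ⟨hY, hs, h3, fun a ha => ?_⟩
        have h6 := hS.rowY χ hY a ha
        rw [hs, hrr, h3] at h6
        split_ifs at h6 ⊢ with h7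
        · have h8 : (mval x H (χ : G → ℂ) φ ζ a : ℤ) = 1 := by
            push_cast at h6
            omega
          exact_mod_cast h8
        · have h8 : (mval x H (χ : G → ℂ) φ ζ a : ℤ) = 0 := by
            push_cast at h6
            omega
          exact_mod_cast h8
      · right
        right
        right
        rw [hs] at h1
        obtain ⟨a₀, ha₀, hb₀⟩ := hS.exY χ hY
        have h6 := hS.rowY χ hY a₀ ha₀
        rw [if_pos hb₀, hs, hrr] at h6
        have h7 : (0 : ℤ) ≤ (mval x H (χ : G → ℂ) φ ζ a₀ : ℤ) := by positivity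
        have h3 : m₀ = 1 := by
          have h5 : ((m₀ : ℕ) : ℤ) = 1 := by
            have h8 : 1 ≤ (m₀ : ℤ) := by omega
            by_contra hne
            have h9 : 2 ≤ (m₀ : ℤ) := by omega
            nlinarith
          exact_mod_cast h5
        refine ⟨hY, hs, h3, fun a ha => ?_⟩
        have h8 := hS.rowY χ hY a ha
        rw [hs, hrr, h3] at h8
        split_ifs at h8 ⊢ with h9
        · have h10 : (mval x H (χ : G → ℂ) φ ζ a : ℤ) = 0 := by
            push_cast at h8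
            omega
          exact_mod_cast h10
        · have h10 : (mval x H (χ : G → ℂ) φ ζ a : ℤ) = 1 := by
            push_cast at h8
            omega
          exact_mod_cast h10
  · left
    have hno : ∀ a : ZMod p, rr x H φ ζ (χ : G → ℂ) a = 0 := by
      intro a
      by_contra ha
      exact hmem ((hS.supp χ).2 ⟨a, ha⟩)
    have hR : Rsum (p := p) x H φ ζ (χ : G → ℂ) = 0 := sum_eq_zero fun a _ => hno a
    rw [hR, add_zero] at h1
    have h3 : m₀ = 0 := by
      have h5 : ((m₀ : ℕ) : ℤ) = 0 := by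
        by_contra hne
        have h9 : 1 ≤ (m₀ : ℤ) := by
          have : (0 : ℤ) ≤ m₀ := by positivity
          omega
        nlinarith
      exact_mod_cast h5
    intro a
    have h6 := hno a
    rw [hrr, h3] at h6
    have h8 : (mval x H (χ : G → ℂ) φ ζ a : ℤ) = 0 := by
      push_cast at h6
      omega
    exact_mod_cast h8

end Rows

section Main

variable {G : Type u} [Group G] [Fintype G] {p : ℕ} [hp : Fact p.Prime] {x : G} {H : Subgroup G}
  [Fintype H] (hL : LocalData p x H)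

include hL in
/-- The values in terms of the rows. -/
lemma val_eq_sum_rows [Fintype (IrrCharacter H)] (χ : IrrCharacter G) {ζ : ℂ} (hζ : IsPrimitiveRoot ζ p) (i : ZMod p) :
    (χ : G → ℂ) (XX x i) = ∑ φ : IrrCharacter H, (φ : H → ℂ) 1 *
      ∑ a : ZMod p, (mval x H (χ : G → ℂ) (φ : H → ℂ) ζ a : ℂ) * ζ ^ (a * i).val := by
  rw [← sum_SS (H := H) (χ : G → ℂ) (XX x i)]
  exact sum_congr rfl fun φ _ => SS_eq hL χ.2 φ.2 hζ i

/-- A Sylow subgroup generated by a central element is normal. -/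
lemma normal_of_central {P : Subgroup G} (hz : zpowers x = P) (hc : ∀ g : G, x * g = g * x) : P.Normal := by
  rw [← hz]
  refine ⟨fun u hu c => ?_⟩
  obtain ⟨k, rfl⟩ := Subgroup.mem_zpowers_iff.1 hu
  have h1 : Commute x c := hc c
  have h2 : Commute (x ^ k) c := h1.zpow_left k
  rw [← h2.eq, mul_assoc, mul_inv_cancel, mul_one]
  exact Subgroup.zpow_mem_zpowers x k

variable {M : Ideal AlgInt} [hMp : M.IsPrime]

set_option maxHeartbeats 4000000 in
/-- The case of a row of sign `+`. -/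
theorem plus_row_false [Fintype (IrrCharacter G)] [Fintype (IrrCharacter H)] (hM : IsPModular p M)
    (P : Sylow p G) (hz : zpowers x = (P : Subgroup G)) (hnn : ¬ (P : Subgroup G).Normal)
    (ξ : IrrCharacter G) (hfaith : ∀ g : G, (ξ : G → ℂ) g = (ξ : G → ℂ) 1 → g = 1)
    (hdeg : charDegree (ξ : G → ℂ) + 2 = p) (hp7 : 5 < p) {ζ : ℂ} (hζ : IsPrimitiveRoot ζ p)
    (φ₀ : IrrCharacter H) {A : Finset (ZMod p)} {e t : ℕ} (hI : InertiaData hL (φ₀ : H → ℂ) A e t)
    (b : ZMod p) (h0 : mval x H (ξ : G → ℂ) (φ₀ : H → ℂ) ζ (0 : ZMod p) = 0)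
    (hrow : ∀ a : ZMod p, a ≠ 0 → mval x H (ξ : G → ℂ) (φ₀ : H → ℂ) ζ a = if a ^ e = b then 1 else 0)
    {a₀ : ZMod p} (ha₀ : a₀ ≠ 0) (hb₀ : a₀ ^ e = b) : False := by
  classical
  have hp' := hp.out
  have hpd : ∀ (φ : IrrCharacter H), mTot (p := p) x H (ξ : G → ℂ) (φ : H → ℂ) ζ ≤ p - 2 := by
    intro φ
    have h1 := sum_deg_mTot hL ξ hζ
    have h2 : charDegree (φ : H → ℂ) * mTot (p := p) x H (ξ : G → ℂ) (φ : H → ℂ) ζ ≤ charDegree (ξ : G → ℂ) := by
      rw [← h1]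
      exact single_le_sum (f := fun φ : IrrCharacter H => charDegree (φ : H → ℂ) * mTot (p := p) x H (ξ : G → ℂ) (φ : H → ℂ) ζ)
        (fun _ _ => Nat.zero_le _) (mem_univ φ)
    obtain ⟨dφ, hdφ0, hdφ⟩ := Cfsg.Agent.Lib.Char.Ortho.irr_degree_pos φ.2
    have h3 : charDegree (φ : H → ℂ) = dφ := Cfsg.Agent.Lib.Char.Values.IsCharacter.charDegree_eq
      (Cfsg.Agent.Lib.Char.Basic.isCharacter_of_isIrrCharacter φ.2) hdφ
    rw [h3] at h2
    have h4 : mTot (p := p) x H (ξ : G → ℂ) (φ : H → ℂ) ζ ≤ dφ * mTot (p := p) x H (ξ : G → ℂ) (φ : H → ℂ) ζ :=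
      Nat.le_mul_of_pos_left _ hdφ0
    omega
  obtain ⟨dξ, -, hdξ⟩ := Cfsg.Agent.Lib.Char.Ortho.irr_degree_pos ξ.2
  have hdξ' : charDegree (ξ : G → ℂ) = dξ := Cfsg.Agent.Lib.Char.Values.IsCharacter.charDegree_eq
    (Cfsg.Agent.Lib.Char.Basic.isCharacter_of_isIrrCharacter ξ.2) hdξ
  have hdp : ¬ p ∣ dξ := by
    intro h
    have h1 : dξ + 2 = p := by rw [← hdξ']; exact hdeg
    have h2 := Nat.le_of_dvd (by omega) h
    omega
  have hne₀ : ∃ a : ZMod p, rr x H (φ₀ : H → ℂ) ζ (ξ : G → ℂ) a ≠ 0 := by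
    refine ⟨a₀, ?_⟩
    unfold rr
    rw [h0, hrow a₀ ha₀, if_pos hb₀]
    simp
  have hrel : ∀ φ : IrrCharacter H, (∃ a : ZMod p, mval x H (ξ : G → ℂ) (φ : H → ℂ) ζ a ≠ 0) →
      ∃ (g : G) (hg : g ∈ normalizer (zpowers x : Set G)), ∀ b' : ZMod p,
        mval x H (ξ : G → ℂ) (φ : H → ℂ) ζ b' = mval x H (ξ : G → ℂ) (φ₀ : H → ℂ) ζ (b' * alphaG hL g) := by
    intro φ ⟨a, ha⟩
    have hm₂ : ¬ p ∣ mTot (p := p) x H (ξ : G → ℂ) (φ : H → ℂ) ζ := by
      intro h
      have h1 : 0 < mTot (p := p) x H (ξ : G → ℂ) (φ : H → ℂ) ζ := by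
        unfold mTot
        exact sum_pos' (fun _ _ => Nat.zero_le _) ⟨a, mem_univ _, Nat.pos_of_ne_zero ha⟩
      have h2 := Nat.le_of_dvd h1 h
      have h3 := hpd φ
      omega
    obtain ⟨g, hg, hgy⟩ := rel_of_rows hL hM ξ φ₀.2 φ.2 hζ hI hne₀ hdξ hdp hm₂
    exact ⟨g, hg, fun b' => mval_transport hL ξ.2 φ₀.2 φ.2 hζ hg hgy b'⟩
  have hzero : ∀ φ : IrrCharacter H, mval x H (ξ : G → ℂ) (φ : H → ℂ) ζ (0 : ZMod p) = 0 := by
    intro φ
    by_cases hφ : ∃ a : ZMod p, mval x H (ξ : G → ℂ) (φ : H → ℂ) ζ a ≠ 0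
    · obtain ⟨g, hg, hgb⟩ := hrel φ hφ
      rw [hgb, zero_mul, h0]
    · push Not at hφ
      exact hφ 0
  -- the sum over `⟨x⟩`
  have hp0 : (p : ℂ) ≠ 0 := by exact_mod_cast hp'.ne_zero
  have hsum0 : ∑ i : ZMod p, (ξ : G → ℂ) (XX x i) = 0 := by
    simp_rw [val_eq_sum_rows hL ξ hζ]
    rw [sum_comm]
    refine sum_eq_zero fun φ _ => ?_
    rw [← mul_sum]
    have h1 : ∑ i : ZMod p, ∑ a : ZMod p, (mval x H (ξ : G → ℂ) (φ : H → ℂ) ζ a : ℂ) * ζ ^ (a * i).val = 0 := by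
      rw [sum_comm]
      refine sum_eq_zero fun a _ => ?_
      rw [← mul_sum]
      by_cases ha : a = 0
      · rw [ha, hzero φ]
        simp
      · have h2 := sum_zeta hζ a
        rw [if_neg ha] at h2
        have h3 : ∑ i : ZMod p, ζ ^ (a * i).val = 0 := by
          rw [← h2]
          exact sum_congr rfl fun i _ => by rw [mul_comm]
        rw [h3, mul_zero]
    rw [h1, mul_zero]
  have hdc : (ξ : G → ℂ) 1 = (p : ℂ) - 2 := by
    rw [hdξ]
    have h1 : dξ + 2 = p := by rw [← hdξ']; exact hdeg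
    rw [← h1]
    push_cast
    ring
  have hsum1 : ∑ i ∈ univ.erase (0 : ZMod p), (ξ : G → ℂ) (XX x i) = ((-((p : ℤ) - 2) : ℤ) : ℂ) := by
    have h1 := add_sum_erase univ (fun i : ZMod p => (ξ : G → ℂ) (XX x i)) (mem_univ (0 : ZMod p))
    rw [hsum0, XX_zero, hdc] at h1
    push_cast
    linear_combination h1
  -- the inertia group of the trivial character
  let φ₁ : IrrCharacter H := Cfsg.Agent.Lib.Blocks.Principal.trivChar H
  have hφ₁ : (φ₁ : H → ℂ) = fun _ => 1 := rfl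
  have hTT : ∀ g, g ∈ TT hL (φ₁ : H → ℂ) ↔ g ∈ normalizer (zpowers x : Set G) := by
    intro g
    constructor
    · exact fun h => TT_le hL _ h
    · intro h
      exact ⟨h, fun y => by simp [hφ₁]⟩
  obtain ⟨AN, eN, tN, hIN⟩ := exists_inertiaData hL (isClassFunction_of_irr φ₁.2)
  have hdvd : (eN : ℤ) ∣ -((p : ℤ) - 2) := by
    refine dvd_sum_of_invariant hIN.epos hIN.Acard hIN.hA (fun i => (ξ : G → ℂ) (XX x i))
      (fun i => isIntegral_irr ξ.2 _) ?_ hsum1
    intro i j hi hj hij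
    have hα : (j / i) ^ eN = 1 := by
      rw [div_pow, ← hij, div_self (pow_ne_zero _ hi)]
    obtain ⟨g, hg, hgα⟩ := hIN.T2 (j / i) ((hIN.hA _).2 hα)
    have hgN := (hTT g).1 hg
    have h1 := hL.conj_XX (alphaG_spec hL hgN) i
    rw [hgα, div_mul_cancel₀ _ hi] at h1
    rw [← h1]
    exact (isClassFunction_of_irr ξ.2 _ _).symm
  have heN : eN = 1 := by
    have h1 : eN ∣ p - 2 := by
      have h2 : (eN : ℤ) ∣ (p : ℤ) - 2 := (dvd_neg).1 hdvd
      have h3 : ((p - 2 : ℕ) : ℤ) = (p : ℤ) - 2 := by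
        push_cast [Nat.cast_sub (show 2 ≤ p by omega)]
        ring
      rw [← h3] at h2
      exact_mod_cast h2
    have h2 : eN ∣ p - 1 := ⟨tN, hIN.het⟩
    have h3 : (p - 1) = (p - 2) + 1 := by omega
    rw [h3] at h2
    exact Nat.dvd_one.1 ((Nat.dvd_add_right h1).1 h2)
  have halpha : ∀ g (hg : g ∈ normalizer (zpowers x : Set G)), alphaG hL g = 1 := by
    intro g hg
    have h1 := hIN.T1 g ((hTT g).2 hg)
    have h2 := (hIN.hA _).1 h1
    rwa [heN, pow_one] at h2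
  have he : e = 1 := by
    have h1 : A ⊆ {1} := by
      intro α hα
      obtain ⟨g, hg, hgα⟩ := hI.T2 α hα
      rw [← hgα, halpha g (TT_le hL _ hg)]
      exact mem_singleton_self 1
    have h2 := card_le_card h1
    rw [hI.Acard, card_singleton] at h2
    have h3 := hI.epos
    omega
  have hbne : b ≠ 0 := by
    rw [← hb₀, he, pow_one]
    exact ha₀
  -- the value
  have hG : ∀ i : ZMod p, ∑ a : ZMod p, (mval x H (ξ : G → ℂ) (φ₀ : H → ℂ) ζ a : ℂ) * ζ ^ (a * i).val = ζ ^ (b * i).val := by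
    intro i
    rw [sum_eq_single b]
    · rw [hrow b hbne, he, pow_one, if_pos rfl]
      simp
    · intro a _ hab
      by_cases ha : a = 0
      · rw [ha, h0]
        simp
      · rw [hrow a ha, he, pow_one, if_neg hab]
        simp
    · intro h
      exact absurd (mem_univ _) h
  let c : IrrCharacter H → ℂ := fun φ => if ∃ a : ZMod p, mval x H (ξ : G → ℂ) (φ : H → ℂ) ζ a ≠ 0 then (φ : H → ℂ) 1 else 0
  have hvalξ : ∀ i : ZMod p, (ξ : G → ℂ) (XX x i) = (∑ φ, c φ) * ζ ^ (b * i).val := by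
    intro i
    rw [val_eq_sum_rows hL ξ hζ, sum_mul]
    refine sum_congr rfl fun φ _ => ?_
    by_cases hφ : ∃ a : ZMod p, mval x H (ξ : G → ℂ) (φ : H → ℂ) ζ a ≠ 0
    · simp only [c, if_pos hφ]
      obtain ⟨g, hg, hgb⟩ := hrel φ hφ
      congr 1
      rw [← hG i]
      refine sum_congr rfl fun a _ => ?_
      rw [hgb, halpha g hg, mul_one]
    · simp only [c, if_neg hφ]
      push Not at hφ
      simp [hφ]
  have h1x : ‖(ξ : G → ℂ) x‖ = ‖(ξ : G → ℂ) 1‖ := by
    have h1 := hvalξ 1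
    rw [XX_one hL.ord] at h1
    have h2 := hvalξ 0
    rw [XX_zero, mul_zero, ZMod.val_zero, pow_zero, mul_one] at h2
    rw [h1, h2, norm_mul, norm_pow, hζ.norm'_eq_one hp'.ne_zero, one_pow, mul_one]
  have hcent := central_of_norm ξ.2 hfaith h1x
  exact hnn (normal_of_central hz hcent)

end Main

end Cfsg.Agent.Lib.DefectOne
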