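import Mathlib
import Cfsg.Agent.Lib.DefectOne.PMTRows

/-!
# The rows of a faithful character of degree `p - 2`: the main row
-/

set_option autoImplicit false
set_option linter.unusedSectionVars false

namespace Cfsg.Agent.Lib.DefectOne

open Cfsg Subgroup Finset Cfsg.Agent.Lib.Blocks.Local Cfsg.Agent.Lib.Blocks.Central
open scoped ComplexConjugate

universe u

section Main

variable {G : Type u} [Group G] [Fintype G] {p : ℕ} [hp : Fact p.Prime] {x : G} {H : Subgroup G}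
  [Fintype H] (hL : LocalData p x H)

set_option maxHeartbeats 4000000 in
/-- The row structure of a faithful irreducible character of degree `p - 2`. -/
theorem rows_pm2 [Fintype (IrrCharacter G)] [Fintype (IrrCharacter H)]
    (P : Sylow p G) (hz : zpowers x = (P : Subgroup G)) (hnn : ¬ (P : Subgroup G).Normal)
    (ξ : IrrCharacter G) (hfaith : ∀ g : G, (ξ : G → ℂ) g = (ξ : G → ℂ) 1 → g = 1)
    (hdeg : charDegree (ξ : G → ℂ) + 2 = p) (hp7 : 5 < p) {ζ : ℂ} (hζ : IsPrimitiveRoot ζ p) :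
    ∃ (φ₀ : IrrCharacter H) (A : Finset (ZMod p)) (t : ℕ) (X Y : Finset (IrrCharacter G))
      (εX : IrrCharacter G → ℤ) (bY : IrrCharacter G → ZMod p),
      (φ₀ : H → ℂ) 1 = 1 ∧ InertiaData hL (φ₀ : H → ℂ) A 2 t ∧
      RowStructure x H (φ₀ : H → ℂ) ζ 2 t X Y εX (-1) bY ∧ ξ ∈ Y ∧
      mval x H (ξ : G → ℂ) (φ₀ : H → ℂ) ζ (0 : ZMod p) = 1 ∧
      (∀ a : ZMod p, a ≠ 0 → mval x H (ξ : G → ℂ) (φ₀ : H → ℂ) ζ a = if a ^ 2 = bY ξ then 0 else 1) ∧
      ∀ φ' : IrrCharacter H, φ' ≠ φ₀ → ∀ a : ZMod p, mval x H (ξ : G → ℂ) (φ' : H → ℂ) ζ a = 0 := by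
  classical
  have hp' := hp.out
  obtain ⟨M, hM⟩ := Cfsg.Agent.Lib.Blocks.ClassIndep.exists_modular p hp'
  haveI hMp : M.IsPrime := hM.2.1.isPrime
  have hdegφ : ∀ φ : IrrCharacter H, ∃ d : ℕ, 0 < d ∧ (φ : H → ℂ) 1 = d ∧ charDegree (φ : H → ℂ) = d := by
    intro φ
    obtain ⟨dφ, hdφ0, hdφ⟩ := Cfsg.Agent.Lib.Char.Ortho.irr_degree_pos φ.2
    exact ⟨dφ, hdφ0, hdφ, Cfsg.Agent.Lib.Char.Values.IsCharacter.charDegree_eq
      (Cfsg.Agent.Lib.Char.Basic.isCharacter_of_isIrrCharacter φ.2) hdφ⟩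
  have hsum := sum_deg_mTot hL ξ hζ
  have hle : ∀ φ : IrrCharacter H, charDegree (φ : H → ℂ) * mTot (p := p) x H (ξ : G → ℂ) (φ : H → ℂ) ζ ≤ charDegree (ξ : G → ℂ) := by
    intro φ
    rw [← hsum]
    exact single_le_sum (f := fun φ : IrrCharacter H => charDegree (φ : H → ℂ) * mTot (p := p) x H (ξ : G → ℂ) (φ : H → ℂ) ζ)
      (fun _ _ => Nat.zero_le _) (mem_univ φ)
  have hpd : ∀ (φ : IrrCharacter H), mTot (p := p) x H (ξ : G → ℂ) (φ : H → ℂ) ζ ≤ p - 2 := by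
    intro φ
    have h2 := hle φ
    obtain ⟨dφ, hdφ0, -, h3⟩ := hdegφ φ
    rw [h3] at h2
    have h4 : mTot (p := p) x H (ξ : G → ℂ) (φ : H → ℂ) ζ ≤ dφ * mTot (p := p) x H (ξ : G → ℂ) (φ : H → ℂ) ζ :=
      Nat.le_mul_of_pos_left _ hdφ0
    omega
  obtain ⟨dξ, -, hdξ⟩ := Cfsg.Agent.Lib.Char.Ortho.irr_degree_pos ξ.2
  have hdξ' : charDegree (ξ : G → ℂ) = dξ := Cfsg.Agent.Lib.Char.Values.IsCharacter.charDegree_eq
    (Cfsg.Agent.Lib.Char.Basic.isCharacter_of_isIrrCharacter ξ.2) hdξ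
  have hdp : ¬ p ∣ dξ := by
    intro h
    have h1 : dξ + 2 = p := by rw [← hdξ']; exact hdeg
    have h2 := Nat.le_of_dvd (by omega) h
    omega
  -- a non-trivial row
  have hex : ∃ (φ₀ : IrrCharacter H) (a₀ : ZMod p), a₀ ≠ 0 ∧ mval x H (ξ : G → ℂ) (φ₀ : H → ℂ) ζ a₀ ≠ 0 := by
    by_contra hno
    push Not at hno
    have h1 := val_eq_sum_rows hL ξ hζ (1 : ZMod p)
    have h0 := val_eq_sum_rows hL ξ hζ (0 : ZMod p)
    have h2 : (ξ : G → ℂ) (XX x (1 : ZMod p)) = (ξ : G → ℂ) (XX x (0 : ZMod p)) := by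
      rw [h1, h0]
      refine sum_congr rfl fun φ _ => ?_
      congr 1
      refine sum_congr rfl fun a _ => ?_
      by_cases ha : a = 0
      · rw [ha]
        simp
      · rw [hno φ a ha]
        simp
    rw [XX_zero] at h2
    have h3 := hfaith _ h2
    rw [XX_one hL.ord] at h3
    have h4 := hL.ord
    rw [h3, orderOf_one] at h4
    exact hp'.one_lt.ne h4
  obtain ⟨φ₀, a₀, ha₀, hma₀⟩ := hex
  obtain ⟨A, e, t, hI⟩ := exists_inertiaData hL (isClassFunction_of_irr φ₀.2)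
  obtain ⟨X, Y, εX, ε₀, bY, hS⟩ := exists_rowStructure hL φ₀.2 hζ hI.epos hI.het hI.Acard hI.hA hI.T1 hI.T2 hI.fib
  have hT : mTot (p := p) x H (ξ : G → ℂ) (φ₀ : H → ℂ) ζ + 1 < p := by
    have := hpd φ₀
    omega
  rcases row_cases hL ξ hS hI hT with h | ⟨h1, h2⟩ | ⟨hY, hs, h1, h2⟩ | ⟨hY, hs, h1, h2⟩
  · exact absurd (h a₀) hma₀
  · exact absurd (h2 a₀ ha₀) hma₀
  · exfalso
    have hb₀ : a₀ ^ e = bY ξ := by
      by_contra hne
      rw [h2 a₀ ha₀, if_neg hne] at hma₀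
      exact hma₀ rfl
    exact plus_row_false hL hM P hz hnn ξ hfaith hdeg hp7 hζ φ₀ hI (bY ξ) h1 h2 ha₀ hb₀
  · subst hs
    have hb₀ : a₀ ^ e ≠ bY ξ := by
      intro hne
      rw [h2 a₀ ha₀, if_pos hne] at hma₀
      exact hma₀ rfl
    -- the total multiplicity
    have hTval : (mTot (p := p) x H (ξ : G → ℂ) (φ₀ : H → ℂ) ζ : ℤ) + e = p := by
      have h3 := mTot_eq (p := p) (x := x) (φ₀ : H → ℂ) ζ (ξ : G → ℂ)
      rw [Rsum_of_Y hS hI.Acard hI.hA hY, h1] at h3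
      push_cast at h3
      linarith
    have het := hI.het
    have ht2 : 2 ≤ t := by
      by_contra hlt
      have ht1 : t = 1 := by
        rcases Nat.lt_or_ge t 2 with h | h
        · have ht0 : t ≠ 0 := by
            rintro rfl
            rw [mul_zero] at het
            omega
          omega
        · exact absurd h hlt
      rw [ht1, mul_one] at het
      obtain ⟨a₁, ha₁, hb₁⟩ := hS.exY ξ hY
      apply hb₀
      rw [← hb₁, ← het]
      rw [ZMod.pow_card_sub_one_eq_one ha₀, ZMod.pow_card_sub_one_eq_one ha₁]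
    have he2 : 2 * e ≤ p - 1 := by
      rw [het, mul_comm e t]
      exact Nat.mul_le_mul_right e ht2
    have hT2 : p + 1 ≤ 2 * mTot (p := p) x H (ξ : G → ℂ) (φ₀ : H → ℂ) ζ := by
      have h3 : (p : ℤ) + 1 ≤ 2 * (mTot (p := p) x H (ξ : G → ℂ) (φ₀ : H → ℂ) ζ : ℤ) := by
        have h4 : (2 : ℤ) * e ≤ (p : ℤ) - 1 := by
          have := hp'.one_lt
          omega
        linarith
      exact_mod_cast h3
    obtain ⟨d₀, hd₀0, hd₀, hd₀'⟩ := hdegφ φ₀
    have hd₁ : d₀ = 1 := by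
      by_contra hne
      have h2d : 2 ≤ d₀ := by omega
      have h3 := hle φ₀
      rw [hd₀', hdξ'] at h3
      have h5 : dξ + 2 = p := by rw [← hdξ']; exact hdeg
      have h4 : 2 * mTot (p := p) x H (ξ : G → ℂ) (φ₀ : H → ℂ) ζ ≤ d₀ * mTot (p := p) x H (ξ : G → ℂ) (φ₀ : H → ℂ) ζ :=
        Nat.mul_le_mul_right _ h2d
      omega
    have hzero : ∀ φ' : IrrCharacter H, φ' ≠ φ₀ → ∀ a : ZMod p, mval x H (ξ : G → ℂ) (φ' : H → ℂ) ζ a = 0 := by
      intro φ' hne a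
      by_contra ha
      have hpos : 0 < mTot (p := p) x H (ξ : G → ℂ) (φ' : H → ℂ) ζ := by
        unfold mTot
        exact sum_pos' (fun _ _ => Nat.zero_le _) ⟨a, mem_univ _, Nat.pos_of_ne_zero ha⟩
      have hm₂ : ¬ p ∣ mTot (p := p) x H (ξ : G → ℂ) (φ' : H → ℂ) ζ := by
        intro h
        have h2 := Nat.le_of_dvd hpos h
        have h3 := hpd φ'
        omega
      have hne₀ : ∃ a : ZMod p, rr x H (φ₀ : H → ℂ) ζ (ξ : G → ℂ) a ≠ 0 := by
        obtain ⟨a₁, ha₁, hb₁⟩ := hS.exY ξ hY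
        refine ⟨a₁, ?_⟩
        unfold rr
        rw [h1, h2 a₁ ha₁, if_pos hb₁]
        simp
      obtain ⟨g, hg, hgy⟩ := rel_of_rows hL hM ξ φ₀.2 φ'.2 hζ hI hne₀ hdξ hdp hm₂
      have hTeq := mTot_transport hL ξ.2 φ₀.2 φ'.2 hζ hg hgy
      -- two terms of the sum
      have h3 : ∑ φ : IrrCharacter H, charDegree (φ : H → ℂ) * mTot (p := p) x H (ξ : G → ℂ) (φ : H → ℂ) ζ ≥
          ∑ φ ∈ ({φ₀, φ'} : Finset (IrrCharacter H)), charDegree (φ : H → ℂ) * mTot (p := p) x H (ξ : G → ℂ) (φ : H → ℂ) ζ :=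
        sum_le_sum_of_subset (subset_univ _)
      rw [sum_pair hne.symm, hsum, hd₀', hd₁, one_mul, hTeq, hdξ'] at h3
      obtain ⟨d', hd'0, -, hd'⟩ := hdegφ φ'
      rw [hd'] at h3
      have h4 : mTot (p := p) x H (ξ : G → ℂ) (φ₀ : H → ℂ) ζ ≤ d' * mTot (p := p) x H (ξ : G → ℂ) (φ₀ : H → ℂ) ζ :=
        Nat.le_mul_of_pos_left _ hd'0
      have h5 : dξ + 2 = p := by rw [← hdξ']; exact hdeg
      omega
    have hmT : mTot (p := p) x H (ξ : G → ℂ) (φ₀ : H → ℂ) ζ + 2 = p := by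
      have h3 : ∑ φ : IrrCharacter H, charDegree (φ : H → ℂ) * mTot (p := p) x H (ξ : G → ℂ) (φ : H → ℂ) ζ =
          mTot (p := p) x H (ξ : G → ℂ) (φ₀ : H → ℂ) ζ := by
        rw [sum_eq_single φ₀]
        · rw [hd₀', hd₁, one_mul]
        · intro φ' _ hne
          have h4 : mTot (p := p) x H (ξ : G → ℂ) (φ' : H → ℂ) ζ = 0 := by
            unfold mTot
            exact sum_eq_zero fun a _ => hzero φ' hne a
          rw [h4, mul_zero]
        · intro h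
          exact absurd (mem_univ _) h
      rw [h3] at hsum
      omega
    have he : e = 2 := by
      have h3 : (mTot (p := p) x H (ξ : G → ℂ) (φ₀ : H → ℂ) ζ : ℤ) + 2 = p := by exact_mod_cast hmT
      have h4 : (e : ℤ) = 2 := by linarith
      exact_mod_cast h4
    subst he
    refine ⟨φ₀, A, t, X, Y, εX, bY, ?_, hI, hS, hY, h1, h2, hzero⟩
    rw [hd₀, hd₁, Nat.cast_one]

end Main

end Cfsg.Agent.Lib.DefectOne
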