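import Mathlib
import Cfsg.Agent.Lib.DefectOne.PM2Rows
import Cfsg.Agent.Lib.Char.PrimeIndex

/-!
# Rows when `H` is central
-/

set_option autoImplicit false
set_option linter.unusedSectionVars false

namespace Cfsg.Agent.Lib.DefectOne

open Cfsg Subgroup Finset Cfsg.Agent.Lib.Blocks.Local Cfsg.Agent.Lib.Blocks.Central
open scoped ComplexConjugate

universe u

section CentralChar

variable {G : Type u} [Group G] [Fintype G]

/-- The central character of an irreducible character. -/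
lemma exists_central_char {H : Subgroup G} (hHc : ∀ (y : H) (g : G), (y : G) * g = g * y) (ψ : IrrCharacter G) :
    ∃ l : H →* ℂˣ, ∀ (g : G) (y : H), (ψ : G → ℂ) (g * y) = ((l y : ℂˣ) : ℂ) * (ψ : G → ℂ) g := by
  have h0 := Cfsg.Agent.Lib.Char.Ortho.irr_apply_one_ne_zero ψ.2
  have hG : (Nat.card G : ℂ) ≠ 0 := by exact_mod_cast Nat.card_pos.ne'
  have hc : ∀ (y : H) (g : G), (ψ : G → ℂ) 1 * (ψ : G → ℂ) (g * y) = (ψ : G → ℂ) y * (ψ : G → ℂ) g := by
    intro y g
    have h1 := Cfsg.Agent.Lib.Char.ClassMul.irr_one_mul_sum ψ (y : G) g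
    have h2 : ∀ a : G, (ψ : G → ℂ) (a * (y : G) * a⁻¹ * g) = (ψ : G → ℂ) (g * y) := by
      intro a
      rw [← hHc y a, mul_inv_cancel_right, hHc y g]
    simp_rw [h2] at h1
    rw [sum_const, card_univ, nsmul_eq_mul, ← Nat.card_eq_fintype_card] at h1
    apply mul_left_cancel₀ hG
    rw [← h1]
    ring
  let f : H →* ℂ :=
    { toFun := fun y => (ψ : G → ℂ) (y : G) / (ψ : G → ℂ) 1
      map_one' := by
        simp only [OneMemClass.coe_one]
        exact div_self h0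
      map_mul' := by
        intro y z
        have h1 := hc z (y : G)
        simp only [Subgroup.coe_mul]
        field_simp
        linear_combination h1 }
  refine ⟨f.toHomUnits, fun g y => ?_⟩
  rw [MonoidHom.coe_toHomUnits]
  show (ψ : G → ℂ) (g * y) = (ψ : G → ℂ) (y : G) / (ψ : G → ℂ) 1 * (ψ : G → ℂ) g
  field_simp
  linear_combination hc y g

/-- The linear character of a homomorphism. -/
noncomputable def linChar {Γ : Type u} [Group Γ] (l : Γ →* ℂˣ) : IrrCharacter Γ :=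
  ⟨fun y => ((l y : ℂˣ) : ℂ), Cfsg.Agent.Lib.Char.LinearChars.isIrr_of_hom l⟩

@[simp] lemma linChar_apply {Γ : Type u} [Group Γ] (l : Γ →* ℂˣ) (y : Γ) :
    ((linChar l : IrrCharacter Γ) : Γ → ℂ) y = ((l y : ℂˣ) : ℂ) := rfl

/-- The value of `SS` with a central character. -/
lemma SS_of_central_char {H : Subgroup G} [Fintype H] {ψ : IrrCharacter G} {l : H →* ℂˣ}
    (hl : ∀ (g : G) (y : H), (ψ : G → ℂ) (g * y) = ((l y : ℂˣ) : ℂ) * (ψ : G → ℂ) g) (φ : IrrCharacter H) (u : G) :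
    SS H (ψ : G → ℂ) (φ : H → ℂ) u = if φ = linChar l then (ψ : G → ℂ) u else 0 := by
  classical
  unfold SS
  have h1 := sum_idemCoeff_irr φ (linChar l) 1
  simp only [one_mul] at h1
  have h2 : ∀ y : H, idemCoeff (φ : H → ℂ) y * (ψ : G → ℂ) (u * y) =
      (ψ : G → ℂ) u * (idemCoeff (φ : H → ℂ) y * ((linChar l : IrrCharacter H) : H → ℂ) y) := by
    intro y
    rw [hl, linChar_apply]
    ring
  rw [sum_congr rfl fun y _ => h2 y, ← mul_sum, h1]
  by_cases h : φ = linChar l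
  · rw [if_pos h, if_pos h, h, linChar_apply, map_one]
    simp
  · rw [if_neg h, if_neg h, mul_zero]

end CentralChar

section Central

variable {G : Type u} [Group G] [Fintype G] {p : ℕ} [hp : Fact p.Prime] {x : G} {H : Subgroup G}
  [Fintype H] (hL : LocalData p x H)

include hL in
/-- The rows away from the central character vanish. -/
lemma mval_of_ne_central_char {ψ : IrrCharacter G} {l : H →* ℂˣ}
    (hl : ∀ (g : G) (y : H), (ψ : G → ℂ) (g * y) = ((l y : ℂˣ) : ℂ) * (ψ : G → ℂ) g) {φ : IrrCharacter H}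
    (hφ : φ ≠ linChar l) {ζ : ℂ} (hζ : IsPrimitiveRoot ζ p) (a : ZMod p) :
    mval x H (ψ : G → ℂ) (φ : H → ℂ) ζ a = 0 := by
  have h1 := SS_one hL ψ.2 φ.2 hζ
  rw [SS_of_central_char hl, if_neg hφ] at h1
  have h0 := Cfsg.Agent.Lib.Char.Ortho.irr_apply_one_ne_zero φ.2
  have h2 : (mTot (p := p) x H (ψ : G → ℂ) (φ : H → ℂ) ζ : ℂ) = 0 :=
    (mul_eq_zero.1 h1.symm).resolve_left h0
  have h3 : mTot (p := p) x H (ψ : G → ℂ) (φ : H → ℂ) ζ = 0 := by exact_mod_cast h2
  unfold mTot at h3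
  exact (sum_eq_zero_iff.1 h3) a (mem_univ a)

include hL in
/-- The degree in terms of the row of the central character. -/
lemma deg_eq_mTot {ψ : IrrCharacter G} {l : H →* ℂˣ}
    (hl : ∀ (g : G) (y : H), (ψ : G → ℂ) (g * y) = ((l y : ℂˣ) : ℂ) * (ψ : G → ℂ) g) {ζ : ℂ}
    (hζ : IsPrimitiveRoot ζ p) :
    (ψ : G → ℂ) 1 = (mTot (p := p) x H (ψ : G → ℂ) ((linChar l : IrrCharacter H) : H → ℂ) ζ : ℂ) := by
  have h1 := SS_one hL ψ.2 (linChar l).2 hζ
  rw [SS_of_central_char hl, if_pos rfl, linChar_apply, map_one] at h1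
  simpa using h1

include hL in
/-- The values in terms of the row of the central character. -/
lemma val_eq_row {ψ : IrrCharacter G} {l : H →* ℂˣ}
    (hl : ∀ (g : G) (y : H), (ψ : G → ℂ) (g * y) = ((l y : ℂˣ) : ℂ) * (ψ : G → ℂ) g) {ζ : ℂ}
    (hζ : IsPrimitiveRoot ζ p) (i : ZMod p) :
    (ψ : G → ℂ) (XX x i) = ∑ a : ZMod p, (mval x H (ψ : G → ℂ) ((linChar l : IrrCharacter H) : H → ℂ) ζ a : ℂ) * ζ ^ (a * i).val := by
  have h1 := SS_eq hL ψ.2 (linChar l).2 hζ i
  rw [SS_of_central_char hl, if_pos rfl, linChar_apply, map_one] at h1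
  simpa using h1

include hL in
/-- The sum over `⟨x⟩`. -/
lemma sum_val_eq_mval {ψ : IrrCharacter G} {l : H →* ℂˣ}
    (hl : ∀ (g : G) (y : H), (ψ : G → ℂ) (g * y) = ((l y : ℂˣ) : ℂ) * (ψ : G → ℂ) g) {ζ : ℂ}
    (hζ : IsPrimitiveRoot ζ p) :
    ∑ i : ZMod p, (ψ : G → ℂ) (XX x i) =
      (p : ℂ) * (mval x H (ψ : G → ℂ) ((linChar l : IrrCharacter H) : H → ℂ) ζ (0 : ZMod p) : ℂ) := by
  simp_rw [val_eq_row hL hl hζ]
  rw [sum_comm]
  rw [sum_eq_single (0 : ZMod p)]
  · simp only [zero_mul, ZMod.val_zero, pow_zero, mul_one, sum_const, card_univ, ZMod.card, nsmul_eq_mul]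
  · intro a _ ha
    rw [← mul_sum]
    have h2 := sum_zeta hζ a
    rw [if_neg ha] at h2
    have h3 : ∑ i : ZMod p, ζ ^ (a * i).val = 0 := by
      rw [← h2]
      exact sum_congr rfl fun i _ => by rw [mul_comm]
    rw [h3, mul_zero]
  · intro h
    exact absurd (mem_univ _) h

end Central

section Tau

variable {G : Type u} [Group G] [Fintype G] {p : ℕ} [hp : Fact p.Prime] {x : G} {H : Subgroup G}
  (hL : LocalData p x H) {τ : G} (hτ : τ * x * τ⁻¹ = XX x (-1 : ZMod p))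

include hL hτ in
lemma tau_conj_XX (i : ZMod p) : τ * XX x i * τ⁻¹ = XX x (-i) := by
  have h1 := hL.conj_XX hτ i
  rwa [neg_one_mul] at h1

include hL hτ in
/-- The square of `τ` lies in `H` when `H` is central. -/
lemma tau_sq_mem (hodd : p ≠ 2) (hHc : ∀ (y : H) (g : G), (y : G) * g = g * y) : τ ^ 2 ∈ H := by
  have hord := hL.ord
  have hc : τ ^ 2 * x = x * τ ^ 2 := by
    have h1 : τ * x = XX x (-1 : ZMod p) * τ := by
      rw [← hτ]
      group
    have h2 : τ * XX x (-1 : ZMod p) = x * τ := by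
      have h3 := tau_conj_XX hL hτ (-1 : ZMod p)
      rw [neg_neg, XX_one hord] at h3
      calc τ * XX x (-1 : ZMod p) = τ * XX x (-1 : ZMod p) * τ⁻¹ * τ := by group
        _ = x * τ := by rw [h3]
    rw [pow_two, mul_assoc, h1, ← mul_assoc, h2, mul_assoc]
  obtain ⟨i, y, hy, hτy⟩ := hL.exists_decomp hc
  have h1 : τ * τ ^ 2 * τ⁻¹ = τ ^ 2 := by group
  have h2 : τ * (XX x i * y) * τ⁻¹ = XX x (-i) * y := by
    have h3 := tau_conj_XX hL hτ i
    rw [← h3]
    have h4 : y * τ⁻¹ = τ⁻¹ * y := hHc ⟨y, hy⟩ τ⁻¹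
    rw [mul_assoc, mul_assoc, h4]
    group
  rw [hτy, h2] at h1
  have h3 := mul_right_cancel h1
  have h4 : -i = i := XX_inj hord h3
  have h5 : i = 0 := by
    have h6 : (2 : ZMod p) * i = 0 := by
      rw [two_mul]
      nth_rw 1 [← h4]
      exact neg_add_cancel i
    have h7 : (2 : ZMod p) ≠ 0 := by
      intro h
      have h8 : ((2 : ℕ) : ZMod p) = 0 := by exact_mod_cast h
      rw [ZMod.natCast_eq_zero_iff] at h8
      exact hodd ((Nat.prime_dvd_prime_iff_eq hp.out Nat.prime_two).1 h8)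
    exact (mul_eq_zero.1 h6).resolve_left h7
  rw [hτy, h5, XX_zero, one_mul]
  exact hy

include hL hτ in
/-- The element `τ` is `p`-regular. -/
lemma tau_regular (hodd : p ≠ 2) (hHc : ∀ (y : H) (g : G), (y : G) * g = g * y) : ¬ p ∣ orderOf τ := by
  intro h
  have h1 := hL.orderOf_not_dvd (tau_sq_mem hL hτ hodd hHc)
  have h2 : orderOf τ ∣ 2 * orderOf (τ ^ 2) := by
    apply orderOf_dvd_of_pow_eq_one
    rw [pow_mul, pow_orderOf_eq_one]
  have h3 := h.trans h2
  rcases (Nat.Prime.dvd_mul hp.out).1 h3 with h4 | h4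
  · exact hodd ((Nat.prime_dvd_prime_iff_eq hp.out Nat.prime_two).1 h4)
  · exact h1 h4

include hL hτ in
/-- The elements of the coset `τ⟨x⟩` are conjugate to `τ`. -/
lemma tau_mul_conj (hodd : p ≠ 2) (i : ZMod p) : ∃ w : G, w * τ * w⁻¹ = τ * XX x i := by
  have hord := hL.ord
  have h2ne : (2 : ZMod p) ≠ 0 := by
    intro h
    have h8 : ((2 : ℕ) : ZMod p) = 0 := by exact_mod_cast h
    rw [ZMod.natCast_eq_zero_iff] at h8
    exact hodd ((Nat.prime_dvd_prime_iff_eq hp.out Nat.prime_two).1 h8)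
  obtain ⟨k, hki⟩ : ∃ k : ZMod p, k + k = -i := by
    refine ⟨-(i / 2), ?_⟩
    field_simp
    ring
  refine ⟨XX x k, ?_⟩
  have h1 : τ * XX x i = XX x (-i) * τ := by
    have h3 := tau_conj_XX hL hτ i
    calc τ * XX x i = τ * XX x i * τ⁻¹ * τ := by group
      _ = XX x (-i) * τ := by rw [h3]
  have h2 : τ * (XX x k)⁻¹ = XX x k * τ := by
    have h3 := tau_conj_XX hL hτ (-k)
    rw [neg_neg, XX_neg hord] at h3
    calc τ * (XX x k)⁻¹ = τ * (XX x k)⁻¹ * τ⁻¹ * τ := by group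
      _ = XX x k * τ := by rw [h3]
  calc XX x k * τ * (XX x k)⁻¹ = XX x k * (τ * (XX x k)⁻¹) := by group
    _ = XX x k * (XX x k * τ) := by rw [h2]
    _ = XX x (k + k) * τ := by rw [XX_add hord]; group
    _ = τ * XX x i := by rw [hki, h1]

include hL hτ in
/-- The values on the coset. -/
lemma val_tau_mul {ψ : G → ℂ} (hψ : IsClassFunction G ψ) (hodd : p ≠ 2) (i : ZMod p) : ψ (τ * XX x i) = ψ τ := by
  obtain ⟨w, hw⟩ := tau_mul_conj hL hτ hodd i
  rw [← hw]
  exact hψ _ _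

include hL hτ in
lemma val_mul_tau {ψ : G → ℂ} (hψ : IsClassFunction G ψ) (hodd : p ≠ 2) (i : ZMod p) : ψ (XX x i * τ) = ψ τ := by
  have h1 : XX x i * τ = τ * XX x (-i) := by
    have h3 := tau_conj_XX hL hτ (-i)
    rw [neg_neg] at h3
    calc XX x i * τ = τ * XX x (-i) * τ⁻¹ * τ := by rw [h3]
      _ = τ * XX x (-i) := by group
  rw [h1]
  exact val_tau_mul hL hτ hψ hodd _

include hL hτ in
/-- The bound for the value at `τ` by the multiplicity of the trivial character of `⟨x⟩`. -/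
theorem norm_tau_le {θ : G → ℂ} (hθ : IsCharacter G θ) (hodd : p ≠ 2) {n : ℕ}
    (hsum : ∑ i : ZMod p, θ (XX x i) = (p : ℂ) * n) :
    ‖θ τ‖ ≤ n ∧ (n = 1 → ‖θ τ‖ = 1) := by
  classical
  have hord := hL.ord
  set N := normalizer (zpowers x : Set G) with hN
  set x' : N := ⟨x, le_normalizer (mem_zpowers x)⟩ with hx'
  have hord' : orderOf x' = p := by
    rw [← hord]
    exact Subgroup.orderOf_mk _ _
  have hXX : ∀ i : ZMod p, ((XX x' i : N) : G) = XX x i := fun i => by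
    unfold XX
    simp [hx']
  have hnorm : ∀ g : N, g * x' * g⁻¹ ∈ zpowers x' := by
    intro g
    have h1 : (g : G) * x * (g : G)⁻¹ ∈ zpowers x := (mem_normalizer_iff.1 g.2 x).1 (mem_zpowers x)
    obtain ⟨k, hk⟩ := Subgroup.mem_zpowers_iff.1 h1
    refine Subgroup.mem_zpowers_iff.2 ⟨k, Subtype.ext ?_⟩
    simp only [Subgroup.coe_mul, InvMemClass.coe_inv, Subgroup.coe_zpow, hx']
    exact hk
  have hc : IsCharacter N (fun y : N => θ y) :=
    Cfsg.Agent.Lib.Char.Basic.isCharacter_restrict hθ N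
  have h1 := isCharacter_avg hord' hnorm hc
  set f : N → ℂ := fun y => (p : ℂ)⁻¹ * ∑ i : ZMod p, θ (((y * XX x' i : N)) : G) with hf
  have hp0 : (p : ℂ) ≠ 0 := by exact_mod_cast hp.out.ne_zero
  have hf1 : f 1 = n := by
    simp only [hf, one_mul, hXX, hsum]
    field_simp
  have hτN : τ ∈ N := hL.mem_normalizer_of_conj hτ
  have hcl := Cfsg.Agent.Lib.Char.Basic.isClassFunction_of_isCharacter hθ
  have hfτ : f ⟨τ, hτN⟩ = θ τ := by
    simp only [hf, Subgroup.coe_mul, hXX]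
    simp_rw [val_tau_mul hL hτ hcl hodd]
    rw [sum_const, card_univ, ZMod.card, nsmul_eq_mul]
    field_simp
  constructor
  · have h2 := Cfsg.Agent.Lib.Char.Values.IsCharacter.norm_le h1 ⟨τ, hτN⟩
    rw [hfτ, hf1] at h2
    simpa using h2
  · intro hn
    rw [hn] at hf1
    obtain ⟨φ, hφ⟩ := Cfsg.Agent.Lib.Char.LinearChars.exists_hom_of_isCharacter_one h1 (by rw [hf1]; simp)
    have h2 := congrFun hφ ⟨τ, hτN⟩
    rw [hfτ] at h2
    rw [h2]
    exact Cfsg.Agent.Lib.Char.PrimeIndex.norm_hom_eq_one φ _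

end Tau

end Cfsg.Agent.Lib.DefectOne
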