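import Mathlib

/-!
# Arithmetic for Sylow subgroups of prime order with few conjugates

`p ≡ 1` modulo `e` turns `d ∣ e M` into strong restrictions when the number `M = 1 + n p` of
Sylow subgroups satisfies `2 n < p + 3`.
-/

set_option autoImplicit false

namespace Cfsg.Agent.Lib.DefectOne.FewNum

/-- The basic inequality. -/
lemma key_ineq {j w p n : ℕ} (h1 : 1 + j * p ≤ (1 + j) * w) (hj : 1 ≤ j) (h2 : j + w ≤ n) (hn : 2 * n < p + 3) :
    False := by
  have h3 : (1 + j) * (2 * (j + w)) ≤ (1 + j) * (p + 2) := by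
    apply Nat.mul_le_mul_left
    omega
  have h4 : 2 * (1 + j * p) + (1 + j) * (2 * j) ≤ (1 + j) * (p + 2) := by
    calc 2 * (1 + j * p) + (1 + j) * (2 * j) ≤ 2 * ((1 + j) * w) + (1 + j) * (2 * j) := by omega
      _ = (1 + j) * (2 * (j + w)) := by ring
      _ ≤ _ := h3
  have h5 : p ≤ j * p := Nat.le_mul_of_pos_left _ hj
  have h6 : 1 ≤ j * j := Nat.mul_pos hj hj
  nlinarith

/-- The splitting of `e M = d k` along the greatest common divisor. -/
lemma gcd_split {d e M k : ℕ} (hd : 0 < d) (h : e * M = d * k) :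
    ∃ g D E w : ℕ, 0 < g ∧ 0 < D ∧ d = g * D ∧ e = g * E ∧ M = D * w ∧ k = E * w := by
  obtain ⟨D, E, hco, hD, hE⟩ := Nat.exists_coprime d e
  set g := Nat.gcd d e with hg
  have hg0 : 0 < g := Nat.gcd_pos_of_pos_left e hd
  have hD0 : 0 < D := by
    rcases Nat.eq_zero_or_pos D with h0 | h0
    · rw [h0, zero_mul] at hD
      omega
    · exact h0
  have h1 : g * (E * M) = g * (D * k) := by
    calc g * (E * M) = (E * g) * M := by ring
      _ = e * M := by rw [← hE]
      _ = d * k := h
      _ = (D * g) * k := by rw [← hD]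
      _ = g * (D * k) := by ring
  have h2 : E * M = D * k := Nat.eq_of_mul_eq_mul_left hg0 h1
  have h3 : D ∣ E * M := ⟨k, h2⟩
  have h4 : D ∣ M := hco.dvd_of_dvd_mul_left h3
  obtain ⟨w, hw⟩ := h4
  refine ⟨g, D, E, w, hg0, hD0, by rw [mul_comm, ← hD], by rw [mul_comm, ← hE], hw, ?_⟩
  rw [hw] at h2
  have h5 : D * (E * w) = D * k := by rw [← h2]; ring
  exact (Nat.eq_of_mul_eq_mul_left hD0 h5).symm

/-- A divisor `E` of `p - 1` dividing `1 + j p` divides `1 + j`. -/
lemma dvd_one_add {E p j c : ℕ} (hp : 1 ≤ p) (hEp : p - 1 = E * c) (h : E ∣ 1 + j * p) : E ∣ 1 + j := by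
  have hp' : p = E * c + 1 := by omega
  rw [hp'] at h
  have h1 : 1 + j * (E * c + 1) = (1 + j) + E * (j * c) := by ring
  rw [h1] at h
  exact (Nat.dvd_add_left (Dvd.intro _ rfl)).1 h

/-- The degree of a character of sign `+` in `X`. -/
theorem core_plus {p e n j d k c : ℕ} (hp : 2 ≤ p) (hep : p - 1 = e * c) (hn : 2 * n < p + 3)
    (hd : d = 1 + j * p) (hj : 1 ≤ j) (h : e * (1 + n * p) = d * k) : d = 1 + n * p := by
  have hd0 : 0 < d := by omega
  obtain ⟨g, D, E, w, hg, hD0, h1, h2, h3, h4⟩ := gcd_split hd0 h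
  have hpZ : (0 : ℤ) < p := by exact_mod_cast (by omega : 0 < p)
  -- `p` is coprime to `D`
  have hcop : IsCoprime (D : ℤ) (p : ℤ) := by
    refine ⟨g, -j, ?_⟩
    have : (g : ℤ) * D = 1 + j * p := by
      have h5 : g * D = 1 + j * p := by rw [← h1, hd]
      exact_mod_cast h5
    linear_combination this
  have h5 : (g : ℤ) * D = 1 + j * p := by
    have h5 : g * D = 1 + j * p := by rw [← h1, hd]
    exact_mod_cast h5
  have h6 : (D : ℤ) * w = 1 + n * p := by
    have h6 : D * w = 1 + n * p := h3.symm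
    exact_mod_cast h6
  have h7 : (p : ℤ) ∣ (D : ℤ) * ((w : ℤ) - g) := ⟨(n : ℤ) - j, by linear_combination h6 - h5⟩
  have h8 : (p : ℤ) ∣ (w : ℤ) - g := hcop.symm.dvd_of_dvd_mul_left h7
  obtain ⟨i, hi⟩ := h8
  -- `g < p`
  have hgp : g < p := by
    have he0 : 0 < e := by
      rcases Nat.eq_zero_or_pos e with h0 | h0
      · rw [h0, zero_mul] at hep
        omega
      · exact h0
    have hc0 : 0 < c := by
      rcases Nat.eq_zero_or_pos c with h0 | h0
      · rw [h0, mul_zero] at hep
        omega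
      · exact h0
    have h9 : g ≤ e := by
      rw [h2]
      have hE0 : 0 < E := by
        rcases Nat.eq_zero_or_pos E with h0 | h0
        · rw [h0, mul_zero] at h2
          omega
        · exact h0
      exact Nat.le_mul_of_pos_right _ hE0
    have h10 : e ≤ e * c := Nat.le_mul_of_pos_right _ hc0
    omega
  have hi0 : 0 ≤ i := by
    by_contra hneg
    push Not at hneg
    have h9 : (w : ℤ) = g + p * i := by linear_combination hi
    have h10 : (0 : ℤ) ≤ w := by positivity
    have h11 : (g : ℤ) < p := by exact_mod_cast hgp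
    nlinarith
  rcases hi0.eq_or_lt with h9 | h9
  · -- `i = 0`
    have h10 : (w : ℤ) = g := by
      rw [← h9] at hi
      linear_combination hi
    have h11 : w = g := by exact_mod_cast h10
    rw [h3, h11, h1]
    ring
  · -- `i ≥ 1`
    exfalso
    obtain ⟨i', rfl⟩ : ∃ i' : ℕ, i = i' := ⟨i.toNat, by rw [Int.toNat_of_nonneg hi0]⟩
    have hi1 : 1 ≤ i' := by exact_mod_cast h9
    have h10 : (w : ℤ) = g + p * i' := by linear_combination hi
    have h11 : (n : ℤ) = j + i' * D := by
      have h12 : (p : ℤ) * n = p * (j + i' * D) := by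
        rw [h10] at h6
        linear_combination h5 - h6
      exact mul_left_cancel₀ hpZ.ne' h12
    have h12 : n = j + i' * D := by exact_mod_cast h11
    -- `g ∣ 1 + j`
    have hgdvd : g ∣ 1 + j := by
      have h13 : p - 1 = g * (E * c) := by rw [hep, h2]; ring
      refine dvd_one_add (E := g) (c := E * c) (by omega) h13 ⟨D, ?_⟩
      rw [← hd, h1]
    have hgle : g ≤ 1 + j := Nat.le_of_dvd (by omega) hgdvd
    refine key_ineq (j := j) (w := D) (p := p) (n := n) ?_ hj ?_ hn
    · calc 1 + j * p = d := hd.symm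
        _ = g * D := h1
        _ ≤ _ := Nat.mul_le_mul_right _ hgle
    · rw [h12]
      have : D ≤ i' * D := Nat.le_mul_of_pos_left _ hi1
      omega

/-- The degree of an exceptional character of sign `+`. -/
theorem core_eps_plus {p e n m d k c j : ℕ} (hp : p.Prime) (hep : p - 1 = e * c) (hn : 2 * n < p + 3) (he0 : 0 < e)
    (hd : d = m * p + e) (hk : k = 1 + j * p) (h : e * (1 + n * p) = d * k) : m = 0 ∨ j = 0 := by
  by_contra hne
  push Not at hne
  obtain ⟨hm, hj⟩ := hne
  have hj1 : 1 ≤ j := by omega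
  have hd0 : 0 < d := by omega
  obtain ⟨g, D, E, w, hg, hD0, h1, h2, h3, h4⟩ := gcd_split hd0 h
  have hc0 : 0 < c := by
    rcases Nat.eq_zero_or_pos c with h0 | h0
    · rw [h0, mul_zero] at hep
      have := hp.two_le
      omega
    · exact h0
  have hgp : Nat.Coprime g p := by
    have h9 : g ∣ p - 1 := ⟨E * c, by rw [hep, h2]; ring⟩
    have h10 : g ≤ p - 1 := Nat.le_of_dvd (by have := hp.two_le; omega) h9
    have h11 : ¬ p ∣ g := fun h12 => by
      have h13 := Nat.le_of_dvd hg h12
      have := hp.two_le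
      omega
    exact ((Nat.Prime.coprime_iff_not_dvd hp).2 h11).symm
  have h5 : g ∣ m * p := by
    have h6 : g ∣ m * p + e := ⟨D, by rw [← hd, h1]⟩
    have h7 : g ∣ e := ⟨E, h2⟩
    exact (Nat.dvd_add_left h7).1 h6
  have h6 : g ∣ m := hgp.dvd_of_dvd_mul_right h5
  obtain ⟨m', hm'⟩ := h6
  have hm'0 : 1 ≤ m' := by
    rcases Nat.eq_zero_or_pos m' with h0 | h0
    · rw [h0, mul_zero] at hm'
      omega
    · exact h0
  have hDeq : D = m' * p + E := by
    have h7 : g * D = g * (m' * p + E) := by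
      rw [← h1, hd, hm', h2]
      ring
    exact Nat.eq_of_mul_eq_mul_left hg h7
  have hEw : E * w = 1 + j * p := by rw [← h4, hk]
  have hn1 : n = m' * w + j := by
    have h7 : p * n = p * (m' * w + j) := by
      have h8 : 1 + n * p = (m' * p + E) * w := by rw [← hDeq, h3]
      have h9 : (m' * p + E) * w = 1 + p * (m' * w + j) := by
        calc (m' * p + E) * w = m' * p * w + E * w := by ring
          _ = 1 + p * (m' * w + j) := by rw [hEw]; ring
      have h10 : 1 + n * p = 1 + p * (m' * w + j) := h8.trans h9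
      nlinarith
    exact Nat.eq_of_mul_eq_mul_left hp.pos h7
  have hEdvd : E ∣ 1 + j := by
    refine dvd_one_add (E := E) (c := g * c) (by have := hp.two_le; omega) ?_ ⟨w, hEw.symm⟩
    rw [hep, h2]
    ring
  have hEle : E ≤ 1 + j := Nat.le_of_dvd (by omega) hEdvd
  refine key_ineq (j := j) (w := w) (p := p) (n := n) ?_ hj1 ?_ hn
  · rw [← hEw]
    exact Nat.mul_le_mul_right _ hEle
  · rw [hn1]
    have hw : w ≤ m' * w := Nat.le_mul_of_pos_left _ hm'0
    omega

/-- The inequality of the case of sign `-`. -/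
lemma minus_ineq {a c w p : ℤ} (h1 : a * w = c * p - 1) (ha : 1 ≤ a) (ha1 : a ≤ c - 1) (ha2 : 2 * a ≤ p - 1)
    (h2 : 2 * (w - c) ≤ p + 2) (hp : 2 ≤ p) : False := by
  have h3 : 2 * (c * p) - 2 ≤ a * (p + 2 + 2 * c) := by
    have h4 : a * (2 * (w - c)) ≤ a * (p + 2) := mul_le_mul_of_nonneg_left h2 (by omega)
    nlinarith
  have hc : 2 ≤ c := by omega
  rcases le_or_gt (2 * c) (p + 1) with h5 | h5
  · have h4 : a * (p + 2 + 2 * c) ≤ (c - 1) * (p + 2 + 2 * c) :=
      mul_le_mul_of_nonneg_right ha1 (by nlinarith)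
    have h6 : c * p + p ≤ 2 * c * c := by nlinarith
    have h7 : 2 * c * c ≤ (p + 1) * c := mul_le_mul_of_nonneg_right h5 (by omega)
    have h8 : p ≤ c := by nlinarith
    omega
  · have h4 : 2 * a * (p + 2 + 2 * c) ≤ (p - 1) * (p + 2 + 2 * c) :=
      mul_le_mul_of_nonneg_right ha2 (by nlinarith)
    have h6 : 2 * c * (p + 1) ≤ p * (p + 1) + 2 := by nlinarith
    have h7 : (p + 2) * (p + 1) ≤ 2 * c * (p + 1) := mul_le_mul_of_nonneg_right (by omega) (by omega)
    nlinarith

/-- The degree of an exceptional character of sign `-`. -/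
theorem core_eps_minus {p e n s d k c t : ℕ} (hp : p.Prime) (hep : p - 1 = e * t) (ht : 2 ≤ t) (hn : 2 * n < p + 3)
    (he0 : 0 < e) (hd : d + e = s * p) (hd0 : 0 < d) (hk : k + 1 = c * p) (h : e * (1 + n * p) = d * k) :
    t * d = 1 + n * p := by
  have hp2 := hp.two_le
  obtain ⟨g, D, E, w, hg, hD0, h1, h2, h3, h4⟩ := gcd_split hd0 h
  have hE0 : 0 < E := by
    rcases Nat.eq_zero_or_pos E with h0 | h0
    · rw [h0, mul_zero] at h2
      omega
    · exact h0
  have hgp : Nat.Coprime g p := by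
    have h9 : g ∣ p - 1 := ⟨E * t, by rw [hep, h2]; ring⟩
    have h10 : g ≤ p - 1 := Nat.le_of_dvd (by omega) h9
    have h11 : ¬ p ∣ g := fun h12 => by
      have h13 := Nat.le_of_dvd hg h12
      omega
    exact ((Nat.Prime.coprime_iff_not_dvd hp).2 h11).symm
  have h5 : g ∣ s * p := by
    rw [← hd, h1, h2]
    exact ⟨D + E, by ring⟩
  obtain ⟨s', hs'⟩ : g ∣ s := hgp.dvd_of_dvd_mul_right h5
  have hDE : D + E = s' * p := by
    have h7 : g * (D + E) = g * (s' * p) := by
      calc g * (D + E) = d + e := by rw [h1, h2]; ring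
        _ = s * p := hd
        _ = g * (s' * p) := by rw [hs']; ring
    exact Nat.eq_of_mul_eq_mul_left hg h7
  have hw0 : 0 < w := by
    rcases Nat.eq_zero_or_pos w with h0 | h0
    · rw [h0, mul_zero] at h3
      omega
    · exact h0
  have hs'0 : 1 ≤ s' := by
    rcases Nat.eq_zero_or_pos s' with h0 | h0
    · rw [h0, zero_mul] at hDE
      omega
    · exact h0
  have hEw : E * w + 1 = c * p := by rw [← h4, hk]
  have hc1 : 1 ≤ c := by
    rcases Nat.eq_zero_or_pos c with h0 | h0
    · rw [h0, zero_mul] at hEw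
      omega
    · exact h0
  have hpZ : (0 : ℤ) < p := by exact_mod_cast hp.pos
  -- the formula for `n`
  have hn1 : (n : ℤ) = s' * w - c := by
    have h7 : (p : ℤ) * n = p * (s' * w - c) := by
      have h8 : ((D : ℤ) + E) * w = s' * p * w := by
        have : (D + E) * w = s' * p * w := by rw [hDE]
        exact_mod_cast this
      have h9 : (D : ℤ) * w = 1 + n * p := by
        have : D * w = 1 + n * p := h3.symm
        exact_mod_cast this
      have h10 : (E : ℤ) * w + 1 = c * p := by exact_mod_cast hEw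
      linear_combination h8 - h9 - h10
    exact mul_left_cancel₀ hpZ.ne' h7
  -- `c = 1`
  have hc : c = 1 := by
    by_contra hne
    have hc2 : 2 ≤ c := by omega
    -- `E ∣ c - 1`
    have hEdvd : E ∣ c - 1 := by
      obtain ⟨c', rfl⟩ : ∃ c', c = c' + 1 := ⟨c - 1, by omega⟩
      have h7 : p = E * (g * t) + 1 := by
        have : p - 1 = E * (g * t) := by rw [hep, h2]; ring
        omega
      have h8 : E * w + 1 = (c' + 1) * (E * (g * t) + 1) := by rw [hEw, ← h7]
      have h9 : E * w = E * ((c' + 1) * (g * t)) + c' := by nlinarith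
      have h10 : E ∣ c' := by
        have h11 : E ∣ E * ((c' + 1) * (g * t)) + c' := ⟨w, h9.symm⟩
        exact (Nat.dvd_add_right (Dvd.intro _ rfl)).1 h11
      simpa using h10
    have hEle : E ≤ c - 1 := Nat.le_of_dvd (by omega) hEdvd
    have hE2 : 2 * E ≤ p - 1 := by
      have h7 : 2 * E ≤ g * E * t := by
        have : 1 ≤ g * E := Nat.mul_pos hg hE0
        nlinarith
      rw [hep, h2]
      exact h7
    refine minus_ineq (a := E) (c := c) (w := w) (p := p) ?_ (by exact_mod_cast hE0) ?_ ?_ ?_ (by exact_mod_cast hp2)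
    · have h7 : (E : ℤ) * w + 1 = c * p := by exact_mod_cast hEw
      linear_combination h7
    · have : (E : ℤ) ≤ ((c - 1 : ℕ) : ℤ) := by exact_mod_cast hEle
      push_cast [Nat.cast_sub (by omega : 1 ≤ c)] at this
      exact this
    · have : ((2 * E : ℕ) : ℤ) ≤ ((p - 1 : ℕ) : ℤ) := by exact_mod_cast hE2
      push_cast [Nat.cast_sub (by omega : 1 ≤ p)] at this
      exact this
    · have h7 : (w : ℤ) ≤ s' * w := by
        have : w ≤ s' * w := Nat.le_mul_of_pos_left _ hs'0
        exact_mod_cast this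
      have h8 : (2 : ℤ) * n < p + 3 := by exact_mod_cast hn
      rw [hn1] at h8
      omega
  -- the conclusion
  subst hc
  have h7 : E * w = E * (g * t) := by
    have h8 : p - 1 = E * (g * t) := by rw [hep, h2]; ring
    omega
  have h8 : w = g * t := Nat.eq_of_mul_eq_mul_left hE0 h7
  rw [h3, h8, h1]
  ring

/-- The form used in the case of sign `-`. -/
theorem num_minus' {p e n s c t : ℤ} {p' : ℕ} (hpp : (p' : ℤ) = p) (hp : p'.Prime) (he0 : 1 ≤ e) (hep : p - 1 = e * t)
    (ht : 2 ≤ t) (hn0 : 0 ≤ n) (hn : 2 * n < p + 3) (hs : 1 ≤ s) (hc : 1 ≤ c) (hd0 : e < p * s)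
    (h : (p * s - e) * (c * p - 1) = e * (1 + n * p)) : t * (p * s - e) = 1 + n * p := by
  subst hpp
  lift e to ℕ using (by omega)
  lift n to ℕ using hn0
  lift s to ℕ using (by omega)
  lift c to ℕ using (by omega)
  lift t to ℕ using (by omega)
  have hp2 := hp.two_le
  have hd1 : s * p' - e + e = s * p' := by
    have : e < p' * s := by exact_mod_cast hd0
    have h1 : p' * s = s * p' := by ring
    omega
  have hk1 : c * p' - 1 + 1 = c * p' := by
    have : 1 ≤ c := by exact_mod_cast hc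
    have : 0 < c * p' := Nat.mul_pos (by omega) hp.pos
    omega
  have hcast1 : ((s * p' - e : ℕ) : ℤ) = p' * s - e := by
    have h1 : ((s * p' - e + e : ℕ) : ℤ) = ((s * p' : ℕ) : ℤ) := by rw [hd1]
    push_cast at h1
    have h2 := h1
    linear_combination h2
  have hcast2 : ((c * p' - 1 : ℕ) : ℤ) = c * p' - 1 := by
    have h1 : ((c * p' - 1 + 1 : ℕ) : ℤ) = ((c * p' : ℕ) : ℤ) := by rw [hk1]
    push_cast at h1
    linear_combination h1
  have h1 := core_eps_minus (p := p') (e := e) (n := n) (s := s) (d := s * p' - e) (k := c * p' - 1) (c := c) (t := t)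
    hp (by
      have h2 : (p' : ℤ) - 1 = e * t := hep
      have h3 : ((p' - 1 : ℕ) : ℤ) = ((e * t : ℕ) : ℤ) := by
        push_cast [Nat.cast_sub hp.one_le]
        exact h2
      exact_mod_cast h3) (by exact_mod_cast ht) (by exact_mod_cast hn) (by
        have : (1 : ℤ) ≤ e := he0
        exact_mod_cast this) hd1 (by
        have : e < p' * s := by exact_mod_cast hd0
        have h1 : p' * s = s * p' := by ring
        omega) hk1 (by
      have h2 : ((e * (1 + n * p') : ℕ) : ℤ) = (((s * p' - e) * (c * p' - 1) : ℕ) : ℤ) := by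
        push_cast
        rw [hcast1, hcast2]
        linear_combination -h
      exact_mod_cast h2)
  have h2 : ((t * (s * p' - e) : ℕ) : ℤ) = ((1 + n * p' : ℕ) : ℤ) := by rw [h1]
  push_cast at h2
  rw [hcast1] at h2
  exact h2

/-- The form used for characters of sign `+`. -/
theorem num_X' {p e n a b t : ℤ} {p' : ℕ} (hpp : (p' : ℤ) = p) (hp : p'.Prime) (he0 : 1 ≤ e) (hep : p - 1 = e * t)
    (ht : 0 ≤ t) (hn0 : 0 ≤ n) (hn : 2 * n < p + 3) (ha : 0 ≤ a) (hb : 0 ≤ b)
    (h : (a * p + 1) * (b * p + e) = e * (1 + n * p)) : a = 0 ∨ b = 0 := by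
  subst hpp
  by_contra hne
  push Not at hne
  have ha1 : 1 ≤ a := by omega
  have hb1 : 1 ≤ b := by omega
  lift e to ℕ using (by omega)
  lift n to ℕ using hn0
  lift a to ℕ using ha
  lift b to ℕ using hb
  lift t to ℕ using ht
  have hpZ : (0 : ℤ) < p' := by exact_mod_cast hp.pos
  have h1 := core_plus (p := p') (e := e) (n := n) (j := a) (d := 1 + a * p') (k := b * p' + e) (c := t) hp.two_le (by
      have h3 : ((p' - 1 : ℕ) : ℤ) = ((e * t : ℕ) : ℤ) := by
        push_cast [Nat.cast_sub hp.one_le]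
        exact hep
      exact_mod_cast h3) (by exact_mod_cast hn) rfl (by exact_mod_cast ha1) (by
      have h2 : ((e * (1 + n * p') : ℕ) : ℤ) = (((1 + a * p') * (b * p' + e) : ℕ) : ℤ) := by
        push_cast
        linear_combination -h
      exact_mod_cast h2)
  have h2 : (1 : ℤ) + a * p' = 1 + n * p' := by exact_mod_cast h1
  rw [show (a : ℤ) * p' + 1 = 1 + a * p' by ring, h2] at h
  have h3 : (1 + (n : ℤ) * p') * (b * p') = 0 := by linear_combination h
  have h4 : (0 : ℤ) < (1 + (n : ℤ) * p') * (b * p') := by positivity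
  omega

/-- The form used for the exceptional characters of sign `+`. -/
theorem num_plus' {p e n s c t : ℤ} {p' : ℕ} (hpp : (p' : ℤ) = p) (hp : p'.Prime) (he0 : 1 ≤ e) (hep : p - 1 = e * t)
    (ht : 0 ≤ t) (hn0 : 0 ≤ n) (hn : 2 * n < p + 3) (hs : 0 ≤ s) (hc : 0 ≤ c)
    (h : (p * s + e) * (c * p + 1) = e * (1 + n * p)) : s = 0 ∨ c = 0 := by
  subst hpp
  lift e to ℕ using (by omega)
  lift n to ℕ using hn0
  lift s to ℕ using hs
  lift c to ℕ using hc
  lift t to ℕ using ht
  have h1 := core_eps_plus (p := p') (e := e) (n := n) (m := s) (d := s * p' + e) (k := 1 + c * p') (c := t) (j := c) hp (by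
      have h3 : ((p' - 1 : ℕ) : ℤ) = ((e * t : ℕ) : ℤ) := by
        push_cast [Nat.cast_sub hp.one_le]
        exact hep
      exact_mod_cast h3) (by exact_mod_cast hn) (by
        have : (1 : ℤ) ≤ e := he0
        exact_mod_cast this) rfl rfl (by
      have h2 : ((e * (1 + n * p') : ℕ) : ℤ) = (((s * p' + e) * (1 + c * p') : ℕ) : ℤ) := by
        push_cast
        linear_combination -h
      exact_mod_cast h2)
  rcases h1 with h2 | h2
  · left
    exact_mod_cast h2
  · right
    exact_mod_cast h2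

end Cfsg.Agent.Lib.DefectOne.FewNum
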