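import Mathlib
import Cfsg.Agent.Lib.DefectOne.ThmCPrime
import Cfsg.Agent.Lib.DefectOne.FewNum

/-!
# Self-centralizing Sylow subgroups of prime order with few conjugates
-/

set_option autoImplicit false
set_option linter.unusedSectionVars false

namespace Cfsg.Agent.Lib.DefectOne

open Cfsg Subgroup Finset
open scoped ComplexConjugate Pointwise MatrixGroups

universe u

variable {G : Type u} [Group G] {p : ℕ} [hp : Fact p.Prime]

variable [Fintype G] {x : G}

section Main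

variable {ζ : ℂ} {e t : ℕ} {X Y : Finset (IrrCharacter G)} {δ : IrrCharacter G → ℤ} {ε : ℤ} {b : IrrCharacter G → ZMod p}

set_option maxHeartbeats 4000000 in
/-- The case of sign `+` does not occur. -/
theorem plus_false' (hperf : commutator G = ⊤) (hζ : IsPrimitiveRoot ζ p) (hT : SCTable x ζ e t X Y δ ε b)
    (hε : ε = 1) {n M : ℕ} (hG : Nat.card G = p * e * M) (hM : M = 1 + n * p) (hn : 2 ≤ n) (he2 : 2 ≤ e)
    (hen : 2 * n < p + 3) (ht : 2 ≤ t) : False := by
  classical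
  haveI : Finite (IrrCharacter G) := Cfsg.Agent.Lib.Char.Complete.finite_irr
  letI : Fintype (IrrCharacter G) := Fintype.ofFinite _
  have hp' := hp.out
  have hhet0 := hT.het
  have h2e : 2 * e < p := by
    have h1 : 2 * e ≤ e * t := by nlinarith [hT.epos]
    have := hp'.two_le
    omega
  have hepZ : (p : ℤ) - 1 = e * t := by
    have h3 : ((p - 1 : ℕ) : ℤ) = ((e * t : ℕ) : ℤ) := by rw [hhet0]
    push_cast [Nat.cast_sub hp'.one_le] at h3
    exact h3
  have hpZ : (0 : ℤ) < p := by exact_mod_cast hp'.pos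
  have hpr : Prime (p : ℤ) := Nat.prime_iff_prime_int.1 hp'
  have hpe : ¬ (p : ℤ) ∣ (e : ℤ) := by
    intro h
    have h1 : p ∣ e := by exact_mod_cast h
    have h2 := Nat.le_of_dvd hT.epos h1
    omega
  have hMZ : (M : ℤ) = 1 + n * p := by rw [hM]; push_cast; ring
  have hirrc : ∀ χ : IrrCharacter G, IsCharacter G (χ : G → ℂ) := fun χ =>
    Cfsg.Agent.Lib.Char.Basic.isCharacter_of_isIrrCharacter χ.2
  have hdc : ∀ χ : IrrCharacter G, (χ : G → ℂ) 1 = (charDegree (χ : G → ℂ) : ℂ) := fun χ =>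
    (Cfsg.Agent.Lib.Char.Values.IsCharacter.charDegree_cast (hirrc χ)).symm
  have hdpos : ∀ χ : IrrCharacter G, 0 < charDegree (χ : G → ℂ) := by
    intro χ
    obtain ⟨m, hm, h1⟩ := Cfsg.Agent.Lib.Char.Ortho.irr_degree_pos χ.2
    have h2 := hdc χ
    rw [h1] at h2
    have h3 : m = charDegree (χ : G → ℂ) := by exact_mod_cast h2
    omega
  -- a character in `Y`
  obtain ⟨θ₀, hθ₀⟩ : Y.Nonempty := card_pos.1 (by rw [hT.cardY]; omega)
  obtain ⟨m₀, hm₀, -⟩ := hT.degY θ₀ hθ₀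
  rw [hε, one_mul] at hm₀
  have hnd : ¬ p ∣ charDegree (θ₀ : G → ℂ) := by
    intro h
    have h1 : (p : ℤ) ∣ (charDegree (θ₀ : G → ℂ) : ℤ) := by exact_mod_cast h
    rw [hm₀] at h1
    exact hpe ((dvd_add_right (dvd_mul_right _ _)).1 h1)
  obtain ⟨k, hk⟩ := exists_cofactor hG θ₀.2 hnd
  have hk0 : 1 ≤ k := by
    rcases Nat.eq_zero_or_pos k with h | h
    · rw [h, mul_zero] at hk
      have : 0 < e * M := Nat.mul_pos hT.epos (by omega)
      omega
    · exact h
  have hkZ : (e : ℤ) * (1 + n * p) = (p * m₀ + e) * k := by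
    have h1 : (e : ℤ) * M = (charDegree (θ₀ : G → ℂ) : ℤ) * k := by exact_mod_cast hk
    rw [hMZ, hm₀] at h1
    exact h1
  have hk1 : (p : ℤ) ∣ (k : ℤ) - 1 := by
    have h1 : (p : ℤ) ∣ (e : ℤ) * ((k : ℤ) - 1) := ⟨e * n - m₀ * k, by linear_combination -hkZ⟩
    exact (hpr.dvd_or_dvd h1).resolve_left hpe
  obtain ⟨c, hc⟩ := hk1
  have hc0 : 0 ≤ c := by
    by_contra hneg
    push Not at hneg
    have h1 : (k : ℤ) ≥ 1 := by exact_mod_cast hk0
    nlinarith
  have hplus := FewNum.num_plus' (p := p) (e := e) (n := n) (s := m₀) (c := c) (t := t) (p' := p) rfl hp'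
    (by exact_mod_cast hT.epos) hepZ (by positivity) (by positivity) (by exact_mod_cast hen) (by positivity) hc0 (by
      have hk2 : (k : ℤ) = c * p + 1 := by linear_combination hc
      rw [← hk2]
      linear_combination -hkZ)
  have hd₀ : charDegree (θ₀ : G → ℂ) = e := by
    rcases hplus with h | h
    · have h1 : (m₀ : ℤ) = 0 := h
      rw [h1] at hm₀
      have h2 : (charDegree (θ₀ : G → ℂ) : ℤ) = e := by rw [hm₀]; ring
      exact_mod_cast h2
    · exfalso
      have h1 : (k : ℤ) = 1 := by rw [h] at hc; linear_combination hc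
      have h2 : k = 1 := by exact_mod_cast h1
      rw [h2, mul_one] at hk
      -- the degree is too large
      have h3 := Cfsg.Agent.Lib.Char.CompleteCor.sum_sq_degrees (G := G)
      have h4 : ∑ χ : IrrCharacter G, charDegree (χ : G → ℂ) ^ 2 = Nat.card G := by
        have h5 : ∑ χ : IrrCharacter G, ((charDegree (χ : G → ℂ) : ℂ)) ^ 2 = (Nat.card G : ℂ) := by
          rw [← h3]
          exact sum_congr rfl fun χ _ => by rw [hdc χ]
        exact_mod_cast h5
      have h5 := single_le_sum (f := fun χ : IrrCharacter G => charDegree (χ : G → ℂ) ^ 2)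
        (fun χ _ => Nat.zero_le _) (mem_univ θ₀)
      rw [h4, ← hk, hG] at h5
      have hMp : 2 * p + 1 ≤ M := by rw [hM]; nlinarith
      have hep : 0 < e := hT.epos
      have h6 : e * M * (e * M) ≤ p * (e * M) := by nlinarith
      have h7 : e * M ≤ p := Nat.le_of_mul_le_mul_right h6 (Nat.mul_pos hep (by omega))
      nlinarith
  -- the character `W`
  have hθc := hirrc θ₀
  have hW : IsCharacter G (fun g => (θ₀ : G → ℂ) g * conj ((θ₀ : G → ℂ) g)) :=
    Cfsg.Agent.Lib.Char.Basic.isCharacter_mul hθc (Cfsg.Agent.Lib.Char.Ortho.isCharacter_conj hθc)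
  set W : G → ℂ := fun g => (θ₀ : G → ℂ) g * conj ((θ₀ : G → ℂ) g) with hWdef
  have hWcl : IsClassFunction G W := Cfsg.Agent.Lib.Char.Basic.isClassFunction_of_isCharacter hW
  choose c' hc' using fun χ : IrrCharacter G =>
    Cfsg.Agent.Lib.Char.Ortho.exists_nat_classInner_of_isCharacter hW (hirrc χ)
  have hval : ∀ g, W g = ∑ χ : IrrCharacter G, (c' χ : ℂ) * (χ : G → ℂ) g := by
    intro g
    have h1 := congrFun (Cfsg.Agent.Lib.Char.Complete.eq_sum_classInner W hWcl) g
    rw [h1, Finset.sum_apply]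
    refine sum_congr rfl fun χ _ => ?_
    rw [Pi.smul_apply, hc' χ, smul_eq_mul]
  set triv := Cfsg.Agent.Lib.Blocks.Principal.trivChar G with htriv
  have htr1 : (triv : G → ℂ) = fun _ => 1 := rfl
  obtain ⟨htX, htδ⟩ := hT.triv (by omega)
  have hctriv : c' triv = 1 := by
    have h1 := hc' triv
    have h2 : classInner W (triv : G → ℂ) = classInner (θ₀ : G → ℂ) (θ₀ : G → ℂ) := by
      rw [Cfsg.Agent.Lib.Char.Induced.classInner_def, Cfsg.Agent.Lib.Char.Induced.classInner_def]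
      congr 1
      refine sum_congr rfl fun g _ => ?_
      rw [htr1]
      simp [hWdef]
    rw [h2, Cfsg.Agent.Lib.Char.Ortho.classInner_irr_self θ₀.2] at h1
    exact_mod_cast h1.symm
  -- the degree equation
  have hdeg : ∑ χ : IrrCharacter G, c' χ * charDegree (χ : G → ℂ) = e * e := by
    have h1 := hval 1
    have h2 : W 1 = ((e * e : ℕ) : ℂ) := by
      simp only [hWdef]
      rw [hdc θ₀, hd₀]
      simp
    rw [h2] at h1
    simp_rw [hdc] at h1
    exact_mod_cast h1.symm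
  -- the sum over the elements of `⟨x⟩`
  have hsumZ : (((p : ℤ) - 1) * ∑ χ ∈ X, (c' χ : ℤ) * δ χ - e * ∑ θ ∈ Y, (c' θ : ℤ)) = e * ((p : ℤ) - e) := by
    have h1 := hT.sum_char hζ (fun χ => (c' χ : ℂ))
    have h2 : ∑ i ∈ univ.erase (0 : ZMod p), ∑ χ : IrrCharacter G, (c' χ : ℂ) * (χ : G → ℂ) (XX x i) =
        (e : ℂ) * ((p : ℂ) - e) := by
      rw [← hT.sum_normSq hζ hθ₀]
      exact sum_congr rfl fun i _ => (hval _).symm
    rw [h2, hε] at h1
    have h3 : ((e : ℤ) * ((p : ℤ) - e) : ℤ) = (((p : ℤ) - 1) * ∑ χ ∈ X, (c' χ : ℤ) * δ χ - ((1 : ℤ) * e) * ∑ θ ∈ Y, (c' θ : ℤ)) := by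
      have h4 : (((e : ℤ) * ((p : ℤ) - e) : ℤ) : ℂ) = ((((p : ℤ) - 1) * ∑ χ ∈ X, (c' χ : ℤ) * δ χ - ((1 : ℤ) * e) * ∑ θ ∈ Y, (c' θ : ℤ) : ℤ) : ℂ) := by
        push_cast
        push_cast at h1
        exact h1
      exact_mod_cast h4
    rw [h3]
    ring
  -- the characters in `X` with sign `+`
  set X₁ := X.filter (fun χ => δ χ = 1) with hX₁
  have htX₁ : triv ∈ X₁ := mem_filter.2 ⟨htX, htδ⟩
  have hdeg_X : ∀ χ ∈ X₁.erase triv, charDegree (χ : G → ℂ) = M := by
    intro χ hχ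
    obtain ⟨hχ1, hχ2⟩ := mem_erase.1 hχ
    obtain ⟨hχX, hχδ⟩ := mem_filter.1 hχ2
    have hcong := hT.degX χ hχX
    rw [hχδ] at hcong
    have hp1 : (p : ℤ) ∣ (charDegree (χ : G → ℂ) : ℤ) - 1 := (Int.modEq_iff_dvd.1 hcong.symm)
    obtain ⟨a, ha⟩ := hp1
    have hdposχ := hdpos χ
    have ha0 : 0 ≤ a := by
      by_contra hneg
      push Not at hneg
      have h1 : (charDegree (χ : G → ℂ) : ℤ) ≥ 1 := by exact_mod_cast hdposχ
      nlinarith
    have hdZ : (charDegree (χ : G → ℂ) : ℤ) = a * p + 1 := by linear_combination ha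
    have hndχ : ¬ p ∣ charDegree (χ : G → ℂ) := by
      intro h
      have h1 : (p : ℤ) ∣ (charDegree (χ : G → ℂ) : ℤ) := by exact_mod_cast h
      have h2 : (p : ℤ) ∣ 1 := by
        rw [hdZ] at h1
        have h3 : (p : ℤ) ∣ a * p := dvd_mul_left _ _
        exact (dvd_add_right h3).1 h1
      have h3 : p ∣ 1 := by exact_mod_cast h2
      exact hp'.one_lt.ne' (Nat.dvd_one.1 h3)
    obtain ⟨k', hk'⟩ := exists_cofactor hG χ.2 hndχ
    have hk'Z : (e : ℤ) * (1 + n * p) = (a * p + 1) * k' := by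
      have h1 : (e : ℤ) * M = (charDegree (χ : G → ℂ) : ℤ) * k' := by exact_mod_cast hk'
      rw [hMZ, hdZ] at h1
      exact h1
    have hk'0 : 1 ≤ k' := by
      rcases Nat.eq_zero_or_pos k' with h | h
      · rw [h, mul_zero] at hk'
        have : 0 < e * M := Nat.mul_pos hT.epos (by omega)
        omega
      · exact h
    obtain ⟨b', hb'⟩ : (p : ℤ) ∣ (k' : ℤ) - e := ⟨e * n - a * k', by linear_combination -hk'Z⟩
    have hb'0 : 0 ≤ b' := by
      by_contra hneg
      push Not at hneg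
      have h1 : (k' : ℤ) ≥ 1 := by exact_mod_cast hk'0
      have h2 : (e : ℤ) < p := by
        have : e < p := by omega
        exact_mod_cast this
      nlinarith
    have hk'2 : (k' : ℤ) = b' * p + e := by linear_combination hb'
    rcases FewNum.num_X' (p := p) (e := e) (n := n) (a := a) (b := b') (t := t) (p' := p) rfl hp'
      (by exact_mod_cast hT.epos) hepZ (by positivity) (by positivity) (by exact_mod_cast hen) ha0 hb'0
      (by rw [← hk'2]; linear_combination -hk'Z) with h | h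
    · exfalso
      apply hχ1
      have hd1 : (χ : G → ℂ) 1 = 1 := by
        rw [hdc χ]
        have h1 : (charDegree (χ : G → ℂ) : ℤ) = 1 := by rw [hdZ, h]; ring
        have h2 : charDegree (χ : G → ℂ) = 1 := by exact_mod_cast h1
        rw [h2]
        simp
      obtain ⟨ψ, hψ⟩ := Cfsg.Agent.Lib.Char.LinearChars.exists_hom_of_isCharacter_one (hirrc χ) hd1
      apply Subtype.ext
      rw [hψ, htr1]
      funext g
      rw [PerfectN1.hom_trivial (fun u v => mul_comm u v) hperf ψ g]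
      rfl
    · have h1 : (k' : ℤ) = e := by rw [hk'2, h]; ring
      have h2 : k' = e := by exact_mod_cast h1
      rw [h2, mul_comm] at hk'
      exact (Nat.eq_of_mul_eq_mul_right hT.epos hk').symm
  -- the arithmetic
  set S' := ∑ χ ∈ X₁.erase triv, c' χ with hS'
  have hSp : ∑ χ ∈ X₁, c' χ = 1 + S' := by
    rw [← add_sum_erase _ _ htX₁, hctriv]
  have h1 : 1 + M * S' ≤ e * e := by
    rw [← hdeg]
    have h2 : ∑ χ ∈ X₁, c' χ * charDegree (χ : G → ℂ) ≤ ∑ χ : IrrCharacter G, c' χ * charDegree (χ : G → ℂ) :=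
      sum_le_sum_of_subset (subset_univ _)
    refine le_trans ?_ h2
    rw [← add_sum_erase _ _ htX₁, hctriv, one_mul, htriv, Cfsg.Agent.Lib.Blocks.Principal.charDegree_trivChar, ← htriv]
    have h3 : ∑ χ ∈ X₁.erase triv, c' χ * charDegree (χ : G → ℂ) = M * S' := by
      rw [hS', mul_sum]
      refine sum_congr rfl fun χ hχ => ?_
      rw [hdeg_X χ hχ, mul_comm]
    rw [h3]
  have hS_le : ∑ χ ∈ X, (c' χ : ℤ) * δ χ ≤ ((1 + S' : ℕ) : ℤ) := by
    rw [← hSp, hX₁, sum_filter]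
    push_cast
    refine sum_le_sum fun χ hχ => ?_
    rcases hT.signX χ hχ with h | h
    · rw [if_pos h, h, mul_one]
    · rw [if_neg (by rw [h]; norm_num), h]
      have : (0 : ℤ) ≤ c' χ := by positivity
      linarith
  have hCY : (0 : ℤ) ≤ ∑ θ ∈ Y, (c' θ : ℤ) := sum_nonneg fun θ _ => by positivity
  have hhet := hT.het
  have hpZ1 : ((p : ℤ) - 1) = e * t := by
    have h3 : 1 ≤ p := hp'.pos
    have : ((p - 1 : ℕ) : ℤ) = (e * t : ℕ) := by rw [hhet]
    push_cast [Nat.cast_sub h3] at this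
    exact this
  have h2 : p - e ≤ t * (1 + S') := by
    have h3 : (e : ℤ) * ((p : ℤ) - e) ≤ e * (t * ((1 + S' : ℕ) : ℤ)) := by
      have h4 : (e : ℤ) * ((p : ℤ) - e) ≤ ((p : ℤ) - 1) * ∑ χ ∈ X, (c' χ : ℤ) * δ χ := by
        have h5 : (0 : ℤ) ≤ e := by positivity
        nlinarith
      have h5 : ((p : ℤ) - 1) * ∑ χ ∈ X, (c' χ : ℤ) * δ χ ≤ ((p : ℤ) - 1) * ((1 + S' : ℕ) : ℤ) :=
        mul_le_mul_of_nonneg_left hS_le (by rw [hpZ1]; positivity)
      rw [hpZ1] at h5 h4
      nlinarith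
    have h4 : (p : ℤ) - e ≤ t * ((1 + S' : ℕ) : ℤ) :=
      le_of_mul_le_mul_left h3 (by exact_mod_cast hT.epos)
    have h5 : ((p - e : ℕ) : ℤ) ≤ ((t * (1 + S') : ℕ) : ℤ) := by
      have h6 : e ≤ p := by omega
      push_cast [Nat.cast_sub h6]
      push_cast at h4
      exact h4
    exact_mod_cast h5
  have hMp : 2 * p + 1 ≤ M := by rw [hM]; nlinarith
  exact num_final he2 ht hhet h2e hMp h1 h2


end Main

end Cfsg.Agent.Lib.DefectOne
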