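import Mathlib
import Cfsg.Agent.Lib.DefectOne.FewSylow

/-!
# Induced linear characters

Tools on characters induced from a linear character of a subgroup: the case of a linear character
whose values are constant on the intersection of the subgroup with the classes of the group,
and the decomposition of a character.
-/

set_option autoImplicit false
set_option linter.unusedSectionVars false
set_option linter.style.haveILetI false
set_option linter.unusedVariables false
set_option linter.unusedSimpArgs false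

namespace Cfsg.Agent.Lib.DefectOne.FewInd

open Cfsg Subgroup Finset Cfsg.Agent.Lib.Char.Induced
open scoped ComplexConjugate

universe u

variable {G : Type u} [Group G] [Fintype G]

lemma norm_unit {K : Type*} [Group K] [Finite K] (φ : K →* ℂˣ) (y : K) : ‖((φ y : ℂˣ) : ℂ)‖ = 1 := by
  have h3 : ((φ y : ℂˣ) : ℂ) ^ Nat.card K = 1 := by
    rw [← Units.val_pow_eq_pow_val, ← map_pow, pow_card_eq_one', map_one, Units.val_one]
  exact Complex.norm_eq_one_of_pow_eq_one h3 Nat.card_pos.ne'

/-- The function of a homomorphism. -/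
abbrev hf {K : Type*} [Group K] (φ : K →* ℂˣ) : K → ℂ := fun y => ((φ y : ℂˣ) : ℂ)

variable (N : Subgroup G)

/-- A linear character whose values are constant on the intersection with the classes of `G`. -/
theorem indFun_eq_unit_mul (φ : N →* ℂˣ) (hconj : ∀ (y y' : N) (c : G), (y' : G) = c⁻¹ * y * c → φ y' = φ y) (g : G) :
    ∃ u : ℂ, ‖u‖ = 1 ∧ indFun N (hf φ) g = u * indFun N (fun _ => 1) g ∧ ∀ y : N, (y : G) = g → u = hf φ y := by
  classical
  by_cases h : ∃ a₀ : G, a₀⁻¹ * g * a₀ ∈ N
  · obtain ⟨a₀, ha₀⟩ := h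
    refine ⟨hf φ ⟨_, ha₀⟩, norm_unit φ _, ?_, ?_⟩
    · rw [indFun_apply, indFun_apply, mul_left_comm]
      congr 1
      rw [mul_sum]
      refine sum_congr rfl fun a _ => ?_
      by_cases ha : a⁻¹ * g * a ∈ N
      · rw [extendByZero_of_mem N _ ha, extendByZero_of_mem N _ ha, mul_one]
        have h1 := hconj ⟨_, ha₀⟩ ⟨_, ha⟩ (a₀⁻¹ * a) (by
          show a⁻¹ * g * a = (a₀⁻¹ * a)⁻¹ * (a₀⁻¹ * g * a₀) * (a₀⁻¹ * a)
          group)
        show ((φ ⟨_, ha⟩ : ℂˣ) : ℂ) = _
        rw [h1]
      · rw [extendByZero_of_notMem N _ ha, extendByZero_of_notMem N _ ha, mul_zero]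
    · rintro y rfl
      have h1 := hconj y ⟨_, ha₀⟩ a₀ rfl
      show ((φ ⟨_, ha₀⟩ : ℂˣ) : ℂ) = ((φ y : ℂˣ) : ℂ)
      rw [h1]
  · push Not at h
    refine ⟨1, norm_one, ?_, ?_⟩
    · have h0 : ∀ (θ : N → ℂ) (a : G), extendByZero N θ (a⁻¹ * g * a) = 0 := fun θ a =>
        extendByZero_of_notMem N _ (h a)
      rw [indFun_apply, indFun_apply]
      simp [h0]
    · rintro y rfl
      exact absurd (by simpa using y.2) (h 1)

/-- The norm of such an induced character. -/
theorem classInner_indFun_self (φ : N →* ℂˣ) (hconj : ∀ (y y' : N) (c : G), (y' : G) = c⁻¹ * y * c → φ y' = φ y) :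
    Cfsg.classInner (indFun N (hf φ)) (indFun N (hf φ)) = Cfsg.classInner (indFun N (fun _ => (1 : ℂ))) (indFun N (fun _ => (1 : ℂ))) := by
  have h0 : ∀ g, ‖indFun N (hf φ) g‖ = ‖indFun N (fun _ => (1 : ℂ)) g‖ := by
    intro g
    obtain ⟨u, hu, h1, -⟩ := indFun_eq_unit_mul N φ hconj g
    rw [h1, norm_mul, hu, one_mul]
  rw [Cfsg.Agent.Lib.Char.Ortho.classInner_self_eq, Cfsg.Agent.Lib.Char.Ortho.classInner_self_eq]
  simp_rw [h0]

/-- The trivial character induced from a proper subgroup is reducible. -/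
theorem classInner_one_ne (hidx : N.index ≠ 1) :
    Cfsg.classInner (indFun N (fun _ => (1 : ℂ))) (indFun N (fun _ => (1 : ℂ))) ≠ 1 := by
  classical
  intro h
  have hone : IsIrrCharacter N (fun _ => (1 : ℂ)) := Cfsg.Agent.Lib.Char.Burnside2.isIrrCharacter_one
  have hc : IsCharacter G (indFun N (fun _ => (1 : ℂ))) :=
    Cfsg.Agent.Lib.Char.IndRep.isCharacter_indFun N (Cfsg.Agent.Lib.Char.Basic.isCharacter_of_isIrrCharacter hone)
  have hirr := Cfsg.Agent.Lib.Char.Ortho.isIrrCharacter_of_classInner_self_eq_one hc h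
  have hone' : IsIrrCharacter G (fun _ => (1 : ℂ)) := Cfsg.Agent.Lib.Char.Burnside2.isIrrCharacter_one
  have h1 : Cfsg.classInner (indFun N (fun _ => (1 : ℂ))) (fun _ : G => (1 : ℂ)) = 1 := by
    rw [frobenius_reciprocity N _ _ (Cfsg.Agent.Lib.Char.Basic.isClassFunction_of_isCharacter
      (Cfsg.Agent.Lib.Char.Basic.isCharacter_of_isIrrCharacter hone'))]
    exact Cfsg.Agent.Lib.Char.Ortho.classInner_irr_self hone
  rw [Cfsg.Agent.Lib.Char.Ortho.classInner_irr hirr hone'] at h1
  by_cases h2 : indFun N (fun _ => (1 : ℂ)) = fun _ : G => (1 : ℂ)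
  · have h3 := congrFun h2 1
    rw [indFun_one] at h3
    apply hidx
    have h4 : ((N.index : ℂ)) * 1 = 1 := by simpa using h3
    rw [mul_one] at h4
    exact_mod_cast h4
  · rw [if_neg h2] at h1
    exact zero_ne_one h1

/-- A linear character with an induced character having the shape of `φ` agrees with `φ`. -/
theorem eq_of_indFun_eq (φ ψ : N →* ℂˣ) (hconj : ∀ (y y' : N) (c : G), (y' : G) = c⁻¹ * y * c → φ y' = φ y)
    (h : indFun N (hf ψ) = indFun N (hf φ)) (y : N) : ψ y = φ y := by
  classical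
  obtain ⟨u, hu, h1, h2⟩ := indFun_eq_unit_mul N φ hconj (y : G)
  have huy := h2 y rfl
  rw [← congrFun h, indFun_apply, indFun_apply] at h1
  have hN0 : (Nat.card N : ℂ)⁻¹ ≠ 0 := inv_ne_zero (by exact_mod_cast Nat.card_pos.ne')
  have h3 : ∑ a : G, extendByZero N (hf ψ) (a⁻¹ * y * a) = u * ∑ a : G, extendByZero N (fun _ => (1 : ℂ)) (a⁻¹ * y * a) := by
    apply mul_left_cancel₀ hN0
    rw [h1]
    ring
  -- the sum of the real parts
  set w : G → ℂ := fun a => conj u * extendByZero N (hf ψ) (a⁻¹ * y * a) with hw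
  set v : G → ℂ := fun a => extendByZero N (fun _ => (1 : ℂ)) (a⁻¹ * y * a) with hv
  have huu : conj u * u = 1 := by
    rw [Complex.conj_mul', hu]
    simp
  have h4 : ∑ a : G, (v a - w a) = 0 := by
    rw [sum_sub_distrib]
    have h5 : ∑ a : G, w a = conj u * ∑ a : G, extendByZero N (hf ψ) (a⁻¹ * y * a) := by
      rw [mul_sum]
    rw [h5, h3, ← mul_assoc, huu, one_mul, sub_self]
  have h5 : ∑ a : G, (v a - w a).re = 0 := by
    have := congrArg Complex.re h4
    rwa [Complex.re_sum] at this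
  have h6 : ∀ a : G, 0 ≤ (v a - w a).re := by
    intro a
    by_cases ha : a⁻¹ * y * a ∈ N
    · simp only [hv, hw, extendByZero_of_mem N _ ha]
      have h7 : ‖conj u * hf ψ ⟨_, ha⟩‖ = 1 := by
        rw [norm_mul, RCLike.norm_conj, hu, norm_unit ψ, one_mul]
      have h8 := Complex.re_le_norm (conj u * hf ψ ⟨_, ha⟩)
      rw [h7] at h8
      simpa using h8
    · simp only [hv, hw, extendByZero_of_notMem N _ ha]
      simp
  have h7 := (sum_eq_zero_iff_of_nonneg (fun a _ => h6 a)).1 h5 1 (mem_univ _)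
  simp only [hv, hw] at h7
  have hy1 : (1 : G)⁻¹ * y * 1 ∈ N := by simpa using y.2
  rw [extendByZero_of_mem N _ hy1, extendByZero_of_mem N _ hy1] at h7
  have h8 : ((1 : G)⁻¹ * y * 1) = y := by simp
  have h9 : (⟨_, hy1⟩ : N) = y := Subtype.ext h8
  rw [h9] at h7
  -- a number of modulus one and real part one is one
  have h10 : ‖conj u * hf ψ y‖ = 1 := by
    rw [norm_mul, RCLike.norm_conj, hu, norm_unit ψ, one_mul]
  have h11 : (conj u * hf ψ y).re = 1 := by
    simp only [Complex.sub_re, Complex.one_re] at h7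
    linarith
  have h12 : conj u * hf ψ y = 1 := by
    have h13 : Complex.normSq (conj u * hf ψ y) = 1 := by
      rw [Complex.normSq_eq_norm_sq, h10]
      norm_num
    rw [Complex.normSq_apply, h11] at h13
    apply Complex.ext
    · simpa using h11
    · simp only [Complex.one_im]
      nlinarith
  have h13 : hf ψ y = u := by
    have h14 : u * (conj u * hf ψ y) = u := by rw [h12, mul_one]
    rw [← h14, ← mul_assoc, mul_comm u, huu, one_mul]
  apply Units.ext
  exact h13.trans huy

end Cfsg.Agent.Lib.DefectOne.FewInd
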