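import Mathlib
import Cfsg.Agent.Lib.DefectOne.FewInd
import Cfsg.Agent.Lib.Char.AbelianQuot

/-!
# Sylow subgroups of prime order with few conjugates: characters
-/

set_option autoImplicit false
set_option linter.unusedSectionVars false
set_option linter.style.haveILetI false
set_option linter.unusedVariables false
set_option linter.unusedSimpArgs false

namespace Cfsg.Agent.Lib.DefectOne.FewInd

open Cfsg Subgroup Finset Cfsg.Agent.Lib.Char.Induced
open Cfsg.Agent.Lib.DefectOne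
open scoped ComplexConjugate

universe u

variable {G : Type u} [Group G] [Fintype G]

/-- A character whose degree is that of a sum of irreducible constituents. -/
theorem eq_sum_of_deg {Ξ : G → ℂ} (hΞ : IsCharacter G Ξ) (Y : Finset (IrrCharacter G)) {d : ℕ}
    (hd : ∀ θ ∈ Y, (θ : G → ℂ) 1 = d) (hm : ∀ θ ∈ Y, classInner Ξ (θ : G → ℂ) ≠ 0)
    (h1 : Ξ 1 = ((Y.card * d : ℕ) : ℂ)) :
    (∀ g, Ξ g = ∑ θ ∈ Y, (θ : G → ℂ) g) ∧ ∀ θ ∈ Y, classInner Ξ (θ : G → ℂ) = 1 := by
  classical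
  haveI : Finite (IrrCharacter G) := Cfsg.Agent.Lib.Char.Complete.finite_irr
  letI : Fintype (IrrCharacter G) := Fintype.ofFinite _
  have hirrc : ∀ χ : IrrCharacter G, IsCharacter G (χ : G → ℂ) := fun χ =>
    Cfsg.Agent.Lib.Char.Basic.isCharacter_of_isIrrCharacter χ.2
  have hΞcl : IsClassFunction G Ξ := Cfsg.Agent.Lib.Char.Basic.isClassFunction_of_isCharacter hΞ
  choose m hm' using fun χ : IrrCharacter G =>
    Cfsg.Agent.Lib.Char.Ortho.exists_nat_classInner_of_isCharacter hΞ (hirrc χ)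
  choose D hDpos hD using fun χ : IrrCharacter G => Cfsg.Agent.Lib.Char.Ortho.irr_degree_pos χ.2
  have hval : ∀ g, Ξ g = ∑ χ : IrrCharacter G, (m χ : ℂ) * (χ : G → ℂ) g := by
    intro g
    have h1 := congrFun (Cfsg.Agent.Lib.Char.Complete.eq_sum_classInner Ξ hΞcl) g
    rw [h1, Finset.sum_apply]
    refine sum_congr rfl fun χ _ => ?_
    rw [Pi.smul_apply, hm' χ, smul_eq_mul]
  have hDY : ∀ θ ∈ Y, D θ = d := by
    intro θ hθ
    have h1 := hd θ hθ
    rw [hD θ] at h1
    exact_mod_cast h1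
  have hd0 : ∀ θ ∈ Y, 0 < d := by
    intro θ hθ
    rw [← hDY θ hθ]
    exact hDpos θ
  have hsumD : ∑ χ : IrrCharacter G, m χ * D χ = Y.card * d := by
    have h2 := hval 1
    rw [h1] at h2
    simp_rw [hD] at h2
    exact_mod_cast h2.symm
  have hmpos : ∀ θ ∈ Y, 1 ≤ m θ := by
    intro θ hθ
    have h2 := hm θ hθ
    rw [hm' θ] at h2
    have h3 : m θ ≠ 0 := by
      intro h
      rw [h] at h2
      simp at h2
    omega
  have hsplit := sum_add_sum_compl Y (fun χ => m χ * D χ)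
  have h3 : Y.card * d ≤ ∑ χ ∈ Y, m χ * D χ := by
    rw [card_eq_sum_ones, sum_mul]
    refine sum_le_sum fun θ hθ => ?_
    rw [hDY θ hθ]
    exact Nat.mul_le_mul_right _ (hmpos θ hθ)
  rw [hsumD] at hsplit
  have h4 : ∑ χ ∈ Yᶜ, m χ * D χ = 0 := by omega
  have h5 : ∑ χ ∈ Y, m χ * D χ = Y.card * d := by omega
  have hzero : ∀ χ : IrrCharacter G, χ ∉ Y → m χ = 0 := by
    intro χ hχ
    have h6 := (sum_eq_zero_iff.1 h4) χ (mem_compl.2 hχ)
    rcases Nat.mul_eq_zero.1 h6 with h7 | h7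
    · exact h7
    · exact absurd h7 (hDpos χ).ne'
  have hmY : ∀ θ ∈ Y, m θ = 1 := by
    intro θ hθ
    by_contra hne
    have h6 : 2 ≤ m θ := by
      have := hmpos θ hθ
      omega
    have h7 : Y.card * d < ∑ χ ∈ Y, m χ * D χ := by
      rw [card_eq_sum_ones, sum_mul]
      refine sum_lt_sum (fun θ' hθ' => ?_) ⟨θ, hθ, ?_⟩
      · rw [hDY θ' hθ']
        exact Nat.mul_le_mul_right _ (hmpos θ' hθ')
      · rw [hDY θ hθ]
        have := hd0 θ hθ
        nlinarith
    omega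
  refine ⟨fun g => ?_, fun θ hθ => ?_⟩
  · rw [hval g, ← sum_add_sum_compl Y]
    have h6 : ∑ χ ∈ Yᶜ, (m χ : ℂ) * (χ : G → ℂ) g = 0 := by
      refine sum_eq_zero fun χ hχ => ?_
      rw [hzero χ (mem_compl.1 hχ)]
      simp
    rw [h6, add_zero]
    refine sum_congr rfl fun θ hθ => ?_
    rw [hmY θ hθ]
    simp
  · rw [hm' θ, hmY θ hθ]
    simp

section Table

variable {p : ℕ} [hp : Fact p.Prime] {x : G}
variable {ζ : ℂ} {e t : ℕ} {X Y : Finset (IrrCharacter G)} {δ : IrrCharacter G → ℤ} {ε : ℤ} {b : IrrCharacter G → ZMod p}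

lemma trivChar_apply (g : G) : (Cfsg.Agent.Lib.Blocks.Principal.trivChar G : G → ℂ) g = 1 := rfl

lemma irr_degree_cast (χ : IrrCharacter G) : (χ : G → ℂ) 1 = (charDegree (χ : G → ℂ) : ℂ) :=
  (Cfsg.Agent.Lib.Char.Values.IsCharacter.charDegree_cast
    (Cfsg.Agent.Lib.Char.Basic.isCharacter_of_isIrrCharacter χ.2)).symm

lemma irr_degree_pos' (χ : IrrCharacter G) : 0 < charDegree (χ : G → ℂ) := by
  obtain ⟨m, hm, h1⟩ := Cfsg.Agent.Lib.Char.Ortho.irr_degree_pos χ.2
  have h2 := irr_degree_cast χ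
  rw [h1] at h2
  have h3 : m = charDegree (χ : G → ℂ) := by exact_mod_cast h2
  omega

/-- An irreducible character of degree one of a perfect group is trivial. -/
lemma eq_triv_of_deg_one (hperf : commutator G = ⊤) (χ : IrrCharacter G) (h : charDegree (χ : G → ℂ) = 1) :
    χ = Cfsg.Agent.Lib.Blocks.Principal.trivChar G := by
  have hd1 : (χ : G → ℂ) 1 = 1 := by
    rw [irr_degree_cast χ, h]
    simp
  obtain ⟨ψ, hψ⟩ := Cfsg.Agent.Lib.Char.LinearChars.exists_hom_of_isCharacter_one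
    (Cfsg.Agent.Lib.Char.Basic.isCharacter_of_isIrrCharacter χ.2) hd1
  apply Subtype.ext
  rw [hψ]
  funext g
  rw [PerfectN1.hom_trivial (fun u v => mul_comm u v) hperf ψ g]
  rfl

/-- The degrees congruent to `1`. -/
theorem deg_plus (hperf : commutator G = ⊤) (hT : SCTable x ζ e t X Y δ ε b) {n M : ℕ}
    (hG : Nat.card G = p * e * M) (hM : M = 1 + n * p) (hen : 2 * n < p + 3) (χ : IrrCharacter G)
    (hχ1 : χ ≠ Cfsg.Agent.Lib.Blocks.Principal.trivChar G)
    (hcong : (charDegree (χ : G → ℂ) : ℤ) ≡ 1 [ZMOD p]) : charDegree (χ : G → ℂ) = M := by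
  classical
  have hp' := hp.out
  have hhet0 := hT.het
  have hep : e < p := by
    have ht0 : 0 < t := by
      rcases Nat.eq_zero_or_pos t with h | h
      · rw [h, mul_zero] at hhet0
        have := hp'.two_le
        omega
      · exact h
    have h1 : e ≤ e * t := Nat.le_mul_of_pos_right _ ht0
    have := hp'.two_le
    omega
  have hepZ : (p : ℤ) - 1 = e * t := by
    have h3 : ((p - 1 : ℕ) : ℤ) = ((e * t : ℕ) : ℤ) := by rw [hhet0]
    push_cast [Nat.cast_sub hp'.one_le] at h3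
    exact h3
  have hMZ : (M : ℤ) = 1 + n * p := by rw [hM]; push_cast; ring
  have hp1 : (p : ℤ) ∣ (charDegree (χ : G → ℂ) : ℤ) - 1 := (Int.modEq_iff_dvd.1 hcong.symm)
  obtain ⟨a, ha⟩ := hp1
  have hdposχ := irr_degree_pos' χ
  have hpZ : (0 : ℤ) < p := by exact_mod_cast hp'.pos
  have ha0 : 0 ≤ a := by
    by_contra hneg
    push Not at hneg
    have h1 : (charDegree (χ : G → ℂ) : ℤ) ≥ 1 := by exact_mod_cast hdposχ
    nlinarith
  have hdZ : (charDegree (χ : G → ℂ) : ℤ) = a * p + 1 := by linear_combination ha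
  have hndχ : ¬ p ∣ charDegree (χ : G → ℂ) := by
    intro h
    have h1 : (p : ℤ) ∣ (charDegree (χ : G → ℂ) : ℤ) := by exact_mod_cast h
    have h2 : (p : ℤ) ∣ 1 := by
      rw [hdZ] at h1
      have h3 : (p : ℤ) ∣ a * p := dvd_mul_left _ _
      exact (dvd_add_right h3).1 h1
    have h3 : p ∣ 1 := by exact_mod_cast h2
    exact hp'.one_lt.ne' (Nat.dvd_one.1 h3)
  obtain ⟨k', hk'⟩ := exists_cofactor hG χ.2 hndχ
  have hk'Z : (e : ℤ) * (1 + n * p) = (a * p + 1) * k' := by
    have h1 : (e : ℤ) * M = (charDegree (χ : G → ℂ) : ℤ) * k' := by exact_mod_cast hk'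
    rw [hMZ, hdZ] at h1
    exact h1
  have hk'0 : 1 ≤ k' := by
    rcases Nat.eq_zero_or_pos k' with h | h
    · rw [h, mul_zero] at hk'
      have : 0 < e * M := Nat.mul_pos hT.epos (by omega)
      omega
    · exact h
  obtain ⟨b', hb'⟩ : (p : ℤ) ∣ (k' : ℤ) - e := ⟨e * n - a * k', by linear_combination -hk'Z⟩
  have hb'0 : 0 ≤ b' := by
    by_contra hneg
    push Not at hneg
    have h1 : (k' : ℤ) ≥ 1 := by exact_mod_cast hk'0
    have h2 : (e : ℤ) < p := by exact_mod_cast hep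
    nlinarith
  have hk'2 : (k' : ℤ) = b' * p + e := by linear_combination hb'
  rcases FewNum.num_X' (p := p) (e := e) (n := n) (a := a) (b := b') (t := t) (p' := p) rfl hp'
    (by exact_mod_cast hT.epos) hepZ (by positivity) (by positivity) (by exact_mod_cast hen) ha0 hb'0
    (by rw [← hk'2]; linear_combination -hk'Z) with h | h
  · exfalso
    apply hχ1
    apply eq_triv_of_deg_one hperf
    have h1 : (charDegree (χ : G → ℂ) : ℤ) = 1 := by rw [hdZ, h]; ring
    exact_mod_cast h1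
  · have h1 : (k' : ℤ) = e := by rw [hk'2, h]; ring
    have h2 : k' = e := by exact_mod_cast h1
    rw [h2, mul_comm] at hk'
    exact (Nat.eq_of_mul_eq_mul_right hT.epos hk').symm

end Table

end Cfsg.Agent.Lib.DefectOne.FewInd
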