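import Mathlib

/-!
# Two real inequalities for the comparison of the blocks
-/

set_option autoImplicit false

namespace Cfsg.Agent.Lib.DefectOne

/-- The lower bound. -/
lemma lower_K_real {g h D n p : ℝ} (hg0 : 0 ≤ g) (hgn : g ≤ n) (hn : n = 0 ∨ 1 ≤ n) (hh0 : 0 ≤ h) (hgh : g - 1 ≤ h)
    (hD : 1 < D) (hDp : p * n ≤ D) (hp : 0 < p) :
    1 - 2 / p ≤ 1 + h ^ 2 / (D - 1) - g ^ 2 / D := by
  have hD0 : 0 < D := by linarith
  have hD1 : 0 < D - 1 := by linarith
  have h2p : 0 < 2 / p := by positivity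
  by_cases hg1 : g ≤ 1
  · have h1 : g ^ 2 / D ≤ 2 / p := by
      rcases hn with hn | hn
      · have hg : g = 0 := by linarith
        rw [hg]
        simp only [ne_eq, OfNat.ofNat_ne_zero, not_false_eq_true, zero_pow, zero_div]
        exact h2p.le
      · have h3 : p ≤ D := by nlinarith
        rw [div_le_div_iff₀ hD0 hp]
        have hg2 : g ^ 2 ≤ 1 := by nlinarith
        calc g ^ 2 * p ≤ 1 * p := mul_le_mul_of_nonneg_right hg2 hp.le
          _ ≤ 2 * D := by linarith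
    have h2 : 0 ≤ h ^ 2 / (D - 1) := by positivity
    linarith
  · push Not at hg1
    have hn1 : 1 ≤ n := by
      rcases hn with hn | hn
      · linarith
      · exact hn
    have h3 : (g - 1) ^ 2 ≤ h ^ 2 := pow_le_pow_left₀ (by linarith) hgh 2
    have h4 : (g - 1) ^ 2 / D ≤ h ^ 2 / (D - 1) := by
      rw [div_le_div_iff₀ hD0 hD1]
      nlinarith [sq_nonneg (g - 1), sq_nonneg h]
    have h5 : g ^ 2 / D - (g - 1) ^ 2 / D ≤ 2 / p := by
      rw [← sub_div, div_le_div_iff₀ hD0 hp]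
      nlinarith
    linarith

/-- The upper bound. -/
lemma upper_K_real {v w p k : ℝ} (hp : 7 ≤ p) (hk : 1 ≤ k) (hv0 : 0 ≤ v) (hv : v ≤ k + 1) (hw0 : 0 ≤ w) (hvw : v - 1 ≤ w) :
    v ^ 2 / (p * k + 1) - w ^ 2 / (p * (k + 1) - 1) + 1 / (p - 2) < 1 - 2 / p := by
  have hp0 : 0 < p := by linarith
  set A₁ := p * k + 1 with hA₁
  set B₁ := p * (k + 1) - 1 with hB₁
  have hA0 : 8 ≤ A₁ := by nlinarith
  have hB0 : 0 < B₁ := by nlinarith
  have h2p : 2 / p ≤ 2 / 7 := by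
    apply div_le_div_of_nonneg_left (by norm_num) (by norm_num) hp
  have h1p : 1 / (p - 2) ≤ 1 / 5 := by
    apply div_le_div_of_nonneg_left (by norm_num) (by norm_num) (by linarith)
  by_cases hv1 : v ≤ 1
  · have h1 : v ^ 2 / A₁ ≤ 1 / 8 := by
      rw [div_le_div_iff₀ (by linarith) (by norm_num)]
      nlinarith
    have h2 : 0 ≤ w ^ 2 / B₁ := by positivity
    linarith
  · push Not at hv1
    have h3 : (v - 1) ^ 2 ≤ w ^ 2 := pow_le_pow_left₀ (by linarith) hvw 2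
    have h4 : (v - 1) ^ 2 / B₁ ≤ w ^ 2 / B₁ := div_le_div_of_nonneg_right h3 hB0.le
    have hA0' : 0 < A₁ := by linarith
    have hBA : B₁ = A₁ + (p - 2) := by
      rw [hA₁, hB₁]
      ring
    have h5 : v ^ 2 / A₁ - (v - 1) ^ 2 / B₁ = v ^ 2 * (p - 2) / (A₁ * B₁) + (2 * v - 1) / B₁ := by
      have hB0' : B₁ ≠ 0 := hB0.ne'
      field_simp
      rw [hBA]
      ring
    have h6 : v ^ 2 * (p - 2) / (A₁ * B₁) ≤ 5 / 24 := by
      have hk1 : 0 < k + 1 := by linarith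
      have hA2 : (k + 1) * (p + 1) ≤ 2 * A₁ := by
        rw [hA₁]
        nlinarith
      have hB2 : (k + 1) * (p - 1) ≤ B₁ := by
        rw [hB₁]
        nlinarith
      have h7 : (k + 1) ^ 2 * ((p + 1) * (p - 1)) ≤ 2 * (A₁ * B₁) := by
        have h8 : ((k + 1) * (p + 1)) * ((k + 1) * (p - 1)) ≤ (2 * A₁) * B₁ :=
          mul_le_mul hA2 hB2 (by nlinarith) (by linarith)
        nlinarith
      have h9 : v ^ 2 ≤ (k + 1) ^ 2 := pow_le_pow_left₀ hv0 hv 2
      rw [div_le_div_iff₀ (by positivity) (by norm_num)]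
      have h10 : 48 * (p - 2) ≤ 5 * ((p + 1) * (p - 1)) := by nlinarith
      have h11 : 0 ≤ p - 2 := by linarith
      calc v ^ 2 * (p - 2) * 24 ≤ (k + 1) ^ 2 * (p - 2) * 24 := by
            have := mul_le_mul_of_nonneg_right h9 h11
            linarith
        _ = (k + 1) ^ 2 * (48 * (p - 2)) / 2 := by ring
        _ ≤ (k + 1) ^ 2 * (5 * ((p + 1) * (p - 1))) / 2 := by
            have := mul_le_mul_of_nonneg_left h10 (sq_nonneg (k + 1))
            linarith
        _ = 5 * ((k + 1) ^ 2 * ((p + 1) * (p - 1))) / 2 := by ring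
        _ ≤ 5 * (2 * (A₁ * B₁)) / 2 := by linarith
        _ = 5 * (A₁ * B₁) := by ring
    have h12 : (2 * v - 1) / B₁ ≤ 2 / p := by
      rw [div_le_div_iff₀ hB0 hp0]
      rw [hB₁]
      nlinarith
    linarith [div_nonneg (sq_nonneg w) hB0.le]

end Cfsg.Agent.Lib.DefectOne
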