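import Mathlib
import Cfsg.Agent.Lib.DefectOne.CentralRows

/-!
# The structure constants of the classes of `τ` and `τ⁻¹`
-/

set_option autoImplicit false
set_option linter.unusedSectionVars false

namespace Cfsg.Agent.Lib.DefectOne

open Cfsg Subgroup Finset Cfsg.Agent.Lib.Blocks.Local Cfsg.Agent.Lib.Blocks.Central
open scoped ComplexConjugate

universe u

section Tau

variable {G : Type u} [Group G] [Fintype G] {p : ℕ} [hp : Fact p.Prime] {x : G} {H : Subgroup G}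
  (hL : LocalData p x H) {τ : G} (hτ : τ * x * τ⁻¹ = XX x (-1 : ZMod p))

include hL hτ in
/-- An element inverting `x` is in the coset of `τ`. -/
lemma decomp_of_inv {u : G} (hu : u * x * u⁻¹ = XX x (-1 : ZMod p)) : ∃ (j : ZMod p) (z : G), z ∈ H ∧ u = XX x j * z * τ := by
  have hord := hL.ord
  have h1 : XX x (-1 : ZMod p) = x⁻¹ := by rw [XX_neg hord, XX_one hord]
  rw [h1] at hτ hu
  have hc : (u * τ⁻¹) * x = x * (u * τ⁻¹) := by
    have h2 : τ⁻¹ * x = x⁻¹ * τ⁻¹ := by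
      have h3 : τ⁻¹ * x⁻¹ * τ = x := by
        rw [← hτ]
        group
      have h4 : τ⁻¹ * x = (τ⁻¹ * x⁻¹ * τ)⁻¹ * τ⁻¹ := by group
      rw [h4, h3]
    have h3 : u * x⁻¹ = x * u := by
      have h4 : u * x⁻¹ * u⁻¹ = x := by
        have h5 : u * x⁻¹ * u⁻¹ = (u * x * u⁻¹)⁻¹ := by group
        rw [h5, hu, inv_inv]
      calc u * x⁻¹ = u * x⁻¹ * u⁻¹ * u := by group
        _ = x * u := by rw [h4]
    calc u * τ⁻¹ * x = u * (τ⁻¹ * x) := by group
      _ = u * x⁻¹ * τ⁻¹ := by rw [h2]; group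
      _ = x * u * τ⁻¹ := by rw [h3]
      _ = x * (u * τ⁻¹) := by group
  obtain ⟨j, z, hz, h5⟩ := hL.exists_decomp hc
  refine ⟨j, z, hz, ?_⟩
  rw [← h5]
  group

include hL hτ in
/-- The class of `τ` and the central character. -/
lemma central_char_eq_one (hodd : p ≠ 2) (hHc : ∀ (y : H) (g : G), (y : G) * g = g * y) {ξ : IrrCharacter G} {l : H →* ℂˣ}
    (hl : ∀ (g : G) (y : H), (ξ : G → ℂ) (g * y) = ((l y : ℂˣ) : ℂ) * (ξ : G → ℂ) g) (hτ1 : (ξ : G → ℂ) τ ≠ 0)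
    {j : ZMod p} {z : G} (hz : z ∈ H) {u : G} (hu : u = XX x j * z * τ) (huτ : IsConj τ u) :
    l ⟨z, hz⟩ = 1 := by
  have hcl := isClassFunction_of_irr ξ.2
  have h1 : (ξ : G → ℂ) u = (ξ : G → ℂ) τ := by
    obtain ⟨w, hw⟩ := isConj_iff.1 huτ
    rw [← hw]
    exact hcl _ _
  have h2 : u = XX x j * τ * z := by
    rw [hu, mul_assoc, mul_assoc, hHc ⟨z, hz⟩ τ]
  have h3 := hl (XX x j * τ) ⟨z, hz⟩
  have h4 : XX x j * τ * ((⟨z, hz⟩ : H) : G) = u := h2.symm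
  rw [h4, h1, val_mul_tau hL hτ hcl hodd] at h3
  have h5 : (((l ⟨z, hz⟩ : ℂˣ) : ℂ) - 1) * (ξ : G → ℂ) τ = 0 := by
    linear_combination -h3
  have h6 := (mul_eq_zero.1 h5).resolve_right hτ1
  apply Units.ext
  rw [Units.val_one]
  linear_combination h6

include hL hτ in
/-- The product of a conjugate of `τ` and a conjugate of `τ⁻¹` is never `x y⁻¹` with `y ≠ 1`. -/
theorem tau_vanish (hodd : p ≠ 2) (hHc : ∀ (y : H) (g : G), (y : G) * g = g * y) {ξ : IrrCharacter G} {l : H →* ℂˣ}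
    (hl : ∀ (g : G) (y : H), (ξ : G → ℂ) (g * y) = ((l y : ℂˣ) : ℂ) * (ξ : G → ℂ) g) (hτ1 : (ξ : G → ℂ) τ ≠ 0)
    (hfaith : ∀ g : G, (ξ : G → ℂ) g = (ξ : G → ℂ) 1 → g = 1) (y : H) (a b : G)
    (h : a * τ * a⁻¹ * (b * τ⁻¹ * b⁻¹) * (x * y) = 1) : y = 1 := by
  have hord := hL.ord
  have hxinv : XX x (-1 : ZMod p) = x⁻¹ := by rw [XX_neg hord, XX_one hord]
  have hsq := tau_sq_mem hL hτ hodd hHc
  set u := a * τ * a⁻¹ with hu
  set v := b * τ * b⁻¹ with hv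
  have hvinv : b * τ⁻¹ * b⁻¹ = v⁻¹ := by
    rw [hv]
    group
  rw [hvinv] at h
  have hv2 : v = x * y * u := by
    have h1 : x * (y : G) = (u * v⁻¹)⁻¹ := eq_inv_of_mul_eq_one_right h
    rw [h1]
    group
  have hsqcomm : ∀ c : G, c * τ ^ 2 = τ ^ 2 * c := fun c => (hHc ⟨τ ^ 2, hsq⟩ c).symm
  have hu2 : u ^ 2 = τ ^ 2 := by
    have h1 : u ^ 2 = a * τ ^ 2 * a⁻¹ := by
      rw [hu, conj_pow]
    rw [h1, hsqcomm a, mul_inv_cancel_right]
  have hv3 : v ^ 2 = τ ^ 2 := by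
    have h1 : v ^ 2 = b * τ ^ 2 * b⁻¹ := by
      rw [hv, conj_pow]
    rw [h1, hsqcomm b, mul_inv_cancel_right]
  -- the conjugate of `x`
  have hyc : ∀ c : G, (y : G) * c = c * y := hHc y
  have hkey : u * x * u⁻¹ = x⁻¹ * ((y : G) ^ 2)⁻¹ := by
    have h1 : v ^ 2 = (y : G) ^ 2 * (x * (u * x * u⁻¹)) * u ^ 2 := by
      rw [hv2, pow_two, pow_two, pow_two]
      have h2 : x * (y : G) * u * (x * (y : G) * u) = (y : G) * ((y : G) * (x * u * x * u)) := by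
        have h3 : x * (y : G) = (y : G) * x := (hyc x).symm
        have h4 : u * (y : G) = (y : G) * u := (hyc u).symm
        calc x * (y : G) * u * (x * (y : G) * u) = (y : G) * x * u * ((y : G) * x * u) := by rw [h3]
          _ = (y : G) * (x * (u * (y : G)) * x * u) := by group
          _ = (y : G) * (x * ((y : G) * u) * x * u) := by rw [h4]
          _ = (y : G) * ((x * (y : G)) * u * x * u) := by group
          _ = (y : G) * (((y : G) * x) * u * x * u) := by rw [h3]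
          _ = (y : G) * ((y : G) * (x * u * x * u)) := by group
      rw [h2]
      group
    rw [hv3, hu2] at h1
    have h2 : (y : G) ^ 2 * (x * (u * x * u⁻¹)) = 1 := by
      have h3 : (y : G) ^ 2 * (x * (u * x * u⁻¹)) * τ ^ 2 = 1 * τ ^ 2 := by
        rw [one_mul]
        exact h1.symm
      exact mul_right_cancel h3
    have h3 : x * (u * x * u⁻¹) = ((y : G) ^ 2)⁻¹ := by
      rw [eq_inv_iff_mul_eq_one]
      have h4 : (y : G) ^ 2 * (x * (u * x * u⁻¹)) = x * (u * x * u⁻¹) * (y : G) ^ 2 := by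
        have h5 : ∀ c : G, (y : G) ^ 2 * c = c * (y : G) ^ 2 := by
          intro c
          rw [pow_two, mul_assoc, hyc c, ← mul_assoc, hyc c, mul_assoc]
        exact h5 _
      rw [← h4, h2]
    calc u * x * u⁻¹ = x⁻¹ * (x * (u * x * u⁻¹)) := by group
      _ = x⁻¹ * ((y : G) ^ 2)⁻¹ := by rw [h3]
  have hy2mem : (y : G) ^ 2 ∈ H := pow_mem y.2 2
  have hy2 : (y : G) ^ 2 = 1 := by
    apply hL.eq_one_of_pow hy2mem
    have h1 : (u * x * u⁻¹) ^ p = 1 := by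
      rw [conj_pow, ← hord, pow_orderOf_eq_one]
      group
    rw [hkey] at h1
    have h2 : Commute x⁻¹ ((y : G) ^ 2)⁻¹ := by
      have h3 : Commute ((y : G) ^ 2) x := by
        show (y : G) ^ 2 * x = x * (y : G) ^ 2
        rw [pow_two, mul_assoc, hyc x, ← mul_assoc, hyc x, mul_assoc]
      exact h3.symm.inv_left.inv_right
    rw [h2.mul_pow, inv_pow, ← hord, pow_orderOf_eq_one, inv_one, one_mul, inv_pow, inv_eq_one, hord] at h1
    exact h1
  rw [hy2, inv_one, mul_one] at hkey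
  have hux : u * x * u⁻¹ = XX x (-1 : ZMod p) := by rw [hkey, hxinv]
  have hvx : v * x * v⁻¹ = XX x (-1 : ZMod p) := by
    rw [hv2, hxinv]
    have h1 : x * (y : G) * u * x * (x * (y : G) * u)⁻¹ = x * ((y : G) * (u * x * u⁻¹) * (y : G)⁻¹) * x⁻¹ := by
      group
    rw [h1, hkey, hyc, mul_inv_cancel_right]
    group
  obtain ⟨j, z, hz, huj⟩ := decomp_of_inv hL hτ hux
  obtain ⟨j', z', hz', hvj⟩ := decomp_of_inv hL hτ hvx
  have hu1 := central_char_eq_one hL hτ hodd hHc hl hτ1 hz huj (isConj_iff.2 ⟨a, rfl⟩)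
  have hv1 := central_char_eq_one hL hτ hodd hHc hl hτ1 hz' hvj (isConj_iff.2 ⟨b, rfl⟩)
  have h5 : XX x (1 + j) * ((y : G) * z) = XX x j' * z' := by
    have h6 : XX x (1 + j) * ((y : G) * z) * τ = XX x j' * z' * τ := by
      rw [← hvj, hv2, huj, XX_add hord, XX_one hord]
      have h7 : (y : G) * XX x j = XX x j * y := hyc _
      calc x * XX x j * ((y : G) * z) * τ = x * ((y : G) * XX x j) * z * τ := by
            rw [h7]
            group
        _ = x * (y : G) * (XX x j * z * τ) := by group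
    exact mul_right_cancel h6
  have h6 := hL.decomp_unique (mul_mem y.2 hz) hz' h5
  have h7 : (⟨z', hz'⟩ : H) = y * ⟨z, hz⟩ := Subtype.ext h6.2.symm
  rw [h7, map_mul, hu1, mul_one] at hv1
  have h8 := hl 1 y
  rw [hv1, one_mul, Units.val_one, one_mul] at h8
  have h9 := hfaith _ h8
  exact Subtype.ext h9

end Tau

section KLemma

variable {G : Type u} [Group G] [Fintype G] {H : Subgroup G} [Fintype H]

/-- The comparison lemma. -/
theorem K_lemma [Fintype (IrrCharacter G)] (x : G) {τ : G}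
    (hvan : ∀ (y : H) (a b : G), a * τ * a⁻¹ * (b * τ⁻¹ * b⁻¹) * (x * y) = 1 → y = 1) (φ : IrrCharacter H) :
    ∑ ψ : IrrCharacter G, ((ψ : G → ℂ) τ * (ψ : G → ℂ) τ⁻¹ / (ψ : G → ℂ) 1) * SS H (ψ : G → ℂ) (φ : H → ℂ) x =
      idemCoeff (φ : H → ℂ) 1 * ∑ ψ : IrrCharacter G, ((ψ : G → ℂ) τ * (ψ : G → ℂ) τ⁻¹ / (ψ : G → ℂ) 1) * (ψ : G → ℂ) x := by
  classical
  have hG : (Nat.card G : ℂ) ≠ 0 := by exact_mod_cast Nat.card_pos.ne'
  have hzero : ∀ y : H, y ≠ 1 → ∑ ψ : IrrCharacter G, ((ψ : G → ℂ) τ * (ψ : G → ℂ) τ⁻¹ / (ψ : G → ℂ) 1) * (ψ : G → ℂ) (x * y) = 0 := by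
    intro y hy
    have h1 := count_formula τ τ⁻¹ (x * y)
    have h2 : (univ.filter (fun ab : G × G => ab.1 * τ * ab.1⁻¹ * (ab.2 * τ⁻¹ * ab.2⁻¹) * (x * y) = 1)) = ∅ := by
      rw [filter_eq_empty_iff]
      intro ab _ hab
      exact hy (hvan y ab.1 ab.2 hab)
    rw [h2, card_empty, Nat.cast_zero] at h1
    have h3 := (mul_eq_zero.1 h1.symm).resolve_left hG
    rw [← h3]
    exact sum_congr rfl fun ψ _ => by ring
  unfold SS
  simp_rw [mul_sum]
  rw [sum_comm]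
  rw [sum_eq_single (1 : H)]
  · simp only [OneMemClass.coe_one, mul_one]
    exact sum_congr rfl fun ψ _ => by ring
  · intro y _ hy
    have h1 := hzero y hy
    calc ∑ ψ : IrrCharacter G, ((ψ : G → ℂ) τ * (ψ : G → ℂ) τ⁻¹ / (ψ : G → ℂ) 1) * (idemCoeff (φ : H → ℂ) y * (ψ : G → ℂ) (x * y))
        = idemCoeff (φ : H → ℂ) y * ∑ ψ : IrrCharacter G, ((ψ : G → ℂ) τ * (ψ : G → ℂ) τ⁻¹ / (ψ : G → ℂ) 1) * (ψ : G → ℂ) (x * y) := by
          rw [mul_sum]
          exact sum_congr rfl fun ψ _ => by ring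
      _ = 0 := by rw [h1, mul_zero]
  · intro h
    exact absurd (mem_univ _) h

end KLemma

section KEval

variable {G : Type u} [Group G] [Fintype G] {p : ℕ} [hp : Fact p.Prime] {x : G} {H : Subgroup G}
  [Fintype H] (hL : LocalData p x H) [Fintype (IrrCharacter G)]

include hL in
/-- The evaluation of the sum over a row structure. -/
theorem K_eval {φ : IrrCharacter H} {ζ : ℂ} (hζ : IsPrimitiveRoot ζ p) {e t : ℕ}
    {X Y : Finset (IrrCharacter G)} {εX : IrrCharacter G → ℤ} {ε₀ : ℤ} {bY : IrrCharacter G → ZMod p}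
    (hS : RowStructure x H (φ : H → ℂ) ζ e t X Y εX ε₀ bY) (S : IrrCharacter G → ℂ) {S₀ : ℂ} (hSY : ∀ θ ∈ Y, S θ = S₀) :
    ∑ ψ : IrrCharacter G, S ψ * SS H (ψ : G → ℂ) (φ : H → ℂ) x =
      (φ : H → ℂ) 1 * (- ∑ χ ∈ X, (εX χ : ℂ) * S χ - (ε₀ : ℂ) * S₀) := by
  classical
  have hord := hL.ord
  have hsz := sum_zeta_erase hζ (one_ne_zero : (1 : ZMod p) ≠ 0)
  simp only [one_mul] at hsz
  have hSSrow : ∀ ψ : IrrCharacter G, SS H (ψ : G → ℂ) (φ : H → ℂ) x =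
      (φ : H → ℂ) 1 * ∑ a : ZMod p, (rr x H (φ : H → ℂ) ζ (ψ : G → ℂ) a : ℂ) * ζ ^ a.val := by
    intro ψ
    have h1 := SS_row hL ψ.2 φ.2 hζ (one_ne_zero : (1 : ZMod p) ≠ 0) 1
    rw [XX_one hord] at h1
    simp only [OneMemClass.coe_one, mul_one] at h1
    exact h1
  have hsplit : ∑ ψ : IrrCharacter G, S ψ * SS H (ψ : G → ℂ) (φ : H → ℂ) x =
      ∑ ψ ∈ X ∪ Y, S ψ * SS H (ψ : G → ℂ) (φ : H → ℂ) x := by
    symm
    apply sum_subset (subset_univ _)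
    intro ψ _ hψ
    have h1 : ∀ a : ZMod p, rr x H (φ : H → ℂ) ζ (ψ : G → ℂ) a = 0 := by
      intro a
      by_contra ha
      exact hψ ((hS.supp ψ).2 ⟨a, ha⟩)
    rw [hSSrow]
    simp [h1]
  rw [hsplit, sum_union hS.disj]
  have hX : ∀ χ ∈ X, S χ * SS H (χ : G → ℂ) (φ : H → ℂ) x = (φ : H → ℂ) 1 * (-((εX χ : ℂ) * S χ)) := by
    intro χ hχ
    rw [hSSrow]
    have h1 : ∑ a : ZMod p, (rr x H (φ : H → ℂ) ζ (χ : G → ℂ) a : ℂ) * ζ ^ a.val = (εX χ : ℂ) * (-1) := by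
      rw [← add_sum_erase univ _ (mem_univ (0 : ZMod p)), rr_zero]
      simp only [Int.cast_zero, zero_mul, zero_add]
      rw [← hsz, mul_sum]
      refine sum_congr rfl fun a ha => ?_
      rw [(hS.rowX χ hχ).2 a (mem_erase.1 ha).1]
    rw [h1]
    ring
  have hY : ∑ θ ∈ Y, S θ * SS H (θ : G → ℂ) (φ : H → ℂ) x = (φ : H → ℂ) 1 * (-((ε₀ : ℂ) * S₀)) := by
    have h1 : ∀ θ ∈ Y, S θ * SS H (θ : G → ℂ) (φ : H → ℂ) x =
        (φ : H → ℂ) 1 * S₀ * ∑ a : ZMod p, (rr x H (φ : H → ℂ) ζ (θ : G → ℂ) a : ℂ) * ζ ^ a.val := by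
      intro θ hθ
      rw [hSSrow, hSY θ hθ]
      ring
    rw [sum_congr rfl h1, ← mul_sum, sum_comm]
    have h2 : ∀ a : ZMod p, ∑ θ ∈ Y, (rr x H (φ : H → ℂ) ζ (θ : G → ℂ) a : ℂ) * ζ ^ a.val =
        if a = 0 then 0 else (ε₀ : ℂ) * ζ ^ a.val := by
      intro a
      split_ifs with ha
      · rw [ha]
        simp [rr_zero]
      · rw [← sum_mul]
        congr 1
        obtain ⟨θ₀, hθ₀, hb⟩ := hS.surjY a ha
        rw [sum_eq_single_of_mem θ₀ hθ₀]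
        · rw [hS.rowY θ₀ hθ₀ a ha, if_pos hb.symm]
        · intro θ hθ hne
          rw [hS.rowY θ hθ a ha, if_neg]
          · simp
          · intro hb2
            exact hne (hS.injY θ hθ θ₀ hθ₀ (hb2.symm.trans hb.symm))
    simp_rw [h2]
    rw [← add_sum_erase univ _ (mem_univ (0 : ZMod p))]
    simp only [if_true, zero_add]
    have h3 : ∑ a ∈ univ.erase (0 : ZMod p), (if a = 0 then (0 : ℂ) else (ε₀ : ℂ) * ζ ^ a.val) = (ε₀ : ℂ) * (-1) := by
      rw [← hsz, mul_sum]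
      refine sum_congr rfl fun a ha => ?_
      rw [if_neg (mem_erase.1 ha).1]
    rw [h3]
    ring
  rw [hY, sum_congr rfl hX, ← mul_sum, ← mul_add, ← sum_neg_distrib]
  ring_nf

end KEval

end Cfsg.Agent.Lib.DefectOne
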