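import Mathlib
import Cfsg.Agent.Lib.DefectOne.TauVanish
import Cfsg.Agent.Lib.DefectOne.PM2Real

/-!
# Comparison of the block of the central character with the principal block
-/

set_option autoImplicit false
set_option linter.unusedSectionVars false

namespace Cfsg.Agent.Lib.DefectOne

open Cfsg Subgroup Finset Cfsg.Agent.Lib.Blocks.Local Cfsg.Agent.Lib.Blocks.Central
open scoped ComplexConjugate

universe u

section Tau

variable {G : Type u} [Group G] [Fintype G] {p : ℕ} [hp : Fact p.Prime] {x : G} {H : Subgroup G}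
  [Fintype H] (hL : LocalData p x H) {τ : G} (hτ : τ * x * τ⁻¹ = XX x (-1 : ZMod p))
  [Fintype (IrrCharacter G)]

/-- The quantity attached to `τ`. -/
noncomputable def tauS (τ : G) (ψ : IrrCharacter G) : ℂ := (ψ : G → ℂ) τ * (ψ : G → ℂ) τ⁻¹ / (ψ : G → ℂ) 1

omit [Fintype (IrrCharacter G)] in
lemma tauS_eq (ψ : IrrCharacter G) {d : ℕ} (hd : (ψ : G → ℂ) 1 = d) :
    tauS τ ψ = ((‖(ψ : G → ℂ) τ‖ ^ 2 / d : ℝ) : ℂ) := by
  unfold tauS
  rw [Cfsg.Agent.Lib.Char.Ortho.character_inv_of_isCharacter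
    (Cfsg.Agent.Lib.Char.Basic.isCharacter_of_isIrrCharacter ψ.2), Complex.mul_conj,
    Complex.normSq_eq_norm_sq, hd]
  push_cast
  rfl

include hL hτ in
/-- The data of a member of a row. -/
lemma row_member (hodd : p ≠ 2) (hHc : ∀ (y : H) (g : G), (y : G) * g = g * y)
    {φ : H → ℂ} {ζ : ℂ} (hζ : IsPrimitiveRoot ζ p) {e t : ℕ} {X Y : Finset (IrrCharacter G)}
    {εX : IrrCharacter G → ℤ} {ε₀ : ℤ} {bY : IrrCharacter G → ZMod p} (φ' : IrrCharacter H) (hφ' : (φ' : H → ℂ) = φ)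
    (hS : RowStructure x H φ ζ e t X Y εX ε₀ bY) {ψ : IrrCharacter G} (hψ : ψ ∈ X ∪ Y) :
    ∃ d : ℕ, 0 < d ∧ (ψ : G → ℂ) 1 = d ∧ d = mTot (p := p) x H (ψ : G → ℂ) φ ζ ∧
      ‖(ψ : G → ℂ) τ‖ ≤ (mval x H (ψ : G → ℂ) φ ζ (0 : ZMod p) : ℝ) ∧
      (∑ i : ZMod p, (ψ : G → ℂ) (XX x i) = (p : ℂ) * (mval x H (ψ : G → ℂ) φ ζ (0 : ZMod p) : ℂ)) ∧
      (∀ i : ZMod p, (ψ : G → ℂ) (XX x i) = ∑ a : ZMod p, (mval x H (ψ : G → ℂ) φ ζ a : ℂ) * ζ ^ (a * i).val) ∧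
      (∃ l : H →* ℂˣ, φ' = linChar l ∧ ∀ (g : G) (y : H), (ψ : G → ℂ) (g * y) = ((l y : ℂˣ) : ℂ) * (ψ : G → ℂ) g) := by
  subst hφ'
  obtain ⟨l, hl⟩ := exists_central_char hHc ψ
  have hφl : φ' = linChar l := by
    by_contra hne
    obtain ⟨a, ha⟩ := (hS.supp ψ).1 hψ
    apply ha
    unfold rr
    rw [mval_of_ne_central_char hL hl hne hζ a, mval_of_ne_central_char hL hl hne hζ 0]
    simp
  subst hφl
  obtain ⟨d, hd0, hd⟩ := Cfsg.Agent.Lib.Char.Ortho.irr_degree_pos ψ.2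
  have hdeg := deg_eq_mTot hL hl hζ
  have hsum := sum_val_eq_mval hL hl hζ
  refine ⟨d, hd0, hd, ?_, ?_, hsum, val_eq_row hL hl hζ, l, rfl, hl⟩
  · rw [hd] at hdeg
    exact_mod_cast hdeg
  · exact (norm_tau_le hL hτ (Cfsg.Agent.Lib.Char.Basic.isCharacter_of_isIrrCharacter ψ.2) hodd hsum).1

include hL hτ in
/-- `τ⁻¹` and the relation on `Y`. -/
lemma tauS_const (hodd : p ≠ 2) (hHc : ∀ (y : H) (g : G), (y : G) * g = g * y)
    {φ : H → ℂ} {ζ : ℂ} {e t : ℕ} {X Y : Finset (IrrCharacter G)}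
    {εX : IrrCharacter G → ℤ} {ε₀ : ℤ} {bY : IrrCharacter G → ZMod p}
    (hS : RowStructure x H φ ζ e t X Y εX ε₀ bY) {θ θ' : IrrCharacter G} (hθ : θ ∈ Y) (hθ' : θ' ∈ Y) :
    tauS τ θ = tauS τ θ' := by
  have hreg := tau_regular hL hτ hodd hHc
  have hε : (ε₀ : ℂ) ≠ 0 := by
    rcases hS.sign₀ with h | h <;> rw [h] <;> norm_num
  have h1 : ∀ g : G, ¬ p ∣ orderOf g → (θ : G → ℂ) g = (θ' : G → ℂ) g := by
    intro g hg
    have h2 := hS.rel g hg θ hθ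
    have h3 := hS.rel g hg θ' hθ'
    apply mul_left_cancel₀ hε
    linear_combination h2 - h3
  unfold tauS
  rw [h1 τ hreg, h1 τ⁻¹ (by rwa [orderOf_inv]), h1 1 (by rw [orderOf_one]; exact fun h => hp.out.one_lt.ne' (Nat.dvd_one.1 h))]

include hL hτ in
/-- The data of a member of `X`. -/
lemma row_X_data (hodd : p ≠ 2) (hHc : ∀ (y : H) (g : G), (y : G) * g = g * y)
    {φ : IrrCharacter H} {ζ : ℂ} (hζ : IsPrimitiveRoot ζ p) {e t : ℕ} {X Y : Finset (IrrCharacter G)}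
    {εX : IrrCharacter G → ℤ} {ε₀ : ℤ} {bY : IrrCharacter G → ZMod p}
    (hS : RowStructure x H (φ : H → ℂ) ζ e t X Y εX ε₀ bY) {χ : IrrCharacter G} (hχ : χ ∈ X) :
    ∃ d m : ℕ, 0 < d ∧ (χ : G → ℂ) 1 = d ∧ m = mval x H (χ : G → ℂ) (φ : H → ℂ) ζ (0 : ZMod p) ∧
      (d : ℤ) = p * m + εX χ * ((p : ℤ) - 1) ∧ ‖(χ : G → ℂ) τ‖ ≤ (m : ℝ) := by
  obtain ⟨d, hd0, hd, hdT, hn, -, -, -⟩ := row_member hL hτ hodd hHc hζ φ rfl hS (mem_union_left _ hχ)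
  refine ⟨d, _, hd0, hd, rfl, ?_, hn⟩
  have h1 := mTot_eq (p := p) (x := x) (φ : H → ℂ) ζ (χ : G → ℂ)
  rw [Rsum_of_X hS hχ, ← hdT] at h1
  exact h1

include hL hτ in
/-- The data of a member of `Y`. -/
lemma row_Y_data (hodd : p ≠ 2) (hHc : ∀ (y : H) (g : G), (y : G) * g = g * y)
    {φ : IrrCharacter H} {ζ : ℂ} (hζ : IsPrimitiveRoot ζ p) {e t : ℕ} {X Y : Finset (IrrCharacter G)}
    {εX : IrrCharacter G → ℤ} {ε₀ : ℤ} {bY : IrrCharacter G → ZMod p}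
    (hS : RowStructure x H (φ : H → ℂ) ζ e t X Y εX ε₀ bY) {A : Finset (ZMod p)}
    (hI : InertiaData hL (φ : H → ℂ) A e t) {θ : IrrCharacter G} (hθ : θ ∈ Y) :
    ∃ d m : ℕ, 0 < d ∧ (θ : G → ℂ) 1 = d ∧ m = mval x H (θ : G → ℂ) (φ : H → ℂ) ζ (0 : ZMod p) ∧
      (d : ℤ) = p * m + ε₀ * e ∧ ‖(θ : G → ℂ) τ‖ ≤ (m : ℝ) := by
  obtain ⟨d, hd0, hd, hdT, hn, -, -, -⟩ := row_member hL hτ hodd hHc hζ φ rfl hS (mem_union_right _ hθ)
  refine ⟨d, _, hd0, hd, rfl, ?_, hn⟩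
  have h1 := mTot_eq (p := p) (x := x) (φ : H → ℂ) ζ (θ : G → ℂ)
  rw [Rsum_of_Y hS hI.Acard hI.hA hθ, ← hdT] at h1
  exact h1

include hL hτ in
set_option maxHeartbeats 2000000 in
/-- The block of the faithful character, for a named pair. -/
lemma block_xi_aux (hodd : p ≠ 2) (hHc : ∀ (y : H) (g : G), (y : G) * g = g * y) (hp7 : 5 < p)
    {φ₀ : IrrCharacter H} (hφ₀ : (φ₀ : H → ℂ) 1 = 1) {ζ : ℂ} (hζ : IsPrimitiveRoot ζ p) {t : ℕ}
    {X Y : Finset (IrrCharacter G)} {εX : IrrCharacter G → ℤ} {bY : IrrCharacter G → ZMod p}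
    (hS : RowStructure x H (φ₀ : H → ℂ) ζ 2 t X Y εX (-1) bY) {ξ : IrrCharacter G} (hξ : ξ ∈ Y)
    (hξτ : ‖(ξ : G → ℂ) τ‖ = 1) (hξ1 : (ξ : G → ℂ) 1 = ((p - 2 : ℕ) : ℂ))
    {a b : IrrCharacter G} (hab : a ≠ b) (hX : X = {a, b}) (ha : εX a = -1) (hb : εX b = 1) :
    (a : G → ℂ) 1 = 1 ∨ ∃ K : ℝ, K < 1 - 2 / (p : ℝ) ∧
      ∑ ψ : IrrCharacter G, tauS τ ψ * SS H (ψ : G → ℂ) (φ₀ : H → ℂ) x = (K : ℂ) := by
  classical
  have hp' := hp.out
  have hreg := tau_regular hL hτ hodd hHc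
  have haX : a ∈ X := by rw [hX]; simp
  have hbX : b ∈ X := by rw [hX]; simp
  obtain ⟨da, ma, hda0, hda, -, hdaZ, hma⟩ := row_X_data hL hτ hodd hHc hζ hS haX
  obtain ⟨db, mb, hdb0, hdb, -, hdbZ, hmb⟩ := row_X_data hL hτ hodd hHc hζ hS hbX
  rw [ha] at hdaZ
  rw [hb] at hdbZ
  have hsumpair : ∀ f : IrrCharacter G → ℂ, ∑ χ ∈ X, f χ = f a + f b := by
    intro f
    rw [hX, sum_pair hab]
  have hrel1 := hS.rel 1 (by rw [orderOf_one]; exact fun h => hp'.one_lt.ne' (Nat.dvd_one.1 h)) ξ hξ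
  rw [hsumpair, ha, hb, hξ1, hda, hdb] at hrel1
  have hp2 : ((p - 2 : ℕ) : ℂ) = (p : ℂ) - 2 := by
    rw [Nat.cast_sub (by omega)]
    norm_num
  have hZ : -((p : ℤ) - 2) + (-1) * (da : ℤ) + 1 * (db : ℤ) = 0 := by
    rw [hp2] at hrel1
    have h1 : ((-((p : ℤ) - 2) + (-1) * (da : ℤ) + 1 * (db : ℤ) : ℤ) : ℂ) = ((0 : ℤ) : ℂ) := by
      push_cast at hrel1 ⊢
      linear_combination hrel1
    exact_mod_cast h1
  have hpZ : (0 : ℤ) < p := by exact_mod_cast hp'.pos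
  have hm : (ma : ℤ) = mb + 1 := by
    have h1 : (p : ℤ) * ((ma : ℤ) - mb - 1) = 0 := by
      rw [hdaZ, hdbZ] at hZ
      linear_combination -hZ
    have h2 := (mul_eq_zero.1 h1).resolve_left hpZ.ne'
    linarith
  have hma' : ma = mb + 1 := by exact_mod_cast hm
  have hrelτ := hS.rel τ hreg ξ hξ
  rw [hsumpair, ha, hb] at hrelτ
  push_cast at hrelτ
  have hvw : ‖(a : G → ℂ) τ‖ - 1 ≤ ‖(b : G → ℂ) τ‖ := by
    have h1 : (a : G → ℂ) τ = (b : G → ℂ) τ - (ξ : G → ℂ) τ := by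
      linear_combination -hrelτ
    have h2 := norm_sub_le ((b : G → ℂ) τ) ((ξ : G → ℂ) τ)
    rw [← h1, hξτ] at h2
    linarith
  by_cases hk : mb = 0
  · left
    rw [hda]
    have h1 : (da : ℤ) = 1 := by
      rw [hdaZ, hm, hk]
      push_cast
      ring
    have h2 : da = 1 := by exact_mod_cast h1
    rw [h2]
    simp
  · right
    have hkR : (1 : ℝ) ≤ mb := by
      have : 1 ≤ mb := Nat.one_le_iff_ne_zero.2 hk
      exact_mod_cast this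
    set v := ‖(a : G → ℂ) τ‖ with hv
    set w := ‖(b : G → ℂ) τ‖ with hw
    have hdaR : (da : ℝ) = (p : ℝ) * mb + 1 := by
      have h1 : (da : ℤ) = p * mb + 1 := by
        rw [hdaZ, hm]
        ring
      exact_mod_cast h1
    have hdbR : (db : ℝ) = (p : ℝ) * (mb + 1) - 1 := by
      have h1 : (db : ℤ) = p * (mb + 1) - 1 := by
        rw [hdbZ]
        ring
      exact_mod_cast h1
    have hp7R : (7 : ℝ) ≤ p := by
      have : 7 ≤ p := by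
        have h6 : p ≠ 6 := by
          rintro rfl
          exact absurd hp' (by norm_num)
        omega
      exact_mod_cast this
    refine ⟨v ^ 2 / ((p : ℝ) * mb + 1) - w ^ 2 / ((p : ℝ) * (mb + 1) - 1) + 1 / ((p : ℝ) - 2), ?_, ?_⟩
    · apply upper_K_real hp7R hkR (norm_nonneg _) _ (norm_nonneg _) hvw
      rw [hma'] at hma
      push_cast at hma
      exact hma
    · have hSξ : tauS τ ξ = ((1 / ((p : ℝ) - 2) : ℝ) : ℂ) := by
        rw [tauS_eq ξ hξ1, hξτ]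
        congr 1
        rw [Nat.cast_sub (by omega)]
        norm_num
      rw [K_eval hL hζ hS (tauS τ) (fun θ hθ => tauS_const hL hτ hodd hHc hS hθ hξ), hφ₀, hsumpair, ha, hb,
        hSξ, tauS_eq a hda, tauS_eq b hdb, hdaR, hdbR]
      push_cast
      ring

include hL hτ in
/-- The block of the faithful character. -/
theorem block_xi (hodd : p ≠ 2) (hHc : ∀ (y : H) (g : G), (y : G) * g = g * y) (hp7 : 5 < p)
    {φ₀ : IrrCharacter H} (hφ₀ : (φ₀ : H → ℂ) 1 = 1) {ζ : ℂ} (hζ : IsPrimitiveRoot ζ p) {t : ℕ}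
    {X Y : Finset (IrrCharacter G)} {εX : IrrCharacter G → ℤ} {bY : IrrCharacter G → ZMod p}
    (hS : RowStructure x H (φ₀ : H → ℂ) ζ 2 t X Y εX (-1) bY) {ξ : IrrCharacter G} (hξ : ξ ∈ Y)
    (hξτ : ‖(ξ : G → ℂ) τ‖ = 1) (hξ1 : (ξ : G → ℂ) 1 = ((p - 2 : ℕ) : ℂ)) :
    ∃ a ∈ X, εX a = -1 ∧ ((a : G → ℂ) 1 = 1 ∨ ∃ K : ℝ, K < 1 - 2 / (p : ℝ) ∧
      ∑ ψ : IrrCharacter G, tauS τ ψ * SS H (ψ : G → ℂ) (φ₀ : H → ℂ) x = (K : ℂ)) := by
  classical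
  have hp' := hp.out
  obtain ⟨a, b, hab, hX⟩ := card_eq_two.1 hS.cardX
  have haX : a ∈ X := by rw [hX]; simp
  have hbX : b ∈ X := by rw [hX]; simp
  obtain ⟨da, ma, hda0, hda, -, hdaZ, -⟩ := row_X_data hL hτ hodd hHc hζ hS haX
  obtain ⟨db, mb, hdb0, hdb, -, hdbZ, -⟩ := row_X_data hL hτ hodd hHc hζ hS hbX
  have hsumpair : ∀ f : IrrCharacter G → ℂ, ∑ χ ∈ X, f χ = f a + f b := by
    intro f
    rw [hX, sum_pair hab]
  have hrel1 := hS.rel 1 (by rw [orderOf_one]; exact fun h => hp'.one_lt.ne' (Nat.dvd_one.1 h)) ξ hξ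
  rw [hsumpair, hξ1, hda, hdb] at hrel1
  have hp2 : ((p - 2 : ℕ) : ℂ) = (p : ℂ) - 2 := by
    rw [Nat.cast_sub (by omega)]
    norm_num
  have hZ : -((p : ℤ) - 2) + εX a * (da : ℤ) + εX b * (db : ℤ) = 0 := by
    rw [hp2] at hrel1
    have h1 : ((-((p : ℤ) - 2) + εX a * (da : ℤ) + εX b * (db : ℤ) : ℤ) : ℂ) = ((0 : ℤ) : ℂ) := by
      push_cast at hrel1 ⊢
      linear_combination hrel1
    exact_mod_cast h1
  have hpZ : (6 : ℤ) ≤ p := by exact_mod_cast hp7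
  have hma0 : (0 : ℤ) ≤ ma := by positivity
  have hmb0 : (0 : ℤ) ≤ mb := by positivity
  have hda0' : (0 : ℤ) < da := by exact_mod_cast hda0
  have hdb0' : (0 : ℤ) < db := by exact_mod_cast hdb0
  rcases (hS.rowX a haX).1 with ha1 | ha1 <;> rcases (hS.rowX b hbX).1 with hb1 | hb1
  · exfalso
    rw [ha1, hb1] at hZ
    rw [ha1] at hdaZ
    rw [hb1] at hdbZ
    have h1 : (0 : ℤ) ≤ (p : ℤ) * ma := by positivity
    have h2 : (0 : ℤ) ≤ (p : ℤ) * mb := by positivity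
    linarith
  · refine ⟨b, hbX, hb1, block_xi_aux hL hτ hodd hHc hp7 hφ₀ hζ hS hξ hξτ hξ1 hab.symm ?_ hb1 ha1⟩
    rw [hX, pair_comm]
  · exact ⟨a, haX, ha1, block_xi_aux hL hτ hodd hHc hp7 hφ₀ hζ hS hξ hξτ hξ1 hab hX ha1 hb1⟩
  · exfalso
    rw [ha1, hb1] at hZ
    linarith

include hL hτ in
set_option maxHeartbeats 2000000 in
/-- The principal block. -/
theorem block_triv (hodd : p ≠ 2) (hHc : ∀ (y : H) (g : G), (y : G) * g = g * y) (hp7 : 5 < p)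
    {φ₁ : IrrCharacter H} (hφ₁ : (φ₁ : H → ℂ) = fun _ => 1) {ζ : ℂ} (hζ : IsPrimitiveRoot ζ p) {t : ℕ}
    {X Y : Finset (IrrCharacter G)} {εX : IrrCharacter G → ℤ} {ε₀ : ℤ} {bY : IrrCharacter G → ZMod p} {A : Finset (ZMod p)}
    (hI : InertiaData hL (φ₁ : H → ℂ) A 2 t)
    (hS : RowStructure x H (φ₁ : H → ℂ) ζ 2 t X Y εX ε₀ bY) :
    ∃ K : ℝ, 1 - 2 / (p : ℝ) ≤ K ∧
      ∑ ψ : IrrCharacter G, tauS τ ψ * SS H (ψ : G → ℂ) (φ₁ : H → ℂ) x = (K : ℂ) := by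
  classical
  have hp' := hp.out
  have hreg := tau_regular hL hτ hodd hHc
  have hpC : (p : ℂ) ≠ 0 := by exact_mod_cast hp'.ne_zero
  let triv : IrrCharacter G := Cfsg.Agent.Lib.Blocks.Principal.trivChar G
  have htriv : ∀ g, (triv : G → ℂ) g = 1 := fun _ => rfl
  have hl : ∀ (g : G) (y : H), (triv : G → ℂ) (g * y) = (((1 : H →* ℂˣ) y : ℂˣ) : ℂ) * (triv : G → ℂ) g := by
    intro g y
    simp [htriv]
  have hφl : φ₁ = linChar (1 : H →* ℂˣ) := by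
    apply Subtype.ext
    rw [hφ₁]
    ext y
    simp [linChar]
  have hm0 : mval x H (triv : G → ℂ) (φ₁ : H → ℂ) ζ (0 : ZMod p) = 1 := by
    have h1 := sum_val_eq_mval hL hl hζ
    rw [← hφl] at h1
    simp only [htriv, sum_const, card_univ, ZMod.card, nsmul_eq_mul, mul_one] at h1
    have h3 : (p : ℂ) * (mval x H (triv : G → ℂ) (φ₁ : H → ℂ) ζ (0 : ZMod p) : ℂ) = (p : ℂ) * 1 := by
      rw [mul_one]
      exact h1.symm
    have h2 := mul_left_cancel₀ hpC h3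
    exact_mod_cast h2
  have hT : mTot (p := p) x H (triv : G → ℂ) (φ₁ : H → ℂ) ζ = 1 := by
    have h1 := deg_eq_mTot hL hl hζ
    rw [← hφl, htriv] at h1
    have h3 : ((mTot (p := p) x H (triv : G → ℂ) (φ₁ : H → ℂ) ζ : ℕ) : ℂ) = ((1 : ℕ) : ℂ) := by
      rw [← h1]
      simp
    exact_mod_cast h3
  have hma : ∀ a : ZMod p, a ≠ 0 → mval x H (triv : G → ℂ) (φ₁ : H → ℂ) ζ a = 0 := by
    intro a ha
    unfold mTot at hT
    rw [← add_sum_erase univ _ (mem_univ (0 : ZMod p)), hm0] at hT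
    have h1 : ∑ b ∈ univ.erase (0 : ZMod p), mval x H (triv : G → ℂ) (φ₁ : H → ℂ) ζ b = 0 := by omega
    exact (sum_eq_zero_iff.1 h1) a (mem_erase.2 ⟨ha, mem_univ _⟩)
  have hrr : ∀ a : ZMod p, a ≠ 0 → rr x H (φ₁ : H → ℂ) ζ (triv : G → ℂ) a = -1 := by
    intro a ha
    unfold rr
    rw [hma a ha, hm0]
    simp
  have hmem : triv ∈ X ∪ Y := by
    refine (hS.supp triv).2 ⟨1, ?_⟩
    rw [hrr 1 one_ne_zero]
    norm_num
  have h2ne : (2 : ZMod p) ≠ 0 := by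
    intro h
    have h8 : ((2 : ℕ) : ZMod p) = 0 := by exact_mod_cast h
    rw [ZMod.natCast_eq_zero_iff] at h8
    exact hodd ((Nat.prime_dvd_prime_iff_eq hp' Nat.prime_two).1 h8)
  have htX : triv ∈ X := by
    rcases mem_union.1 hmem with h | h
    · exact h
    · exfalso
      have h1 : (1 : ZMod p) ^ 2 = bY triv := by
        by_contra hne
        have h3 := hS.rowY triv h 1 one_ne_zero
        rw [hrr 1 one_ne_zero, if_neg hne] at h3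
        norm_num at h3
      have h2 : (2 : ZMod p) ^ 2 = bY triv := by
        by_contra hne
        have h3 := hS.rowY triv h 2 h2ne
        rw [hrr 2 h2ne, if_neg hne] at h3
        norm_num at h3
      have h3 : ((3 : ℕ) : ZMod p) = 0 := by
        have h4 : (2 : ZMod p) ^ 2 = 1 ^ 2 := by rw [h1, h2]
        push_cast
        linear_combination h4
      rw [ZMod.natCast_eq_zero_iff] at h3
      have h4 := Nat.le_of_dvd (by norm_num) h3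
      omega
  have hεt : εX triv = -1 := by
    have h1 := (hS.rowX triv htX).2 1 one_ne_zero
    rw [hrr 1 one_ne_zero] at h1
    exact h1.symm
  obtain ⟨χ, hχt, hX⟩ : ∃ χ, χ ≠ triv ∧ X = {triv, χ} := by
    obtain ⟨a, b, hab, hX⟩ := card_eq_two.1 hS.cardX
    rw [hX, mem_insert, mem_singleton] at htX
    rcases htX with h | h
    · refine ⟨b, ?_, ?_⟩
      · rw [h]
        exact hab.symm
      · rw [hX, h]
    · refine ⟨a, ?_, ?_⟩
      · rw [h]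
        exact hab
      · rw [hX, h, pair_comm]
  have hχX : χ ∈ X := by rw [hX]; simp
  have hsumpair : ∀ f : IrrCharacter G → ℂ, ∑ ψ ∈ X, f ψ = f triv + f χ := by
    intro f
    rw [hX, sum_pair hχt.symm]
  have ht0 : Y.Nonempty := by
    rw [← card_pos, hS.cardY]
    have h1 := hI.het
    rcases Nat.eq_zero_or_pos t with h | h
    · rw [h, mul_zero] at h1
      omega
    · exact h
  obtain ⟨θ, hθ⟩ := ht0
  obtain ⟨dχ, mχ, hdχ0, hdχ, -, hdχZ, hmχ⟩ := row_X_data hL hτ hodd hHc hζ hS hχX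
  obtain ⟨dθ, mθ, hdθ0, hdθ, -, hdθZ, hmθ⟩ := row_Y_data hL hτ hodd hHc hζ hS hI hθ
  have hrel1 := hS.rel 1 (by rw [orderOf_one]; exact fun h => hp'.one_lt.ne' (Nat.dvd_one.1 h)) θ hθ
  rw [hsumpair, hεt, htriv, hdχ, hdθ] at hrel1
  have hZ : ε₀ * (dθ : ℤ) + (-1) * 1 + εX χ * (dχ : ℤ) = 0 := by
    have h1 : ((ε₀ * (dθ : ℤ) + (-1) * 1 + εX χ * (dχ : ℤ) : ℤ) : ℂ) = ((0 : ℤ) : ℂ) := by
      push_cast at hrel1 ⊢
      linear_combination hrel1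
    exact_mod_cast h1
  have hrelτ := hS.rel τ hreg θ hθ
  rw [hsumpair, hεt, htriv] at hrelτ
  push_cast at hrelτ
  have hStriv : tauS τ triv = 1 := by
    unfold tauS
    rw [htriv, htriv, htriv]
    simp
  have hpZ : (6 : ℤ) ≤ p := by exact_mod_cast hp7
  have hpR : (0 : ℝ) < p := by exact_mod_cast hp'.pos
  have hdχ0' : (0 : ℤ) < dχ := by exact_mod_cast hdχ0
  have hdθ0' : (0 : ℤ) < dθ := by exact_mod_cast hdθ0
  have hmχ0 : (0 : ℤ) ≤ mχ := by positivity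
  have hmθ0 : (0 : ℤ) ≤ mθ := by positivity
  have hKe := K_eval hL hζ hS (tauS τ) (S₀ := tauS τ θ) (fun θ' hθ' => tauS_const hL hτ hodd hHc hS hθ' hθ)
  have hφ1 : (φ₁ : H → ℂ) 1 = 1 := by rw [hφ₁]
  rw [hφ1, hsumpair, hεt, hStriv, tauS_eq χ hdχ, tauS_eq θ hdθ] at hKe
  have hnnat : ∀ m : ℕ, (m : ℝ) = 0 ∨ 1 ≤ (m : ℝ) := by
    intro m
    rcases Nat.eq_zero_or_pos m with h | h
    · left
      simp [h]
    · right
      exact_mod_cast h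
  rcases hS.sign₀ with hs | hs <;> rcases (hS.rowX χ hχX).1 with hc | hc
  · exfalso
    rw [hs, hc] at hZ
    linarith
  · -- `θ = 1 + χ`
    rw [hs, hc] at hZ
    rw [hs] at hdθZ hKe hrelτ
    rw [hc] at hKe hrelτ
    have hdθR : (dθ : ℝ) - 1 = dχ := by
      have h1 : (dθ : ℤ) - 1 = dχ := by linarith
      exact_mod_cast h1
    have hD : (1 : ℝ) < dθ := by
      have h1 : (1 : ℤ) < dθ := by linarith
      exact_mod_cast h1
    have hDp : (p : ℝ) * mθ ≤ dθ := by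
      have h1 : (p : ℤ) * mθ ≤ dθ := by
        rw [hdθZ]
        push_cast
        linarith
      exact_mod_cast h1
    have hgh : ‖(θ : G → ℂ) τ‖ - 1 ≤ ‖(χ : G → ℂ) τ‖ := by
      have h1 : (θ : G → ℂ) τ = 1 + (χ : G → ℂ) τ := by
        push_cast at hrelτ
        linear_combination hrelτ
      have h2 := norm_add_le (1 : ℂ) ((χ : G → ℂ) τ)
      rw [← h1, norm_one] at h2
      linarith
    have h3 := lower_K_real (norm_nonneg ((θ : G → ℂ) τ)) hmθ (hnnat mθ) (norm_nonneg ((χ : G → ℂ) τ)) hgh hD hDp hpR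
    rw [hdθR] at h3
    refine ⟨_, h3, ?_⟩
    rw [hKe]
    push_cast
    ring
  · -- `χ = 1 + θ`
    rw [hs, hc] at hZ
    rw [hs] at hKe hrelτ
    rw [hc] at hKe hrelτ hdχZ
    have hdχR : (dχ : ℝ) - 1 = dθ := by
      have h1 : (dχ : ℤ) - 1 = dθ := by linarith
      exact_mod_cast h1
    have hD : (1 : ℝ) < dχ := by
      have h1 : (1 : ℤ) < dχ := by linarith
      exact_mod_cast h1
    have hDp : (p : ℝ) * mχ ≤ dχ := by
      have h1 : (p : ℤ) * mχ ≤ dχ := by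
        rw [hdχZ]
        linarith
      exact_mod_cast h1
    have hgh : ‖(χ : G → ℂ) τ‖ - 1 ≤ ‖(θ : G → ℂ) τ‖ := by
      have h1 : (χ : G → ℂ) τ = 1 + (θ : G → ℂ) τ := by
        push_cast at hrelτ
        linear_combination hrelτ
      have h2 := norm_add_le (1 : ℂ) ((θ : G → ℂ) τ)
      rw [← h1, norm_one] at h2
      linarith
    have h3 := lower_K_real (norm_nonneg ((χ : G → ℂ) τ)) hmχ (hnnat mχ) (norm_nonneg ((θ : G → ℂ) τ)) hgh hD hDp hpR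
    rw [hdχR] at h3
    refine ⟨_, h3, ?_⟩
    rw [hKe]
    push_cast
    ring
  · exfalso
    rw [hs, hc] at hZ
    linarith

omit [Fintype (IrrCharacter G)] in
lemma idemCoeff_one_of_linear (φ : H → ℂ) (h : φ 1 = 1) : idemCoeff φ (1 : H) = (1 : ℂ) / (Nat.card H) := by
  unfold idemCoeff
  rw [inv_one, h, mul_one]

include hL hτ in
set_option maxHeartbeats 2000000 in
/-- **The extension theorem**: the block of the faithful character contains a linear character. -/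
theorem exists_linear_member (hodd : p ≠ 2) (hHc : ∀ (y : H) (g : G), (y : G) * g = g * y) (hp7 : 5 < p)
    {φ₀ : IrrCharacter H} (hφ₀ : (φ₀ : H → ℂ) 1 = 1) {ζ : ℂ} (hζ : IsPrimitiveRoot ζ p) {t : ℕ}
    {X Y : Finset (IrrCharacter G)} {εX : IrrCharacter G → ℤ} {bY : IrrCharacter G → ZMod p}
    (hS : RowStructure x H (φ₀ : H → ℂ) ζ 2 t X Y εX (-1) bY) {ξ : IrrCharacter G} (hξ : ξ ∈ Y)
    (hξτ : ‖(ξ : G → ℂ) τ‖ = 1) (hξ1 : (ξ : G → ℂ) 1 = ((p - 2 : ℕ) : ℂ))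
    {φ₁ : IrrCharacter H} (hφ₁ : (φ₁ : H → ℂ) = fun _ => 1) {t₁ : ℕ}
    {X₁ Y₁ : Finset (IrrCharacter G)} {εX₁ : IrrCharacter G → ℤ} {ε₁ : ℤ} {bY₁ : IrrCharacter G → ZMod p} {A₁ : Finset (ZMod p)}
    (hI₁ : InertiaData hL (φ₁ : H → ℂ) A₁ 2 t₁)
    (hS₁ : RowStructure x H (φ₁ : H → ℂ) ζ 2 t₁ X₁ Y₁ εX₁ ε₁ bY₁)
    (hvan : ∀ (y : H) (a b : G), a * τ * a⁻¹ * (b * τ⁻¹ * b⁻¹) * (x * y) = 1 → y = 1) :
    ∃ a ∈ X, εX a = -1 ∧ (a : G → ℂ) 1 = 1 := by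
  obtain ⟨a, ha, hεa, h⟩ := block_xi hL hτ hodd hHc hp7 hφ₀ hζ hS hξ hξτ hξ1
  refine ⟨a, ha, hεa, ?_⟩
  rcases h with h | ⟨K₀, hK₀, hKe₀⟩
  · exact h
  · exfalso
    obtain ⟨K₁, hK₁, hKe₁⟩ := block_triv hL hτ hodd hHc hp7 hφ₁ hζ hI₁ hS₁
    have h1 := K_lemma x hvan φ₀
    have h2 := K_lemma x hvan φ₁
    have h3 : (K₀ : ℂ) = (K₁ : ℂ) := by
      rw [← hKe₀, ← hKe₁]
      unfold tauS
      rw [h1, h2, idemCoeff_one_of_linear _ hφ₀, idemCoeff_one_of_linear _ (by rw [hφ₁])]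
    have h4 : K₀ = K₁ := by exact_mod_cast h3
    linarith

end Tau

end Cfsg.Agent.Lib.DefectOne
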