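import Mathlib
import Cfsg.Agent.Lib.DefectOne.PM2Blocks

/-!
# The extension of the central character of a faithful character of degree `p - 2`
-/

set_option autoImplicit false
set_option linter.unusedSectionVars false

namespace Cfsg.Agent.Lib.DefectOne

open Cfsg Subgroup Finset Cfsg.Agent.Lib.Blocks.Local Cfsg.Agent.Lib.Blocks.Central
open scoped ComplexConjugate

universe u

section Main

variable {G : Type u} [Group G] [Fintype G] {p : ℕ} [hp : Fact p.Prime] {x : G} {H : Subgroup G}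
  [Fintype H] (hL : LocalData p x H)

include hL in
/-- The subgroup `H` is central. -/
lemma central_of_rows [Fintype (IrrCharacter G)] [Fintype (IrrCharacter H)]
    (ξ : IrrCharacter G) (hfaith : ∀ g : G, (ξ : G → ℂ) g = (ξ : G → ℂ) 1 → g = 1) {ζ : ℂ} (hζ : IsPrimitiveRoot ζ p)
    {φ₀ : IrrCharacter H} (hφ₀ : (φ₀ : H → ℂ) 1 = 1)
    (hzero : ∀ φ' : IrrCharacter H, φ' ≠ φ₀ → ∀ a : ZMod p, mval x H (ξ : G → ℂ) (φ' : H → ℂ) ζ a = 0) :
    (∀ (y : H) (g : G), (y : G) * g = g * y) := by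
  classical
  have hmT : ∀ y : H, (ξ : G → ℂ) (y : G) = (φ₀ : H → ℂ) y * (ξ : G → ℂ) 1 := by
    have hdc : (charDegree (ξ : G → ℂ) : ℂ) = (ξ : G → ℂ) 1 :=
      Cfsg.Agent.Lib.Char.Values.IsCharacter.charDegree_cast
        (Cfsg.Agent.Lib.Char.Basic.isCharacter_of_isIrrCharacter ξ.2)
    intro y
    have hmval : ∀ φ' : IrrCharacter H, φ' ≠ φ₀ → mTot (p := p) x H (ξ : G → ℂ) (φ' : H → ℂ) ζ = 0 := by
      intro φ' hne
      unfold mTot
      exact sum_eq_zero fun a _ => hzero φ' hne a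
    have h1 := sum_SS (H := H) (ξ : G → ℂ) (y : G)
    have h2 := sum_deg_mTot hL ξ hζ
    rw [sum_eq_single φ₀] at h1 h2
    · have h3 := SS_mul hL ξ.2 φ₀.2 hζ 0 y
      rw [XX_zero, one_mul] at h3
      rw [h3] at h1
      rw [← h1, ← hdc, ← h2]
      have h4 : ∑ a : ZMod p, (mval x H (ξ : G → ℂ) (φ₀ : H → ℂ) ζ a : ℂ) * ζ ^ (a * (0 : ZMod p)).val =
          (mTot (p := p) x H (ξ : G → ℂ) (φ₀ : H → ℂ) ζ : ℂ) := by
        unfold mTot
        push_cast
        simp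
      rw [h4]
      have h5 := Cfsg.Agent.Lib.Char.Values.IsCharacter.charDegree_eq
        (Cfsg.Agent.Lib.Char.Basic.isCharacter_of_isIrrCharacter φ₀.2) (n := 1) (by rw [hφ₀]; simp)
      rw [h5]
      simp
    · intro φ' _ hne
      rw [hmval φ' hne, mul_zero]
    · intro h
      exact absurd (mem_univ _) h
    · intro φ' _ hne
      have h3 := SS_mul hL ξ.2 φ'.2 hζ 0 y
      rw [XX_zero, one_mul] at h3
      rw [h3]
      simp [hzero φ' hne]
    · intro h
      exact absurd (mem_univ _) h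
  intro y g
  obtain ⟨l, hl⟩ := Cfsg.Agent.Lib.Char.LinearChars.exists_hom_of_isCharacter_one
    (Cfsg.Agent.Lib.Char.Basic.isCharacter_of_isIrrCharacter φ₀.2) hφ₀
  have hn : ‖(ξ : G → ℂ) (y : G)‖ = ‖(ξ : G → ℂ) 1‖ := by
    rw [hmT, hl, norm_mul, Cfsg.Agent.Lib.Char.PrimeIndex.norm_hom_eq_one, one_mul]
  exact central_of_norm ξ.2 hfaith hn g

include hL in
set_option maxHeartbeats 4000000 in
/-- **The extension theorem.** -/
theorem pm2_ext [Fintype (IrrCharacter G)] [Fintype (IrrCharacter H)]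
    (P : Sylow p G) (hz : zpowers x = (P : Subgroup G)) (hnn : ¬ (P : Subgroup G).Normal)
    (ξ : IrrCharacter G) (hfaith : ∀ g : G, (ξ : G → ℂ) g = (ξ : G → ℂ) 1 → g = 1)
    (hdeg : charDegree (ξ : G → ℂ) + 2 = p) (hp7 : 5 < p) {ζ : ℂ} (hζ : IsPrimitiveRoot ζ p) :
    (∀ (y : H) (g : G), (y : G) * g = g * y) ∧ (∀ g : G, (∀ h : G, g * h = h * g) → g ∈ H) ∧
    (∑ i : ZMod p, (ξ : G → ℂ) (XX x i) = (p : ℂ)) ∧
    ∃ l : G →* ℂˣ, (∀ i : ZMod p, l (XX x i) = 1) ∧ (∀ y : H, (ξ : G → ℂ) y = ((l y : ℂˣ) : ℂ) * (ξ : G → ℂ) 1) ∧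
      (∀ y : H, l y = 1 → (y : G) = 1) := by
  classical
  have hp' := hp.out
  have hodd : p ≠ 2 := by omega
  obtain ⟨φ₀, A, t, X, Y, εX, bY, hφ₀, hI, hS, hξY, hm0, hrow, hzero⟩ := rows_pm2 hL P hz hnn ξ hfaith hdeg hp7 hζ
  have hHc := central_of_rows hL ξ hfaith hζ hφ₀ hzero
  -- the element `τ`
  obtain ⟨τ, hτT, hτα⟩ := hI.T2 (-1 : ZMod p) ((hI.hA _).2 (by ring))
  have hτ : τ * x * τ⁻¹ = XX x (-1 : ZMod p) := by
    rw [← hτα]
    exact alphaG_spec hL (TT_le hL _ hτT)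
  -- the data of `ξ`
  have hξ1 : (ξ : G → ℂ) 1 = ((p - 2 : ℕ) : ℂ) := by
    have hdc : (charDegree (ξ : G → ℂ) : ℂ) = (ξ : G → ℂ) 1 :=
      Cfsg.Agent.Lib.Char.Values.IsCharacter.charDegree_cast
        (Cfsg.Agent.Lib.Char.Basic.isCharacter_of_isIrrCharacter ξ.2)
    rw [← hdc]
    congr 1
    omega
  obtain ⟨dξ, -, -, -, -, hsumξ, -, lξ, hφlξ, hlξ⟩ :=
    row_member hL hτ hodd hHc hζ φ₀ rfl hS (mem_union_right _ hξY)
  rw [hm0] at hsumξ
  have hsumξ' : ∑ i : ZMod p, (ξ : G → ℂ) (XX x i) = (p : ℂ) := by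
    rw [hsumξ]
    simp
  have hξτ : ‖(ξ : G → ℂ) τ‖ = 1 :=
    (norm_tau_le hL hτ (Cfsg.Agent.Lib.Char.Basic.isCharacter_of_isIrrCharacter ξ.2) hodd (n := 1)
      (by rw [hsumξ']; simp)).2 rfl
  have hτ1 : (ξ : G → ℂ) τ ≠ 0 := by
    intro h
    rw [h, norm_zero] at hξτ
    exact zero_ne_one hξτ
  have hvan := fun (y : H) (a b : G) (h : a * τ * a⁻¹ * (b * τ⁻¹ * b⁻¹) * (x * y) = 1) =>
    tau_vanish hL hτ hodd hHc hlξ hτ1 hfaith y a b h
  -- the principal block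
  let φ₁ : IrrCharacter H := Cfsg.Agent.Lib.Blocks.Principal.trivChar H
  have hφ₁ : (φ₁ : H → ℂ) = fun _ => 1 := rfl
  have hTT : ∀ (φ : IrrCharacter H) (g : G), g ∈ TT hL (φ : H → ℂ) ↔ g ∈ normalizer (zpowers x : Set G) := by
    intro φ g
    constructor
    · exact fun h => TT_le hL _ h
    · intro h
      refine ⟨h, fun y => ?_⟩
      have h2 : conjH hL g h y = y := by
        apply Subtype.ext
        rw [conjH_coe, ← hHc y g, mul_inv_cancel_right]
      rw [h2]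
  have hTTeq : TT hL (φ₁ : H → ℂ) = TT hL (φ₀ : H → ℂ) := by
    ext g
    rw [hTT, hTT]
  obtain ⟨A₁, e₁, t₁, hI₁⟩ := exists_inertiaData hL (isClassFunction_of_irr φ₁.2)
  have he₁ : e₁ = 2 := by
    rw [← hI₁.idx, hTTeq, hI.idx]
  subst he₁
  obtain ⟨X₁, Y₁, εX₁, ε₁, bY₁, hS₁⟩ := exists_rowStructure hL φ₁.2 hζ hI₁.epos hI₁.het hI₁.Acard hI₁.hA hI₁.T1 hI₁.T2 hI₁.fib
  obtain ⟨a, haX, hεa, ha1⟩ := exists_linear_member hL hτ hodd hHc hp7 hφ₀ hζ hS hξY hξτ hξ1 hφ₁ hI₁ hS₁ hvan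
  -- the linear character
  obtain ⟨l, hl⟩ := Cfsg.Agent.Lib.Char.LinearChars.exists_hom_of_isCharacter_one
    (Cfsg.Agent.Lib.Char.Basic.isCharacter_of_isIrrCharacter a.2) ha1
  obtain ⟨da, -, hda, hdaT, -, -, hval, la, hφla, hla⟩ :=
    row_member hL hτ hodd hHc hζ φ₀ rfl hS (mem_union_left _ haX)
  have hlla : ∀ y : H, l (y : G) = la y := by
    intro y
    have h1 := hla 1 y
    rw [one_mul, ha1, mul_one] at h1
    have h2 : ((l (y : G) : ℂˣ) : ℂ) = (a : G → ℂ) (y : G) := (congrFun hl _).symm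
    exact Units.ext (h2.trans h1)
  have hlaξ : ∀ y : H, la y = lξ y := by
    intro y
    have h1 : linChar la = linChar lξ := hφla.symm.trans hφlξ
    have h2 := congrArg (fun φ : IrrCharacter H => (φ : H → ℂ) y) h1
    simp only [linChar_apply] at h2
    exact Units.ext h2
  have hl1 : ∀ i : ZMod p, l (XX x i) = 1 := by
    intro i
    apply Units.ext
    rw [Units.val_one]
    have h1 := hval i
    have hda1 : da = 1 := by
      rw [hda] at ha1
      exact_mod_cast ha1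
    have hmT : mTot (p := p) x H (a : G → ℂ) (φ₀ : H → ℂ) ζ = 1 := by rw [← hdaT, hda1]
    have hZ := mTot_eq (p := p) (x := x) (φ₀ : H → ℂ) ζ (a : G → ℂ)
    rw [hmT, Rsum_of_X hS haX, hεa] at hZ
    have hpZ : (0 : ℤ) < p := by exact_mod_cast hp'.pos
    have hm1 : mval x H (a : G → ℂ) (φ₀ : H → ℂ) ζ (0 : ZMod p) = 1 := by
      have h2 : (p : ℤ) * ((mval x H (a : G → ℂ) (φ₀ : H → ℂ) ζ (0 : ZMod p) : ℤ) - 1) = 0 := by
        push_cast at hZ
        linear_combination -hZ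
      have h3 := (mul_eq_zero.1 h2).resolve_left hpZ.ne'
      have h4 : (mval x H (a : G → ℂ) (φ₀ : H → ℂ) ζ (0 : ZMod p) : ℤ) = 1 := by linarith
      exact_mod_cast h4
    have hm0' : ∀ b : ZMod p, b ≠ 0 → mval x H (a : G → ℂ) (φ₀ : H → ℂ) ζ b = 0 := by
      intro b hb
      have h2 := (hS.rowX a haX).2 b hb
      unfold rr at h2
      rw [hm1, hεa] at h2
      have h3 : (mval x H (a : G → ℂ) (φ₀ : H → ℂ) ζ b : ℤ) = 0 := by
        push_cast at h2
        linarith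
      exact_mod_cast h3
    have h2 : ((l (XX x i) : ℂˣ) : ℂ) = (a : G → ℂ) (XX x i) := (congrFun hl _).symm
    rw [h2, h1, sum_eq_single (0 : ZMod p)]
    · rw [hm1]
      simp
    · intro b _ hb
      rw [hm0' b hb]
      simp
    · intro h
      exact absurd (mem_univ _) h
  have hξy : ∀ y : H, (ξ : G → ℂ) y = ((l y : ℂˣ) : ℂ) * (ξ : G → ℂ) 1 := by
    intro y
    have h1 := hlξ 1 y
    rw [one_mul] at h1
    rw [h1, hlla, hlaξ]
  refine ⟨hHc, ?_, hsumξ', l, hl1, hξy, ?_⟩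
  · intro g hg
    obtain ⟨i, y, hy, hgy⟩ := hL.exists_decomp (hg x)
    by_cases hi : i = 0
    · rw [hgy, hi, XX_zero, one_mul]
      exact hy
    · exfalso
      apply hnn
      have hXc : ∀ h : G, XX x i * h = h * XX x i := by
        intro h
        have h1 := hg h
        rw [hgy] at h1
        have h2 := hHc ⟨y, hy⟩ h
        have h3 : XX x i * h * y = h * XX x i * y := by
          calc XX x i * h * y = XX x i * (h * y) := by group
            _ = XX x i * (y * h) := by rw [show y * h = h * y from h2]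
            _ = XX x i * y * h := by group
            _ = h * (XX x i * y) := h1
            _ = h * XX x i * y := by group
        exact mul_right_cancel h3
      apply normal_of_central hz
      intro h
      have h1 : XX x ((i⁻¹) * i) = XX x i ^ (i⁻¹).val := XX_mul_val hL.ord _ _
      rw [inv_mul_cancel₀ hi, XX_one hL.ord] at h1
      rw [h1]
      have h2 : Commute (XX x i) h := hXc h
      exact (h2.pow_left _).eq
  · intro y hy
    apply hfaith
    rw [hξy, hy, Units.val_one, one_mul]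

end Main

end Cfsg.Agent.Lib.DefectOne
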