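import Mathlib
import Cfsg.Agent.Lib.DefectOne.PM2Ext
import Cfsg.Agent.Lib.DefectOne.PSLOut
import Cfsg.Agent.Lib.Steinberg.LinearStem

/-!
# The final step for a faithful character of degree `p - 2`
-/

set_option autoImplicit false
set_option linter.unusedSectionVars false

namespace Cfsg.Agent.Lib.DefectOne

open Cfsg Subgroup Finset Cfsg.Agent.Lib.Blocks.Local Cfsg.Agent.Lib.Blocks.Central
open scoped ComplexConjugate MatrixGroups

universe u

section Quot

variable {G : Type u} [Group G] [Fintype G] {p : ℕ} [hp : Fact p.Prime] {x : G} {H : Subgroup G}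
  (hL : LocalData p x H)

include hL in
/-- The image of `x` is self-centralizing. -/
lemma quot_cen [hN : H.Normal] (hHc : ∀ (y : H) (g : G), (y : G) * g = g * y) (c : G ⧸ H)
    (hc : c * (x : G ⧸ H) = (x : G ⧸ H) * c) : c ∈ zpowers (x : G ⧸ H) := by
  obtain ⟨c, rfl⟩ := QuotientGroup.mk_surjective c
  have hord := hL.ord
  have h1 : ((c * x * c⁻¹ * x⁻¹ : G) : G ⧸ H) = 1 := by
    rw [QuotientGroup.mk_mul, QuotientGroup.mk_mul, QuotientGroup.mk_mul, QuotientGroup.mk_inv, QuotientGroup.mk_inv]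
    rw [hc]
    group
  have hz : c * x * c⁻¹ * x⁻¹ ∈ H := (QuotientGroup.eq_one_iff _).1 h1
  set z := c * x * c⁻¹ * x⁻¹ with hzdef
  have h2 : c * x * c⁻¹ = z * x := by
    rw [hzdef]
    group
  have hzc : Commute z x := hHc ⟨z, hz⟩ x
  have h3 : z ^ p = 1 := by
    have h4 : (c * x * c⁻¹) ^ p = 1 := by
      rw [conj_pow, ← hord, pow_orderOf_eq_one]
      group
    rw [h2, hzc.mul_pow, ← hord, pow_orderOf_eq_one, mul_one, hord] at h4
    exact h4
  have h4 := hL.eq_one_of_pow hz h3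
  rw [h4, one_mul] at h2
  have h5 : c * x = x * c := by
    calc c * x = c * x * c⁻¹ * c := by group
      _ = x * c := by rw [h2]
  obtain ⟨i, y, hy, hcy⟩ := hL.exists_decomp h5
  have h6 : ((c : G) : G ⧸ H) = ((x : G) : G ⧸ H) ^ (i.val) := by
    rw [hcy, QuotientGroup.mk_mul, (QuotientGroup.eq_one_iff y).2 hy, mul_one]
    unfold XX
    rw [QuotientGroup.mk_pow]
  rw [h6]
  exact pow_mem (mem_zpowers _) _

include hL in
lemma quot_ord [hN : H.Normal] : orderOf (x : G ⧸ H) = p := by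
  have hord := hL.ord
  haveI : Fact p.Prime := hp
  apply orderOf_eq_prime
  · rw [← QuotientGroup.mk_pow, ← hord, pow_orderOf_eq_one]
    rfl
  · intro h
    have h1 : x ∈ H := (QuotientGroup.eq_one_iff x).1 h
    rw [← XX_one (p := p) hord] at h1
    exact one_ne_zero (hL.XX_mem_H h1)

end Quot

section Main

variable {G : Type u} [Group G] [Fintype G] {p : ℕ} [hp : Fact p.Prime] {x : G} {H : Subgroup G}
  [Fintype H] (hL : LocalData p x H)

include hL in
set_option maxHeartbeats 4000000 in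
/-- The quotient by `H` is `PSL(2, 2^m)`. -/
theorem pm2_psl [H.Normal] 
    (P : Sylow p G) (hz : zpowers x = (P : Subgroup G))
    (ξ : IrrCharacter G) (hfaith : ∀ g : G, (ξ : G → ℂ) g = (ξ : G → ℂ) 1 → g = 1)
    (hdeg : charDegree (ξ : G → ℂ) + 2 = p) (hp7 : 5 < p) {ζ : ℂ} (hζ : IsPrimitiveRoot ζ p)
    (hHc : ∀ (y : H) (g : G), (y : G) * g = g * y) (hZ : ∀ g : G, (∀ h : G, g * h = h * g) → g ∈ H)
    (hsum : ∑ i : ZMod p, (ξ : G → ℂ) (XX x i) = (p : ℂ)) {l : G →* ℂˣ} (hl1 : ∀ i : ZMod p, l (XX x i) = 1)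
    (hξy : ∀ y : H, (ξ : G → ℂ) y = ((l y : ℂˣ) : ℂ) * (ξ : G → ℂ) 1) :
    ∃ (m : ℕ) (F : Type) (_ : Field F) (_ : Fintype F), Fintype.card F = 2 ^ m ∧ p = 2 ^ m + 1 ∧ 3 < p ∧
      Nonempty ((G ⧸ H) ≃* PSL(2, F)) := by
  classical
  have hp' := hp.out
  have hodd : p ≠ 2 := by omega
  letI : Fintype (G ⧸ H) := Fintype.ofFinite _
  -- the twisted character
  set ξ₀ : G → ℂ := fun g => (ξ : G → ℂ) g * ((l⁻¹ g : ℂˣ) : ℂ) with hξ₀
  have hξ₀irr : IsIrrCharacter G ξ₀ := Cfsg.Agent.Lib.Char.PrimeIndex.isIrr_mul_hom ξ.2 l⁻¹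
  have hξ₀1 : ξ₀ 1 = (ξ : G → ℂ) 1 := by
    simp [hξ₀]
  have hker : ∀ n ∈ H, ξ₀ n = ξ₀ 1 := by
    intro n hn
    rw [hξ₀1]
    have h1 := hξy ⟨n, hn⟩
    simp only [hξ₀, MonoidHom.inv_apply]
    change (ξ : G → ℂ) n = _ at h1
    rw [h1]
    have h2 : ((l n : ℂˣ) : ℂ) * (((l n)⁻¹ : ℂˣ) : ℂ) = 1 := by
      rw [← Units.val_mul, mul_inv_cancel, Units.val_one]
    calc ((l n : ℂˣ) : ℂ) * (ξ : G → ℂ) 1 * (((l n)⁻¹ : ℂˣ) : ℂ)
        = (((l n : ℂˣ) : ℂ) * (((l n)⁻¹ : ℂˣ) : ℂ)) * (ξ : G → ℂ) 1 := by ring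
      _ = _ := by rw [h2, one_mul]
  obtain ⟨ψ, hψ⟩ := Cfsg.Agent.Lib.Blocks.Kernel.exists_irr_of_kernel H hξ₀irr hker
  have hψv : ∀ g : G, (ψ : G ⧸ H → ℂ) (g : G ⧸ H) = ξ₀ g := fun g => (congrFun hψ g).symm
  have hXXq : ∀ i : ZMod p, XX (x : G ⧸ H) i = ((XX x i : G) : G ⧸ H) := by
    intro i
    unfold XX
    rw [QuotientGroup.mk_pow]
  have hψXX : ∀ i : ZMod p, (ψ : G ⧸ H → ℂ) (XX (x : G ⧸ H) i) = (ξ : G → ℂ) (XX x i) := by
    intro i
    rw [hXXq, hψv]
    simp [hξ₀, hl1 i]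
  have hψ1 : (ψ : G ⧸ H → ℂ) 1 = (ξ : G → ℂ) 1 := by
    have h1 := hψv 1
    rwa [QuotientGroup.mk_one, hξ₀1] at h1
  have hord : orderOf (x : G ⧸ H) = p := quot_ord hL
  have hcen : ∀ c : G ⧸ H, c * (x : G ⧸ H) = (x : G ⧸ H) * c → c ∈ zpowers (x : G ⧸ H) := quot_cen hL hHc
  let Pb : Sylow p (G ⧸ H) := P.mapSurjective (QuotientGroup.mk'_surjective H)
  have hzb : zpowers (x : G ⧸ H) = (Pb : Subgroup (G ⧸ H)) := by
    show zpowers (x : G ⧸ H) = (P : Subgroup G).map (QuotientGroup.mk' H)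
    rw [← hz, MonoidHom.map_zpowers]
    rfl
  obtain ⟨e, t, X, Y, δ, ε, b, hT⟩ := exists_scTable hord hcen Pb hzb hζ
  -- degrees
  have hdξ : (ξ : G → ℂ) 1 = ((p - 2 : ℕ) : ℂ) := by
    have hdc : (charDegree (ξ : G → ℂ) : ℂ) = (ξ : G → ℂ) 1 :=
      Cfsg.Agent.Lib.Char.Values.IsCharacter.charDegree_cast
        (Cfsg.Agent.Lib.Char.Basic.isCharacter_of_isIrrCharacter ξ.2)
    rw [← hdc]
    congr 1
    omega
  have hdψ : charDegree (ψ : G ⧸ H → ℂ) = p - 2 := by
    apply Cfsg.Agent.Lib.Char.Values.IsCharacter.charDegree_eq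
      (Cfsg.Agent.Lib.Char.Basic.isCharacter_of_isIrrCharacter ψ.2)
    rw [hψ1, hdξ]
  have hpZ : (6 : ℤ) ≤ p := by exact_mod_cast hp7
  have hp2Z : ((p - 2 : ℕ) : ℤ) = (p : ℤ) - 2 := by
    rw [Nat.cast_sub (by omega)]
    norm_num
  have hψY : ψ ∈ Y := by
    by_contra hψY
    by_cases hψX : ψ ∈ X
    · -- the congruence of the degree
      have h1 := hT.degX ψ hψX
      rw [hdψ, hp2Z] at h1
      have h2 := (Int.modEq_iff_dvd.1 h1)
      rcases hT.signX ψ hψX with hs | hs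
      · rw [hs] at h2
        have h3 : (p : ℤ) ∣ 3 := by
          have h4 : (1 : ℤ) - ((p : ℤ) - 2) = -(p : ℤ) + 3 := by ring
          rw [h4] at h2
          exact (Int.dvd_add_right (Int.dvd_neg.2 dvd_rfl)).1 h2
        have h4 := Int.le_of_dvd (by norm_num) h3
        omega
      · rw [hs] at h2
        have h3 : (p : ℤ) ∣ 1 := by
          have h4 : (-1 : ℤ) - ((p : ℤ) - 2) = -(p : ℤ) + 1 := by ring
          rw [h4] at h2
          exact (Int.dvd_add_right (Int.dvd_neg.2 dvd_rfl)).1 h2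
        have h4 := Int.le_of_dvd (by norm_num) h3
        omega
    · have hout := hT.out ψ (by simp [hψX, hψY])
      have h1 : ∑ i : ZMod p, (ξ : G → ℂ) (XX x i) = (ξ : G → ℂ) 1 := by
        rw [← add_sum_erase univ _ (mem_univ (0 : ZMod p)), XX_zero]
        rw [sum_eq_zero, add_zero]
        intro i hi
        rw [← hψXX]
        exact hout i (mem_erase.1 hi).1
      rw [hsum, hdξ] at h1
      have h2 : p = p - 2 := by exact_mod_cast h1
      omega
  have hhet := hT.het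
  have hepos := hT.epos
  have hele : e ≤ p - 1 := by
    rw [hhet]
    refine Nat.le_mul_of_pos_right e ?_
    rcases Nat.eq_zero_or_pos t with h | h
    · rw [h, mul_zero] at hhet
      omega
    · exact h
  obtain ⟨m₁, hm₁, hm₁'⟩ := hT.degY ψ hψY
  rw [hdψ, hp2Z] at hm₁
  have hεe : ε = -1 ∧ e = 2 := by
    rcases hT.sign with hs | hs
    · exfalso
      rw [hs] at hm₁
      rcases Nat.eq_zero_or_pos m₁ with h0 | h0
      · rw [h0] at hm₁
        have h1 : (e : ℤ) = (p : ℤ) - 2 := by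
          push_cast at hm₁
          linarith
        have h2 : e = p - 2 := by omega
        have h3 : e ∣ p - 1 := ⟨t, hhet⟩
        rw [h2] at h3
        have h4 : (p - 1) = (p - 2) + 1 := by omega
        rw [h4] at h3
        have h5 := Nat.dvd_one.1 ((Nat.dvd_add_right (dvd_refl _)).1 h3)
        omega
      · have h1 : (1 : ℤ) ≤ m₁ := by exact_mod_cast h0
        have h2 : (p : ℤ) * 1 ≤ p * m₁ := by
          apply mul_le_mul_of_nonneg_left h1
          omega
        have h3 : (0 : ℤ) < e := by exact_mod_cast hepos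
        linarith
    · refine ⟨hs, ?_⟩
      have h1 := hm₁' hs
      rw [hs] at hm₁
      have h2 : m₁ = 1 := by
        by_contra hne
        have h3 : 2 ≤ m₁ := by omega
        have h4 : (2 : ℤ) ≤ m₁ := by exact_mod_cast h3
        have h5 : (p : ℤ) * 2 ≤ p * m₁ := by
          apply mul_le_mul_of_nonneg_left h4
          omega
        have h6 : (e : ℤ) ≤ (p : ℤ) - 1 := by omega
        linarith
      rw [h2] at hm₁
      have h3 : (e : ℤ) = 2 := by
        push_cast at hm₁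
        linarith
      exact_mod_cast h3
  obtain ⟨hε, he⟩ := hεe
  subst hε
  subst he
  have ht : 1 < t := by
    rcases Nat.lt_or_ge 1 t with h | h
    · exact h
    · have h1 : 2 * t ≤ 2 * 1 := Nat.mul_le_mul_left 2 h
      omega
  have hreg1 : ¬ p ∣ orderOf (1 : G ⧸ H) := by
    rw [orderOf_one]
    exact fun h => hp'.one_lt.ne' (Nat.dvd_one.1 h)
  have hd : ∀ θ ∈ Y, (θ : G ⧸ H → ℂ) 1 = ((p - 2 : ℕ) : ℂ) := by
    intro θ hθ
    have h1 := hT.rel 1 hreg1 θ hθ
    have h2 := hT.rel 1 hreg1 ψ hψY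
    rw [← h2] at h1
    push_cast at h1
    rw [← hdξ, ← hψ1]
    linear_combination -h1
  have hfaithb : ∀ g : G ⧸ H, (ψ : G ⧸ H → ℂ) g = (ψ : G ⧸ H → ℂ) 1 → g = 1 := by
    intro g hg
    obtain ⟨g, rfl⟩ := QuotientGroup.mk_surjective g
    rw [hψv, hψ1] at hg
    have hn : ‖(ξ : G → ℂ) g‖ = ‖(ξ : G → ℂ) 1‖ := by
      rw [← hg]
      simp only [hξ₀]
      rw [norm_mul, Cfsg.Agent.Lib.Char.PrimeIndex.norm_hom_eq_one, mul_one]
    have hc := central_of_norm ξ.2 hfaith hn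
    exact (QuotientGroup.eq_one_iff g).2 (hZ g hc)
  have hM := index_of_faithful_table hζ hT hord hcen Pb hzb ht hψY (by rw [hψ1, hdξ]) hfaithb
  exact psl_of_table hζ hodd hT rfl hord hcen Pb hzb (d := p - 2) (by omega) hd hM ht (Or.inl rfl)

end Main

/-- Splitting off a central subgroup from a perfect quotient. -/
theorem split_of_perfect_quot {G : Type u} [Group G] {H : Subgroup G} [H.Normal] {F : Type} [Field F]
    (hHc : ∀ (y : H) (g : G), (y : G) * g = g * y) (hZ : ∀ g : G, (∀ h : G, g * h = h * g) → g ∈ H)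
    (e : (G ⧸ H) ≃* SL(2, F)) (hperf : commutator SL(2, F) = ⊤) (l : G →* ℂˣ) (hinj : ∀ y : H, l y = 1 → (y : G) = 1) :
    Nonempty (G ≃* SL(2, F) × center G) := by
  let f : G →* SL(2, F) := e.toMonoidHom.comp (QuotientGroup.mk' H)
  have hfs : Function.Surjective f := e.surjective.comp (QuotientGroup.mk'_surjective H)
  have hmap : (commutator G).map f = ⊤ := by
    rw [map_commutator_eq, MonoidHom.range_eq_top.2 hfs]
    exact hperf
  have hcl : commutator G ≤ l.ker := by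
    rw [_root_.commutator_def, Subgroup.commutator_le]
    intro a _ b _
    rw [MonoidHom.mem_ker, map_commutatorElement, commutatorElement_eq_one_iff_mul_comm, mul_comm]
  have hdec : ∀ g : G, ∃ c ∈ l.ker, ∃ y ∈ H, g = c * y := by
    intro g
    have h1 : f g ∈ (commutator G).map f := by
      rw [hmap]
      exact mem_top _
    obtain ⟨c, hc, hcg⟩ := h1
    refine ⟨c, hcl hc, c⁻¹ * g, ?_, by group⟩
    have h2 : ((c : G) : G ⧸ H) = ((g : G) : G ⧸ H) := e.injective hcg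
    exact QuotientGroup.eq.1 h2
  have hcomm : ∀ (k : l.ker) (y : H), Commute (l.ker.subtype k) (H.subtype y) := by
    intro k y
    exact (hHc y k).symm
  let Φ : l.ker × H →* G := MonoidHom.noncommCoprod l.ker.subtype H.subtype hcomm
  have hΦ : ∀ a : l.ker × H, Φ a = (a.1 : G) * (a.2 : G) := fun a => rfl
  have hΦb : Function.Bijective Φ := by
    constructor
    · rw [injective_iff_map_eq_one]
      rintro ⟨k, y⟩ h
      rw [hΦ] at h
      simp only at h
      have h1 : (k : G) = (y : G)⁻¹ := eq_inv_of_mul_eq_one_left h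
      have h2 : l (y : G) = 1 := by
        have h3 : l (k : G) = 1 := k.2
        rw [h1, map_inv, inv_eq_one] at h3
        exact h3
      have h3 := hinj y h2
      have h4 : y = 1 := Subtype.ext h3
      have h5 : k = 1 := by
        apply Subtype.ext
        rw [h1, h3, inv_one]
        rfl
      rw [h4, h5]
      rfl
    · intro g
      obtain ⟨c, hc, y, hy, rfl⟩ := hdec g
      exact ⟨(⟨c, hc⟩, ⟨y, hy⟩), rfl⟩
  let Ψ : l.ker →* SL(2, F) := f.comp l.ker.subtype
  have hΨb : Function.Bijective Ψ := by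
    constructor
    · rw [injective_iff_map_eq_one]
      rintro ⟨k, hk⟩ h
      have h1 : ((k : G) : G ⧸ H) = 1 := by
        apply e.injective
        rw [map_one]
        exact h
      have h2 : k ∈ H := (QuotientGroup.eq_one_iff k).1 h1
      exact Subtype.ext (hinj ⟨k, h2⟩ hk)
    · intro q
      obtain ⟨g, rfl⟩ := hfs q
      obtain ⟨c, hc, y, hy, rfl⟩ := hdec g
      refine ⟨⟨c, hc⟩, ?_⟩
      show e ((c : G) : G ⧸ H) = e ((c * y : G) : G ⧸ H)
      congr 1
      rw [QuotientGroup.mk_mul, (QuotientGroup.eq_one_iff y).2 hy, mul_one]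
  have hHZ : H = center G := by
    ext g
    rw [Subgroup.mem_center_iff]
    constructor
    · intro hg h
      exact (hHc ⟨g, hg⟩ h).symm
    · intro hg
      exact hZ g fun h => (hg h).symm
  exact ⟨(MulEquiv.ofBijective Φ hΦb).symm.trans
    (MulEquiv.prodCongr (MulEquiv.ofBijective Ψ hΨb) (MulEquiv.subgroupCongr hHZ))⟩

section Main2

variable {G : Type u} [Group G] [Fintype G] {p : ℕ} [hp : Fact p.Prime]

set_option maxHeartbeats 4000000 in
/-- **The theorem on faithful characters of degree `p - 2`.** -/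
theorem pm2_main (P : Sylow p G) (hP : Nat.card P = p) (hnn : ¬ (P : Subgroup G).Normal)
    (ξ : IrrCharacter G) (hfaith : ∀ g : G, (ξ : G → ℂ) g = (ξ : G → ℂ) 1 → g = 1)
    (hdeg : charDegree (ξ : G → ℂ) + 2 = p) (hp7 : 5 < p) :
    ∃ (a : ℕ) (F : Type) (_ : Field F) (_ : Fintype F), p = 2 ^ a + 1 ∧ Fintype.card F = 2 ^ a ∧
      Nonempty (G ≃* SL(2, F) × center G) := by
  classical
  have hp' := hp.out
  obtain ⟨x, hxP, hx1⟩ : ∃ x ∈ (P : Subgroup G), x ≠ 1 := by
    by_contra hno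
    push Not at hno
    have h1 : (P : Subgroup G) = ⊥ := (Subgroup.eq_bot_iff_forall _).2 hno
    have h2 : Nat.card (P : Subgroup G) = 1 := by
      rw [h1]
      simp
    have h3 : Nat.card P = Nat.card (P : Subgroup G) := rfl
    omega
  obtain ⟨hz, H, hL⟩ := exists_localData P hP hxP hx1
  letI : Fintype H := Fintype.ofFinite _
  letI : Fintype (IrrCharacter G) := Fintype.ofFinite _
  letI : Fintype (IrrCharacter H) := Fintype.ofFinite _
  have hζ : IsPrimitiveRoot (Complex.exp (2 * Real.pi * Complex.I / p)) p := Complex.isPrimitiveRoot_exp p hp'.ne_zero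
  obtain ⟨hHc, hZ, hsum, l, hl1, hξy, hinj⟩ := pm2_ext hL P hz hnn ξ hfaith hdeg hp7 hζ
  haveI hN : H.Normal := by
    refine ⟨fun n hn g => ?_⟩
    rw [← hHc ⟨n, hn⟩ g, mul_inv_cancel_right]
    exact hn
  obtain ⟨m, F, iF, iF', hF, hpm, -, ⟨e₁⟩⟩ := pm2_psl hL P hz ξ hfaith hdeg hp7 hζ hHc hZ hsum hl1 hξy
  have hm : 1 ≤ m := by
    rcases Nat.eq_zero_or_pos m with h | h
    · rw [h] at hpm
      omega
    · exact h
  obtain ⟨e₂⟩ := sl_equiv_psl F hm hF
  have hcard : 5 ≤ Fintype.card F := by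
    rw [hF]
    omega
  obtain ⟨u, hu⟩ : ∃ u : F, u ∉ ({0, 1, -1} : Finset F) := by
    by_contra hno
    push Not at hno
    have h1 : (univ : Finset F) ⊆ {0, 1, -1} := fun u _ => hno u
    have h2 := card_le_card h1
    have h3 : ({0, 1, -1} : Finset F).card ≤ 3 := card_le_three
    rw [card_univ] at h2
    omega
  simp only [mem_insert, mem_singleton, not_or] at hu
  have hu2 : u ^ 2 ≠ 1 := by
    intro h
    have h1 : (u - 1) * (u + 1) = 0 := by linear_combination h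
    rcases mul_eq_zero.1 h1 with h2 | h2
    · exact hu.2.1 (sub_eq_zero.1 h2)
    · exact hu.2.2 (eq_neg_of_add_eq_zero_left h2)
  have hperf : commutator SL(2, F) = ⊤ := Cfsg.Agent.Lib.Steinberg.LinearStem.sl_perfect hu.1 hu2
  obtain ⟨E⟩ := split_of_perfect_quot hHc hZ (e₁.trans e₂.symm) hperf l hinj
  exact ⟨m, F, iF, iF', hpm, hF, ⟨E⟩⟩

end Main2

end Cfsg.Agent.Lib.DefectOne
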